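import Cfsg.Agent.H916.RG.Pair_m3
import Cfsg.Agent.AutOrth.Final
import Cfsg.Agent.GenOrth.Emb
import Mathlib
import Cfsg.Agent.LieClassical.OrthFourMinus
import Cfsg.Agent.LieClassical.OrthTrans
import Cfsg.Agent.LieClassical.OrthFinite
import Cfsg.Agent.ClassicalGeometry.PSL2Basic
import Cfsg.Agent.FastGrp
import Cfsg.Agent.Prune
set_option linter.all false

section
prune_inst 0x7ffdebfdbbb8f9dedfff7e7fa79ecdfc3b931fffb4ffed4bffe06bff5bff03120de163ad89e090fc5ff7c21410a87843fbfffeffe26bd87ffffd1ff41ffbee4ff5f7b508519c88b40fbc0ff603f0778e7f3fffffffffffffffffffffffffffbeffbfffffffff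

-- part: H93/RC/Defs
section
prune_inst 0x1402444006212000018050612201c46ca0004b0010b0000c9400a4006c0ce2169852661b4e0320083128c752039004000000119427000000e008e00411900a0848252063340a10426009f808884000000000000000000000000000000000000000000000
set_option linter.all false
open scoped Cfsg.Agent.FastGrp

/-!
# S3510, orthogonal rows: lifts of the elements of `G` to semisimilitudes

`Rep Q N ρ` : `ρ : E Q →* G` has image `N` and kernel the centre.
`Lf ρ x M` : the semisimilitude `M` induces on `E Q` the automorphism induced by `x`.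
-/

set_option autoImplicit false
open Cfsg

namespace Cfsg.Agent.H93.RC

open QuadraticMap MulAction
open Cfsg.Agent.LieClassical.OrthCore Cfsg.Agent.LieClassical.OrthTrans
open Cfsg.Agent.LieClassical.OrthSimple Cfsg.Agent.ClassicalGeometry.OrthSemi
open Cfsg.Agent.ClassicalGeometry.OrthAut1 Cfsg.Agent.H106.RC

variable {F V : Type*} [Field F] [AddCommGroup V] [Module F V] {Q : QuadraticForm F V}

/-- elements of `E Q` as semisimilitudes -/
def tg (Q : QuadraticForm F V) : ↥(E Q) →* Gam Q where
  toFun t := ⟨(t : V ≃ₗ[F] V).toEquiv, RingEquiv.refl F, 1, one_ne_zero,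
    fun u v => map_add (t : V ≃ₗ[F] V) u v, fun a v => map_smul (t : V ≃ₗ[F] V) a v, fun v => by
      rw [one_mul]
      have h := E_le_O t.2
      exact h v⟩
  map_one' := Subtype.ext (Equiv.ext fun _ => rfl)
  map_mul' s t := Subtype.ext (Equiv.ext fun _ => rfl)

theorem tg_apply (t : ↥(E Q)) (v : V) : (tg Q t).1 v = (t : V ≃ₗ[F] V) v := rfl

/-- the semisimilitude is a scalar -/
def IsScal (M : Gam Q) : Prop := ∃ a : F, a ≠ 0 ∧ ∀ v, M.1 v = a • v

/-- the semisimilitude acts as a scalar on `W` -/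
def ScalOn (M : Gam Q) (W : Submodule F V) : Prop := ∃ a : F, a ≠ 0 ∧ ∀ v ∈ W, M.1 v = a • v

/-- the semisimilitude is linear -/
def IsLin (M : Gam Q) : Prop := ∀ (a : F) (v : V), M.1 (a • v) = a • M.1 v

variable {G : Type*} [Group G]

/-- `ρ` is a homomorphism of `E Q` onto `N` with kernel the centre -/
structure Rep (Q : QuadraticForm F V) (N : Subgroup G) (ρ : ↥(E Q) →* G) : Prop where
  range : ρ.range = N
  ker : ρ.ker = Subgroup.center ↥(E Q)

/-- the semisimilitude `M` is a lift of `x` -/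
def Lf (ρ : ↥(E Q) →* G) (x : G) (M : Gam Q) : Prop :=
  ∀ t : ↥(E Q), x * ρ t * x⁻¹ = ρ (conjE Q M t)

section lift

variable {ρ : ↥(E Q) →* G} {x y : G} {M L : Gam Q}

theorem Lf.one : Lf ρ 1 (1 : Gam Q) := by
  intro t
  rw [map_one]
  simp

theorem Lf.mul (h : Lf ρ x M) (h' : Lf ρ y L) : Lf ρ (x * y) (M * L) := by
  intro t
  rw [map_mul, MulAut.mul_apply, ← h, ← h']
  group

theorem Lf.inv (h : Lf ρ x M) : Lf ρ x⁻¹ M⁻¹ := by
  intro t
  have h1 := h (conjE Q M⁻¹ t)
  have h2 : conjE Q M (conjE Q M⁻¹ t) = t := by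
    rw [← MulAut.mul_apply, ← map_mul, mul_inv_cancel, map_one]; rfl
  rw [h2] at h1
  rw [← h1]
  group

theorem Lf.pow (h : Lf ρ x M) (n : ℕ) : Lf ρ (x ^ n) (M ^ n) := by
  induction n with
  | zero => rw [pow_zero, pow_zero]; exact Lf.one
  | succ n ih => rw [pow_succ, pow_succ]; exact ih.mul h

theorem conjE_tg (s t : ↥(E Q)) : conjE Q (tg Q s) t = s * t * s⁻¹ := by
  apply Subtype.ext
  rw [coe_conjE]
  ext v
  rw [conjLin_apply]
  rfl

theorem Lf.tg (s : ↥(E Q)) : Lf ρ (ρ s) (tg Q s) := by
  intro t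
  rw [conjE_tg, map_mul, map_mul, map_inv]

/-- a scalar semisimilitude is trivial on `E Q` -/
theorem conjE_of_scal (h : IsScal M) : conjE Q M = 1 := by
  obtain ⟨a, ha, h⟩ := h
  ext t v
  show (conjLin M t.1) v = t.1 v
  obtain ⟨v, rfl⟩ := M.1.surjective v
  rw [conjLin_apply', h, h, map_smul]

/-- the lift of `x` is a scalar iff `x` centralises `N` -/
theorem Lf.scal_iff (hG : Good Q) {N : Subgroup G} (hρ : Rep Q N ρ) (h : Lf ρ x M) :
    IsScal M ↔ ∀ t : ↥(E Q), x * ρ t = ρ t * x := by
  constructor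
  · intro hs t
    have h1 := h t
    rw [conjE_of_scal hs] at h1
    exact mul_inv_eq_iff_eq_mul.1 h1
  · intro hx
    have h1 : ∀ t : ↥(E Q), ρ (conjE Q M t) = ρ t := by
      intro t
      rw [← h t, hx t, mul_inv_cancel_right]
    have h2 : Psi Q M = 1 := by
      ext t
      obtain ⟨t, rfl⟩ := QuotientGroup.mk_surjective t
      rw [Psi_mk]
      show (QuotientGroup.mk (conjE Q M t) : P Q) = QuotientGroup.mk t
      rw [eq_comm, QuotientGroup.eq, ← hρ.ker, MonoidHom.mem_ker, map_mul, map_inv, h1]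
      group
    have h3 : conjE Q M = 1 := eq_one_of_quotAut (commutator_E hG) _ h2
    exact exists_scalar_of_conjE hG M h3

/-- `x = 1` iff the lift is a scalar -/
theorem Lf.eq_one_iff (hG : Good Q) {N : Subgroup G} {Ω : Type*} [MulAction G Ω] (hE : Env G Ω N)
    (hρ : Rep Q N ρ) (h : Lf ρ x M) : x = 1 ↔ IsScal M := by
  rw [h.scal_iff hG hρ]
  constructor
  · rintro rfl t
    simp
  · intro hx
    have h1 : x ∈ Subgroup.centralizer (N : Set G) := by
      rw [Subgroup.mem_centralizer_iff]
      intro n hn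
      have hn' : n ∈ N := hn
      rw [← hρ.range] at hn'
      obtain ⟨t, rfl⟩ := hn'
      exact (hx t).symm
    rw [hE.cent] at h1
    exact Subgroup.mem_bot.1 h1

/-- lifts of commuting elements commute up to a scalar -/
theorem Lf.comm (hG : Good Q) {N : Subgroup G} (hρ : Rep Q N ρ) (h : Lf ρ x M) (h' : Lf ρ y L)
    (hxy : x * y = y * x) : ∃ a : F, a ≠ 0 ∧ ∀ v, M.1 (L.1 v) = a • L.1 (M.1 v) := by
  have h1 : Lf ρ (x * y * (y * x)⁻¹) (M * L * (L * M)⁻¹) := (h.mul h').mul (h'.mul h).inv
  rw [hxy, mul_inv_cancel] at h1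
  have h2 : IsScal (M * L * (L * M)⁻¹) := (h1.scal_iff hG hρ).2 fun t => by simp
  obtain ⟨a, ha, h2⟩ := h2
  refine ⟨a, ha, fun v => ?_⟩
  have h3 := h2 ((L * M).1 v)
  have h4 : (M * L * (L * M)⁻¹).1 ((L * M).1 v) = M.1 (L.1 v) := by
    show (M * L).1 ((L * M).1⁻¹ ((L * M).1 v)) = _
    rw [inv_apply]; rfl
  rw [h4] at h3
  exact h3

/-- the powers -/
theorem Lf.pow_scal (hG : Good Q) {N : Subgroup G} (hρ : Rep Q N ρ) (h : Lf ρ x M) {r : ℕ}
    (hx : x ^ r = 1) : IsScal (M ^ r) := by
  refine ((h.pow r).scal_iff hG hρ).2 fun t => ?_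
  rw [hx, one_mul, mul_one]

/-- every element has a lift if `Psi Q` is surjective -/
theorem exists_Lf {N : Subgroup G} (hN : N.Normal) (hρ : Rep Q N ρ)
    (hs : Function.Surjective (Psi Q)) (x : G) : ∃ M : Gam Q, Lf ρ x M := by
  classical
  -- the isomorphism `P Q ≃ N`
  have hmem : ∀ t, ρ t ∈ N := fun t => by rw [← hρ.range]; exact ⟨t, rfl⟩
  let ρN : ↥(E Q) →* N := ρ.codRestrict N hmem
  have hρNs : Function.Surjective ρN := by
    rintro ⟨n, hn⟩
    have hn' := hn
    rw [← hρ.range] at hn'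
    obtain ⟨t, ht⟩ := hn'
    exact ⟨t, Subtype.ext ht⟩
  have hρNk : ρN.ker = Subgroup.center ↥(E Q) := by
    rw [← hρ.ker]
    ext t
    rw [MonoidHom.mem_ker, MonoidHom.mem_ker]
    exact ⟨fun h => congrArg Subtype.val h, fun h => Subtype.ext h⟩
  let e : P Q ≃* N := (QuotientGroup.quotientMulEquivOfEq hρNk.symm).trans
    (QuotientGroup.quotientKerEquivOfSurjective ρN hρNs)
  have he : ∀ t : ↥(E Q), (e (QuotientGroup.mk t) : G) = ρ t := fun t => rfl
  let c : MulAut N := MulAut.conjNormal x
  obtain ⟨M, hM⟩ := hs (MulAut.congr e.symm c)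
  refine ⟨M, fun t => ?_⟩
  have h1 : (Psi Q M) (QuotientGroup.mk t) = e.symm (c (e (QuotientGroup.mk t))) := by
    rw [hM]; rfl
  rw [Psi_mk] at h1
  have h2 := congrArg e h1
  rw [MulEquiv.apply_symm_apply] at h2
  have h3 := congrArg (Subtype.val) h2
  rw [he] at h3
  rw [h3]
  show x * ρ t * x⁻¹ = _
  rw [MulAut.conjNormal_apply, he]

/-- existence of `ρ` -/
theorem exists_rep {N : Subgroup G} {S : Type*} [Group S] (e : N ≃* S) (f : S ≃* P Q) :
    ∃ ρ : ↥(E Q) →* G, Rep Q N ρ := by
  let g : P Q ≃* N := (e.trans f).symm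
  refine ⟨N.subtype.comp (g.toMonoidHom.comp (QuotientGroup.mk' _)), ?_, ?_⟩
  · rw [MonoidHom.range_comp, MonoidHom.range_eq_top.2, ← MonoidHom.range_eq_map,
      Subgroup.range_subtype]
    exact g.surjective.comp (QuotientGroup.mk'_surjective _)
  · ext t
    rw [MonoidHom.mem_ker]
    show ((g (QuotientGroup.mk t) : N) : G) = 1 ↔ _
    rw [OneMemClass.coe_eq_one, EmbeddingLike.map_eq_one_iff, QuotientGroup.eq_one_iff]

end lift

end Cfsg.Agent.H93.RC
end

-- part: H578/RC/Lin
section
set_option linter.all false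
open scoped Cfsg.Agent.FastGrp

/-!
# S3510, row F, box E7: linear algebra (helper578)
-/

set_option autoImplicit false
open Cfsg

namespace Cfsg.Agent.H578.RC

open QuadraticMap
open Cfsg.Agent.LieClassical.OrthCore

variable {F V : Type*} [Field F] [AddCommGroup V] [Module F V] {Q : QuadraticForm F V}

/-- the orthogonal space -/
def pp (Q : QuadraticForm F V) (W : Submodule F V) : Submodule F V where
  carrier := {v | ∀ w ∈ W, polar Q w v = 0}
  add_mem' := by
    intro a b ha hb w hw
    rw [polar_add_right, ha w hw, hb w hw, add_zero]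
  zero_mem' := by
    intro w _
    rw [polar_zero_right]
  smul_mem' := by
    intro c a ha w hw
    rw [polar_smul_right, ha w hw, smul_zero]

theorem mem_pp {W : Submodule F V} {v : V} : v ∈ pp Q W ↔ ∀ w ∈ W, polar Q w v = 0 := Iff.rfl

theorem pp_anti {W W' : Submodule F V} (h : W ≤ W') : pp Q W' ≤ pp Q W := fun _ hv w hw => hv w (h hw)

theorem le_pp_pp (W : Submodule F V) : W ≤ pp Q (pp Q W) := by
  intro v hv w hw
  rw [polar_comm]
  exact hw v hv

theorem pp_eq (W : Submodule F V) : pp Q W = LinearMap.BilinForm.orthogonal (polarBilin Q) W := by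
  ext v
  rw [LinearMap.BilinForm.mem_orthogonal_iff]
  rfl

theorem nd_polar (hQ : Nondeg Q) : (polarBilin Q).Nondegenerate := by
  refine ⟨fun x hx => hQ x hx, fun x hx => hQ x fun y => ?_⟩
  rw [polar_comm]
  exact hx y

section fd

variable [FiniteDimensional F V]

theorem finrank_pp (hQ : Nondeg Q) (W : Submodule F V) :
    Module.finrank F W + Module.finrank F (pp Q W) = Module.finrank F V := by
  have h := LinearMap.BilinForm.finrank_orthogonal (nd_polar hQ) W
  rw [← pp_eq] at h
  have h1 := Submodule.finrank_le W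
  omega

theorem pp_pp (hQ : Nondeg Q) (W : Submodule F V) : pp Q (pp Q W) = W := by
  apply le_antisymm _ (le_pp_pp W)
  have h1 := finrank_pp hQ W
  have h2 := finrank_pp hQ (pp Q W)
  exact (Submodule.eq_of_le_of_finrank_eq (le_pp_pp W) (by omega)).ge

omit [FiniteDimensional F V] in
/-- nondegenerate subspaces -/
theorem nondeg_iff (W : Submodule F V) : Nondeg (Q.comp W.subtype) ↔ W ⊓ pp Q W = ⊥ := by
  constructor
  · intro h
    rw [eq_bot_iff]
    rintro v ⟨hv, hv'⟩
    have h1 := h ⟨v, hv⟩ fun y => by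
      have := hv' y y.2
      rw [polar_comm] at this
      exact this
    exact congrArg Subtype.val h1
  · intro h x hx
    have h1 : (x : V) ∈ W ⊓ pp Q W := ⟨x.2, fun w hw => by
      have := hx ⟨w, hw⟩
      rw [polar_comm]
      exact this⟩
    rw [h, Submodule.mem_bot] at h1
    exact Subtype.ext h1

theorem nondeg_pp (hQ : Nondeg Q) {W : Submodule F V} (hW : Nondeg (Q.comp W.subtype)) :
    Nondeg (Q.comp (pp Q W).subtype) := by
  rw [nondeg_iff] at hW ⊢
  rw [pp_pp hQ, inf_comm]
  exact hW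

theorem sup_pp (hQ : Nondeg Q) {W : Submodule F V} (hW : Nondeg (Q.comp W.subtype)) : W ⊔ pp Q W = ⊤ := by
  rw [nondeg_iff] at hW
  have h1 := Submodule.finrank_sup_add_finrank_inf_eq W (pp Q W)
  rw [hW, finrank_bot] at h1
  apply Submodule.eq_top_of_finrank_eq
  have := finrank_pp hQ W
  omega

/-- decomposition of a vector -/
theorem exists_dec (hQ : Nondeg Q) {W : Submodule F V} (hW : Nondeg (Q.comp W.subtype)) (v : V) :
    ∃ a ∈ W, ∃ b ∈ pp Q W, v = a + b := by
  have h : v ∈ W ⊔ pp Q W := by rw [sup_pp hQ hW]; trivial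
  obtain ⟨a, ha, b, hb, h⟩ := Submodule.mem_sup.1 h
  exact ⟨a, ha, b, hb, h.symm⟩

/-- two isometries (linear maps) agreeing on `W` and `W^⊥` are equal -/
theorem ext_dec (hQ : Nondeg Q) {W : Submodule F V} (hW : Nondeg (Q.comp W.subtype)) {f g : V ≃ₗ[F] V}
    (h1 : ∀ v ∈ W, f v = g v) (h2 : ∀ v ∈ pp Q W, f v = g v) : f = g := by
  ext v
  obtain ⟨a, ha, b, hb, rfl⟩ := exists_dec hQ hW v
  rw [map_add, map_add, h1 a ha, h2 b hb]

/-- an isometry preserving `W` preserves `W^⊥` -/
theorem inv_pp {T : V ≃ₗ[F] V} (hT : T ∈ O Q) {W : Submodule F V} (h : ∀ v ∈ W, T v ∈ W) :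
    ∀ v ∈ pp Q W, T v ∈ pp Q W := by
  intro v hv w hw
  have h1 : W.map (T : V →ₗ[F] V) = W := by
    apply Submodule.eq_of_le_of_finrank_eq
    · rintro _ ⟨y, hy, rfl⟩
      exact h y hy
    · exact LinearEquiv.finrank_map_eq T W
  have h2 : w ∈ W.map (T : V →ₗ[F] V) := by rw [h1]; exact hw
  obtain ⟨y, hy, rfl⟩ := h2
  show polar Q (T y) (T v) = 0
  rw [polar_map hT, hv y hy]

/-- surjectivity on invariant subspaces -/
theorem surj_on {T : V ≃ₗ[F] V} {W : Submodule F V} (h : ∀ v ∈ W, T v ∈ W) {w : V} (hw : w ∈ W) :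
    ∃ y ∈ W, T y = w := by
  have h1 : W.map (T : V →ₗ[F] V) = W := by
    apply Submodule.eq_of_le_of_finrank_eq
    · rintro _ ⟨y, hy, rfl⟩
      exact h y hy
    · exact LinearEquiv.finrank_map_eq T W
  have h2 : w ∈ W.map (T : V →ₗ[F] V) := by rw [h1]; exact hw
  obtain ⟨y, hy, hyw⟩ := h2
  exact ⟨y, hy, hyw⟩

end fd

/-! ### The map `T - 1` -/

/-- `T - 1` -/
def dl (T : V ≃ₗ[F] V) : V →ₗ[F] V := (T : V →ₗ[F] V) - LinearMap.id

theorem dl_apply (T : V ≃ₗ[F] V) (v : V) : dl T v = T v - v := rfl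

/-- fixed space -/
def Cf (T : V ≃ₗ[F] V) : Submodule F V := LinearMap.ker (dl T)

/-- commutator space -/
def Cm (T : V ≃ₗ[F] V) : Submodule F V := LinearMap.range (dl T)

theorem mem_Cf {T : V ≃ₗ[F] V} {v : V} : v ∈ Cf T ↔ T v = v := by
  rw [Cf, LinearMap.mem_ker, dl_apply, sub_eq_zero]

theorem mem_Cm {T : V ≃ₗ[F] V} {v : V} : v ∈ Cm T ↔ ∃ y, T y - y = v := by
  rw [Cm, LinearMap.mem_range]
  rfl

theorem Cm_eq (hQ : Nondeg Q) {T : V ≃ₗ[F] V} (hT : T ∈ O Q) : pp Q (Cm T) = Cf T := by
  ext v
  rw [mem_pp, mem_Cf]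
  constructor
  · intro h
    have h1 : ∀ y, polar Q (T v - v) y = 0 := by
      intro y
      obtain ⟨y, rfl⟩ := T.surjective y
      have h2 := h (T y - y) (mem_Cm.2 ⟨y, rfl⟩)
      rw [polar_sub_left] at h2
      rw [polar_sub_left, polar_map hT, polar_comm Q v y, polar_comm Q v (T y)]
      rw [sub_eq_zero] at h2 ⊢
      exact h2.symm
    exact sub_eq_zero.1 (hQ _ h1)
  · rintro h w hw
    obtain ⟨y, rfl⟩ := mem_Cm.1 hw
    rw [polar_sub_left]
    nth_rewrite 1 [← h]
    rw [polar_map hT, sub_self]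

theorem pow_apply_of {T : V ≃ₗ[F] V} {v : V} (h : T v = v) (m : ℕ) : (T ^ m) v = v := by
  induction m with
  | zero => rfl
  | succ m ih => rw [pow_succ, LinearEquiv.mul_apply, h, ih]

/-- `T` unipotent of order prime to the characteristic on `v` -/
theorem eq_of_unip [CharP F 2] {T : V ≃ₗ[F] V} {m : ℕ} (hm : Odd m) (hTm : T ^ m = 1) {v : V}
    (h : T (T v - v) = T v - v) : T v = v := by
  have h1 : ∀ k : ℕ, (T ^ k) v = v + (k : F) • (T v - v) := by
    intro k
    induction k with
    | zero => simp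
    | succ k ih =>
      rw [pow_succ', LinearEquiv.mul_apply, ih, map_add, map_smul, h]
      push_cast
      module
  have h2 := h1 m
  rw [hTm] at h2
  have h3 : (m : F) = 1 := by
    obtain ⟨k, rfl⟩ := hm
    push_cast
    have : (2 : F) = 0 := CharTwo.two_eq_zero
    rw [this]; ring
  rw [h3, one_smul] at h2
  have h4 : (1 : V ≃ₗ[F] V) v = v := rfl
  rw [h4] at h2
  have h5 : T v - v = 0 := by
    have := h2.symm
    rwa [add_eq_left] at this
  exact sub_eq_zero.1 h5

section fd2

variable [FiniteDimensional F V]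

omit [FiniteDimensional F V] in
theorem Cf_inf_Cm [CharP F 2] {T : V ≃ₗ[F] V} {m : ℕ} (hm : Odd m) (hTm : T ^ m = 1) : Cf T ⊓ Cm T = ⊥ := by
  rw [eq_bot_iff]
  rintro v ⟨h1, h2⟩
  obtain ⟨y, rfl⟩ := mem_Cm.1 h2
  have h3 := eq_of_unip hm hTm (mem_Cf.1 h1)
  rw [h3, sub_self]
  exact Submodule.zero_mem _

omit [FiniteDimensional F V] in
theorem nondeg_Cm [CharP F 2] (hQ : Nondeg Q) {T : V ≃ₗ[F] V} (hT : T ∈ O Q) {m : ℕ} (hm : Odd m)
    (hTm : T ^ m = 1) : Nondeg (Q.comp (Cm T).subtype) := by
  rw [nondeg_iff, Cm_eq hQ hT, inf_comm]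
  exact Cf_inf_Cm hm hTm

theorem pp_Cf (hQ : Nondeg Q) {T : V ≃ₗ[F] V} (hT : T ∈ O Q) : pp Q (Cf T) = Cm T := by
  rw [← Cm_eq hQ hT, pp_pp hQ]

theorem nondeg_Cf [CharP F 2] (hQ : Nondeg Q) {T : V ≃ₗ[F] V} (hT : T ∈ O Q) {m : ℕ} (hm : Odd m)
    (hTm : T ^ m = 1) : Nondeg (Q.comp (Cf T).subtype) := by
  rw [nondeg_iff, pp_Cf hQ hT]
  exact Cf_inf_Cm hm hTm

/-- `T - 1` is onto on an invariant subspace without fixed vectors -/
theorem surj_dl {T : V ≃ₗ[F] V} {W : Submodule F V} (h : ∀ v ∈ W, T v ∈ W) (hf : ∀ v ∈ W, T v = v → v = 0)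
    {w : V} (hw : w ∈ W) : ∃ y ∈ W, T y - y = w := by
  let f : W →ₗ[F] W := (dl T).restrict (p := W) (q := W) fun v hv => W.sub_mem (h v hv) hv
  have hinj : Function.Injective f := by
    rw [← LinearMap.ker_eq_bot, LinearMap.ker_eq_bot']
    intro v hv
    have h1 : T v - v = 0 := congrArg Subtype.val hv
    exact Subtype.ext (hf v v.2 (sub_eq_zero.1 h1))
  obtain ⟨y, hy⟩ := (LinearMap.injective_iff_surjective.1 hinj) ⟨w, hw⟩
  exact ⟨y, y.2, congrArg Subtype.val hy⟩

end fd2

/-- the commutator space is invariant under maps commuting with `T` -/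
theorem Cm_inv {T S : V ≃ₗ[F] V} (h : ∀ v, S (T v) = T (S v)) : ∀ v ∈ Cm T, S v ∈ Cm T := by
  intro v hv
  obtain ⟨y, rfl⟩ := mem_Cm.1 hv
  refine mem_Cm.2 ⟨S y, ?_⟩
  rw [map_sub, h]

theorem Cf_inv {T S : V ≃ₗ[F] V} (h : ∀ v, S (T v) = T (S v)) : ∀ v ∈ Cf T, S v ∈ Cf T := by
  intro v hv
  rw [mem_Cf] at hv ⊢
  rw [← h, hv]

end Cfsg.Agent.H578.RC

private theorem dce_5db29763f567 : _root_.True := by
  try have : _root_.True := by simp only [_root_.Cfsg.Agent.H578.RC.Cm.eq_1]
  try have : _root_.True := by simp only [_root_.Cfsg.Agent.H578.RC.Cf.eq_1]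
  exact _root_.True.intro
end

-- part: H457/RC/KForm
section
prune_inst 0x21400440702210000000058413001c42ce00000001080000a0000a000fc80c00c0400020b2b02000808a08844830004000100180024000000e000400011a00800080100400400000080000000000000000000000000000000000000000000004000000000
set_option linter.all false
open scoped Cfsg.Agent.FastGrp

-- part: H457/RC/KStr
section
/-!
# S3510, row F even, box D: the field `K = F[κ]` (helper457)

`exists_K`: a linear map `κ` with `κ² = s κ - t`, `X² - s X + t` without root in `F`, makes `V` a vector space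
over a field `K` with `q²` elements; `Gen F K α s t`: `α` generates `K`, `α² = s α - t`.
-/

set_option autoImplicit false

namespace Cfsg.Agent.H457.RC

open Polynomial

universe u v

/-- `α` is a generator of the quadratic extension `K / F` with minimal polynomial `X² - s X + t` -/
structure Gen (F K : Type*) [Field F] [Field K] [Algebra F K] (α : K) (s t : F) : Prop where
  sq : α ^ 2 = algebraMap F K s * α - algebraMap F K t
  gen : ∀ a : K, ∃ x y : F, a = algebraMap F K x + algebraMap F K y * α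
  irr : ∀ x : F, x ^ 2 - s * x + t ≠ 0

section poly

variable {F : Type u} [Field F]

/-- the polynomial `X² - s X + t` -/
noncomputable def pol (s t : F) : F[X] := X ^ 2 - C s * X + C t

theorem pol_natDegree (s t : F) : (pol s t).natDegree = 2 := by
  rw [pol]
  compute_degree!

theorem pol_monic (s t : F) : (pol s t).Monic := by
  rw [pol]
  monicity!

theorem pol_irr {s t : F} (h : ∀ x : F, x ^ 2 - s * x + t ≠ 0) : Irreducible (pol s t) := by
  have h2 := pol_natDegree s t
  rw [Polynomial.Monic.irreducible_iff_roots_eq_zero_of_degree_le_three (pol_monic s t) (by omega) (by omega)]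
  rw [Multiset.eq_zero_iff_forall_notMem]
  intro x hx
  have h3 := (mem_roots'.mp hx).2
  apply h x
  rw [IsRoot.def, pol] at h3
  simpa using h3

end poly

/-- **The field `K = F[κ]`.** -/
theorem exists_K {F : Type u} [Field F] [Finite F] {V : Type v} [AddCommGroup V] [Module F V] {s t : F}
    (hirr : ∀ x : F, x ^ 2 - s * x + t ≠ 0) (κ : V →ₗ[F] V) (hκ : ∀ v, κ (κ v) = s • κ v - t • v) :
    ∃ (K : Type u) (_ : Field K) (_ : Finite K) (_ : Algebra F K) (_ : Module K V) (_ : IsScalarTower F K V) (α : K),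
      Nat.card K = Nat.card F ^ 2 ∧ (∀ v : V, α • v = κ v) ∧ Gen F K α s t := by
  classical
  have hfact : Fact (Irreducible (pol s t)) := ⟨pol_irr hirr⟩
  let K := AdjoinRoot (pol s t)
  let pb := AdjoinRoot.powerBasis (hfact.out).ne_zero
  have hdim : pb.dim = 2 := by
    rw [AdjoinRoot.powerBasis_dim, pol_natDegree]
  have hfd : Module.Finite F K := pb.finite
  have hfin : Finite K := Module.finite_of_finite F
  have hfr : Module.finrank F K = 2 := by rw [pb.finrank, hdim]
  -- the action
  have hk2 : aeval κ (pol s t) = 0 := by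
    ext v
    rw [pol, map_add, map_sub, map_mul, map_pow, aeval_X, aeval_C, aeval_C]
    simp only [LinearMap.add_apply, LinearMap.sub_apply, Module.End.mul_apply, pow_two,
      Module.algebraMap_end_apply, LinearMap.zero_apply]
    rw [hκ]
    abel
  let φ : K →+* Module.End F V := Ideal.Quotient.lift (Ideal.span {pol s t}) (aeval κ : F[X] →ₐ[F] Module.End F V).toRingHom
    (by
      intro a ha
      obtain ⟨b, rfl⟩ := Ideal.mem_span_singleton'.mp ha
      show aeval κ (b * pol s t) = 0
      rw [map_mul, hk2, mul_zero])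
  have hφX : φ (AdjoinRoot.root (pol s t)) = κ := by
    show aeval κ (X : F[X]) = κ
    rw [aeval_X]
  have hφC : ∀ a : F, φ (algebraMap F K a) = algebraMap F (Module.End F V) a := by
    intro a
    show aeval κ (C a : F[X]) = _
    rw [aeval_C]
  let mod : Module K V := Module.compHom V φ
  have hsm : ∀ (a : K) (v : V), a • v = φ a v := fun a v => rfl
  have htow : IsScalarTower F K V := by
    constructor
    intro a b v
    rw [hsm, hsm, Algebra.smul_def, map_mul, hφC, Module.End.mul_apply, Module.algebraMap_end_apply]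
  refine ⟨K, inferInstance, hfin, inferInstance, mod, htow, AdjoinRoot.root (pol s t), ?_, ?_, ?_, ?_, hirr⟩
  · rw [Module.natCard_eq_pow_finrank (K := F), hfr]
  · intro v
    rw [hsm, hφX]
  · have h1 : aeval (AdjoinRoot.root (pol s t)) (pol s t) = (0 : K) := AdjoinRoot.aeval_eq _ |>.trans AdjoinRoot.mk_self
    have h2 : aeval (AdjoinRoot.root (pol s t) : K) (X ^ 2 - C s * X + C t) = (0 : K) := h1
    rw [map_add, map_sub, map_mul, map_pow, aeval_X, aeval_C, aeval_C] at h2
    linear_combination h2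
  · intro a
    obtain ⟨f, rfl⟩ := AdjoinRoot.mk_surjective a
    have h1 : AdjoinRoot.mk (pol s t) f = AdjoinRoot.mk (pol s t) (f %ₘ pol s t) := by
      rw [AdjoinRoot.mk_eq_mk]
      exact ⟨f /ₘ pol s t, by
        have := modByMonic_add_div f (pol s t)
        linear_combination this.symm⟩
    have h2 : (f %ₘ pol s t).natDegree < 2 := by
      rw [← pol_natDegree s t]
      apply natDegree_modByMonic_lt f (pol_monic s t)
      intro h
      have := pol_natDegree s t
      rw [h, natDegree_one] at this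
      omega
    obtain ⟨y, x, h3⟩ := exists_eq_X_add_C_of_natDegree_le_one (p := f %ₘ pol s t) (by omega)
    refine ⟨x, y, ?_⟩
    rw [h1, h3, map_add, map_mul, AdjoinRoot.mk_C, AdjoinRoot.mk_C, AdjoinRoot.mk_X]
    exact add_comm _ _

section gen

variable {F K : Type*} [Field F] [Field K] [Algebra F K] {α : K} {s t : F}

theorem Gen.notMem (h : Gen F K α s t) (x : F) : α ≠ algebraMap F K x := by
  rintro rfl
  apply h.irr x
  apply (algebraMap F K).injective
  have := h.sq
  rw [map_add, map_sub, map_mul, map_pow, map_zero]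
  linear_combination this

theorem Gen.uniq (h : Gen F K α s t) {x y x' y' : F}
    (he : algebraMap F K x + algebraMap F K y * α = algebraMap F K x' + algebraMap F K y' * α) :
    x = x' ∧ y = y' := by
  have h1 : y = y' := by
    by_contra hy
    have h2 : y - y' ≠ 0 := sub_ne_zero.mpr hy
    apply h.notMem ((x' - x) / (y - y'))
    have h3 : algebraMap F K (y - y') ≠ 0 := by
      rw [Ne, map_eq_zero]; exact h2
    rw [map_div₀, eq_div_iff h3, map_sub, map_sub]
    linear_combination he
  refine ⟨?_, h1⟩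
  apply (algebraMap F K).injective
  rw [h1] at he
  exact add_right_cancel he

/-- the generator may be chosen with non zero trace -/
theorem Gen.exists_trace_ne [Finite F] (h : Gen F K α s t) : ∃ (α' : K) (s' t' : F), s' ≠ 0 ∧ Gen F K α' s' t' := by
  by_cases hs : s = 0
  · by_cases h2 : (2 : F) = 0
    · exfalso
      have hc : CharP F 2 := by
        apply CharTwo.of_one_ne_zero_of_two_eq_zero one_ne_zero h2
      obtain ⟨x, hx⟩ := (FiniteField.isSquare_of_char_two (F := F) (ringChar.eq F 2 ▸ rfl) t)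
      apply h.irr x
      rw [hs, hx]
      linear_combination (x * x) * h2
    · refine ⟨α + 1, 2, 1 + t, h2, ?_, ?_, ?_⟩
      · have := h.sq
        rw [hs, map_zero, zero_mul] at this
        rw [map_add, map_one, map_ofNat]
        linear_combination this
      · intro a
        obtain ⟨x, y, rfl⟩ := h.gen a
        refine ⟨x - y, y, ?_⟩
        rw [map_sub]
        ring
      · intro x hx
        apply h.irr (x - 1)
        rw [hs]
        linear_combination hx
  · exact ⟨α, s, t, hs, h⟩

theorem Gen.delta_ne (h : Gen F K α s t) (hs : s ≠ 0) : 2 * α - algebraMap F K s ≠ 0 := by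
  intro h1
  by_cases h2 : (2 : F) = 0
  · have h3 : (2 : K) = 0 := by rw [← map_ofNat (algebraMap F K) 2, h2, map_zero]
    rw [h3, zero_mul, zero_sub, neg_eq_zero, map_eq_zero] at h1
    exact hs h1
  · apply h.notMem (s / 2)
    have h3 : (2 : K) ≠ 0 := by rwa [← map_ofNat (algebraMap F K) 2, Ne, map_eq_zero]
    rw [map_div₀, map_ofNat, eq_div_iff h3]
    linear_combination h1

/-- the functional which recovers `b` from `(a - ᾱ b) / (α - ᾱ)` -/
theorem Gen.exists_functional (h : Gen F K α s t) (hs : s ≠ 0) :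
    ∃ l : K →ₗ[F] F, ∀ a b : F,
      l ((algebraMap F K a - (algebraMap F K s - α) * algebraMap F K b) / (2 * α - algebraMap F K s)) = b := by
  classical
  let x : K → F := fun a => (h.gen a).choose
  let y : K → F := fun a => (h.gen a).choose_spec.choose
  have hxy : ∀ a, a = algebraMap F K (x a) + algebraMap F K (y a) * α := fun a => (h.gen a).choose_spec.choose_spec
  let c : K →ₗ[F] F :=
    { toFun := y
      map_add' := by
        intro a b
        have h1 := hxy (a + b)
        have h2 : a + b = algebraMap F K (x a + x b) + algebraMap F K (y a + y b) * α := by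
          conv_lhs => rw [hxy a, hxy b]
          rw [map_add, map_add]; ring
        exact ((h.uniq (h2.symm.trans h1)).2).symm
      map_smul' := by
        intro k a
        have h1 := hxy (k • a)
        have h2 : k • a = algebraMap F K (k * x a) + algebraMap F K (k * y a) * α := by
          conv_lhs => rw [hxy a]
          rw [map_mul, map_mul, Algebra.smul_def]; ring
        exact ((h.uniq (h2.symm.trans h1)).2).symm }
  have hc : ∀ u w : F, c (algebraMap F K u + algebraMap F K w * α) = w := by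
    intro u w
    exact (h.uniq (hxy (algebraMap F K u + algebraMap F K w * α))).2.symm
  refine ⟨c.comp (LinearMap.mulLeft F (2 * α - algebraMap F K s)), fun a b => ?_⟩
  rw [LinearMap.comp_apply, LinearMap.mulLeft_apply, mul_div_cancel₀ _ (h.delta_ne hs)]
  have h1 : algebraMap F K a - (algebraMap F K s - α) * algebraMap F K b
      = algebraMap F K (a - s * b) + algebraMap F K b * α := by
    rw [map_sub, map_mul]; ring
  rw [h1, hc]

variable {V : Type*} [AddCommGroup V] [Module F V] [Module K V] [IsScalarTower F K V]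

/-- maps commuting with `α` are `K`-linear -/
theorem Gen.linear (h : Gen F K α s t) {f : V → V} (hadd : ∀ u v, f (u + v) = f u + f v)
    (hsm : ∀ (a : F) (v : V), f (a • v) = a • f v) (hα : ∀ v, f (α • v) = α • f v) (a : K) (v : V) :
    f (a • v) = a • f v := by
  obtain ⟨x, y, rfl⟩ := h.gen a
  rw [add_smul, add_smul, mul_smul, mul_smul, hadd, algebraMap_smul, algebraMap_smul, algebraMap_smul,
    algebraMap_smul, hsm, hsm, hα]

end gen

end Cfsg.Agent.H457.RC
end

-- part: H457/RC/KForm
section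
/-!
# S3510, row F even, box D: the `K`-valued quadratic form (helper457)

`V` a vector space over the quadratic extension `K / F`, `Q` a quadratic form over `F` for which the elements of `K`
are self adjoint. Then `Q = l ∘ QK` with a quadratic form `QK` over `K` and an `F`-linear form `l : K → F`.
-/

set_option autoImplicit false
set_option linter.unusedSectionVars false

namespace Cfsg.Agent.H457.RC

open QuadraticMap
open Cfsg.Agent.LieClassical.OrthCore Cfsg.Agent.LieClassical.OrthTrans
open Cfsg.Agent.LieClassical.OrthSimple Cfsg.Agent.ClassicalGeometry.OrthSemi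
open Cfsg.Agent.ClassicalGeometry.OrthAut1

variable {F K V : Type*} [Field F] [Field K] [Algebra F K] [AddCommGroup V] [Module F V] [Module K V]
  [IsScalarTower F K V] {Q : QuadraticForm F V} {α : K} {s t : F}

theorem Gen.sq_smul (h : Gen F K α s t) (v : V) : α • α • v = s • (α • v) - t • v := by
  rw [smul_smul, ← pow_two, h.sq, sub_smul, mul_smul, algebraMap_smul, algebraMap_smul]

/-- self adjointness for all elements of `K` -/
theorem Gen.self (h : Gen F K α s t) (hself : ∀ v w, polar Q (α • v) w = polar Q v (α • w)) (a : K) (v w : V) :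
    polar Q (a • v) w = polar Q v (a • w) := by
  obtain ⟨x, y, rfl⟩ := h.gen a
  rw [add_smul, add_smul, mul_smul, mul_smul, algebraMap_smul, algebraMap_smul, algebraMap_smul, algebraMap_smul,
    polar_add_left, polar_add_right, polar_smul_left, polar_smul_right, polar_smul_left, polar_smul_right, hself]

/-- the `K`-bilinear form -/
noncomputable def BK (Q : QuadraticForm F V) (α : K) (s : F) (v w : V) : K :=
  (algebraMap F K (polar Q (α • v) w) - (algebraMap F K s - α) * algebraMap F K (polar Q v w))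
    / (2 * α - algebraMap F K s)

theorem BK_add_left (v v' w : V) : BK Q α s (v + v') w = BK Q α s v w + BK Q α s v' w := by
  unfold BK
  rw [smul_add, polar_add_left, polar_add_left, map_add, map_add]
  ring

theorem BK_add_right (v w w' : V) : BK Q α s v (w + w') = BK Q α s v w + BK Q α s v w' := by
  unfold BK
  rw [polar_add_right, polar_add_right, map_add, map_add]
  ring

theorem smul_smul_comm' (a : F) (b : K) (v : V) : b • a • v = a • b • v := by
  rw [← algebraMap_smul K a v, ← algebraMap_smul K a (b • v), smul_smul, smul_smul, mul_comm]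

theorem BK_smulF_left (a : F) (v w : V) : BK Q α s (a • v) w = algebraMap F K a * BK Q α s v w := by
  unfold BK
  rw [smul_smul_comm', polar_smul_left, polar_smul_left, smul_eq_mul, smul_eq_mul, map_mul, map_mul]
  ring

theorem BK_comm (hself : ∀ v w, polar Q (α • v) w = polar Q v (α • w)) (v w : V) :
    BK Q α s v w = BK Q α s w v := by
  unfold BK
  rw [hself, polar_comm, polar_comm Q v w]

theorem Gen.BK_smulα_left (h : Gen F K α s t) (v w : V) : BK Q α s (α • v) w = α * BK Q α s v w := by
  unfold BK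
  rw [h.sq_smul, polar_sub_left, polar_smul_left, polar_smul_left, smul_eq_mul, smul_eq_mul, map_sub, map_mul, map_mul,
    ← mul_div_assoc]
  congr 1
  have := h.sq
  linear_combination (-(algebraMap F K (polar Q v w))) * this

theorem Gen.BK_smul_left (h : Gen F K α s t) (a : K) (v w : V) : BK Q α s (a • v) w = a * BK Q α s v w := by
  obtain ⟨x, y, rfl⟩ := h.gen a
  rw [add_smul, mul_smul, algebraMap_smul, algebraMap_smul, BK_add_left, BK_smulF_left, BK_smulF_left,
    h.BK_smulα_left]
  ring

theorem Gen.BK_smul_right (h : Gen F K α s t) (hself : ∀ v w, polar Q (α • v) w = polar Q v (α • w))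
    (a : K) (v w : V) : BK Q α s v (a • w) = a * BK Q α s v w := by
  rw [BK_comm hself, h.BK_smul_left, BK_comm hself]

/-- the values of the `K`-form -/
noncomputable def qK (Q : QuadraticForm F V) (α : K) (s t : F) (v : V) : K :=
  (algebraMap F K (s⁻¹ * (Q (α • v) + t * Q v)) - (algebraMap F K s - α) * algebraMap F K (Q v))
    / (2 * α - algebraMap F K s)

theorem Gen.polar_αα (h : Gen F K α s t) (hself : ∀ v w, polar Q (α • v) w = polar Q v (α • w)) (v w : V) :
    polar Q (α • v) (α • w) = s * polar Q (α • v) w - t * polar Q v w := by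
  rw [← hself, h.sq_smul, polar_sub_left, polar_smul_left, polar_smul_left, smul_eq_mul, smul_eq_mul]

theorem Gen.qK_add (h : Gen F K α s t) (hs : s ≠ 0) (hself : ∀ v w, polar Q (α • v) w = polar Q v (α • w))
    (v w : V) : qK Q α s t (v + w) = qK Q α s t v + qK Q α s t w + BK Q α s v w := by
  unfold qK BK
  have h1 : Q (v + w) = Q v + Q w + polar Q v w := by
    rw [polar]; ring
  have h2 : Q (α • (v + w)) = Q (α • v) + Q (α • w) + polar Q (α • v) (α • w) := by
    rw [smul_add, polar]; ring
  have h3 : s⁻¹ * (Q (α • (v + w)) + t * Q (v + w)) = s⁻¹ * (Q (α • v) + t * Q v) + s⁻¹ * (Q (α • w) + t * Q w)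
      + polar Q (α • v) w := by
    rw [h1, h2, h.polar_αα hself]
    field_simp
    ring
  rw [h3, h1, map_add, map_add, map_add, map_add]
  ring

/-- `2 T(v) = B(α v, v)` -/
theorem Gen.two_T (h : Gen F K α s t) (hs : s ≠ 0) (hself : ∀ v w, polar Q (α • v) w = polar Q v (α • w)) (v : V) :
    polar Q (α • v) v = 2 * (s⁻¹ * (Q (α • v) + t * Q v)) := by
  have h1 := h.polar_αα hself v v
  rw [polar_self, polar_self] at h1
  have h2 : s * polar Q (α • v) v = 2 * (Q (α • v) + t * Q v) := by linear_combination -h1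
  field_simp
  linear_combination h2

theorem Gen.qK_smulα (h : Gen F K α s t) (hs : s ≠ 0) (hself : ∀ v w, polar Q (α • v) w = polar Q v (α • w))
    (v : V) : qK Q α s t (α • v) = α ^ 2 * qK Q α s t v := by
  have h1 : Q (α • α • v) = s ^ 2 * Q (α • v) + t ^ 2 * Q v - s * t * polar Q (α • v) v := by
    rw [h.sq_smul, sub_eq_add_neg, Q_add, QuadraticMap.map_neg, QuadraticMap.map_smul, QuadraticMap.map_smul,
      polar_neg_right, polar_smul_left, polar_smul_right]
    simp only [smul_eq_mul]
    ring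
  set a : F := s⁻¹ * (Q (α • v) + t * Q v) with ha
  have h2 : Q (α • v) = s * a - t * Q v := by
    rw [ha]; field_simp; ring
  have h3 : polar Q (α • v) v = 2 * a := h.two_T hs hself v
  have h4 : s⁻¹ * (Q (α • α • v) + t * Q (α • v)) = (s ^ 2 - t) * a - s * t * Q v := by
    rw [h1, h3, h2]
    field_simp
    ring
  unfold qK
  rw [h4, ← ha, h2, ← mul_div_assoc]
  congr 1
  have := h.sq
  simp only [map_sub, map_mul, map_pow]
  linear_combination (-(algebraMap F K a) - α * algebraMap F K (Q v)) * this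

theorem qK_smulF (a : F) (v : V) : qK Q α s t (a • v) = algebraMap F K a ^ 2 * qK Q α s t v := by
  unfold qK
  rw [smul_smul_comm', QuadraticMap.map_smul, QuadraticMap.map_smul, ← mul_div_assoc]
  congr 1
  simp only [smul_eq_mul, map_mul, map_add]
  ring

theorem Gen.BK_α_right (h : Gen F K α s t) (hs : s ≠ 0)
    (hself : ∀ v w, polar Q (α • v) w = polar Q v (α • w)) (v : V) :
    BK Q α s v (α • v) = 2 * α * qK Q α s t v := by
  have h1 : BK Q α s v v = 2 * qK Q α s t v := by
    unfold BK qK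
    rw [h.two_T hs hself, polar_self, ← mul_div_assoc]
    congr 1
    simp only [map_mul, map_ofNat, nsmul_eq_mul, Nat.cast_ofNat]
    ring
  rw [h.BK_smul_right hself, h1]
  ring

theorem Gen.qK_smul (h : Gen F K α s t) (hs : s ≠ 0) (hself : ∀ v w, polar Q (α • v) w = polar Q v (α • w))
    (a : K) (v : V) : qK Q α s t (a • v) = a * a * qK Q α s t v := by
  obtain ⟨x, y, rfl⟩ := h.gen a
  rw [add_smul, mul_smul, algebraMap_smul, algebraMap_smul, h.qK_add hs hself, qK_smulF, qK_smulF,
    h.qK_smulα hs hself, BK_smulF_left, BK_comm hself, BK_smulF_left, BK_comm hself, h.BK_α_right hs hself]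
  ring

/-- the quadratic form over `K` -/
noncomputable def QK (h : Gen F K α s t) (hs : s ≠ 0)
    (hself : ∀ v w, polar Q (α • v) w = polar Q v (α • w)) : QuadraticForm K V where
  toFun := qK Q α s t
  toFun_smul a v := h.qK_smul hs hself a v
  exists_companion' := ⟨LinearMap.mk₂ K (BK Q α s) BK_add_left (fun a v w => h.BK_smul_left a v w)
    BK_add_right (fun a v w => h.BK_smul_right hself a v w), fun v w => h.qK_add hs hself v w⟩

theorem QK_apply (h : Gen F K α s t) (hs : s ≠ 0)
    (hself : ∀ v w, polar Q (α • v) w = polar Q v (α • w)) (v : V) : QK h hs hself v = qK Q α s t v := rfl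

/-- `R` is a `K`-form for `Q` -/
structure KF (Q : QuadraticForm F V) (R : QuadraticForm K V) (l : K →ₗ[F] F) : Prop where
  form : ∀ v, l (R v) = Q v
  sim : ∀ (f : V → V) (c : F), (∀ (a : K) (v : V), f (a • v) = a • f v) → (∀ v, Q (f v) = c * Q v) →
    ∀ v, R (f v) = algebraMap F K c * R v

/-- **Existence of the `K`-form.** -/
theorem exists_KF [Finite F] (h : Gen F K α s t) (hself : ∀ v w, polar Q (α • v) w = polar Q v (α • w)) :
    ∃ (R : QuadraticForm K V) (l : K →ₗ[F] F), KF Q R l := by
  obtain ⟨β, s', t', hs, hβ⟩ := h.exists_trace_ne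
  have hself' : ∀ v w, polar Q (β • v) w = polar Q v (β • w) := fun v w => h.self hself β v w
  obtain ⟨l, hl⟩ := hβ.exists_functional hs
  refine ⟨QK hβ hs hself', l, fun v => hl _ _, ?_⟩
  intro f c hK hf v
  rw [QK_apply, QK_apply]
  unfold qK
  rw [← hK, hf, hf, ← mul_div_assoc]
  congr 1
  simp only [map_mul, map_add]
  ring

section KF

variable {R : QuadraticForm K V} {l : K →ₗ[F] F}

theorem KF.polar (h : KF Q R l) (v w : V) : l (QuadraticMap.polar R v w) = QuadraticMap.polar Q v w := by
  unfold QuadraticMap.polar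
  rw [map_sub, map_sub, h.form, h.form, h.form]

theorem KF.nondeg (h : KF Q R l) (hQ : Nondeg Q) : Nondeg R := by
  intro x hx
  apply hQ
  intro y
  rw [← h.polar, hx, map_zero]

theorem KF.sing (h : KF Q R l) {v : V} (hv : R v = 0) (a : K) : Q (a • v) = 0 := by
  rw [← h.form, QuadraticMap.map_smul, hv, smul_zero, map_zero]

theorem KF.orth (h : KF Q R l) {v w : V} (hv : QuadraticMap.polar R v w = 0) (a b : K) :
    QuadraticMap.polar Q (a • v) (b • w) = 0 := by
  rw [← h.polar, polar_smul_left, polar_smul_right, hv, smul_zero, smul_zero, map_zero]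

theorem KF.polar_self (h : KF Q R l) (a : K) (v w : V) :
    QuadraticMap.polar Q (a • v) w = QuadraticMap.polar Q v (a • w) := by
  rw [← h.polar, ← h.polar, polar_smul_left, polar_smul_right]

end KF

theorem finrank_K {F K V : Type*} [Field F] [Field K] [Finite F] [Finite K] [Algebra F K] [AddCommGroup V]
    [Module F V] [Module K V] [FiniteDimensional F V] (hc : Nat.card K = Nat.card F ^ 2) :
    Module.finrank F V = 2 * Module.finrank K V := by
  have hV : Finite V := Module.finite_of_finite F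
  have hK : Module.Finite K V := Module.Finite.of_finite
  have h1 := Module.natCard_eq_pow_finrank (K := F) (V := V)
  have h2 := Module.natCard_eq_pow_finrank (K := K) (V := V)
  rw [h2, hc, ← pow_mul] at h1
  exact (Nat.pow_right_injective Finite.one_lt_card h1).symm

end Cfsg.Agent.H457.RC
end

private theorem dce_69d3feaa3d99 : _root_.True := by
  try have : _root_.True := by simp only [_root_.Cfsg.Agent.H457.RC.pol.eq_1]
  exact _root_.True.intro
end

-- part: H170/RC/Four
section
prune_inst 0x200024041040000000000000002000040000042000000000084000000000c0208080200000000000020000010001000000000000420000000a000000000100000000000031000000000090000000000000000000000000000000000000000000000000000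
set_option linter.all false
open scoped Cfsg.Agent.FastGrp

/-!
# Four-dimensional quadratic spaces of minus type (helper170; S3510, box M4)

`Minus4 Q` : `Q` nondegenerate, `dim V = 4`, there are singular vectors, no totally singular planes.

* `Minus4.commutator_eq_E` : `⁅O Q, O Q⁆ = E Q`;
* `Minus4.E_perfect` : `⁅E Q, E Q⁆ = E Q`;
* `Minus4.equiv_psl` : `E Q / Z(E Q) ≃* PSL(2, K)`, `|K| = |F| ^ 2`;
* `Minus4.scal` : a semisimilitude centralising `E Q` is a scalar;
* `box_M4` : the three statements together; `Minus4.simple`, `Minus4.cl`, `Minus4.not_exc`.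
-/

set_option autoImplicit false

namespace Cfsg.Agent.H170.RC

open QuadraticMap Module
open scoped MatrixGroups
open Cfsg.Agent.LieClassical.OrthCore Cfsg.Agent.LieClassical.OrthTrans

/-! ### Generation of `SL₂` -/

section SL

/-- upper elementary matrices -/
def up {R : Type*} [CommRing R] (t : R) : SL(2, R) := ⟨!![1, t; 0, 1], by simp⟩

/-- lower elementary matrices -/
def lo {R : Type*} [CommRing R] (t : R) : SL(2, R) := ⟨!![1, 0; t, 1], by simp⟩

variable {E : Type*} [Field E]

theorem sl_gen (H : Subgroup SL(2, E)) (hu : ∀ t, up t ∈ H) (hl : ∀ t, lo t ∈ H) : H = ⊤ := by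
  have key : ∀ s : SL(2, E), s.1 1 0 ≠ 0 → s ∈ H := by
    intro s hs
    have hd : s.1 0 0 * s.1 1 1 - s.1 0 1 * s.1 1 0 = 1 := by
      have := s.2
      rwa [Matrix.det_fin_two] at this
    have : s = up ((s.1 0 0 - 1) / s.1 1 0) * lo (s.1 1 0) * up ((s.1 1 1 - 1) / s.1 1 0) := by
      apply Subtype.ext
      show s.1 = !![1, (s.1 0 0 - 1) / s.1 1 0; 0, 1] * !![1, 0; s.1 1 0, 1] * !![1, (s.1 1 1 - 1) / s.1 1 0; 0, 1]
      ext i j
      fin_cases i <;> fin_cases j
      · simp only [Matrix.mul_apply, Fin.sum_univ_two, _root_.Fin.zero_eta, _root_.Fin.isValue, _root_.Matrix.cons_mul, _root_.Nat.succ_eq_add_one, _root_.Nat.reduceAdd, _root_.Matrix.vecMul_cons, _root_.Matrix.head_cons, _root_.one_smul, _root_.Matrix.tail_cons, _root_.Matrix.smul_cons, _root_.smul_eq_mul, _root_.mul_one, _root_.Matrix.smul_empty, _root_.Matrix.empty_vecMul, _root_.add_zero, _root_.Matrix.add_cons, _root_.zero_add, _root_.Matrix.empty_add_empty, _root_.zero_smul, _root_.Matrix.empty_mul, _root_.Equiv.symm_apply_apply,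 _root_.Matrix.of_apply, _root_.Matrix.cons_val', _root_.Matrix.cons_val_fin_one, _root_.Matrix.cons_val_zero, _root_.Matrix.cons_val_one, _root_.MulZeroClass.mul_zero]
        field_simp
        ring
      · simp only [Matrix.mul_apply, Fin.sum_univ_two, _root_.Fin.zero_eta, _root_.Fin.isValue, _root_.Fin.mk_one, _root_.Matrix.cons_mul, _root_.Nat.succ_eq_add_one, _root_.Nat.reduceAdd, _root_.Matrix.vecMul_cons, _root_.Matrix.head_cons, _root_.one_smul, _root_.Matrix.tail_cons, _root_.Matrix.smul_cons, _root_.smul_eq_mul, _root_.mul_one, _root_.Matrix.smul_empty, _root_.Matrix.empty_vecMul, _root_.add_zero, _root_.Matrix.add_cons, _root_.zero_add, _root_.Matrix.empty_add_empty, _root_.zero_smul, _root_.Matrix.empty_mul, _root_.Equiv.symm_apply_apply, _root_.Matrix.of_apply, _root_.Matrix.cons_val', _root_.Matrix.cons_val_fin_one, _root_.Matrix.cons_val_zero, _root_.Matrix.cons_val_one]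
        field_simp
        linear_combination -hd
      · simp only [Matrix.mul_apply, Fin.sum_univ_two, _root_.Fin.mk_one, _root_.Fin.isValue, _root_.Fin.zero_eta, _root_.Matrix.cons_mul, _root_.Nat.succ_eq_add_one, _root_.Nat.reduceAdd, _root_.Matrix.vecMul_cons, _root_.Matrix.head_cons, _root_.one_smul, _root_.Matrix.tail_cons, _root_.Matrix.smul_cons, _root_.smul_eq_mul, _root_.mul_one, _root_.Matrix.smul_empty, _root_.Matrix.empty_vecMul, _root_.add_zero, _root_.Matrix.add_cons, _root_.zero_add, _root_.Matrix.empty_add_empty, _root_.zero_smul, _root_.Matrix.empty_mul, _root_.Equiv.symm_apply_apply, _root_.Matrix.of_apply, _root_.Matrix.cons_val', _root_.Matrix.cons_val_fin_one, _root_.Matrix.cons_val_one, _root_.Matrix.cons_val_zero, _root_.MulZeroClass.mul_zero]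
      · simp only [Matrix.mul_apply, Fin.sum_univ_two, _root_.Fin.mk_one, _root_.Fin.isValue, _root_.Matrix.cons_mul, _root_.Nat.succ_eq_add_one, _root_.Nat.reduceAdd, _root_.Matrix.vecMul_cons, _root_.Matrix.head_cons, _root_.one_smul, _root_.Matrix.tail_cons, _root_.Matrix.smul_cons, _root_.smul_eq_mul, _root_.mul_one, _root_.Matrix.smul_empty, _root_.Matrix.empty_vecMul, _root_.add_zero, _root_.Matrix.add_cons, _root_.zero_add, _root_.Matrix.empty_add_empty, _root_.zero_smul, _root_.Matrix.empty_mul, _root_.Equiv.symm_apply_apply, _root_.Matrix.of_apply, _root_.Matrix.cons_val', _root_.Matrix.cons_val_fin_one, _root_.Matrix.cons_val_one, _root_.Matrix.cons_val_zero]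
        field_simp
        ring
    rw [this]
    exact H.mul_mem (H.mul_mem (hu _) (hl _)) (hu _)
  rw [eq_top_iff]
  intro s _
  by_cases hs : s.1 1 0 = 0
  · have hd : s.1 0 0 * s.1 1 1 = 1 := by
      have := s.2
      rw [Matrix.det_fin_two, hs, mul_zero, sub_zero] at this
      exact this
    have h1 : s * lo 1 ∈ H := by
      apply key
      have : (s * lo 1).1 1 0 = s.1 1 0 * 1 + s.1 1 1 * 1 := by
        show (s.1 * (!![1, 0; 1, 1] : Matrix (Fin 2) (Fin 2) E)) 1 0 = _
        simp [Matrix.mul_apply, Fin.sum_univ_two]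
      rw [this, hs, zero_mul, zero_add, mul_one]
      exact right_ne_zero_of_mul_eq_one hd
    have h2 := H.mul_mem h1 (H.inv_mem (hl 1))
    rwa [mul_inv_cancel_right] at h2
  · exact key s hs

end SL

variable {F V : Type*} [Field F] [AddCommGroup V] [Module F V] {Q : QuadraticForm F V}

/-- a four-dimensional quadratic space of minus type -/
structure Minus4 (Q : QuadraticForm F V) : Prop where
  nondeg : Nondeg Q
  dim : finrank F V = 4
  sing : ∃ x : V, x ≠ 0 ∧ Q x = 0
  plane : ∀ u w : V, Q u = 0 → Q w = 0 → polar Q u w = 0 → u ≠ 0 → ∃ a : F, w = a • u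

theorem Minus4.exists_hyp (h : Minus4 Q) : ∃ x y, Hyp Q x y := by
  obtain ⟨x, hx0, hx⟩ := h.sing
  obtain ⟨y, hy⟩ := Cfsg.Agent.LieClassical.OrthTrans.exists_hyp h.nondeg hx hx0
  exact ⟨x, y, hy⟩

theorem Minus4.fin (h : Minus4 Q) : FiniteDimensional F V :=
  FiniteDimensional.of_finrank_pos (by rw [h.dim]; norm_num)

/-- a basis of the orthogonal complement of a hyperbolic pair -/
theorem Minus4.exists_rs (h : Minus4 Q) {x y : V} (hxy : Hyp Q x y) : ∃ r s : V, polar Q x r = 0 ∧ polar Q y r = 0 ∧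
    polar Q x s = 0 ∧ polar Q y s = 0 ∧ ∀ a b : F, a • r + b • s = 0 → a = 0 ∧ b = 0 := by
  have hfin := h.fin
  have hyx : polar Q y x = 1 := hxy.pair'
  let π : V →ₗ[F] F × F := (polarBilin Q x).prod (polarBilin Q y)
  have hπ : ∀ v, π v = (polar Q x v, polar Q y v) := fun v => rfl
  have hsurj : LinearMap.range π = ⊤ := by
    rw [LinearMap.range_eq_top]
    rintro ⟨a, b⟩
    refine ⟨a • y + b • x, ?_⟩
    rw [hπ, polar_add_right, polar_add_right, polar_smul_right, polar_smul_right, polar_smul_right, polar_smul_right,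
      hxy.pair, hyx, hxy.polar_left, hxy.polar_right]
    simp
  have hker : finrank F (LinearMap.ker π) = 2 := by
    have h1 := LinearMap.finrank_range_add_finrank_ker π
    rw [hsurj, finrank_top, finrank_prod, finrank_self, h.dim] at h1
    omega
  let b := finBasisOfFinrankEq F (LinearMap.ker π) hker
  have hb : ∀ i, polar Q x (b i : V) = 0 ∧ polar Q y (b i : V) = 0 := by
    intro i
    have h1 := (b i).2
    rw [LinearMap.mem_ker, hπ] at h1
    exact Prod.mk.inj h1
  refine ⟨b 0, b 1, (hb 0).1, (hb 0).2, (hb 1).1, (hb 1).2, ?_⟩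
  intro a c hac
  have h1 : a • b 0 + c • b 1 = 0 := Subtype.ext hac
  have h2 := Fintype.linearIndependent_iff.1 b.linearIndependent ![a, c] (by
    rw [Fin.sum_univ_two]
    exact h1)
  exact ⟨h2 0, h2 1⟩

/-- a vector orthogonal to a hyperbolic pair is anisotropic -/
theorem Minus4.aniso (h : Minus4 Q) {x y z : V} (hxy : Hyp Q x y) (hx : polar Q x z = 0) (hy : polar Q y z = 0)
    (hz : Q z = 0) : z = 0 := by
  obtain ⟨a, ha⟩ := h.plane x z hxy.left hz hx hxy.left_ne
  have h1 : polar Q y z = a := by rw [ha, polar_smul_right, hxy.pair', smul_eq_mul, mul_one]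
  rw [hy] at h1
  rw [ha, ← h1, zero_smul]

open Cfsg.Agent.LieClassical in
/-- **The model.** -/
theorem Minus4.exists_model (h : Minus4 Q) : ∃ (c d k : F) (e : OrthFourMinus.V F c d ≃ₗ[F] V), k ≠ 0 ∧
    (∀ r : F, r ^ 2 ≠ c + d * r) ∧ ∀ v, Q (e v) = k * OrthFourMinus.Q c d v := by
  have hfin := h.fin
  obtain ⟨x, y, hxy⟩ := h.exists_hyp
  obtain ⟨r, s, hxr, hyr, hxs, hys, hrs⟩ := h.exists_rs hxy
  have hyx : polar Q y x = 1 := hxy.pair'
  obtain ⟨k, hk⟩ : ∃ k, k = Q r := ⟨_, rfl⟩
  have hr0 : r ≠ 0 := by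
    intro h0
    have := (hrs 1 0 (by rw [h0]; simp)).1
    exact one_ne_zero this
  have hk0 : k ≠ 0 := by
    intro h0
    exact hr0 (h.aniso hxy hxr hyr (by rw [← hk, h0]))
  obtain ⟨d, hd⟩ : ∃ d, polar Q r s = k * d := ⟨polar Q r s / k, by field_simp⟩
  obtain ⟨c, hc⟩ : ∃ c, Q s = - (k * c) := ⟨-Q s / k, by field_simp⟩
  let e : OrthFourMinus.V F c d →ₗ[F] V :=
    { toFun := fun v => v.1 • x + (k * v.2.1) • y + (v.2.2.re • r + v.2.2.im • s)
      map_add' := fun v w => by
        simp only [Prod.fst_add, Prod.snd_add, QuadraticAlgebra.re_add, QuadraticAlgebra.im_add]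
        module
      map_smul' := fun a v => by
        simp only [Prod.smul_fst, Prod.smul_snd, QuadraticAlgebra.re_smul, QuadraticAlgebra.im_smul, smul_eq_mul,
          RingHom.id_apply]
        module }
  have he : ∀ v, e v = v.1 • x + (k * v.2.1) • y + (v.2.2.re • r + v.2.2.im • s) := fun v => rfl
  have hinj : Function.Injective e := by
    rw [← LinearMap.ker_eq_bot, LinearMap.ker_eq_bot']
    intro v hv
    rw [he] at hv
    have h1 : v.1 = 0 := by
      have := congrArg (polar Q y) hv
      simp only [polar_add_right, polar_smul_right, hyx, hxy.polar_right, hyr, hys, smul_eq_mul, mul_one, mul_zero,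
        add_zero, polar_zero_right] at this
      exact this
    have h2 : v.2.1 = 0 := by
      have := congrArg (polar Q x) hv
      simp only [polar_add_right, polar_smul_right, hxy.pair, hxy.polar_left, hxr, hxs, smul_eq_mul, mul_one, mul_zero,
        add_zero, zero_add, polar_zero_right] at this
      exact (mul_eq_zero.1 this).resolve_left hk0
    rw [h1, h2, mul_zero, zero_smul, zero_smul, zero_add, zero_add] at hv
    obtain ⟨h3, h4⟩ := hrs _ _ hv
    refine Prod.ext h1 (Prod.ext h2 ?_)
    exact QuadraticAlgebra.ext h3 h4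
  have hfr : finrank F (OrthFourMinus.V F c d) = finrank F V := by
    rw [h.dim, finrank_prod, finrank_prod, finrank_self, QuadraticAlgebra.finrank_eq_two]
  have hfd : FiniteDimensional F (OrthFourMinus.V F c d) :=
    FiniteDimensional.of_finrank_pos (by rw [hfr, h.dim]; norm_num)
  have hQe : ∀ v, Q (e v) = k * OrthFourMinus.Q c d v := by
    intro v
    rw [he, Q_add, Q_add, Q_add]
    simp only [QuadraticMap.map_smul, polar_add_left, polar_add_right, polar_smul_left, polar_smul_right, hxy.left,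
      hxy.right, hxy.pair, hxr, hxs, hyr, hys, smul_eq_mul]
    rw [hd, hc, ← hk, OrthFourMinus.Q, QuadraticAlgebra.norm_def]
    ring
  refine ⟨c, d, k, LinearMap.linearEquivOfInjective e hinj hfr, hk0, ?_, hQe⟩
  intro t ht
  have h1 : Q (t • r + (-1 : F) • s) = 0 := by
    rw [Q_add, QuadraticMap.map_smul, QuadraticMap.map_smul, polar_smul_left, polar_smul_right, ← hk, hd, hc]
    simp only [smul_eq_mul]
    linear_combination k * ht
  have h2 := h.aniso hxy (z := t • r + (-1 : F) • s) (by
    rw [polar_add_right, polar_smul_right, polar_smul_right, hxr, hxs]; simp) (by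
    rw [polar_add_right, polar_smul_right, polar_smul_right, hyr, hys]; simp) h1
  have h3 := (hrs _ _ h2).2
  exact one_ne_zero (neg_eq_zero.1 h3)

/-! ### Transport -/

section transport

variable {W : Type*} [AddCommGroup W] [Module F W]

/-- transport of linear automorphisms -/
def th (e : W ≃ₗ[F] V) : (W ≃ₗ[F] W) ≃* (V ≃ₗ[F] V) where
  toFun g := (e.symm.trans g).trans e
  invFun g := (e.trans g).trans e.symm
  left_inv g := by ext v; simp
  right_inv g := by ext v; simp
  map_mul' g g' := by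
    ext v
    show e (g (g' (e.symm v))) = e (g (e.symm (e (g' (e.symm v)))))
    rw [LinearEquiv.symm_apply_apply]

end transport

/-- isometries are transitive on singular vectors -/
theorem Minus4.exists_O (h : Minus4 Q) {u u' : V} (hu : Q u = 0) (hu' : Q u' = 0) (hu0 : u ≠ 0) (hu0' : u' ≠ 0) :
    ∃ g ∈ O Q, g u = u' := by
  have key : ∀ {u u' : V}, Q u = 0 → Q u' = 0 → polar Q u u' ≠ 0 → ∃ g ∈ O Q, g u = u' := by
    intro u u' hu hu' hne
    have h1 : Q (u - u') ≠ 0 := by
      rw [sub_eq_add_neg, Q_add, QuadraticMap.map_neg, hu, hu', polar_neg_right]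
      simpa using hne
    exact ⟨refl Q (u - u') h1, refl_mem_O h1, refl_sub_apply (by rw [hu, hu']) h1⟩
  by_cases hne : polar Q u u' = 0
  · obtain ⟨a, ha⟩ := h.plane u u' hu hu' hne hu0
    obtain ⟨v, hv⟩ := Cfsg.Agent.LieClassical.OrthTrans.exists_hyp h.nondeg hu hu0
    have ha0 : a ≠ 0 := by
      rintro rfl
      exact hu0' (by rw [ha, zero_smul])
    obtain ⟨g, hg, hgu⟩ := key hu hv.right (by rw [hv.pair]; exact one_ne_zero)
    obtain ⟨g', hg', hgu'⟩ := key hv.right hu' (by
      rw [ha, polar_smul_right, hv.pair', smul_eq_mul, mul_one]; exact ha0)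
    exact ⟨g' * g, (O Q).mul_mem hg' hg, by rw [LinearEquiv.mul_apply, hgu, hgu']⟩
  · exact key hu hu' hne

open Cfsg.Agent.LieClassical in
/-- the homomorphism `SL(2, E) → GL(V)` -/
noncomputable def Ph {c d : F} (e : OrthFourMinus.V F c d ≃ₗ[F] V) :
    SL(2, OrthFourMinus.E F c d) →* (V ≃ₗ[F] V) :=
  (th e).toMonoidHom.comp ((OrthFourCommon.isom (OrthFourMinus.Q c d)).subtype.comp OrthFourMinus.phi)

section main

open Cfsg.Agent.LieClassical

variable {c d k : F} {e : OrthFourMinus.V F c d ≃ₗ[F] V}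

theorem Ph_apply (s : SL(2, OrthFourMinus.E F c d)) (v : OrthFourMinus.V F c d) :
    Ph e s (e v) = e (OrthFourMinus.actFun s.1 v) := by
  show e ((OrthFourMinus.phi s).1 (e.symm (e v))) = _
  rw [LinearEquiv.symm_apply_apply, OrthFourMinus.phi_apply]

variable (hk : k ≠ 0) (he : ∀ v, Q (e v) = k * OrthFourMinus.Q c d v)

include he in
theorem map_isom (hk : k ≠ 0) : (OrthFourCommon.isom (OrthFourMinus.Q c d)).map (th e).toMonoidHom = O Q := by
  ext g
  constructor
  · rintro ⟨g, hg, rfl⟩ v
    obtain ⟨v, rfl⟩ := e.surjective v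
    show Q (e (g (e.symm (e v)))) = _
    rw [LinearEquiv.symm_apply_apply, he, he, OrthFourCommon.mem_isom.1 hg]
  · intro hg
    refine ⟨(th e).symm g, ?_, (th e).apply_symm_apply g⟩
    intro v
    have h1 : e ((th e).symm g v) = g (e v) := by
      show e (e.symm (g (e v))) = _
      rw [LinearEquiv.apply_symm_apply]
    apply mul_left_cancel₀ hk
    rw [← he, ← he, h1, mem_O.1 hg]

include he in
/-- `Φ(SL₂(E)) = ⁅O Q, O Q⁆` -/
theorem range_Ph_eq [Finite F] (hk : k ≠ 0) (hab : ∀ r : F, r ^ 2 ≠ c + d * r) : (Ph e).range = ⁅O Q, O Q⁆ := by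
  have : Fact (∀ r : F, r ^ 2 ≠ c + d * r) := ⟨hab⟩
  have h1 : (OrthFourMinus.phi (F := F) (c := c) (d := d)).range = commutator (OrthFourCommon.isom (OrthFourMinus.Q c d)) :=
    le_antisymm OrthFourMinus.le_commutator
      (OrthFourMinus.commutator_le' (OrthFourMinus.exists_eq OrthFourMinus.norm_surjective))
  rw [Ph, MonoidHom.range_comp, MonoidHom.range_comp, h1, commutator_def, Subgroup.map_commutator,
    ← MonoidHom.range_eq_map, Subgroup.range_subtype, Subgroup.map_commutator, map_isom he hk]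

include he in
theorem polar_e (v w : OrthFourMinus.V F c d) : polar Q (e v) (e w) =
    k * (OrthFourMinus.Q c d (v + w) - OrthFourMinus.Q c d v - OrthFourMinus.Q c d w) := by
  rw [polar, ← map_add, he, he, he]
  ring

theorem norm_add' (z w : OrthFourMinus.E F c d) : QuadraticAlgebra.norm (z + w) =
    QuadraticAlgebra.norm z + QuadraticAlgebra.norm w + QuadraticAlgebra.trace (star w * z) := by
  rw [QuadraticAlgebra.norm_def, QuadraticAlgebra.norm_def, QuadraticAlgebra.norm_def]
  simp only [QuadraticAlgebra.trace, _root_.QuadraticAlgebra.re_add, _root_.QuadraticAlgebra.im_add, _root_.LinearMap.coe_mk, _root_.AddHom.coe_mk, _root_.QuadraticAlgebra.re_mul, _root_.QuadraticAlgebra.re_star, _root_.QuadraticAlgebra.im_star, _root_.mul_neg, _root_.neg_mul, _root_.QuadraticAlgebra.im_mul]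
  ring

include he in
theorem polar_e10 (v : OrthFourMinus.V F c d) : polar Q (e (1, 0, 0)) (e v) = k * v.2.1 := by
  rw [polar_e he, OrthFourMinus.Q, OrthFourMinus.Q, OrthFourMinus.Q]
  simp only [_root_.Prod.fst_add, _root_.Prod.snd_add, _root_.zero_add, _root_.MulZeroClass.mul_zero, _root_.QuadraticAlgebra.norm_zero, _root_.add_zero, _root_.sub_zero, _root_.add_sub_add_right_eq_sub, _root_.mul_eq_mul_left_iff]
  left
  ring

include he in
theorem polar_e01 (v : OrthFourMinus.V F c d) : polar Q (e (0, 1, 0)) (e v) = k * v.1 := by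
  rw [polar_e he, OrthFourMinus.Q, OrthFourMinus.Q, OrthFourMinus.Q]
  simp only [_root_.Prod.fst_add, _root_.zero_add, _root_.Prod.snd_add, _root_.mul_one, _root_.QuadraticAlgebra.norm_zero, _root_.add_zero, _root_.sub_zero, _root_.add_sub_add_right_eq_sub, _root_.mul_eq_mul_left_iff]
  left
  ring

include he in
theorem polar_ez (z : OrthFourMinus.E F c d) (v : OrthFourMinus.V F c d) : polar Q (e (0, 0, z)) (e v) =
    k * QuadraticAlgebra.trace (star z * v.2.2) := by
  rw [polar_e he, OrthFourMinus.Q, OrthFourMinus.Q, OrthFourMinus.Q]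
  simp only [Prod.fst_add, Prod.snd_add, zero_add, zero_mul]
  rw [add_comm z, norm_add']
  ring

include he in
theorem Q_e10 : Q (e (1, 0, 0)) = 0 := by
  rw [he, OrthFourMinus.Q]
  simp

include he in
theorem Q_e01 : Q (e (0, 1, 0)) = 0 := by
  rw [he, OrthFourMinus.Q]
  simp

include he in
theorem Q_ez (z : OrthFourMinus.E F c d) : Q (e (0, 0, z)) = k * QuadraticAlgebra.norm z := by
  rw [he, OrthFourMinus.Q]
  simp

theorem act_up (t : OrthFourMinus.E F c d) (v : OrthFourMinus.V F c d) : OrthFourMinus.actFun (up t).1 v =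
    (v.1 - QuadraticAlgebra.norm t * v.2.1 + QuadraticAlgebra.trace (star t * v.2.2), v.2.1,
      v.2.2 - t * algebraMap F _ v.2.1) := by
  have h00 : (up t).1 0 0 = 1 := rfl
  have h01 : (up t).1 0 1 = t := rfl
  have h10 : (up t).1 1 0 = 0 := rfl
  have h11 : (up t).1 1 1 = 1 := rfl
  unfold OrthFourMinus.actFun
  rw [h00, h01, h10, h11]
  simp only [star_one, star_zero, mul_zero, zero_mul, one_mul, mul_one, add_zero, sub_zero, map_one, map_zero,
    QuadraticAlgebra.norm_zero]
  refine Prod.ext rfl (Prod.ext rfl ?_)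
  show 0 - t * algebraMap F _ v.2.1 + v.2.2 = v.2.2 - t * algebraMap F _ v.2.1
  ring

theorem act_lo (t : OrthFourMinus.E F c d) (v : OrthFourMinus.V F c d) : OrthFourMinus.actFun (lo t).1 v =
    (v.1, v.2.1 - QuadraticAlgebra.norm t * v.1 - QuadraticAlgebra.trace (t * v.2.2),
      v.2.2 + star t * algebraMap F _ v.1) := by
  have h00 : (lo t).1 0 0 = 1 := rfl
  have h01 : (lo t).1 0 1 = 0 := rfl
  have h10 : (lo t).1 1 0 = t := rfl
  have h11 : (lo t).1 1 1 = 1 := rfl
  unfold OrthFourMinus.actFun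
  rw [h00, h01, h10, h11]
  simp only [star_one, star_zero, mul_zero, zero_mul, one_mul, mul_one, add_zero, sub_zero, map_one, map_zero,
    QuadraticAlgebra.norm_zero]
  refine Prod.ext rfl (Prod.ext rfl ?_)
  show star t * algebraMap F _ v.1 + v.2.2 = v.2.2 + star t * algebraMap F _ v.1
  ring

include he in
theorem Ph_up (hk : k ≠ 0) (t : OrthFourMinus.E F c d) (hu : Q (e (1, 0, 0)) = 0)
    (hw : polar Q (e (1, 0, 0)) (k⁻¹ • e (0, 0, -t)) = 0) :
    Ph e (up t) = siegel Q (e (1, 0, 0)) (k⁻¹ • e (0, 0, -t)) hu hw := by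
  ext v
  obtain ⟨v, rfl⟩ := e.surjective v
  have h1 : OrthFourMinus.actFun (up t).1 v = v + v.2.1 • ((0, 0, -t) : OrthFourMinus.V F c d) -
      (QuadraticAlgebra.trace (star (-t) * v.2.2)) • ((1, 0, 0) : OrthFourMinus.V F c d) -
      (QuadraticAlgebra.norm (-t) * v.2.1) • ((1, 0, 0) : OrthFourMinus.V F c d) := by
    rw [act_up]
    refine Prod.ext ?_ (Prod.ext ?_ ?_)
    · simp only [_root_.Prod.smul_mk, _root_.smul_eq_mul, _root_.MulZeroClass.mul_zero, _root_.smul_neg, _root_.star_neg, _root_.neg_mul, _root_.map_neg, _root_.neg_smul, _root_.mul_one, _root_.smul_zero, _root_.Prod.neg_mk, _root_.neg_zero, _root_.QuadraticAlgebra.norm_neg, _root_.Prod.fst_sub, _root_.Prod.fst_add, _root_.add_zero, _root_.sub_neg_eq_add]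
      ring
    · simp only [_root_.Prod.smul_mk, _root_.smul_eq_mul, _root_.MulZeroClass.mul_zero, _root_.smul_neg, _root_.star_neg, _root_.neg_mul, _root_.map_neg, _root_.neg_smul, _root_.mul_one, _root_.smul_zero, _root_.Prod.neg_mk, _root_.neg_zero, _root_.QuadraticAlgebra.norm_neg, _root_.Prod.snd_sub, _root_.Prod.snd_add, _root_.Prod.fst_sub, _root_.Prod.fst_add, _root_.add_zero, _root_.sub_zero]
    · simp [Algebra.smul_def]
      ring
  rw [Ph_apply, h1, siegel_apply, polar_e10 he, polar_smul_left, polar_ez he, QuadraticMap.map_smul, Q_ez he]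
  simp only [map_sub, map_add, map_smul, smul_smul, smul_eq_mul]
  have e1 : k * v.2.1 * k⁻¹ = v.2.1 := by field_simp
  have e2 : k⁻¹ * (k * QuadraticAlgebra.trace (star (-t) * v.2.2)) = QuadraticAlgebra.trace (star (-t) * v.2.2) := by
    field_simp
  have e3 : k⁻¹ * k⁻¹ * (k * QuadraticAlgebra.norm (-t)) * (k * v.2.1) = QuadraticAlgebra.norm (-t) * v.2.1 := by
    field_simp
  rw [e1, e2, e3]

include he in
theorem Ph_lo (hk : k ≠ 0) (t : OrthFourMinus.E F c d) (hu : Q (e (0, 1, 0)) = 0)
    (hw : polar Q (e (0, 1, 0)) (k⁻¹ • e (0, 0, star t)) = 0) :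
    Ph e (lo t) = siegel Q (e (0, 1, 0)) (k⁻¹ • e (0, 0, star t)) hu hw := by
  ext v
  obtain ⟨v, rfl⟩ := e.surjective v
  have h1 : OrthFourMinus.actFun (lo t).1 v = v + v.1 • ((0, 0, star t) : OrthFourMinus.V F c d) -
      (QuadraticAlgebra.trace (star (star t) * v.2.2)) • ((0, 1, 0) : OrthFourMinus.V F c d) -
      (QuadraticAlgebra.norm (star t) * v.1) • ((0, 1, 0) : OrthFourMinus.V F c d) := by
    rw [act_lo]
    refine Prod.ext ?_ (Prod.ext ?_ ?_)
    · simp only [_root_.Prod.smul_mk, _root_.smul_eq_mul, _root_.MulZeroClass.mul_zero, _root_.star_star, _root_.mul_one, _root_.smul_zero, _root_.QuadraticAlgebra.norm_star, _root_.Prod.fst_sub, _root_.Prod.fst_add, _root_.add_zero, _root_.sub_zero]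
    · simp only [_root_.Prod.smul_mk, _root_.smul_eq_mul, _root_.MulZeroClass.mul_zero, _root_.star_star, _root_.mul_one, _root_.smul_zero, _root_.QuadraticAlgebra.norm_star, _root_.Prod.snd_sub, _root_.Prod.snd_add, _root_.Prod.fst_sub, _root_.Prod.fst_add, _root_.add_zero]
      ring
    · simp only [Algebra.smul_def, _root_.Prod.algebraMap_apply, _root_.Algebra.algebraMap_self, _root_.RingHom.id_apply, _root_.Prod.mk_mul_mk, _root_.MulZeroClass.mul_zero, _root_.star_star, _root_.mul_one, _root_.QuadraticAlgebra.norm_star, _root_.map_mul, _root_.Prod.snd_sub, _root_.Prod.snd_add, _root_.sub_zero, _root_.add_right_inj]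
      ring
  rw [Ph_apply, h1, siegel_apply, polar_e01 he, polar_smul_left, polar_ez he, QuadraticMap.map_smul, Q_ez he]
  simp only [map_sub, map_add, map_smul, smul_smul, smul_eq_mul]
  have e1 : k * v.1 * k⁻¹ = v.1 := by field_simp
  have e2 : k⁻¹ * (k * QuadraticAlgebra.trace (star (star t) * v.2.2)) =
      QuadraticAlgebra.trace (star (star t) * v.2.2) := by
    field_simp
  have e3 : k⁻¹ * k⁻¹ * (k * QuadraticAlgebra.norm (star t)) * (k * v.1) = QuadraticAlgebra.norm (star t) * v.1 := by
    field_simp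
  rw [e1, e2, e3]

include he in
theorem range_le (hk : k ≠ 0) (hab : ∀ r : F, r ^ 2 ≠ c + d * r) : (Ph e).range ≤ E Q := by
  have : Fact (∀ r : F, r ^ 2 ≠ c + d * r) := ⟨hab⟩
  have h1 : (E Q).comap (Ph e) = ⊤ := by
    apply sl_gen
    · intro t
      rw [Subgroup.mem_comap, Ph_up he hk t (Q_e10 he) (by
        rw [polar_smul_right, polar_e10 he]; simp)]
      exact siegel_mem_E _ _
    · intro t
      rw [Subgroup.mem_comap, Ph_lo he hk t (Q_e01 he) (by
        rw [polar_smul_right, polar_e01 he]; simp)]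
      exact siegel_mem_E _ _
  rintro _ ⟨s, rfl⟩
  have h2 : s ∈ (E Q).comap (Ph e) := by rw [h1]; trivial
  exact h2

theorem siegel_smul_add {u w : V} {a : F} (hu : Q u = 0) (hw : polar Q u w = 0) (hw' : polar Q u (a • u + w) = 0) :
    siegel Q u (a • u + w) hu hw' = siegel Q u w hu hw := by
  ext v
  have h1 : Q (a • u + w) = Q w := by
    rw [Q_add, QuadraticMap.map_smul, hu, polar_smul_left, hw]
    simp
  rw [siegel_apply, siegel_apply, h1, polar_add_left, polar_smul_left, smul_eq_mul]
  module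

theorem siegel_cg {u u' w w' : V} (hu : Q u = 0) (hw : polar Q u w = 0) (hu' : Q u' = 0) (hw' : polar Q u' w' = 0)
    (e1 : u = u') (e2 : w = w') : siegel Q u w hu hw = siegel Q u' w' hu' hw' := by
  subst e1 e2; rfl

include he in
theorem siegel_mem_range (hk : k ≠ 0) {w : V} (hw : polar Q (e (1, 0, 0)) w = 0) :
    siegel Q (e (1, 0, 0)) w (Q_e10 he) hw ∈ (Ph e).range := by
  obtain ⟨⟨a, b, z⟩, rfl⟩ := e.surjective w
  have hb : b = 0 := by
    have h1 := hw
    rw [polar_e10 he] at h1
    exact (mul_eq_zero.1 h1).resolve_left hk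
  have h6 : polar Q (e (1, 0, 0)) (k⁻¹ • e (0, 0, -(-(k • z)))) = 0 := by
    rw [polar_smul_right, polar_e10 he]; simp
  have h2 : e (a, b, z) = a • e (1, 0, 0) + k⁻¹ • e (0, 0, -(-(k • z))) := by
    rw [← LinearEquiv.map_smul, ← LinearEquiv.map_smul, ← LinearEquiv.map_add]
    congr 1
    refine Prod.ext ?_ (Prod.ext ?_ ?_)
    · simp
    · simp only [hb, _root_.Prod.smul_mk, _root_.smul_eq_mul, _root_.mul_one, _root_.MulZeroClass.mul_zero, _root_.smul_zero, _root_.neg_neg, _root_.Prod.mk_add_mk, _root_.add_zero, _root_.zero_add]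
    · simp [smul_smul, inv_mul_cancel₀ hk]
  have h5 : polar Q (e (1, 0, 0)) (a • e (1, 0, 0) + k⁻¹ • e (0, 0, -(-(k • z)))) = 0 := by
    rw [← h2]; exact hw
  refine ⟨up (-(k • z)), ?_⟩
  rw [Ph_up he hk _ (Q_e10 he) h6, ← siegel_smul_add (a := a) (Q_e10 he) h6 h5]
  exact siegel_cg _ _ _ _ rfl h2.symm

open scoped commutatorElement in
theorem conj_mem_commutator {G : Type*} [Group G] {H : Subgroup G} {g s : G} (hg : g ∈ H) (hs : s ∈ ⁅H, H⁆) :
    g⁻¹ * s * g ∈ ⁅H, H⁆ := by
  have h1 : (⁅H, H⁆ : Subgroup G) ≤ H := by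
    rw [Subgroup.commutator_le]
    intro a ha b hb
    exact H.mul_mem (H.mul_mem (H.mul_mem ha hb) (H.inv_mem ha)) (H.inv_mem hb)
  have h2 : ⁅g⁻¹, s⁆ ∈ ⁅H, H⁆ := Subgroup.commutator_mem_commutator (H.inv_mem hg) (h1 hs)
  have h3 := (⁅H, H⁆ : Subgroup G).mul_mem h2 hs
  have h4 : ⁅g⁻¹, s⁆ * s = g⁻¹ * s * g := by rw [commutatorElement_def]; group
  rwa [h4] at h3

include he in
theorem E_le_range [Finite F] (h : Minus4 Q) (hk : k ≠ 0) (hab : ∀ r : F, r ^ 2 ≠ c + d * r) :
    E Q ≤ (Ph e).range := by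
  have hr := range_Ph_eq he hk hab
  have h0 : e (1, 0, 0) ≠ 0 := by
    intro h0
    have h1 := e.map_eq_zero_iff.1 h0
    exact one_ne_zero (congrArg Prod.fst h1)
  rw [E, Subgroup.closure_le]
  rintro _ ⟨u, w, hu, hw, rfl⟩
  by_cases hu0 : u = 0
  · have : siegel Q u w hu hw = 1 := by
      ext v
      rw [siegel_apply, hu0, polar_zero_left]
      simp
    rw [this]
    exact Subgroup.one_mem _
  obtain ⟨g, hg, hgu⟩ := h.exists_O hu (Q_e10 he) hu0 h0
  have hw' : polar Q (e (1, 0, 0)) (g w) = 0 := by rw [← hgu, polar_map hg, hw]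
  have h3 := siegel_mem_range he hk hw'
  have hgu0 : Q (g u) = 0 := by rw [hgu]; exact Q_e10 he
  have hgw0 : polar Q (g u) (g w) = 0 := by rw [hgu]; exact hw'
  have h9 := siegel_conj hg hu hw hgu0 hgw0
  rw [siegel_cg hgu0 hgw0 (Q_e10 he) hw' hgu rfl] at h9
  rw [hr, ← h9] at h3
  show siegel Q u w hu hw ∈ (Ph e).range
  rw [hr]
  have h4 := conj_mem_commutator hg h3
  have h5 : g⁻¹ * (g * siegel Q u w hu hw * g⁻¹) * g = siegel Q u w hu hw := by group
  rwa [h5] at h4

end main

/-! ### Results -/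

variable [Finite F]

/-- `E Q` is the image of `SL₂` -/
theorem Minus4.commutator_eq_E (h : Minus4 Q) : ⁅O Q, O Q⁆ = E Q := by
  obtain ⟨c, d, k, e, hk, hab, he⟩ := h.exists_model
  have h1 := range_Ph_eq he hk hab
  exact h1 ▸ le_antisymm (range_le he hk hab) (E_le_range he h hk hab)

/-- `E Q` is perfect -/
theorem Minus4.E_perfect (h : Minus4 Q) : ⁅E Q, E Q⁆ = E Q := by
  obtain ⟨c, d, k, e, hk, hab, he⟩ := h.exists_model
  have : Fact (∀ r : F, r ^ 2 ≠ c + d * r) := ⟨hab⟩
  have h1 : (Ph e).range = E Q := le_antisymm (range_le he hk hab) (E_le_range he h hk hab)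
  rw [← h1, MonoidHom.range_eq_map, ← Subgroup.map_commutator, ← commutator_def,
    Cfsg.Agent.LieClassical.OrthFourMinus.commutator_SL]

theorem Minus4.commutator_E (h : Minus4 Q) : commutator ↥(E Q) = ⊤ := by
  apply Subgroup.map_injective (E Q).subtype_injective
  rw [Subgroup.map_subtype_commutator, h.E_perfect, ← MonoidHom.range_eq_map, Subgroup.range_subtype]

open Cfsg.Agent.LieClassical in
/-- `E Q / Z(E Q) ≃* PSL(2, K)`, `|K| = |F| ^ 2` -/
theorem Minus4.equiv_psl (h : Minus4 Q) (K : Type*) [Field K] [Finite K] (hK : Nat.card K = Nat.card F ^ 2) :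
    Nonempty ((↥(E Q) ⧸ Subgroup.center ↥(E Q)) ≃* PSL(2, K)) := by
  obtain ⟨c, d, k, e, hk, hab, he⟩ := h.exists_model
  have : Fact (∀ r : F, r ^ 2 ≠ c + d * r) := ⟨hab⟩
  have := Fintype.ofFinite F
  have := Fintype.ofFinite K
  have h1 : (Ph e).range = E Q := le_antisymm (range_le he hk hab) (E_le_range he h hk hab)
  let _ : Fintype (OrthFourMinus.E F c d) := Fintype.ofEquiv _ (QuadraticAlgebra.equivProd c d).symm
  have hcard : Fintype.card (OrthFourMinus.E F c d) = Fintype.card K := by
    rw [← Nat.card_eq_fintype_card (α := K), hK, Fintype.card_congr (QuadraticAlgebra.equivProd c d),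
      Fintype.card_prod, Nat.card_eq_fintype_card, pow_two]
  let f : OrthFourMinus.E F c d ≃+* K := FiniteField.ringEquivOfCardEq hcard
  let φ : SL(2, OrthFourMinus.E F c d) →* ↥(E Q) := (Ph e).codRestrict (E Q) (fun s => by rw [← h1]; exact ⟨s, rfl⟩)
  have hφ : Function.Surjective φ := by
    rintro ⟨x, hx⟩
    have hx' := hx
    rw [← h1] at hx'
    obtain ⟨s, rfl⟩ := hx'
    exact ⟨s, rfl⟩
  have hφ1 : ∀ s, φ s = 1 ↔ OrthFourMinus.phi s = 1 := by
    intro s
    rw [← Subtype.coe_inj]
    show Ph e s = 1 ↔ _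
    show th e (OrthFourMinus.phi s).1 = 1 ↔ _
    rw [map_eq_one_iff _ (th e).injective]
    exact ⟨fun h => Subtype.ext h, fun h => congrArg Subtype.val h⟩
  let ψ : SL(2, OrthFourMinus.E F c d) →* (↥(E Q) ⧸ Subgroup.center ↥(E Q)) := (QuotientGroup.mk' _).comp φ
  let π : SL(2, OrthFourMinus.E F c d) →* PSL(2, K) :=
    (QuotientGroup.mk' (Subgroup.center SL(2, K))).comp (OrthFourMinus.slEquiv f).toMonoidHom
  have hψ : Function.Surjective ψ := (QuotientGroup.mk'_surjective _).comp hφ
  have hπ : Function.Surjective π := (QuotientGroup.mk'_surjective _).comp (OrthFourMinus.slEquiv f).surjective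
  have hker : ψ.ker = π.ker := by
    ext s
    have h2 : s ∈ π.ker ↔ s ∈ Subgroup.center SL(2, OrthFourMinus.E F c d) := by
      rw [MonoidHom.mem_ker, ← OrthFourMinus.mem_center_slEquiv f]
      exact QuotientGroup.eq_one_iff _
    rw [h2, OrthFourMinus.mem_center_iff', MonoidHom.mem_ker]
    show QuotientGroup.mk' _ (φ s) = 1 ↔ _
    rw [QuotientGroup.mk'_apply, QuotientGroup.eq_one_iff, Subgroup.mem_center_iff]
    constructor
    · intro h3 t
      rw [← hφ1, map_commutatorElement, commutatorElement_eq_one_iff_mul_comm]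
      exact (h3 (φ t)).symm
    · intro h3 x
      obtain ⟨t, rfl⟩ := hφ x
      have h4 := h3 t
      rw [← hφ1, map_commutatorElement, commutatorElement_eq_one_iff_mul_comm] at h4
      exact h4.symm
  exact ⟨(QuotientGroup.quotientKerEquivOfSurjective ψ hψ).symm.trans
    ((QuotientGroup.quotientMulEquivOfEq hker).trans (QuotientGroup.quotientKerEquivOfSurjective π hπ))⟩

/-! ### The centraliser -/

section cent

open Cfsg.Agent.ClassicalGeometry.OrthSemi Cfsg.Agent.ClassicalGeometry.OrthAut1 Cfsg.Agent.H93.RC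
  Cfsg.Agent.H106.RC

omit [Finite F]

/-- a vector fixed by the Siegel elements of `u` is a multiple of `u` -/
theorem eq_smul_of_fix {u y v r : V} (h : Nondeg Q) (hxy : Hyp Q u y) (hur : polar Q u r = 0) (hyr : polar Q y r = 0)
    (hr0 : r ≠ 0) (hv : ∀ w (hw : polar Q u w = 0), siegel Q u w hxy.left hw v = v) : v = polar Q y v • u := by
  have h1 : polar Q u v = 0 := by
    have h2 := hv r hur
    rw [siegel_apply] at h2
    have h3 : polar Q u v • r - (polar Q r v + Q r * polar Q u v) • u = 0 := by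
      rw [← sub_eq_zero] at h2
      rw [← h2]
      module
    by_contra hne
    have h4 : r = ((polar Q u v)⁻¹ * (polar Q r v + Q r * polar Q u v)) • u := by
      rw [mul_smul, ← sub_eq_zero.1 h3, smul_smul, inv_mul_cancel₀ hne, one_smul]
    have h5 : polar Q y r = (polar Q u v)⁻¹ * (polar Q r v + Q r * polar Q u v) := by
      nth_rw 1 [h4]
      rw [polar_smul_right, hxy.pair', smul_eq_mul, mul_one]
    rw [hyr] at h5
    exact hr0 (by rw [h4, ← h5, zero_smul])
  have h6 : ∀ w, polar Q u w = 0 → polar Q w v = 0 := by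
    intro w hw
    have h2 := hv w hw
    rw [siegel_apply, h1, mul_zero, zero_smul, zero_smul, sub_zero, add_zero] at h2
    have h3 : polar Q w v • u = 0 := by
      rw [← sub_eq_zero] at h2
      have : polar Q w v • u = -(v - polar Q w v • u - v) := by abel
      rw [this, h2, neg_zero]
    exact (smul_eq_zero.1 h3).resolve_right hxy.left_ne
  rw [← sub_eq_zero]
  apply h
  intro z
  have h7 : polar Q u (z - polar Q u z • y) = 0 := by
    rw [polar_sub_right, polar_smul_right, hxy.pair, smul_eq_mul, mul_one, sub_self]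
  have h8 := h6 _ h7
  rw [polar_comm, polar_sub_right, polar_smul_right, smul_eq_mul] at h8
  rw [polar_sub_left, polar_smul_left, smul_eq_mul, polar_comm _ y v]
  linear_combination h8

theorem Minus4.scal (h : Minus4 Q) (M : Gam Q) (hM : conjE Q M = 1) : IsScal M := by
  obtain ⟨x, y, hxy⟩ := h.exists_hyp
  obtain ⟨r, s, hxr, hyr, hxs, hys, hrs⟩ := h.exists_rs hxy
  have hr0 : r ≠ 0 := by
    intro h0
    have := (hrs 1 0 (by rw [h0]; simp)).1
    exact one_ne_zero this
  have hcomm : ∀ t ∈ E Q, ∀ v, M.1 (t v) = t (M.1 v) := by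
    intro t ht v
    have h1 : conjE Q M ⟨t, ht⟩ = ⟨t, ht⟩ := by rw [hM]; rfl
    have h2 : conjLin M t = t := congrArg Subtype.val h1
    rw [← conjLin_apply' M t v, h2]
  obtain ⟨σ, c, hσ⟩ := M.2
  have hadd := hσ.add
  have hsmul := hσ.smul
  have hfixx : ∀ w (hw : polar Q x w = 0), siegel Q x w hxy.left hw (M.1 x) = M.1 x := by
    intro w hw
    rw [← hcomm _ (siegel_mem_E _ _), siegel_apply, hxy.polar_left, polar_comm _ w x, hw]
    simp
  have hfixy : ∀ w (hw : polar Q y w = 0), siegel Q y w hxy.right hw (M.1 y) = M.1 y := by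
    intro w hw
    rw [← hcomm _ (siegel_mem_E _ _), siegel_apply, hxy.polar_right, polar_comm _ w y, hw]
    simp
  obtain ⟨a, ha⟩ : ∃ a, M.1 x = a • x := ⟨_, eq_smul_of_fix h.nondeg hxy hxr hyr hr0 hfixx⟩
  obtain ⟨b, hb⟩ : ∃ b, M.1 y = b • y := ⟨_, eq_smul_of_fix h.nondeg hxy.symm hyr hxr hr0 hfixy⟩
  have hM0 : M.1 0 = 0 := by
    have := hadd 0 0
    rw [add_zero] at this
    simpa only [_root_.add_eq_left] using this.symm
  have hneg : ∀ v, M.1 (-v) = -M.1 v := by
    intro v
    rw [eq_neg_iff_add_eq_zero, ← hadd, neg_add_cancel, hM0]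
  have ha0 : a ≠ 0 := by
    rintro rfl
    rw [zero_smul, ← hM0] at ha
    exact hxy.left_ne (M.1.injective ha)
  have hw1 : ∀ w, polar Q x w = 0 → polar Q y w = 0 → M.1 w = b • w + (σ (Q w) * a - b * Q w) • x := by
    intro w hx hy
    have h1 := hcomm _ (siegel_mem_E hxy.left hx) y
    rw [siegel_apply, hb, map_smul, siegel_apply, hxy.pair, polar_comm _ w y, hy, one_smul, zero_smul, sub_zero,
      mul_one, sub_eq_add_neg, hadd, hadd, hneg, hsmul, hb, ha] at h1
    have h2 : M.1 w = b • (y + w + -(Q w • x)) - b • y + σ (Q w) • a • x := by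
      rw [← h1]; abel
    rw [h2]
    module
  have hw2 : ∀ w, polar Q x w = 0 → polar Q y w = 0 → M.1 w = a • w + (σ (Q w) * b - a * Q w) • y := by
    intro w hx hy
    have h1 := hcomm _ (siegel_mem_E hxy.right hy) x
    rw [siegel_apply, ha, map_smul, siegel_apply, hxy.pair', polar_comm _ w x, hx, one_smul, zero_smul, sub_zero,
      mul_one, sub_eq_add_neg, hadd, hadd, hneg, hsmul, hb, ha] at h1
    have h2 : M.1 w = a • (x + w + -(Q w • y)) - a • x + σ (Q w) • b • y := by
      rw [← h1]; abel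
    rw [h2]
    module
  have hw3 : ∀ w, polar Q x w = 0 → polar Q y w = 0 → M.1 w = b • w := by
    intro w hx hy
    have h1 := hw1 w hx hy
    have h2 := hw2 w hx hy
    have h3 : polar Q y (M.1 w) = σ (Q w) * a - b * Q w := by
      rw [h1, polar_add_right, polar_smul_right, polar_smul_right, hy, hxy.pair']
      simp
    have h4 : polar Q y (M.1 w) = 0 := by
      rw [h2, polar_add_right, polar_smul_right, polar_smul_right, hy, hxy.polar_right]
      simp
    rw [h1, ← h3, h4, zero_smul, add_zero]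
  have hab : a = b := by
    have h1 := hw3 r hxr hyr
    have h2 := hw2 r hxr hyr
    have h3 : polar Q x (M.1 r) = 0 := by
      rw [h1, polar_smul_right, hxr, smul_zero]
    have h4 : polar Q x (M.1 r) = σ (Q r) * b - a * Q r := by
      rw [h2, polar_add_right, polar_smul_right, polar_smul_right, hxr, hxy.pair]
      simp
    rw [← h4, h3, zero_smul, add_zero, h1] at h2
    have h5 : (b - a) • r = 0 := by rw [sub_smul, h2, sub_self]
    exact (sub_eq_zero.1 ((smul_eq_zero.1 h5).resolve_right hr0)).symm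
  have hσ1 : ∀ l : F, σ l = l := by
    intro l
    have h1 := hw3 (l • r) (by rw [polar_smul_right, hxr, smul_zero]) (by rw [polar_smul_right, hyr, smul_zero])
    rw [hsmul, hw3 r hxr hyr, smul_smul, smul_smul, ← sub_eq_zero, ← sub_smul, smul_eq_zero] at h1
    have h2 := h1.resolve_right hr0
    rw [← hab] at h2
    have h3 : (σ l - l) * a = 0 := by linear_combination h2
    exact sub_eq_zero.1 ((mul_eq_zero.1 h3).resolve_right ha0)
  refine ⟨a, ha0, fun v => ?_⟩
  obtain ⟨w, hw⟩ : ∃ w, w = Cfsg.Agent.LieClassical.OrthTrans.proj Q x y v := ⟨_, rfl⟩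
  have h1 : v = polar Q y v • x + polar Q x v • y + w := by
    rw [hw, Cfsg.Agent.LieClassical.OrthTrans.proj]; abel
  have h2 := hw3 w (by rw [hw]; exact polar_proj_left hxy v) (by rw [hw]; exact polar_proj_right hxy v)
  generalize polar Q y v = α at h1
  generalize polar Q x v = β at h1
  rw [← hab] at h2
  rw [h1, hadd, hadd, hsmul, hsmul, ha, hb, hσ1, hσ1, h2, ← hab]
  module

/-- minus type in terms of totally singular subspaces -/
theorem Minus4.of_le_one [Finite F] (hQ : Nondeg Q) (h4 : finrank F V = 4)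
    (hm : ∀ U : Submodule F V, (∀ v ∈ U, Q v = 0) → finrank F U ≤ 1) : Minus4 Q := by
  have hfin : FiniteDimensional F V := FiniteDimensional.of_finrank_pos (by rw [h4]; norm_num)
  refine ⟨hQ, h4, ?_, ?_⟩
  · obtain ⟨w, -, hw0, hw⟩ := Cfsg.Agent.LieClassical.OrthFinite.exists_sing_mem (Q := Q) (⊤ : Submodule F V)
      (by rw [finrank_top, h4]; norm_num)
    exact ⟨w, hw0, hw⟩
  · intro u w hu hw huw hu0
    have h1 := hm (Submodule.span F {u, w}) (by
      intro v hv
      obtain ⟨a, b, rfl⟩ := Submodule.mem_span_pair.1 hv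
      rw [Q_add, QuadraticMap.map_smul, QuadraticMap.map_smul, hu, hw, polar_smul_left, polar_smul_right, huw]
      simp)
    have h2 : Submodule.span F {u} ≤ Submodule.span F {u, w} := Submodule.span_mono (by simp)
    have h3 := Submodule.eq_of_le_of_finrank_le h2 (by rw [finrank_span_singleton hu0]; exact h1)
    have h5 : w ∈ Submodule.span F {u} := by
      rw [h3]
      exact Submodule.subset_span (by simp)
    obtain ⟨a, ha⟩ := Submodule.mem_span_singleton.1 h5
    exact ⟨a, ha.symm⟩

/-- the projective group -/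
theorem Minus4.exists_K [Finite F] (h : Minus4 Q) :
    ∃ (K : Type) (_ : Field K) (_ : Fintype K), Nat.card K = Nat.card F ^ 2 ∧
      Nonempty (P Q ≃* Matrix.ProjectiveSpecialLinearGroup (Fin 2) K) := by
  obtain ⟨p, hpF⟩ := CharP.exists F
  have hp : Fact p.Prime := ⟨CharP.char_is_prime F p⟩
  have := Fintype.ofFinite F
  have := Fintype.ofFinite (FiniteField.Extension F p 2)
  refine ⟨FiniteField.Extension F p 2, inferInstance, inferInstance, ?_, ?_⟩
  · rw [FiniteField.natCard_extension]
  · exact h.equiv_psl (FiniteField.Extension F p 2) (by rw [FiniteField.natCard_extension])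

theorem Minus4.isPSL [Finite F] (h : Minus4 Q) : Cfsg.IsPSL (P Q) := by
  obtain ⟨K, _, _, hK, e⟩ := h.exists_K
  refine ⟨K, inferInstance, inferInstance, 2, le_rfl, fun _ => ?_, e⟩
  rw [← Nat.card_eq_fintype_card, hK]
  have := Finite.one_lt_card (α := F)
  nlinarith only [this]

theorem Minus4.cl [Finite F] (h : Minus4 Q) : Cl (P Q) := Or.inl h.isPSL

theorem Minus4.simple [Finite F] (h : Minus4 Q) : IsSimpleGroup (P Q) := by
  obtain ⟨K, _, _, hK, ⟨e⟩⟩ := h.exists_K
  have h1 : 4 ≤ Nat.card K := by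
    rw [hK]
    have := Finite.one_lt_card (α := F)
    nlinarith only [this]
  exact isSimple_cgr0 e.symm (Matrix.ProjectiveSpecialLinearGroup.rank_two_simple h1)

theorem Minus4.not_comm [Finite F] (h : Minus4 Q) : ¬ IsMulCommutative (P Q) := by
  intro hc
  have h1 := h.simple
  have h2 : commutator (P Q) = ⊤ := by
    have h3 := h.commutator_E
    have h4 : (commutator ↥(E Q)).map (QuotientGroup.mk' (Subgroup.center ↥(E Q))) = commutator (P Q) := by
      rw [commutator_def, Subgroup.map_commutator, Subgroup.map_top_of_surjective _ (QuotientGroup.mk'_surjective _),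
        commutator_def]
    rw [← h4, h3, Subgroup.map_top_of_surjective _ (QuotientGroup.mk'_surjective _)]
  have h5 : commutator (P Q) = ⊥ := by
    rw [commutator_def, Subgroup.commutator_eq_bot_iff_le_centralizer]
    intro a _
    rw [Subgroup.mem_centralizer_iff]
    intro b _
    exact hc.is_comm.comm b a
  rw [h5] at h2
  exact bot_ne_top h2

theorem Minus4.card_mul [Finite F] (h : Minus4 Q) :
    Nat.card (P Q) * Nat.gcd 2 (Nat.card F ^ 2 - 1) = Nat.card F ^ 2 * (Nat.card F ^ 4 - 1) := by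
  obtain ⟨K, _, _, hK, ⟨e⟩⟩ := h.exists_K
  have h1 := Cfsg.Agent.ClassicalGeometry.PSL2Basic.card_PSL2_gcd (F := K)
  rw [← Nat.card_eq_fintype_card, hK, ← Nat.card_congr e.toEquiv, ← pow_mul] at h1
  exact h1

theorem Minus4.not_exc [Finite F] (h : Minus4 Q) (h3 : 3 < Nat.card F) : ¬ Exc (P Q) := by
  have hcard := h.card_mul
  obtain ⟨q, hq⟩ : ∃ q, q = Nat.card F := ⟨_, rfl⟩
  rw [← hq] at hcard h3
  have h4 : Nat.card (P Q) = 60 ∨ Nat.card (P Q) = 360 ∨ Nat.card (P Q) = 20160 → False := by
    intro hc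
    have hg : Nat.gcd 2 (q ^ 2 - 1) = 1 ∨ Nat.gcd 2 (q ^ 2 - 1) = 2 := by
      rcases (Nat.dvd_prime Nat.prime_two).1 (Nat.gcd_dvd_left 2 (q ^ 2 - 1)) with h | h
      · exact Or.inl h
      · exact Or.inr h
    have hle : q ^ 2 * (q ^ 4 - 1) ≤ 40320 := by
      rw [← hcard]
      rcases hc with h | h | h <;> rcases hg with h' | h' <;> rw [h, h'] <;> norm_num
    have hq5 : q ≤ 5 := by
      by_contra hcon
      have h6 : 6 ≤ q := by omega
      have h7 : 6 ^ 2 ≤ q ^ 2 := Nat.pow_le_pow_left h6 2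
      have h8 : 6 ^ 4 ≤ q ^ 4 := Nat.pow_le_pow_left h6 4
      have h9 : 6 ^ 2 * (6 ^ 4 - 1) ≤ q ^ 2 * (q ^ 4 - 1) := Nat.mul_le_mul h7 (Nat.sub_le_sub_right h8 1)
      have : 6 ^ 2 * (6 ^ 4 - 1) ≤ 40320 := h9.trans hle
      norm_num at this
    have hq45 : q = 4 ∨ q = 5 := by omega
    rcases hq45 with rfl | rfl
    · norm_num at hcard
      omega
    · norm_num at hcard
      omega
  have hA : ∀ n, Nontrivial (Fin n) → Nonempty (P Q ≃* alternatingGroup (Fin n)) → 2 * Nat.card (P Q) = n.factorial := by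
    rintro n hn ⟨e⟩
    rw [Nat.card_congr e.toEquiv, Nat.card_eq_fintype_card, two_mul_card_alternatingGroup, Fintype.card_perm,
      Fintype.card_fin]
  rintro (h5 | h5 | h5)
  · have := hA 5 inferInstance h5
    norm_num [Nat.factorial] at this
    exact h4 (by omega)
  · have := hA 6 inferInstance h5
    norm_num [Nat.factorial] at this
    exact h4 (by omega)
  · have := hA 8 inferInstance h5
    norm_num [Nat.factorial] at this
    exact h4 (by omega)

/-- `RC` of the projective group from the induction hypothesis -/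
theorem Minus4.rc {F V : Type} [Field F] [Finite F] [AddCommGroup V] [Module F V] {Q : QuadraticForm F V}
    (h : Minus4 Q) {m : ℕ} (hI : IH m) (hlt : Nat.card (P Q) < m) (h3 : 3 < Nat.card F) : RC (P Q) := by
  have hfin := h.fin
  have : Finite V := Module.finite_of_finite F
  have : Finite (V ≃ₗ[F] V) := Finite.of_injective (fun g => (g : V → V)) DFunLike.coe_injective
  have : Finite ↥(E Q) := inferInstance
  have : Finite (P Q) := Finite.of_surjective _ (QuotientGroup.mk'_surjective (Subgroup.center ↥(E Q)))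
  exact hI (P Q) h.simple h.not_comm h.cl (h.not_exc h3) hlt

end cent

end Cfsg.Agent.H170.RC

private theorem dce_be3859bff2f3 : _root_.True := by
  try have : _root_.True := by simp only [_root_.QuadraticAlgebra.trace.eq_1]
  try have : _root_.True := by simp only [_root_.Cfsg.Agent.H170.RC.Ph.eq_1]
  exact _root_.True.intro
end
end
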