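import Mathlib
import Cfsg.Agent.H578.RC.Lin_m3
import Cfsg.Agent.H200.SelfAdj
import Cfsg.Agent.ClassicalGeometry.OrthSemiCount
import Cfsg.Agent.UGT.U2.FOne.OrthJ
import Cfsg.Agent.LieClassical.OrthFinite
import Cfsg.Agent.S0752
import Cfsg.Agent.H174.AltRank
import Cfsg.Agent.H93.RC.BoxB3_m3
import Cfsg.Agent.LieClassical.OrthTrans
import Cfsg.Agent.H233.RC.RedA
import Cfsg.Agent.AutOrth.Final
import Cfsg.Agent.H384.RC.Lin
import Cfsg.Agent.H952.F4.MaxA
import Cfsg.Agent.H837.RC.KilledP2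
import Cfsg.Agent.ClassicalGeometry.SympBasic
import Cfsg.Agent.LieClassical.SympCenter
import Cfsg.Agent.S0249
import Cfsg.Agent.S0269
import Cfsg.Agent.S0270
import Cfsg.Agent.S0765
import Cfsg.Agent.LieClassical.SLGen
import Cfsg.Agent.H31.RC.Spor.Gen
import Cfsg.Agent.ClassicalGeometry.OrthAut2
import Cfsg.Agent.H916.RG.Pair_m3
import Cfsg.Agent.TwoFusion.SLTwoFacts
import Cfsg.Agent.LieClassical.OrthFourPlus
import Cfsg.Agent.H277.SK.AltSix
import Mathlib.GroupTheory.Perm.Fin
import Mathlib.Tactic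
import Cfsg.Agent.H198.TwComp
import Cfsg.Agent.H514.DP.Cyc_m3
import Cfsg.Agent.FastGrp
import Cfsg.Agent.Prune
set_option linter.all false

section
prune_inst 0x7ffca8f8a9a809dedffb7e3fa698cffc30800fffe6dff9437fe061af0b9f030209c52b8589e010fe1e43621400b87843f9fffeffe06bd87ffffd1db41ffbee0fe5f7b100119488340e2c0ff703f0770e6f3ffeffffffffffffffffffffffffbeffbfefffffff

-- part: H205/RC/Uni
section
prune_inst 0x345071657f0010004004001462001cf3fb0001020048880028a50f0607890c608d42a061aab0041b4880010400310040001000200240000004240000011c01800040840481480019000080000008010000100000000000000000000000000000010000000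
set_option linter.all false
open scoped Cfsg.Agent.FastGrp

-- part: H205/RC/Base
section
/-!
# S3510, row F, box F5 (helper205): scaling of linear semisimilitudes in odd dimension

* `exists_iso` : a linear semisimilitude of prime order modulo scalars is a scalar times an isometry `g`, `g ^ r = 1`;
* `comm_exact` : a semisimilitude commuting with `g` up to a scalar commutes with `g`;
* `odd_skew` : there is no invertible skew map in odd dimension.
-/

set_option autoImplicit false
set_option linter.unusedSectionVars false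

namespace Cfsg.Agent.H205.RC

open Cfsg QuadraticMap Module Matrix
open Cfsg.Agent.LieClassical.OrthCore Cfsg.Agent.LieClassical.OrthTrans
open Cfsg.Agent.LieClassical.OrthSimple Cfsg.Agent.ClassicalGeometry.OrthSemi
open Cfsg.Agent.H93.RC

variable {F V : Type*} [Field F] [AddCommGroup V] [Module F V] [FiniteDimensional F V] {Q : QuadraticForm F V}

theorem polar_iso {g : V ≃ₗ[F] V} (hg : ∀ v, Q (g v) = Q v) (v w : V) : polar Q (g v) (g w) = polar Q v w := by
  rw [polar, polar, ← map_add, hg, hg, hg]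

theorem exists_nonsing (hQ : Nondeg Q) {x : V} (hx : x ≠ 0) : ∃ v : V, Q v ≠ 0 := by
  obtain ⟨y, hy⟩ := hQ.exists_polar_ne hx
  by_contra hcon
  push Not at hcon
  apply hy
  rw [polar, hcon, hcon, hcon, sub_zero, sub_zero]

theorem exists_ne_of_odd (hodd : Odd (finrank F V)) : ∃ x : V, x ≠ 0 := by
  by_contra hcon
  push Not at hcon
  have : Subsingleton V := ⟨fun a b => by rw [hcon a, hcon b]⟩
  rw [finrank_zero_of_subsingleton] at hodd
  exact absurd hodd (by decide)

/-- a linear semisimilitude has trivial field automorphism -/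
theorem refl_of_lin {M : Gam Q} (hl : IsLin M) {σ : F ≃+* F} {c : F} (h : IsSS Q σ c M.1) {x : V} (hx : x ≠ 0) :
    IsSS Q (RingEquiv.refl F) c M.1 := by
  have hσ : ∀ a, σ a = a := by
    intro a
    have h1 := h.smul a x
    rw [hl a x] at h1
    have h2 : M.1 x ≠ 0 := by
      intro h0
      apply hx
      apply M.1.injective
      rw [h0, h.map_zero]
    exact (smul_left_injective F h2 h1).symm
  refine ⟨h.ne, h.add, fun a v => ?_, fun v => ?_⟩
  · rw [h.smul, hσ]; rfl
  · rw [h.form, hσ]; rfl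

/-- **a linear semisimilitude of prime order modulo scalars, odd dimension** -/
theorem exists_iso (hQ : Nondeg Q) (h2 : (2 : F) ≠ 0) (hodd : Odd (finrank F V)) {M : Gam Q} (hl : IsLin M) {r : ℕ}
    (hr : r.Prime) (hpow : IsScal (M ^ r)) :
    ∃ (g : V ≃ₗ[F] V) (a : F), a ≠ 0 ∧ (∀ v, M.1 v = a • g v) ∧ (∀ v, Q (g v) = Q v) ∧ g ^ r = 1 := by
  obtain ⟨x, hx⟩ := exists_ne_of_odd hodd
  obtain ⟨σ, c, h⟩ := M.2
  have h := refl_of_lin hl h hx
  obtain ⟨d, hd⟩ := Cfsg.Agent.ClassicalGeometry.OrthSemiCount.isSquare_of_odd h2 hQ hodd h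
  have hd0 : d ≠ 0 := by
    rintro rfl
    exact h.ne (by rw [hd, mul_zero])
  let g0 : V ≃ₗ[F] V :=
    { toFun := fun v => d⁻¹ • M.1 v
      invFun := fun v => M.1.symm (d • v)
      map_add' := fun u v => by rw [h.add, smul_add]
      map_smul' := fun a v => by
        rw [hl a v, smul_comm]
        rfl
      left_inv := fun v => by
        change M.1.symm (d • d⁻¹ • M.1 v) = v
        rw [smul_inv_smul₀ hd0, Equiv.symm_apply_apply]
      right_inv := fun v => by
        change d⁻¹ • M.1 (M.1.symm (d • v)) = v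
        rw [Equiv.apply_symm_apply, inv_smul_smul₀ hd0] }
  have hg0 : ∀ v, g0 v = d⁻¹ • M.1 v := fun v => rfl
  have hM : ∀ v, M.1 v = d • g0 v := by
    intro v
    rw [hg0, smul_inv_smul₀ hd0]
  have hQ0 : ∀ v, Q (g0 v) = Q v := by
    intro v
    rw [hg0, QuadraticMap.map_smul, h.form, smul_eq_mul, hd]
    change d⁻¹ * d⁻¹ * (d * d * Q v) = Q v
    field_simp
  obtain ⟨b, hb0, hb⟩ := hpow
  have hpw : ∀ (k : ℕ) (v : V), (M ^ k).1 v = d ^ k • (g0 ^ k) v := by
    intro k
    induction k with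
    | zero => intro v; rw [pow_zero, pow_zero, pow_zero, one_smul]; rfl
    | succ k ih =>
      intro v
      rw [pow_succ, pow_succ, pow_succ]
      change (M ^ k).1 (M.1 v) = _
      rw [ih, hM, map_smul, smul_smul]
      rfl
  have hb' : ∀ v, (g0 ^ r) v = (b / d ^ r) • v := by
    intro v
    have h3 := hpw r v
    rw [hb] at h3
    rw [div_eq_inv_mul, mul_smul, h3, inv_smul_smul₀ (pow_ne_zero r hd0)]
  set b' := b / d ^ r with hbb
  have hQk : ∀ (k : ℕ) (v : V), Q ((g0 ^ k) v) = Q v := by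
    intro k
    induction k with
    | zero => intro v; rfl
    | succ k ih =>
      intro v
      rw [pow_succ]
      change Q ((g0 ^ k) (g0 v)) = Q v
      rw [ih, hQ0]
  have hb2 : b' ^ 2 = 1 := by
    obtain ⟨v, hv⟩ := exists_nonsing hQ hx
    have h3 := hQk r v
    rw [hb', QuadraticMap.map_smul, smul_eq_mul] at h3
    have h4 : (b' ^ 2 - 1) * Q v = 0 := by linear_combination h3
    exact sub_eq_zero.1 ((mul_eq_zero.1 h4).resolve_right hv)
  have hb1 : b' = 1 ∨ b' = -1 := mul_self_eq_one_iff.1 (by rw [← pow_two]; exact hb2)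
  rcases hb1 with hb1 | hb1
  · refine ⟨g0, d, hd0, hM, hQ0, ?_⟩
    ext v
    rw [hb', hb1, one_smul]
    rfl
  · rcases hr.eq_two_or_odd' with hr2 | hro
    · exfalso
      subst hr2
      have h3 : LinearMap.det (g0 : V →ₗ[F] V) ^ 2 = 1 := by
        have h4 := Cfsg.Agent.H200.SelfAdj.det_sq_quad hQ (g := (g0 : V →ₗ[F] V)) (c := 1) (fun v => by
          rw [one_mul]; exact hQ0 v)
        rwa [one_pow] at h4
      have h4 : (g0 : V →ₗ[F] V) ∘ₗ (g0 : V →ₗ[F] V) = (-1 : F) • LinearMap.id := by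
        ext v
        have h5 := hb' v
        rw [hb1, pow_two] at h5
        exact h5
      have h5 := congrArg LinearMap.det h4
      rw [LinearMap.det_comp, LinearMap.det_smul, LinearMap.det_id, mul_one, hodd.neg_one_pow, ← pow_two, h3] at h5
      apply h2
      linear_combination h5
    · let ng : V ≃ₗ[F] V := (LinearEquiv.neg F).trans g0
      have hng : ∀ v, ng v = -g0 v := fun v => by
        change g0 (-v) = -g0 v
        rw [map_neg]
      refine ⟨ng, -d, neg_ne_zero.2 hd0, fun v => by rw [hng, neg_smul, smul_neg, neg_neg]; exact hM v,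
        fun v => by rw [hng, QuadraticMap.map_neg, hQ0], ?_⟩
      have h3 : ∀ (k : ℕ) (v : V), (ng ^ k) v = (-1 : F) ^ k • (g0 ^ k) v := by
        intro k
        induction k with
        | zero => intro v; rw [pow_zero, pow_zero, pow_zero, one_smul]
        | succ k ih =>
          intro v
          rw [pow_succ, pow_succ, pow_succ]
          change (ng ^ k) (ng v) = _
          rw [ih, hng, map_neg, mul_neg_one, neg_smul, smul_neg]
          rfl
      ext v
      rw [h3, hb', hb1, hro.neg_one_pow, smul_smul]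
      norm_num

theorem comm_pow {g : V ≃ₗ[F] V} {M : Gam Q} {a : F}
    (h : ∀ v, M.1 (g v) = a • g (M.1 v)) (k : ℕ) : ∀ v, M.1 ((g ^ k) v) = a ^ k • (g ^ k) (M.1 v) := by
  induction k with
  | zero => intro v; rw [pow_zero, pow_zero, one_smul]; rfl
  | succ k ih =>
    intro v
    rw [pow_succ, pow_succ]
    change M.1 ((g ^ k) (g v)) = _
    rw [ih, h, map_smul, smul_smul]
    rfl

/-- **exact commutation** -/
theorem comm_exact [Finite F] (hQ : Nondeg Q) (h2 : (2 : F) ≠ 0) (hodd : Odd (finrank F V)) {g : V ≃ₗ[F] V}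
    (hg : ∀ v, Q (g v) = Q v) {r : ℕ} (hr : r.Prime) (hgr : g ^ r = 1) {M : Gam Q} {a : F}
    (h : ∀ v, M.1 (g v) = a • g (M.1 v)) : ∀ v, M.1 (g v) = g (M.1 v) := by
  obtain ⟨x, hx⟩ := exists_ne_of_odd hodd
  obtain ⟨σ, c, hM⟩ := M.2
  have hinj : ∀ v, M.1 v = 0 → v = 0 := by
    intro v hv
    apply M.1.injective
    rw [hv, hM.map_zero]
  suffices ha : a = 1 by
    intro v
    rw [h, ha, one_smul]
  have ha2 : a ^ 2 = 1 := by
    obtain ⟨v, hv⟩ := exists_nonsing hQ hx
    obtain ⟨w, rfl⟩ := M.1.surjective v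
    have h3 : Q (M.1 (g w)) = Q (M.1 w) := by rw [hM.form, hM.form, hg]
    rw [h, QuadraticMap.map_smul, hg, smul_eq_mul] at h3
    have h4 : (a ^ 2 - 1) * Q (M.1 w) = 0 := by linear_combination h3
    exact sub_eq_zero.1 ((mul_eq_zero.1 h4).resolve_right hv)
  have har : a ^ r = 1 := by
    have h3 := comm_pow h r x
    rw [hgr] at h3
    have h4 : (1 - a ^ r) • M.1 x = 0 := by
      rw [sub_smul, one_smul]
      exact sub_eq_zero.2 h3
    have h5 : M.1 x ≠ 0 := fun h0 => hx (hinj x h0)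
    exact (sub_eq_zero.1 ((smul_eq_zero.1 h4).resolve_right h5)).symm
  rcases hr.eq_two_or_odd' with hr2 | hro
  · subst hr2
    rcases mul_self_eq_one_iff.1 ((pow_two a).symm.trans ha2) with h1 | h1
    · exact h1
    · exfalso
      subst h1
      let e1 := Cfsg.Agent.H200.SelfAdj.eig (g : V →ₗ[F] V) 1
      let e2 := Cfsg.Agent.H200.SelfAdj.eig (g : V →ₗ[F] V) (-1)
      have hc : IsCompl e1 e2 := Cfsg.Agent.H200.SelfAdj.isCompl_eig h2 one_ne_zero (fun v => by
        rw [mul_one, one_smul]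
        have h3 : (g ^ 2) v = v := by rw [hgr]; rfl
        rwa [pow_two] at h3)
      have hsum := Submodule.finrank_add_eq_of_isCompl hc
      have m1 : ∀ v, v ∈ e1 ↔ g v = v := by
        intro v
        rw [Cfsg.Agent.H200.SelfAdj.mem_eig, one_smul]
        rfl
      have m2 : ∀ v, v ∈ e2 ↔ g v = -v := by
        intro v
        rw [Cfsg.Agent.H200.SelfAdj.mem_eig, neg_smul, one_smul]
        rfl
      have hcard : Nat.card e1 = Nat.card e2 := by
        refine Nat.card_congr ⟨fun v => ⟨M.1 v.1, ?_⟩, fun v => ⟨M.1.symm v.1, ?_⟩, ?_, ?_⟩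
        · rw [m2]
          have h3 := h v.1
          rw [(m1 _).1 v.2, neg_smul, one_smul] at h3
          have h4 := congrArg Neg.neg h3
          rw [neg_neg] at h4
          exact h4.symm
        · rw [m1]
          apply M.1.injective
          rw [h, Equiv.apply_symm_apply, (m2 _).1 v.2, neg_smul, one_smul, neg_neg]
        · intro v
          exact Subtype.ext (M.1.symm_apply_apply _)
        · intro v
          exact Subtype.ext (M.1.apply_symm_apply _)
      rw [Module.natCard_eq_pow_finrank (K := F) (V := e1), Module.natCard_eq_pow_finrank (K := F) (V := e2)] at hcard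
      have h3 : finrank F e1 = finrank F e2 := Nat.pow_right_injective (Finite.one_lt_card (α := F)) hcard
      rw [h3] at hsum
      rw [← hsum] at hodd
      exact (Nat.not_odd_iff_even.2 ⟨_, rfl⟩) hodd
  · obtain ⟨m, hm⟩ := hro
    rw [hm, pow_add, pow_mul, ha2, one_pow, one_mul, pow_one] at har
    exact har

/-- no invertible skew map in odd dimension -/
theorem odd_skew {U : Type*} [AddCommGroup U] [Module F U] [FiniteDimensional F U] (h2 : (2 : F) ≠ 0)
    (hodd : Odd (finrank F U)) (B : LinearMap.BilinForm F U) (hB : B.Nondegenerate) {T : U →ₗ[F] U}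
    (hs : ∀ v w, B (T v) w = -B (T w) v) (hsym : ∀ v w, B v w = B w v) (hinj : ∀ v, T v = 0 → v = 0) : False := by
  classical
  let b := finBasis F U
  let G := LinearMap.BilinForm.toMatrix b B
  let A := LinearMap.toMatrix b b T
  have h1 : Aᵀ * G = -(G * A) := by
    have e1 : (B.comp T LinearMap.id) = (-1 : F) • (B.comp LinearMap.id T) := by
      apply LinearMap.ext
      intro v
      apply LinearMap.ext
      intro w
      change B (T v) w = (-1 : F) * B v (T w)
      rw [hs, hsym (T w) v, neg_one_mul]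
    have e2 := congrArg (LinearMap.BilinForm.toMatrix b) e1
    rw [map_smul, neg_smul, one_smul, LinearMap.BilinForm.toMatrix_comp b b, LinearMap.BilinForm.toMatrix_comp b b, LinearMap.toMatrix_id,
      Matrix.transpose_one, Matrix.mul_one, Matrix.one_mul] at e2
    exact e2
  have h3 := congrArg Matrix.det h1
  rw [Matrix.det_mul, Matrix.det_transpose, Matrix.det_neg, Matrix.det_mul, Fintype.card_fin, hodd.neg_one_pow] at h3
  have hG : G.det ≠ 0 := (LinearMap.BilinForm.nondegenerate_iff_det_ne_zero b).1 hB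
  have hA : A.det ≠ 0 := by
    have h4 : LinearMap.det T ≠ 0 := by
      have h5 : LinearMap.ker T = ⊥ := by
        rw [Submodule.eq_bot_iff]
        exact fun v hv => hinj v hv
      have h6 : IsUnit T := (LinearMap.isUnit_iff_ker_eq_bot T).2 h5
      exact (LinearMap.isUnit_det T h6).ne_zero
    rwa [← LinearMap.det_toMatrix b] at h4
  have h4 : 2 * (A.det * G.det) = 0 := by linear_combination h3
  rcases mul_eq_zero.1 h4 with h5 | h5
  · exact h2 h5
  · exact mul_ne_zero hA hG h5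

end Cfsg.Agent.H205.RC
end

-- part: H205/RC/Nil
section
/-!
# S3510, row F, box F5 (helper205): unipotent isometries of small spaces

`A` has dimension at most four, `B` is a nondegenerate symmetric form, `1 + T` an isometry, `T` nilpotent.

* `rank_two` : `T² = 0 ≠ T` implies `dim A = 4`, `rank T = 2`;
* `rank_one` : `T² ≠ 0` implies `T³ = 0`, `rank T² = 1`.
-/

set_option autoImplicit false
set_option linter.unusedSectionVars false

namespace Cfsg.Agent.H205.RC

open Module

variable {F A : Type*} [Field F] [AddCommGroup A] [Module F A] [FiniteDimensional F A]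

/-- a map `K` with alternating form `B(Kx, y)` has rank at least two -/
theorem two_le_rank {B : LinearMap.BilinForm F A} (hB : ∀ x, (∀ y, B x y = 0) → x = 0) {K : A →ₗ[F] A}
    (halt : ∀ x, B (K x) x = 0) (hK : K ≠ 0) : 2 ≤ finrank F (LinearMap.range K) := by
  obtain ⟨x, hx⟩ : ∃ x, K x ≠ 0 := by
    by_contra hcon
    push Not at hcon
    exact hK (LinearMap.ext hcon)
  obtain ⟨y, hy⟩ : ∃ y, B (K x) y ≠ 0 := by
    by_contra hcon
    push Not at hcon
    exact hx (hB _ hcon)
  have hpol : B (K x) y = -B (K y) x := by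
    have h1 := halt (x + y)
    simp only [map_add, LinearMap.add_apply, halt] at h1
    linear_combination h1
  have hli : LinearIndependent F ![K x, K y] := by
    rw [LinearIndependent.pair_iff]
    intro a b hab
    have hb : b = 0 := by
      have h1 : B (a • K x + b • K y) x = 0 := by rw [hab, map_zero]; rfl
      rw [map_add, LinearMap.add_apply, map_smul, map_smul, LinearMap.smul_apply, LinearMap.smul_apply, halt,
        smul_zero, zero_add, smul_eq_mul] at h1
      rcases mul_eq_zero.1 h1 with h2 | h2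
      · exact h2
      · rw [h2, neg_zero] at hpol
        exact absurd hpol hy
    subst hb
    rw [zero_smul, add_zero] at hab
    exact ⟨(smul_eq_zero.1 hab).resolve_right hx, rfl⟩
  have h1 : Submodule.span F (Set.range ![K x, K y]) ≤ LinearMap.range K := by
    rw [Submodule.span_le]
    rintro _ ⟨i, rfl⟩
    fin_cases i
    · exact ⟨x, rfl⟩
    · exact ⟨y, rfl⟩
  have h2 : finrank F (Submodule.span F (Set.range ![K x, K y])) = 2 := finrank_span_eq_card hli
  rw [← h2]
  exact Submodule.finrank_mono h1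

/-- the ranks of the powers of `T` -/
theorem rank_step {T : A →ₗ[F] A} {j k : ℕ} (hjk : j ≤ k) (h : T ^ (k + 1) = 0) :
    finrank F (LinearMap.range (T ^ (j + 1))) + finrank F (LinearMap.range (T ^ k)) ≤
      finrank F (LinearMap.range (T ^ j)) := by
  let R := LinearMap.range (T ^ j)
  have h1 := LinearMap.finrank_range_add_finrank_ker (T.domRestrict R)
  have h2 : LinearMap.range (T.domRestrict R) = LinearMap.range (T ^ (j + 1)) := by
    rw [pow_succ']
    ext v
    constructor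
    · rintro ⟨⟨_, ⟨w, rfl⟩⟩, rfl⟩
      exact ⟨w, rfl⟩
    · rintro ⟨w, rfl⟩
      exact ⟨⟨(T ^ j) w, ⟨w, rfl⟩⟩, rfl⟩
  have h3 : finrank F (LinearMap.range (T ^ k)) ≤ finrank F (LinearMap.ker (T.domRestrict R)) := by
    have h4 : ∀ v ∈ LinearMap.range (T ^ k), v ∈ R := by
      rintro _ ⟨w, rfl⟩
      refine ⟨(T ^ (k - j)) w, ?_⟩
      rw [← Module.End.mul_apply, ← pow_add, Nat.add_sub_cancel' hjk]
    have h5 : ∀ v ∈ LinearMap.range (T ^ k), T v = 0 := by
      rintro _ ⟨w, rfl⟩
      rw [← Module.End.mul_apply, ← pow_succ', h]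
      rfl
    let f : LinearMap.range (T ^ k) →ₗ[F] LinearMap.ker (T.domRestrict R) :=
      { toFun := fun v => ⟨⟨v.1, h4 v.1 v.2⟩, h5 v.1 v.2⟩
        map_add' := fun _ _ => rfl
        map_smul' := fun _ _ => rfl }
    refine LinearMap.finrank_le_finrank_of_injective (f := f) ?_
    intro v w hvw
    exact Subtype.ext (congrArg (fun z => ((z : LinearMap.ker (T.domRestrict R)) : R).1) hvw)
  rw [h2] at h1
  have h6 : finrank F R = finrank F (LinearMap.range (T ^ j)) := rfl
  rw [h6] at h1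
  rw [← h1]
  exact Nat.add_le_add_left h3 _

section form

variable {B : LinearMap.BilinForm F A} {T : A →ₗ[F] A}

theorem rank_two (h2 : (2 : F) ≠ 0) (hsym : ∀ x y, B x y = B y x) (hB : ∀ x, (∀ y, B x y = 0) → x = 0)
    (hiso : ∀ x y, B (T x) y + B x (T y) + B (T x) (T y) = 0) (h4 : finrank F A ≤ 4)
    (hT2 : ∀ x, T (T x) = 0) (hT : T ≠ 0) : finrank F A = 4 ∧ finrank F (LinearMap.range T) = 2 := by
  have hsk : ∀ x y, B (T x) y = -B x (T y) := by
    intro x y
    have e1 := hiso x y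
    have e2 := hiso x (T y)
    rw [hT2, map_zero, map_zero, add_zero, add_zero] at e2
    linear_combination e1 - e2
  have halt : ∀ x, B (T x) x = 0 := by
    intro x
    have h3 := hsk x x
    rw [hsym x (T x)] at h3
    have h5 : 2 * B (T x) x = 0 := by linear_combination h3
    exact (mul_eq_zero.1 h5).resolve_left h2
  have h5 := two_le_rank hB halt hT
  have hTT : T ^ (1 + 1) = 0 := by
    ext x
    rw [pow_succ, pow_one]
    exact hT2 x
  have h6 := rank_step (T := T) (j := 0) (k := 1) (by norm_num) hTT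
  have h7 : finrank F (LinearMap.range (T ^ 0)) = finrank F A := by
    rw [pow_zero, Module.End.one_eq_id, LinearMap.range_id, finrank_top]
  rw [h7, zero_add, pow_one] at h6
  omega

theorem rank_one (h2 : (2 : F) ≠ 0) (hsym : ∀ x y, B x y = B y x) (hB : ∀ x, (∀ y, B x y = 0) → x = 0)
    (hiso : ∀ x y, B (T x) y + B x (T y) + B (T x) (T y) = 0) (h4 : finrank F A ≤ 4)
    (hnil : IsNilpotent T) (hT2 : T ^ 2 ≠ 0) : T ^ 3 = 0 ∧ finrank F (LinearMap.range (T ^ 2)) = 1 := by
  have hT4 : T ^ 4 = 0 := by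
    obtain ⟨m, hm⟩ := hnil
    have h5 : LinearMap.ker (T ^ m) ≤ LinearMap.ker (T ^ finrank F A) := Module.End.ker_pow_le_ker_pow_finrank T m
    rw [hm, LinearMap.ker_zero, top_le_iff, LinearMap.ker_eq_top] at h5
    exact pow_eq_zero_of_le h4 h5
  have h7 : finrank F (LinearMap.range (T ^ 0)) = finrank F A := by
    rw [pow_zero, Module.End.one_eq_id, LinearMap.range_id, finrank_top]
  have hT3 : T ^ 3 = 0 := by
    by_contra hT3
    have hz : ∀ x, T (T (T (T x))) = 0 := fun x => LinearMap.congr_fun hT4 x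
    have halt : ∀ x, B ((T ^ 3) x) x = 0 := by
      intro x
      have e := fun y z => hiso y z
      have b13 : ∀ x y, B (T x) (T (T (T y))) = 0 := by
        intro x y
        have h := hiso x (T (T (T y)))
        rw [hz, map_zero, map_zero, add_zero, add_zero] at h
        exact h
      have b22 : ∀ x y, B (T (T x)) (T (T y)) = 0 := by
        intro x y
        have h := hiso (T x) (T (T y))
        rw [b13, b13, add_zero, add_zero] at h
        exact h
      have b12 : ∀ x y, B (T x) (T (T y)) = -B x (T (T (T y))) := by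
        intro x y
        have h := hiso x (T (T y))
        rw [b13, add_zero] at h
        linear_combination h
      have b21 : ∀ x y, B (T (T x)) (T y) = B x (T (T (T y))) := by
        intro x y
        have h := hiso (T x) (T y)
        rw [b22, b12, add_zero] at h
        linear_combination h
      have b31 : ∀ x y, B (T (T (T x))) (T y) = 0 := by
        intro x y
        have h := hiso (T (T x)) (T y)
        rw [b22, b22 (T x) y, add_zero, add_zero] at h
        exact h
      have b30 : ∀ x y, B (T (T (T x))) y = -B x (T (T (T y))) := by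
        intro x y
        have h := hiso (T (T x)) y
        rw [b21, b31, add_zero] at h
        linear_combination h
      have h3 := b30 x x
      rw [hsym x] at h3
      have h5 : 2 * B (T (T (T x))) x = 0 := by linear_combination h3
      exact (mul_eq_zero.1 h5).resolve_left h2
    have h5 := two_le_rank hB halt hT3
    have s0 : finrank F (LinearMap.range (T ^ 1)) + finrank F (LinearMap.range (T ^ 3)) ≤
      finrank F (LinearMap.range (T ^ 0)) := rank_step (T := T) (j := 0) (k := 3) (by norm_num) hT4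
    have s1 : finrank F (LinearMap.range (T ^ 2)) + finrank F (LinearMap.range (T ^ 3)) ≤
      finrank F (LinearMap.range (T ^ 1)) := rank_step (T := T) (j := 1) (k := 3) (by norm_num) hT4
    have s2 : finrank F (LinearMap.range (T ^ 3)) + finrank F (LinearMap.range (T ^ 3)) ≤
      finrank F (LinearMap.range (T ^ 2)) := rank_step (T := T) (j := 2) (k := 3) (by norm_num) hT4
    rw [h7] at s0
    omega
  refine ⟨hT3, ?_⟩
  have s0 : finrank F (LinearMap.range (T ^ 1)) + finrank F (LinearMap.range (T ^ 2)) ≤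
    finrank F (LinearMap.range (T ^ 0)) := rank_step (T := T) (j := 0) (k := 2) (by norm_num) hT3
  have s1 : finrank F (LinearMap.range (T ^ 2)) + finrank F (LinearMap.range (T ^ 2)) ≤
    finrank F (LinearMap.range (T ^ 1)) := rank_step (T := T) (j := 1) (k := 2) (by norm_num) hT3
  rw [h7] at s0
  have h5 : finrank F (LinearMap.range (T ^ 2)) ≠ 0 := by
    intro h0
    rw [Submodule.finrank_eq_zero, LinearMap.range_eq_bot] at h0
    exact hT2 h0
  omega

end form

end Cfsg.Agent.H205.RC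
end

-- part: H205/RC/Three
section
/-!
# S3510, row F, box F5 (helper205): the invariant 3-space

`N = u - 1`, `T² ≠ 0 = T³` on the invariant nondegenerate `W`, `rank T² = 1`.
-/

set_option autoImplicit false
set_option linter.unusedSectionVars false

namespace Cfsg.Agent.H205.RC

open Cfsg QuadraticMap Module
open Cfsg.Agent.LieClassical.OrthCore Cfsg.Agent.LieClassical.OrthTrans

variable {F V : Type*} [Field F] [AddCommGroup V] [Module F V] [FiniteDimensional F V] {Q : QuadraticForm F V}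

/-- nondegenerate subspaces -/
def NdOn (Q : QuadraticForm F V) (W : Submodule F V) : Prop := ∀ x ∈ W, (∀ y ∈ W, polar Q x y = 0) → x = 0

theorem NdOn.nondeg {W : Submodule F V} (h : NdOn Q W) : Nondeg (Q.comp W.subtype) := by
  intro x hx
  apply Subtype.ext
  exact h x x.2 fun y hy => hx ⟨y, hy⟩

theorem NdOn.of_compl (hQ : Nondeg Q) {W W' : Submodule F V} (hc : Codisjoint W W')
    (ho : ∀ x ∈ W, ∀ y ∈ W', polar Q x y = 0) : NdOn Q W := by
  intro x hx h
  apply hQ
  intro y
  have hy : y ∈ W ⊔ W' := by rw [hc.eq_top]; trivial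
  obtain ⟨a, ha, b, hb, rfl⟩ := Submodule.mem_sup.1 hy
  rw [polar_add_right, h a ha, ho x hx b hb, add_zero]

/-- averaging -/
theorem avg_step {Y N : V →ₗ[F] V} {r : ℕ} (hr : (r : F) ≠ 0) (hY : Y ^ r = 1) (hYN : ∀ v, Y (N v) = N (Y v)) {e a : V}
    (he : Y e = e) (ha : N (N a) = e) {W : Submodule F V} (hW : ∀ v ∈ W, Y v ∈ W) (haW : a ∈ W) :
    ∃ a' ∈ W, N (N a') = e ∧ Y a' = a' ∧
      ∀ (Z : V →ₗ[F] V) (c : F), (∀ v, Z (Y v) = Y (Z v)) → Z a = c • a → Z a' = c • a' := by
  have hYk : ∀ k : ℕ, (Y ^ k) a ∈ W := by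
    intro k
    induction k with
    | zero => exact haW
    | succ k ih => rw [pow_succ', Module.End.mul_apply]; exact hW _ ih
  have hNk : ∀ k : ℕ, N (N ((Y ^ k) a)) = e := by
    intro k
    induction k with
    | zero => exact ha
    | succ k ih => rw [pow_succ', Module.End.mul_apply, ← hYN, ← hYN, ih, he]
  refine ⟨(r : F)⁻¹ • ∑ k ∈ Finset.range r, (Y ^ k) a, W.smul_mem _ (W.sum_mem fun k _ => hYk k), ?_, ?_, ?_⟩
  · rw [map_smul, map_smul, map_sum, map_sum, Finset.sum_congr rfl fun k _ => hNk k, Finset.sum_const,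
      Finset.card_range, ← Nat.cast_smul_eq_nsmul F, inv_smul_smul₀ hr]
  · rw [map_smul, map_sum]
    congr 1
    have h1 : ∀ k, Y ((Y ^ k) a) = (Y ^ (k + 1)) a := fun k => by rw [pow_succ', Module.End.mul_apply]
    rw [Finset.sum_congr rfl fun k _ => h1 k]
    have h2 := Finset.sum_range_succ' (fun k => (Y ^ k) a) r
    rw [Finset.sum_range_succ (fun k => (Y ^ k) a) r, hY, pow_zero] at h2
    exact (add_right_cancel h2).symm
  · intro Z c hZY hZa
    have h1 : ∀ k : ℕ, Z ((Y ^ k) a) = c • (Y ^ k) a := by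
      intro k
      induction k with
      | zero => rw [pow_zero]; exact hZa
      | succ k ih => rw [pow_succ', Module.End.mul_apply, hZY, ih, map_smul]
    rw [map_smul, map_sum, Finset.sum_congr rfl fun k _ => h1 k, ← Finset.smul_sum, smul_comm]

variable {u : V ≃ₗ[F] V}

/-- `u - 1` -/
def nn (u : V ≃ₗ[F] V) : V →ₗ[F] V := (u : V →ₗ[F] V) - LinearMap.id

theorem nn_apply (v : V) : nn u v = u v - v := rfl

theorem nn_iso (hu : ∀ v, Q (u v) = Q v) (x y : V) :
    polar Q (nn u x) y + polar Q x (nn u y) + polar Q (nn u x) (nn u y) = 0 := by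
  have h := polar_iso hu x y
  have e1 : u x = nn u x + x := by rw [nn_apply]; abel
  have e2 : u y = nn u y + y := by rw [nn_apply]; abel
  rw [e1, e2, polar_add_left, polar_add_right, polar_add_right] at h
  linear_combination h

theorem two_mul_Q (x : V) : polar Q x x = 2 * Q x := by
  rw [polar, ← two_smul F x, QuadraticMap.map_smul, smul_eq_mul]
  ring

/-- **(b) from a common eigenvector** -/
theorem three_of_vec (h2 : (2 : F) ≠ 0) (hu : ∀ v, Q (u v) = Q v) {a : V} (h3 : nn u (nn u (nn u a)) = 0)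
    (hβ : polar Q (nn u (nn u a)) a ≠ 0) {ι : Type*} {X : ι → V ≃ₗ[F] V} (hcu : ∀ i v, X i (u v) = u (X i v))
    (hX : ∀ i, X i a = a ∨ X i a = -a) :
    ∃ (e f b : V) (h : Hyp Q e f) (heb : polar Q e b = 0), polar Q f b = 0 ∧ Q b ≠ 0 ∧
      (∀ i, (∀ v ∈ Submodule.span F {e, f, b}, X i v = v) ∨ ∀ v ∈ Submodule.span F {e, f, b}, X i v = -v) ∧
      ∀ v ∈ Submodule.span F {e, f, b}, u v = siegel Q e b h.left heb v := by
  set N := nn u with hN
  set e := N (N a) with he
  set β := polar Q e a with hβd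
  have iso := nn_iso (u := u) hu
  rw [← hN] at iso
  have b12 : polar Q (N a) e = 0 := by
    have h := iso a e
    rw [he, h3, polar_zero_right, polar_zero_right, add_zero, add_zero] at h
    exact h
  have b22 : polar Q e e = 0 := by
    have h := iso (N a) e
    rw [he, h3, polar_zero_right, polar_zero_right, add_zero, add_zero] at h
    exact h
  have b11 : polar Q (N a) (N a) = -β := by
    have h := iso a (N a)
    rw [← he, b12, add_zero, polar_comm Q a e] at h
    linear_combination h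
  have b10 : 2 * polar Q (N a) a = β := by
    have h := iso a a
    rw [b11, polar_comm Q a (N a)] at h
    linear_combination h
  have hQe : Q e = 0 := by
    have h := two_mul_Q (Q := Q) e
    rw [b22] at h
    exact (mul_eq_zero.1 h.symm).resolve_left h2
  have hQN : 2 * Q (N a) = -β := by rw [← two_mul_Q, b11]
  have hae : polar Q a e = β := polar_comm Q a e
  have hNe : N e = 0 := h3
  have hu' : ∀ v, u v = v + N v := fun v => by rw [hN, nn_apply]; abel
  set f := β⁻¹ • (a - (Q a * β⁻¹) • e) with hf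
  set b := β⁻¹ • (N a - (2⁻¹ : F) • e) with hb
  have hef : polar Q e f = 1 := by
    rw [hf, polar_smul_right, polar_sub_right, polar_smul_right, b22, smul_zero, sub_zero, smul_eq_mul, ← hβd,
      inv_mul_cancel₀ hβ]
  have hQf : Q f = 0 := by
    rw [hf, QuadraticMap.map_smul, sub_eq_add_neg, ← neg_smul]
    have h : Q (a + (-(Q a * β⁻¹)) • e) = 0 := by
      have h1 : Q (a + (-(Q a * β⁻¹)) • e) = Q a + Q ((-(Q a * β⁻¹)) • e) + polar Q a ((-(Q a * β⁻¹)) • e) := by
        rw [polar]; ring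
      rw [h1, QuadraticMap.map_smul, hQe, smul_zero, add_zero, polar_smul_right, hae, smul_eq_mul]
      field_simp
      ring
    rw [h, smul_zero]
  have heb : polar Q e b = 0 := by
    rw [hb, polar_smul_right, polar_sub_right, polar_smul_right, b22, polar_comm Q e (N a), b12]
    simp
  have hfb : polar Q f b = 0 := by
    rw [hf, hb, polar_smul_left, polar_smul_right, polar_sub_left, polar_sub_right, polar_sub_right,
      polar_smul_left, polar_smul_right, polar_smul_right, polar_smul_left, b22, polar_comm Q e (N a), b12, hae,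
      polar_comm Q a (N a)]
    simp only [smul_eq_mul]
    have h : polar Q (N a) a = β * 2⁻¹ := by
      rw [← b10]; field_simp
    rw [h]
    ring
  have hQb : Q b = -(2⁻¹ * β⁻¹) := by
    have h1 : Q (N a - (2⁻¹ : F) • e) = Q (N a) := by
      have h : Q (N a + (-(2⁻¹ : F)) • e) = Q (N a) + Q ((-(2⁻¹ : F)) • e) + polar Q (N a) ((-(2⁻¹ : F)) • e) := by
        rw [polar]; ring
      rw [sub_eq_add_neg, ← neg_smul, h, QuadraticMap.map_smul, hQe, smul_zero, add_zero, polar_smul_right, b12,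
        smul_zero, add_zero]
    have h3 : Q (N a) = -(β * 2⁻¹) := by
      have h4 : 2 * Q (N a) = 2 * -(β * 2⁻¹) := by
        rw [hQN]; field_simp
      exact mul_left_cancel₀ h2 h4
    rw [hb, QuadraticMap.map_smul, h1, h3, smul_eq_mul]
    field_simp
  refine ⟨e, f, b, ⟨hQe, hQf, hef⟩, heb, hfb, ?_, ?_, ?_⟩
  · rw [hQb]
    exact neg_ne_zero.2 (mul_ne_zero (inv_ne_zero h2) (inv_ne_zero hβ))
  · intro i
    have hXN : ∀ v, X i (N v) = N (X i v) := by
      intro v
      rw [hN, nn_apply, nn_apply, map_sub, hcu]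
    have key : ∀ ε : F, X i a = ε • a → ∀ v ∈ Submodule.span F {e, f, b}, X i v = ε • v := by
      intro ε hε v hv
      have hXNa : X i (N a) = ε • N a := by rw [hXN, hε, map_smul]
      have hXe : X i e = ε • e := by rw [he, hXN, hXNa, map_smul]
      have hle : Submodule.span F {e, f, b} ≤ LinearMap.ker ((X i : V →ₗ[F] V) - ε • LinearMap.id) := by
        rw [Submodule.span_le]
        rintro x (rfl | rfl | rfl)
        · show X i e - ε • e = 0
          rw [hXe, sub_self]
        · show X i f - ε • f = 0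
          rw [hf, map_smul, map_sub, map_smul, hε, hXe]
          module
        · show X i b - ε • b = 0
          rw [hb, map_smul, map_sub, map_smul, hXNa, hXe]
          module
      have h := hle hv
      exact sub_eq_zero.1 h
    rcases hX i with h | h
    · left
      intro v hv
      rw [key 1 (by rw [h, one_smul]) v hv, one_smul]
    · right
      intro v hv
      rw [key (-1) (by rw [h, neg_smul, one_smul]) v hv, neg_smul, one_smul]
  · intro v hv
    have hle : Submodule.span F {e, f, b} ≤ LinearMap.ker ((u : V →ₗ[F] V) - (siegel Q e b hQe heb : V →ₗ[F] V)) := by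
      rw [Submodule.span_le]
      have hNb : N b = β⁻¹ • e := by
        rw [hb, map_smul, map_sub, map_smul, hNe, smul_zero, sub_zero]
      have hNf : N f = b + (2⁻¹ * β⁻¹) • e := by
        rw [hf, hb, map_smul, map_sub, map_smul, hNe, smul_zero, sub_zero]
        module
      rintro x (rfl | rfl | rfl)
      · show u e - siegel Q e b hQe heb e = 0
        rw [siegel_apply, hu', hNe, b22, polar_comm Q b e, heb]
        simp
      · show u f - siegel Q e b hQe heb f = 0
        rw [siegel_apply, hu', hNf, hef, polar_comm Q b f, hfb, hQb]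
        module
      · show u b - siegel Q e b hQe heb b = 0
        rw [siegel_apply, hu', hNb, heb, two_mul_Q, hQb]
        have h : 2 * -(2⁻¹ * β⁻¹) = -β⁻¹ := by field_simp
        rw [h]
        module
    have h := hle hv
    exact sub_eq_zero.1 h

end Cfsg.Agent.H205.RC
end

-- part: H205/RC/Uni
section
/-!
# S3510, row F, box F5 (helper205): an element of order `p` in odd dimension
-/

set_option autoImplicit false
set_option linter.unusedSectionVars false

namespace Cfsg.Agent.H205.RC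

open Cfsg QuadraticMap Module
open Cfsg.Agent.LieClassical.OrthCore Cfsg.Agent.LieClassical.OrthTrans

variable {F V : Type*} [Field F] [AddCommGroup V] [Module F V] [FiniteDimensional F V] {Q : QuadraticForm F V}

section split

variable {s : V ≃ₗ[F] V}

theorem mem_fx {v : V} : v ∈ LinearMap.ker (nn s) ↔ s v = v := by
  show nn s v = 0 ↔ _
  rw [nn_apply, sub_eq_zero]

theorem fx_cm_perp (hs : ∀ v, Q (s v) = Q v) :
    ∀ x ∈ LinearMap.ker (nn s), ∀ y ∈ LinearMap.range (nn s), polar Q x y = 0 := by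
  rintro x hx _ ⟨y, rfl⟩
  rw [mem_fx] at hx
  have h := polar_iso hs x y
  rw [hx] at h
  rw [nn_apply, polar_sub_right, h, sub_self]

theorem fx_cm_compl {r : ℕ} (hr : (r : F) ≠ 0) (hsr : s ^ r = 1) :
    IsCompl (LinearMap.ker (nn s)) (LinearMap.range (nn s)) := by
  have hd : Disjoint (LinearMap.ker (nn s)) (LinearMap.range (nn s)) := by
    rw [Submodule.disjoint_def]
    rintro _ hx ⟨y, rfl⟩
    rw [mem_fx] at hx
    have h1 : ∀ k : ℕ, (s ^ k) (nn s y) = nn s y := by
      intro k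
      induction k with
      | zero => rfl
      | succ k ih =>
        rw [pow_succ]
        change (s ^ k) (s (nn s y)) = _
        rw [hx, ih]
    have h2 : ∑ k ∈ Finset.range r, (s ^ k) (nn s y) = 0 := by
      have h3 : ∀ k, (s ^ k) (nn s y) = (s ^ (k + 1)) y - (s ^ k) y := by
        intro k
        rw [nn_apply, map_sub, pow_succ]
        rfl
      rw [Finset.sum_congr rfl fun k _ => h3 k, Finset.sum_range_sub (fun k => (s ^ k) y), hsr, pow_zero, sub_self]
    rw [Finset.sum_congr rfl fun k _ => h1 k, Finset.sum_const, Finset.card_range, ← Nat.cast_smul_eq_nsmul F] at h2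
    exact (smul_eq_zero.1 h2).resolve_left hr
  refine ⟨hd, ?_⟩
  rw [codisjoint_iff]
  refine Submodule.eq_top_of_disjoint _ _ ?_ hd
  rw [add_comm, LinearMap.finrank_range_add_finrank_ker]

theorem fx_ne_bot (hQ : Nondeg Q) (h2 : (2 : F) ≠ 0) (hodd : Odd (finrank F V)) (hs : ∀ v, Q (s v) = Q v) {r : ℕ}
    (hr : r.Prime) (hsr : s ^ r = 1) (hneg : ∃ v, s v ≠ -v) : LinearMap.ker (nn s) ≠ ⊥ := by
  intro hb
  have hinj : ∀ v, s v = v → v = 0 := by
    intro v hv
    have h1 : v ∈ LinearMap.ker (nn s) := mem_fx.2 hv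
    rw [hb] at h1
    exact h1
  rcases hr.eq_two_or_odd' with hr2 | hro
  · subst hr2
    obtain ⟨v, hv⟩ := hneg
    apply hv
    have h1 : s (s v + v) = s v + v := by
      have h3 : s (s v) = v := by
        have h4 : (s ^ 2) v = v := by rw [hsr]; rfl
        rwa [pow_two] at h4
      rw [map_add, h3, add_comm]
    exact eq_neg_of_add_eq_zero_left (hinj _ h1)
  · have hinv : ∀ v w, polar Q (s.symm v) w = polar Q v (s w) := by
      intro v w
      have h1 := polar_iso hs (s.symm v) w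
      rw [LinearEquiv.apply_symm_apply] at h1
      exact h1.symm
    refine odd_skew (T := (s : V →ₗ[F] V) - (s.symm : V →ₗ[F] V)) h2 hodd (polarBilin Q) ?_ ?_ ?_ ?_
    · refine ⟨fun x hx => hQ x hx, fun x hx => hQ x fun y => ?_⟩
      rw [polar_comm]
      exact hx y
    · intro v w
      change polar Q (s v - s.symm v) w = -polar Q (s w - s.symm w) v
      rw [polar_sub_left, polar_sub_left, hinv, hinv, polar_comm Q (s w) v, polar_comm Q w (s v)]
      ring
    · intro v w
      exact polar_comm Q v w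
    · intro v hv
      have hv' : s v = s.symm v := sub_eq_zero.1 hv
      have h3 : s (s v) = v := by rw [hv', LinearEquiv.apply_symm_apply]
      have h4 : ∀ m : ℕ, (s ^ (2 * m)) v = v := by
        intro m
        induction m with
        | zero => rfl
        | succ m ih =>
          rw [Nat.mul_succ, pow_add]
          change (s ^ (2 * m)) ((s ^ 2) v) = v
          have h5 : (s ^ 2) v = v := by rw [pow_two]; exact h3
          rw [h5, ih]
      obtain ⟨m, hm⟩ := hro
      apply hinj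
      have h5 : (s ^ r) v = v := by rw [hsr]; rfl
      rw [hm, pow_succ'] at h5
      change s ((s ^ (2 * m)) v) = v at h5
      rwa [h4] at h5

end split

section core

variable {u : V ≃ₗ[F] V}

theorem nn_mem {W : Submodule F V} (hW : ∀ v ∈ W, u v ∈ W) : ∀ v ∈ W, nn u v ∈ W := fun v hv => by
  rw [nn_apply]
  exact W.sub_mem (hW v hv) hv

/-- the restriction of the polar form -/
noncomputable def pb (Q : QuadraticForm F V) (W : Submodule F V) : LinearMap.BilinForm F W :=
  LinearMap.BilinForm.restrict (polarBilin Q) W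

theorem pb_nondeg {W : Submodule F V} (h : NdOn Q W) : ∀ x : W, (∀ y, pb Q W x y = 0) → x = 0 := by
  intro x hx
  exact Subtype.ext (h x x.2 fun y hy => hx ⟨y, hy⟩)

theorem pb_sym (W : Submodule F V) (x y : W) : pb Q W x y = pb Q W y x := polar_comm Q _ _

/-- the restriction of `u - 1` -/
noncomputable def rs (u : V ≃ₗ[F] V) {W : Submodule F V} (hW : ∀ v ∈ W, u v ∈ W) : W →ₗ[F] W :=
  (nn u).restrict (nn_mem hW)

theorem rs_coe {W : Submodule F V} (hW : ∀ v ∈ W, u v ∈ W) (x : W) : ((rs u hW x : W) : V) = nn u x := rfl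

theorem rs_pow {W : Submodule F V} (hW : ∀ v ∈ W, u v ∈ W) (k : ℕ) (x : W) :
    (((rs u hW ^ k) x : W) : V) = (nn u ^ k) x := by
  induction k generalizing x with
  | zero => rfl
  | succ k ih =>
    rw [pow_succ, pow_succ, Module.End.mul_apply, Module.End.mul_apply, ih, rs_coe]

theorem nn_nil {p : ℕ} [Fact p.Prime] [CharP F p] (hup : u ^ p = 1) : nn u ^ p = 0 := by
  rcases subsingleton_or_nontrivial V with hs | hn
  · ext v
    exact Subsingleton.elim _ _
  · have : CharP (Module.End F V) p := charP_of_injective_algebraMap (FaithfulSMul.algebraMap_injective F (Module.End F V)) p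
    have h1 : nn u = (u : V →ₗ[F] V) - (1 : Module.End F V) := rfl
    have h2 : ∀ k : ℕ, (u : V →ₗ[F] V) ^ k = ((u ^ k : V ≃ₗ[F] V) : V →ₗ[F] V) := by
      intro k
      induction k with
      | zero => rfl
      | succ k ih => rw [pow_succ, pow_succ, ih]; rfl
    rw [h1, sub_pow_char_of_commute p (Commute.one_right _), h2, hup, one_pow]
    exact sub_self _

theorem rs_iso {W : Submodule F V} (hW : ∀ v ∈ W, u v ∈ W) (hu : ∀ v, Q (u v) = Q v) (x y : W) :
    pb Q W (rs u hW x) y + pb Q W x (rs u hW y) + pb Q W (rs u hW x) (rs u hW y) = 0 :=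
  nn_iso hu (x : V) (y : V)

theorem smul_pow_lin (X : V ≃ₗ[F] V) (c : F) (k : ℕ) : (c • (X : V →ₗ[F] V)) ^ k = c ^ k • ((X ^ k : V ≃ₗ[F] V) : V →ₗ[F] V) := by
  induction k with
  | zero => rw [pow_zero, pow_zero, pow_zero, one_smul]; rfl
  | succ k ih =>
    rw [pow_succ, ih, pow_succ, pow_succ]
    ext v
    change (c ^ k) • (X ^ k) (c • X v) = (c ^ k * c) • (X ^ k) (X v)
    rw [map_smul, smul_smul]

/-- **(b)** -/
theorem case_b (h2 : (2 : F) ≠ 0) (hu : ∀ v, Q (u v) = Q v) {p : ℕ} [Fact p.Prime] [CharP F p] (hup : u ^ p = 1)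
    {ι : Type*} [Finite ι] {X : ι → V ≃ₗ[F] V} {r : ι → ℕ} (hX : ∀ i v, Q (X i v) = Q v)
    (hr : ∀ i, ((r i : ℕ) : F) ≠ 0) (hpow : ∀ i, X i ^ r i = 1) (hc : ∀ i j v, X i (X j v) = X j (X i v))
    (hcu : ∀ i v, X i (u v) = u (X i v)) {W : Submodule F V} (hnd : NdOn Q W) (h4 : finrank F W ≤ 4)
    (hWu : ∀ v ∈ W, u v ∈ W) (hWX : ∀ i, ∀ v ∈ W, X i v ∈ W) {w : V} (hw : w ∈ W) (hw2 : nn u (nn u w) ≠ 0) :
    ∃ (e f b : V) (h : Hyp Q e f) (heb : polar Q e b = 0), polar Q f b = 0 ∧ Q b ≠ 0 ∧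
      (∀ i, (∀ v ∈ Submodule.span F {e, f, b}, X i v = v) ∨ ∀ v ∈ Submodule.span F {e, f, b}, X i v = -v) ∧
      ∀ v ∈ Submodule.span F {e, f, b}, u v = siegel Q e b h.left heb v := by
  classical
  have hT2 : rs u hWu ^ 2 ≠ 0 := by
    intro h0
    apply hw2
    have h1 := rs_pow hWu 2 ⟨w, hw⟩
    rw [h0, pow_two] at h1
    exact h1.symm
  have hnil : IsNilpotent (rs u hWu) := by
    refine ⟨p, LinearMap.ext fun x => Subtype.ext ?_⟩
    rw [rs_pow, nn_nil hup]
    rfl
  obtain ⟨hT3, hr1⟩ := rank_one h2 (pb_sym W) (pb_nondeg hnd) (rs_iso hWu hu) h4 hnil hT2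
  set N := nn u with hN
  have iso := nn_iso (u := u) hu
  rw [← hN] at iso
  have h3 : ∀ v ∈ W, N (N (N v)) = 0 := by
    intro v hv
    have h1 := rs_pow hWu 3 ⟨v, hv⟩
    rw [hT3] at h1
    exact h1.symm
  have hNW : ∀ v ∈ W, N v ∈ W := nn_mem hWu
  set e := N (N w) with he
  have heW : e ∈ W := hNW _ (hNW _ hw)
  -- the line
  have hline : ∀ v ∈ W, ∃ c : F, N (N v) = c • e := by
    intro v hv
    obtain ⟨z, hz0, hz⟩ := finrank_eq_one_iff'.1 hr1
    have m1 : (⟨N (N w), hNW _ (hNW _ hw)⟩ : W) ∈ LinearMap.range (rs u hWu ^ 2) := ⟨⟨w, hw⟩, Subtype.ext (rs_pow hWu 2 _)⟩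
    have m2 : (⟨N (N v), hNW _ (hNW _ hv)⟩ : W) ∈ LinearMap.range (rs u hWu ^ 2) := ⟨⟨v, hv⟩, Subtype.ext (rs_pow hWu 2 _)⟩
    obtain ⟨c1, hc1⟩ := hz ⟨_, m1⟩
    obtain ⟨c2, hc2⟩ := hz ⟨_, m2⟩
    have e1 : c1 • ((z : W) : V) = e := congrArg (fun t => ((t : LinearMap.range (rs u hWu ^ 2)) : W).1) hc1
    have e2 : c2 • ((z : W) : V) = N (N v) := congrArg (fun t => ((t : LinearMap.range (rs u hWu ^ 2)) : W).1) hc2
    have hc10 : c1 ≠ 0 := by
      rintro rfl
      rw [zero_smul] at e1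
      exact hw2 e1.symm
    refine ⟨c2 * c1⁻¹, ?_⟩
    rw [← e1, ← e2, smul_smul, mul_assoc, inv_mul_cancel₀ hc10, mul_one]
  -- the symmetric form `B (N² x, y)`
  have hsymN : ∀ x ∈ W, ∀ y ∈ W, polar Q (N (N x)) y = polar Q x (N (N y)) := by
    have b22 : ∀ x ∈ W, ∀ y ∈ W, polar Q (N (N x)) (N (N y)) = 0 := by
      intro x hx y hy
      have h := iso (N (N x)) (N y)
      rw [h3 x hx, polar_zero_left, polar_zero_left, zero_add, add_zero] at h
      exact h
    have b21 : ∀ x ∈ W, ∀ y ∈ W, polar Q (N (N x)) (N y) = 0 := by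
      intro x hx y hy
      have h := iso (N (N x)) y
      rw [h3 x hx, polar_zero_left, polar_zero_left, zero_add, add_zero] at h
      exact h
    have b12 : ∀ x ∈ W, ∀ y ∈ W, polar Q (N x) (N (N y)) = 0 := by
      intro x hx y hy
      rw [polar_comm]
      exact b21 y hy x hx
    intro x hx y hy
    have h1 := iso (N x) y
    rw [b21 x hx y hy, add_zero] at h1
    have h4 := iso x (N y)
    rw [b12 x hx y hy, add_zero] at h4
    linear_combination h1 - h4
  have hβ : ∀ a ∈ W, N (N a) = e → polar Q e a ≠ 0 := by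
    intro a ha hae h0
    apply hw2
    refine hnd e heW fun y hy => ?_
    rw [← hae, hsymN a ha y hy]
    obtain ⟨c, hc⟩ := hline y hy
    rw [hc, polar_smul_right, polar_comm, h0, smul_zero]
  have hXN : ∀ i v, X i (N v) = N (X i v) := by
    intro i v
    rw [hN, nn_apply, nn_apply, map_sub, hcu]
  have hl : ∀ i, ∃ c : F, X i e = c • e := by
    intro i
    obtain ⟨c, hc'⟩ := hline (X i w) (hWX i w hw)
    refine ⟨c, ?_⟩
    rw [← hc', ← hXN, ← hXN]
  choose lam hlam using hl
  have hlam2 : ∀ i, lam i * lam i = 1 := by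
    intro i
    have h1 := polar_iso (hX i) e w
    rw [hlam, polar_smul_left, he, hsymN w hw (X i w) (hWX i w hw), ← hXN, ← hXN, ← he, hlam, polar_smul_right,
      polar_comm Q w e, smul_eq_mul, smul_eq_mul, ← mul_assoc] at h1
    have h5 := hβ w hw he.symm
    have h6 : (lam i * lam i - 1) * polar Q e w = 0 := by linear_combination h1
    exact sub_eq_zero.1 ((mul_eq_zero.1 h6).resolve_right h5)
  have hlamr : ∀ i, lam i ^ r i = 1 := by
    intro i
    have h1 : ∀ k : ℕ, (X i ^ k) e = lam i ^ k • e := by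
      intro k
      induction k with
      | zero => rw [pow_zero, pow_zero, one_smul]; rfl
      | succ k ih =>
        rw [pow_succ, pow_succ]
        change (X i ^ k) (X i e) = _
        rw [hlam, map_smul, ih, smul_smul, mul_comm]
    have h5 := h1 (r i)
    rw [hpow] at h5
    have h6 : (lam i ^ r i - 1) • e = 0 := by
      rw [sub_smul, one_smul, ← h5]
      exact sub_self _
    exact sub_eq_zero.1 ((smul_eq_zero.1 h6).resolve_right hw2)
  have key : ∀ S : Finset ι, ∃ a ∈ W, N (N a) = e ∧ ∀ i ∈ S, X i a = lam i • a := by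
    intro S
    induction S using Finset.induction_on with
    | empty => exact ⟨w, hw, rfl, fun i hi => absurd hi (Finset.notMem_empty i)⟩
    | insert i S hi ih =>
      obtain ⟨a, haW, hae, ha⟩ := ih
      obtain ⟨a', ha'W, hae', hY, hZ⟩ := avg_step (Y := lam i • (X i : V →ₗ[F] V)) (N := N) (hr i)
        (by rw [smul_pow_lin, hlamr, hpow, one_smul]; rfl)
        (fun v => by
          change lam i • X i (N v) = N (lam i • X i v)
          rw [hXN, map_smul])
        (e := e) (a := a)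
        (by
          change lam i • X i e = e
          rw [hlam, smul_smul, hlam2, one_smul]) hae
        (W := W) (fun v hv => W.smul_mem _ (hWX i v hv)) haW
      refine ⟨a', ha'W, hae', fun j hj => ?_⟩
      rcases Finset.mem_insert.1 hj with rfl | hj
      · have h5 : lam j • X j a' = a' := hY
        have h6 := congrArg (fun t => lam j • t) h5
        rw [smul_smul, hlam2, one_smul] at h6
        exact h6
      · exact hZ (X j : V →ₗ[F] V) (lam j) (fun v => by
          change X j (lam i • X i v) = lam i • X i (X j v)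
          rw [map_smul, hc]) (ha j hj)
  cases nonempty_fintype ι
  obtain ⟨a, haW, hae, ha⟩ := key Finset.univ
  refine three_of_vec h2 hu (a := a) (h3 a haW) (by rw [← hN, hae]; exact hβ a haW hae) hcu fun i => ?_
  rcases mul_self_eq_one_iff.1 (hlam2 i) with h5 | h5
  · left
    rw [ha i (Finset.mem_univ i), h5, one_smul]
  · right
    rw [ha i (Finset.mem_univ i), h5, neg_smul, one_smul]

/-- **(c)** -/
theorem case_c (hQ : Nondeg Q) (h2 : (2 : F) ≠ 0) (hu : ∀ v, Q (u v) = Q v) (hu1 : ∃ v, nn u v ≠ 0)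
    (hN2 : ∀ v, nn u (nn u v) = 0) (hrk : finrank F (LinearMap.range (nn u)) ≤ 2)
    {ι : Type*} {X : ι → V ≃ₗ[F] V} (hcu : ∀ i v, X i (u v) = u (X i v)) :
    ∃ (e w : V) (he : Q e = 0) (hw : Q w = 0) (hew : polar Q e w = 0), e ≠ 0 ∧ (∀ a : F, w ≠ a • e) ∧
      u = siegel Q e w he hew ∧ ∀ i, ∀ v ∈ Submodule.span F {e, w}, X i v ∈ Submodule.span F {e, w} := by
  have iso := nn_iso (u := u) hu
  set N := nn u with hN
  have b11 : ∀ x y, polar Q (N x) (N y) = 0 := by
    intro x y
    have h := iso x (N y)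
    rw [hN2, polar_zero_right, polar_zero_right, add_zero, add_zero] at h
    exact h
  have hsk : ∀ x y, polar Q (N x) y = -polar Q (N y) x := by
    intro x y
    have h := iso x y
    rw [b11, polar_comm Q x (N y)] at h
    linear_combination h
  have halt : ∀ x, polar Q (N x) x = 0 := by
    intro x
    have h := hsk x x
    have h5 : 2 * polar Q (N x) x = 0 := by linear_combination h
    exact (mul_eq_zero.1 h5).resolve_left h2
  have hQN : ∀ x, Q (N x) = 0 := by
    intro x
    have h := two_mul_Q (Q := Q) (N x)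
    rw [b11] at h
    exact (mul_eq_zero.1 h.symm).resolve_left h2
  obtain ⟨a, ha⟩ := hu1
  obtain ⟨b0, hb0⟩ := hQ.exists_polar_ne ha
  set b := (polar Q (N a) b0)⁻¹ • b0 with hb
  have hab : polar Q (N a) b = 1 := by
    rw [hb, polar_smul_right, smul_eq_mul, inv_mul_cancel₀ hb0]
  have hba : polar Q (N b) a = -1 := by rw [hsk, hab]
  have hli : LinearIndependent F ![N a, N b] := by
    rw [LinearIndependent.pair_iff]
    intro c d hcd
    have h5 : polar Q (c • N a + d • N b) b = 0 := by rw [hcd, polar_zero_left]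
    rw [polar_add_left, polar_smul_left, polar_smul_left, hab, halt, smul_zero, add_zero, smul_eq_mul, mul_one] at h5
    have h6 : polar Q (c • N a + d • N b) a = 0 := by rw [hcd, polar_zero_left]
    rw [polar_add_left, polar_smul_left, polar_smul_left, hba, halt, smul_zero, zero_add, smul_eq_mul] at h6
    exact ⟨h5, by linear_combination -h6⟩
  have hle : Submodule.span F {N a, N b} ≤ LinearMap.range N := by
    rw [Submodule.span_le]
    rintro _ (rfl | rfl)
    · exact ⟨a, rfl⟩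
    · exact ⟨b, rfl⟩
  have hrange : Submodule.span F {N a, N b} = LinearMap.range N := by
    apply Submodule.eq_of_le_of_finrank_le hle
    have h5 := finrank_span_eq_card hli
    rw [Matrix.range_cons_cons_empty] at h5
    rw [h5]
    exact hrk
  have hform : ∀ v, N v = polar Q (N a) v • N b - polar Q (N b) v • N a := by
    intro v
    have h5 : N v ∈ Submodule.span F {N a, N b} := by
      rw [hrange]
      exact ⟨v, rfl⟩
    obtain ⟨c, d, hcd⟩ := Submodule.mem_span_pair.1 h5
    have h6 := hsk v b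
    rw [← hcd, polar_add_left, polar_smul_left, polar_smul_left, hab, halt, smul_zero, add_zero, smul_eq_mul,
      mul_one] at h6
    have h7 := hsk v a
    rw [← hcd, polar_add_left, polar_smul_left, polar_smul_left, hba, halt, smul_zero, zero_add, smul_eq_mul] at h7
    have h8 : d = polar Q (N a) v := by linear_combination -h7
    rw [← hcd, h6, ← h8]
    module
  refine ⟨N a, N b, hQN a, hQN b, b11 a b, ha, ?_, ?_, ?_⟩
  · intro c hc
    have h5 := halt b
    rw [hc, polar_smul_left, hab, smul_eq_mul, mul_one] at h5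
    rw [h5, zero_smul] at hc
    rw [hc, polar_zero_left] at hba
    exact neg_ne_zero.2 one_ne_zero hba.symm
  · ext v
    rw [siegel_apply, hQN b, zero_mul, zero_smul, sub_zero]
    have h5 : u v = v + N v := by rw [hN, nn_apply]; abel
    rw [h5, hform v]
    abel
  · intro i v hv
    rw [hrange] at hv ⊢
    obtain ⟨x, rfl⟩ := hv
    refine ⟨X i x, ?_⟩
    rw [hN, nn_apply, nn_apply, map_sub, hcu]

end core

/-- the restriction to one of the two pieces -/
theorem piece (hQ : Nondeg Q) (h2 : (2 : F) ≠ 0) {u : V ≃ₗ[F] V} (hu : ∀ v, Q (u v) = Q v) {p : ℕ}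
    {W W' : Submodule F V} (hc : IsCompl W W') (ho : ∀ x ∈ W, ∀ y ∈ W', polar Q x y = 0)
    (h4 : finrank F W ≤ 4) (hWu : ∀ v ∈ W, u v ∈ W) (hN2 : ∀ v ∈ W, nn u (nn u v) = 0) (hne : ∃ v ∈ W, nn u v ≠ 0) :
    finrank F W = 4 ∧ finrank F (LinearMap.range (rs u hWu)) = 2 := by
  have hnd : NdOn Q W := NdOn.of_compl hQ hc.codisjoint ho
  refine rank_two h2 (pb_sym W) (pb_nondeg hnd) (rs_iso hWu hu) h4 (fun x => Subtype.ext (hN2 x x.2)) ?_
  obtain ⟨v, hv, hv0⟩ := hne
  intro h0
  apply hv0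
  have h5 := rs_coe hWu ⟨v, hv⟩
  rw [h0] at h5
  exact h5.symm

/-- **BOX F5** -/
theorem box_uni [Finite F] (hG : Good Q) {p : ℕ} [CharP F p] (hp2 : p ≠ 2)
    (h7 : 7 ≤ Module.finrank F V) (hodd : Odd (Module.finrank F V))
    (u : V ≃ₗ[F] V) (hu : u ∈ O Q) (hup : u ^ p = 1) (hu1 : u ≠ 1)
    {ι : Type*} [Finite ι] [Nonempty ι] (X : ι → V ≃ₗ[F] V) (r : ι → ℕ)
    (hO : ∀ i, X i ∈ O Q) (hr : ∀ i, (r i).Prime) (hrp : ∀ i, r i ≠ p) (hpow : ∀ i, X i ^ r i = 1)
    (hc : ∀ i j, X i * X j = X j * X i) (hcu : ∀ i, X i * u = u * X i)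
    (hns : ∀ i, X i ≠ 1 ∧ ∃ v, X i v ≠ -v) :
    (∃ W : Submodule F V, Good (Q.comp W.subtype) ∧ W ≠ ⊤ ∧ (∀ i, ∀ v ∈ W, X i v ∈ W) ∧
      (∀ v ∈ W, u v ∈ W) ∧ ∃ v ∈ W, u v ≠ v) ∨
    (∃ (e f b : V) (h : Hyp Q e f) (heb : polar Q e b = 0), polar Q f b = 0 ∧ Q b ≠ 0 ∧
      (∀ i, (∀ v ∈ Submodule.span F {e, f, b}, X i v = v) ∨
        ∀ v ∈ Submodule.span F {e, f, b}, X i v = -v) ∧
      ∀ v ∈ Submodule.span F {e, f, b}, u v = siegel Q e b h.left heb v) ∨
    (∃ (e w : V) (he : Q e = 0) (hw : Q w = 0) (hew : polar Q e w = 0), e ≠ 0 ∧ (∀ a : F, w ≠ a • e) ∧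
      u = siegel Q e w he hew ∧ ∀ i, ∀ v ∈ Submodule.span F {e, w}, X i v ∈ Submodule.span F {e, w}) := by
  have hpp : p.Prime := CharP.char_is_prime F p
  haveI : Fact p.Prime := ⟨hpp⟩
  have hQ : Nondeg Q := hG.nondeg
  have h2 : (2 : F) ≠ 0 := by
    intro h0
    have h1 : ((2 : ℕ) : F) = 0 := by exact_mod_cast h0
    rw [CharP.cast_eq_zero_iff F p] at h1
    exact hp2 ((Nat.prime_dvd_prime_iff_eq hpp Nat.prime_two).1 h1)
  have hrF : ∀ i, ((r i : ℕ) : F) ≠ 0 := by
    intro i h0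
    rw [CharP.cast_eq_zero_iff F p] at h0
    exact hrp i ((Nat.prime_dvd_prime_iff_eq hpp (hr i)).1 h0).symm
  have hcv : ∀ i j v, X i (X j v) = X j (X i v) := fun i j v => LinearEquiv.congr_fun (hc i j) v
  have hcuv : ∀ i v, X i (u v) = u (X i v) := fun i v => LinearEquiv.congr_fun (hcu i) v
  obtain ⟨i₁⟩ := ‹Nonempty ι›
  set s := X i₁ with hs
  have hcompl := fx_cm_compl (hrF i₁) (hpow i₁)
  have hperp := fx_cm_perp (Q := Q) (hO i₁)
  have hbot := fx_ne_bot hQ h2 hodd (hO i₁) (hr i₁) (hpow i₁) (hns i₁).2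
  have hbot' : LinearMap.range (nn s) ≠ ⊥ := by
    intro h0
    apply (hns i₁).1
    ext v
    have h1 : nn s v = 0 := by
      rw [LinearMap.range_eq_bot] at h0
      rw [h0]; rfl
    rw [nn_apply] at h1
    exact sub_eq_zero.1 h1
  -- both pieces, as a family
  have inv1 : ∀ g : V ≃ₗ[F] V, (∀ v, g (s v) = s (g v)) → ∀ v ∈ LinearMap.ker (nn s), g v ∈ LinearMap.ker (nn s) := by
    intro g hg v hv
    rw [mem_fx] at hv ⊢
    rw [← hg, hv]
  have inv2 : ∀ g : V ≃ₗ[F] V, (∀ v, g (s v) = s (g v)) →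
      ∀ v ∈ LinearMap.range (nn s), g v ∈ LinearMap.range (nn s) := by
    rintro g hg _ ⟨v, rfl⟩
    refine ⟨g v, ?_⟩
    rw [nn_apply, nn_apply, map_sub, hg]
  -- the main statement for a pair of complementary pieces
  have main : ∀ W W' : Submodule F V, IsCompl W W' → (∀ x ∈ W, ∀ y ∈ W', polar Q x y = 0) → W ≠ ⊥ → W' ≠ ⊥ →
      (∀ i, ∀ v ∈ W, X i v ∈ W) → (∀ v ∈ W, u v ∈ W) → (∃ v ∈ W, nn u v ≠ 0) →
      (∃ W : Submodule F V, Good (Q.comp W.subtype) ∧ W ≠ ⊤ ∧ (∀ i, ∀ v ∈ W, X i v ∈ W) ∧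
        (∀ v ∈ W, u v ∈ W) ∧ ∃ v ∈ W, u v ≠ v) ∨
      (∃ (e f b : V) (h : Hyp Q e f) (heb : polar Q e b = 0), polar Q f b = 0 ∧ Q b ≠ 0 ∧
        (∀ i, (∀ v ∈ Submodule.span F {e, f, b}, X i v = v) ∨
          ∀ v ∈ Submodule.span F {e, f, b}, X i v = -v) ∧
        ∀ v ∈ Submodule.span F {e, f, b}, u v = siegel Q e b h.left heb v) ∨
      (finrank F W = 4 ∧ (∀ v ∈ W, nn u (nn u v) = 0) ∧
        finrank F (W.map (nn u)) = 2) := by
    intro W W' hcW ho hb hb' hWX hWu hne
    have hnd : NdOn Q W := NdOn.of_compl hQ hcW.codisjoint ho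
    by_cases h5 : 5 ≤ finrank F W
    · left
      refine ⟨W, Cfsg.Agent.LieClassical.OrthFinite.good_of_finite hnd.nondeg h5, ?_, hWX, hWu, ?_⟩
      · rintro rfl
        apply hb'
        have := hcW.disjoint
        rwa [top_disjoint] at this
      · obtain ⟨v, hv, hv0⟩ := hne
        refine ⟨v, hv, fun h => hv0 ?_⟩
        rw [nn_apply, h, sub_self]
    · right
      have h4 : finrank F W ≤ 4 := by omega
      by_cases hN2 : ∀ v ∈ W, nn u (nn u v) = 0
      · right
        obtain ⟨e1, e2⟩ := piece (p := p) hQ h2 hu hcW ho h4 hWu hN2 hne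
        refine ⟨e1, hN2, ?_⟩
        rw [← e2]
        have h6 : W.map (nn u) = (LinearMap.range (rs u hWu)).map W.subtype := by
          ext v
          constructor
          · rintro ⟨w, hw, rfl⟩
            exact ⟨rs u hWu ⟨w, hw⟩, ⟨⟨w, hw⟩, rfl⟩, rfl⟩
          · rintro ⟨_, ⟨w, rfl⟩, rfl⟩
            exact ⟨w, w.2, rfl⟩
        rw [h6]
        exact Submodule.finrank_map_subtype_eq W _
      · left
        push Not at hN2
        obtain ⟨w, hw, hw2⟩ := hN2
        exact case_b h2 hu hup hO hrF hpow hcv hcuv hnd h4 hWu hWX hw hw2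
  have hsum := Submodule.finrank_add_eq_of_isCompl hcompl
  -- a piece carrying `u`
  have fin : ∀ W W' : Submodule F V, IsCompl W W' → (∀ v ∈ W', nn u v = 0) → (∀ v ∈ W, nn u (nn u v) = 0) →
      finrank F (W.map (nn u)) = 2 → 
      (∃ (e w : V) (he : Q e = 0) (hw : Q w = 0) (hew : polar Q e w = 0), e ≠ 0 ∧ (∀ a : F, w ≠ a • e) ∧
        u = siegel Q e w he hew ∧ ∀ i, ∀ v ∈ Submodule.span F {e, w}, X i v ∈ Submodule.span F {e, w}) := by
    intro W W' hcW h0 hN2 hrk
    have hdec : ∀ v : V, ∃ a ∈ W, nn u v = nn u a := by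
      intro v
      have hv : v ∈ W ⊔ W' := by rw [hcW.sup_eq_top]; trivial
      obtain ⟨a, ha, b, hb, rfl⟩ := Submodule.mem_sup.1 hv
      exact ⟨a, ha, by rw [map_add, h0 b hb, add_zero]⟩
    refine case_c hQ h2 hu ?_ ?_ ?_ hcuv
    · by_contra hcon
      push Not at hcon
      apply hu1
      ext v
      have h1 := hcon v
      rw [nn_apply] at h1
      exact sub_eq_zero.1 h1
    · intro v
      obtain ⟨a, ha, hva⟩ := hdec v
      rw [hva, hN2 a ha]
    · have h1 : LinearMap.range (nn u) = W.map (nn u) := by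
        ext v
        constructor
        · rintro ⟨w, rfl⟩
          obtain ⟨a, ha, hwa⟩ := hdec w
          exact ⟨a, ha, hwa.symm⟩
        · rintro ⟨w, -, rfl⟩
          exact ⟨w, rfl⟩
      rw [h1, hrk]
  have hperp' : ∀ x ∈ LinearMap.range (nn s), ∀ y ∈ LinearMap.ker (nn s), polar Q x y = 0 := fun x hx y hy => by
    rw [polar_comm]
    exact hperp y hy x hx
  by_cases c1 : ∃ v ∈ LinearMap.ker (nn s), nn u v ≠ 0
  · rcases main _ _ hcompl hperp hbot hbot' (fun i => inv1 _ (hcv i i₁)) (inv1 u fun v => (hcuv i₁ v).symm) c1 with h | h | ⟨h, hN, hrk⟩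
    · exact Or.inl h
    · exact Or.inr (Or.inl h)
    · by_cases c2 : ∃ v ∈ LinearMap.range (nn s), nn u v ≠ 0
      · rcases main _ _ hcompl.symm hperp' hbot' hbot (fun i => inv2 _ (hcv i i₁)) (inv2 u fun v => (hcuv i₁ v).symm) c2 with h' | h' | ⟨h', hN', hrk'⟩
        · exact Or.inl h'
        · exact Or.inr (Or.inl h')
        · exfalso
          rw [← hsum, h, h'] at hodd
          exact absurd hodd (by decide)
      · push Not at c2
        exact Or.inr (Or.inr (fin _ _ hcompl c2 hN hrk))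
  · push Not at c1
    have c2 : ∃ v ∈ LinearMap.range (nn s), nn u v ≠ 0 := by
      by_contra hcon
      push Not at hcon
      apply hu1
      ext v
      have hv : v ∈ LinearMap.ker (nn s) ⊔ LinearMap.range (nn s) := by rw [hcompl.sup_eq_top]; trivial
      obtain ⟨a, ha, b, hb, rfl⟩ := Submodule.mem_sup.1 hv
      have h1 : nn u (a + b) = 0 := by rw [map_add, c1 a ha, hcon b hb, add_zero]
      rw [nn_apply] at h1
      exact sub_eq_zero.1 h1
    rcases main _ _ hcompl.symm hperp' hbot' hbot (fun i => inv2 _ (hcv i i₁)) (inv2 u fun v => (hcuv i₁ v).symm) c2 with h' | h' | ⟨h', hN', hrk'⟩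
    · exact Or.inl h'
    · exact Or.inr (Or.inl h')
    · exact Or.inr (Or.inr (fin _ _ hcompl.symm c1 hN' hrk'))

end Cfsg.Agent.H205.RC
end
end

-- part: H138/RC/Two
section
prune_inst 0x357071257f401200401c001662001cf3fb0001000048880020a50f060f894c62ad42a061baa0041b488281c440310040001000300040000004240400011d018000c096042140a11902008e00000c010000100000000000000000000000000000010000000
set_option linter.all false
open scoped Cfsg.Agent.FastGrp

-- part: H138/RC/Piece
section
/-!
# S3510, row F: nondegenerate invariant subspaces of a commuting family of isometries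
-/

set_option autoImplicit false
set_option linter.unusedSectionVars false

namespace Cfsg.Agent.H138.RC

open Cfsg QuadraticMap Module
open Cfsg.Agent.LieClassical.OrthCore Cfsg.Agent.LieClassical.OrthTrans Cfsg.Agent.H205.RC

variable {F V : Type*} [Field F] [AddCommGroup V] [Module F V] {Q : QuadraticForm F V}

/-- the orthogonal subspace -/
def prp (Q : QuadraticForm F V) (W : Submodule F V) : Submodule F V where
  carrier := {v | ∀ w ∈ W, polar Q w v = 0}
  add_mem' := by
    intro a b ha hb w hw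
    rw [polar_add_right, ha w hw, hb w hw, add_zero]
  zero_mem' := by
    intro w _
    exact polar_zero_right _ _
  smul_mem' := by
    intro c a ha w hw
    rw [polar_smul_right, ha w hw, smul_zero]

theorem mem_prp {W : Submodule F V} {v : V} : v ∈ prp Q W ↔ ∀ w ∈ W, polar Q w v = 0 := Iff.rfl

theorem mem_prp' {W : Submodule F V} {v : V} : v ∈ prp Q W ↔ ∀ w ∈ W, polar Q v w = 0 := by
  rw [mem_prp]
  exact forall₂_congr fun w _ => by rw [polar_comm]

/-- a nondegenerate invariant subspace -/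
structure Pc {ι : Type*} (Q : QuadraticForm F V) (T : ι → V ≃ₗ[F] V) (W : Submodule F V) : Prop where
  nd : NdOn Q W
  inv : ∀ i, ∀ v ∈ W, T i v ∈ W

/-- `u` is not trivial on `W` -/
def Mv (u : V ≃ₗ[F] V) (W : Submodule F V) : Prop := ∃ v ∈ W, u v ≠ v

theorem not_Mv {u : V ≃ₗ[F] V} {W : Submodule F V} (h : ¬ Mv u W) : ∀ v ∈ W, u v = v := by
  intro v hv
  by_contra h0
  exact h ⟨v, hv, h0⟩

theorem Mv.sup {u : V ≃ₗ[F] V} {W W' : Submodule F V} (h : Mv u (W ⊔ W')) : Mv u W ∨ Mv u W' := by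
  by_contra hcon
  rw [not_or] at hcon
  obtain ⟨v, hv, h0⟩ := h
  obtain ⟨a, ha, b, hb, rfl⟩ := Submodule.mem_sup.1 hv
  apply h0
  rw [map_add, not_Mv hcon.1 a ha, not_Mv hcon.2 b hb]

section fin

variable [FiniteDimensional F V]

theorem NdOn.even (h2 : (2 : F) = 0) {W : Submodule F V} (h : NdOn Q W) : Even (finrank F W) := by
  have hA : LinearMap.BilinForm.IsAlt (polarBilin (Q.comp W.subtype)) := by
    intro v
    show polar (Q.comp W.subtype) v v = 0
    rw [polar_self', h2, zero_mul]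
  obtain ⟨m, k, b, -, -, -, hk⟩ := Cfsg.Agent.S0752.result (polarBilin (Q.comp W.subtype)) hA
  have hk0 : k = 0 := by
    by_contra hne
    exact b.ne_zero (Sum.inr (⟨0, by omega⟩ : Fin k)) (h.nondeg _ fun v => hk _ v)
  subst hk0
  rw [Module.finrank_eq_card_basis b]
  simp only [_root_.Fintype.card_sum, _root_.Fintype.card_fin, _root_.Fintype.card_eq_zero, _root_.add_zero, _root_.Even.add_self]

variable {ι : Type*} {T : ι → V ≃ₗ[F] V}

theorem Pc.sup {A B : Submodule F V} (hA : Pc Q T A) (hB : Pc Q T B) (hAB : B ≤ Cfsg.Agent.H138.RC.prp Q A) :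
    Pc Q T (A ⊔ B) := by
  refine ⟨?_, fun i v hv => ?_⟩
  · intro x hx h
    obtain ⟨a, ha, b, hb, rfl⟩ := Submodule.mem_sup.1 hx
    have h1 : a = 0 := by
      apply hA.nd a ha
      intro y hy
      have h2 := h y (Submodule.mem_sup_left hy)
      rwa [polar_add_left, mem_prp'.1 (hAB hb) y hy, add_zero] at h2
    have h3 : b = 0 := by
      apply hB.nd b hb
      intro y hy
      have h2 := h y (Submodule.mem_sup_right hy)
      rwa [h1, zero_add] at h2
    rw [h1, h3, add_zero]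
  · obtain ⟨a, ha, b, hb, rfl⟩ := Submodule.mem_sup.1 hv
    rw [map_add]
    exact Submodule.add_mem_sup (hA.inv i a ha) (hB.inv i b hb)

/-! ### splitting by an element of order prime to `p` -/

section fix

variable {s : V ≃ₗ[F] V} {r : ℕ}

/-- the fixed part -/
def fxp (s : V ≃ₗ[F] V) (A : Submodule F V) : Submodule F V := A ⊓ LinearMap.ker (nn s)

/-- the commutator part -/
def cmp (s : V ≃ₗ[F] V) (A : Submodule F V) : Submodule F V := A ⊓ LinearMap.range (nn s)

theorem fxp_sup_cmp (hr : (r : F) ≠ 0) (hsr : s ^ r = 1) {A : Submodule F V} (hA : ∀ v ∈ A, s v ∈ A) :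
    fxp s A ⊔ cmp s A = A := by
  apply le_antisymm (sup_le inf_le_left inf_le_left)
  intro v hv
  have hc := fx_cm_compl hr hsr
  have h1 : v ∈ LinearMap.ker (nn s) ⊔ LinearMap.range (nn s) := by rw [hc.sup_eq_top]; trivial
  obtain ⟨k, hk, m, hm, hkm⟩ := Submodule.mem_sup.1 h1
  have hkA : k ∈ A := by
    have h2 : ∀ i : ℕ, (s ^ i) v ∈ A := by
      intro i
      induction i with
      | zero => exact hv
      | succ i ih => rw [pow_succ']; exact hA _ ih
    have h3 : ∀ i : ℕ, (s ^ i) k = k := by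
      intro i
      induction i with
      | zero => rfl
      | succ i ih =>
        rw [pow_succ']
        change s ((s ^ i) k) = k
        rw [ih]
        exact mem_fx.1 hk
    obtain ⟨y, rfl⟩ := hm
    have h4 : ∑ i ∈ Finset.range r, (s ^ i) (nn s y) = 0 := by
      have h5 : ∀ i, (s ^ i) (nn s y) = (s ^ (i + 1)) y - (s ^ i) y := by
        intro i
        rw [nn_apply, map_sub, pow_succ]
        rfl
      rw [Finset.sum_congr rfl fun i _ => h5 i, Finset.sum_range_sub (fun i => (s ^ i) y), hsr, pow_zero, sub_self]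
    have h5 : ∑ i ∈ Finset.range r, (s ^ i) v = (r : F) • k := by
      rw [← hkm]
      simp only [map_add]
      rw [Finset.sum_add_distrib, h4, add_zero, Finset.sum_congr rfl fun i _ => h3 i, Finset.sum_const,
        Finset.card_range, Nat.cast_smul_eq_nsmul]
    have h6 : (r : F) • k ∈ A := by
      rw [← h5]
      exact A.sum_mem fun i _ => h2 i
    have h7 := A.smul_mem (r : F)⁻¹ h6
    rwa [smul_smul, inv_mul_cancel₀ hr, one_smul] at h7
  rw [← hkm]
  refine Submodule.add_mem_sup ⟨hkA, hk⟩ ⟨?_, hm⟩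
  have : m = v - k := by rw [← hkm]; abel
  rw [this]
  exact A.sub_mem hv hkA

theorem fxp_cmp_orth (hs : ∀ v, Q (s v) = Q v) {A : Submodule F V} :
    ∀ x ∈ fxp s A, ∀ y ∈ cmp s A, polar Q x y = 0 := fun x hx y hy => fx_cm_perp hs x hx.2 y hy.2

theorem fxp_inf_cmp (hr : (r : F) ≠ 0) (hsr : s ^ r = 1) {A : Submodule F V} : fxp s A ⊓ cmp s A = ⊥ := by
  have hc := fx_cm_compl hr hsr
  rw [eq_bot_iff]
  rintro x ⟨hx, hx'⟩
  exact Submodule.disjoint_def.1 hc.disjoint x hx.2 hx'.2 ▸ Submodule.zero_mem _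

theorem finrank_fxp_cmp (hr : (r : F) ≠ 0) (hsr : s ^ r = 1) {A : Submodule F V} (hA : ∀ v ∈ A, s v ∈ A) :
    finrank F (fxp s A) + finrank F (cmp s A) = finrank F A := by
  have h1 := Submodule.finrank_sup_add_finrank_inf_eq (fxp s A) (cmp s A)
  rw [fxp_sup_cmp hr hsr hA, fxp_inf_cmp hr hsr, finrank_bot] at h1
  omega

theorem Pc.fxp (j : ι) (hO : ∀ i v, Q (T i v) = Q v) (hc : ∀ i j v, T i (T j v) = T j (T i v)) (hr : (r : F) ≠ 0)
    (hjr : T j ^ r = 1) {A : Submodule F V} (hA : Pc Q T A) : Pc Q T (fxp (T j) A) := by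
  refine ⟨?_, fun i v hv => ⟨hA.inv i v hv.1, ?_⟩⟩
  · intro x hx h
    apply hA.nd x hx.1
    intro y hy
    rw [← fxp_sup_cmp hr hjr (hA.inv j)] at hy
    obtain ⟨a, ha, b, hb, rfl⟩ := Submodule.mem_sup.1 hy
    rw [polar_add_right, h a ha, fxp_cmp_orth (hO j) x hx b hb, add_zero]
  · show T i v ∈ LinearMap.ker (nn (T j))
    rw [mem_fx, hc, mem_fx.1 hv.2]

theorem Pc.cmp (j : ι) (hO : ∀ i v, Q (T i v) = Q v) (hc : ∀ i j v, T i (T j v) = T j (T i v)) (hr : (r : F) ≠ 0)
    (hjr : T j ^ r = 1) {A : Submodule F V} (hA : Pc Q T A) : Pc Q T (cmp (T j) A) := by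
  refine ⟨?_, fun i v hv => ⟨hA.inv i v hv.1, ?_⟩⟩
  · intro x hx h
    apply hA.nd x hx.1
    intro y hy
    rw [← fxp_sup_cmp hr hjr (hA.inv j)] at hy
    obtain ⟨a, ha, b, hb, rfl⟩ := Submodule.mem_sup.1 hy
    rw [polar_add_right, h b hb, polar_comm, fxp_cmp_orth (hO j) a ha x hx, zero_add]
  · obtain ⟨y, hy⟩ := hv.2
    refine ⟨T i y, ?_⟩
    rw [nn_apply] at hy ⊢
    rw [← hy, map_sub, hc i j]

end fix

end fin

end Cfsg.Agent.H138.RC
end

-- part: H138/RC/Two
section
/-!
# S3510, row F, box E7: two lemmas over `F_2`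
-/

set_option autoImplicit false
set_option linter.unusedSectionVars false

namespace Cfsg.Agent.H138.RC

open Cfsg QuadraticMap Module
open Cfsg.Agent.LieClassical.OrthCore Cfsg.Agent.LieClassical.OrthTrans Cfsg.Agent.H205.RC

variable {F V : Type*} [Field F] [AddCommGroup V] [Module F V] {Q : QuadraticForm F V}

theorem iter_pow (T : V ≃ₗ[F] V) (n : ℕ) (v : V) : (⇑T)^[n] v = (T ^ n) v := by
  induction n generalizing v with
  | zero => rfl
  | succ n ih => rw [Function.iterate_succ_apply, ih, pow_succ]; rfl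

theorem fix_of_coprime {T : V ≃ₗ[F] V} {m n : ℕ} (h : Nat.Coprime m n) {v : V} (hm : (T ^ m) v = v)
    (hn : (T ^ n) v = v) : T v = v := by
  have h1 : Function.IsPeriodicPt T m v := by
    show (⇑T)^[m] v = v
    rw [iter_pow, hm]
  have h2 : Function.IsPeriodicPt T n v := by
    show (⇑T)^[n] v = v
    rw [iter_pow, hn]
  have h3 := h1.gcd h2
  rw [h] at h3
  exact h3

section fin

variable [Finite F] [FiniteDimensional F V]

/-- **Z1** fixed-point-free of prime order -/
theorem fpf_dvd (hF : Nat.card F = 2) {D : Submodule F V} {T : V ≃ₗ[F] V} (hTD : ∀ v ∈ D, T v ∈ D)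
    (hf : ∀ v ∈ D, T v = v → v = 0) {r : ℕ} (hr : r.Prime) (hTr : T ^ r = 1) :
    r ∣ 2 ^ (Module.finrank F D) - 1 := by
  have := Fact.mk hr
  have hpow : ∀ (n : ℕ) (v : V), v ∈ D → (T ^ n) v ∈ D := by
    intro n
    induction n with
    | zero => intro v hv; exact hv
    | succ n ih => intro v hv; rw [pow_succ]; exact ih _ (hTD v hv)
  have : Finite V := Module.finite_of_finite F
  -- the action of `ZMod r`
  let G := Subgroup.zpowers T
  let act : MulAction (Subgroup.zpowers T) D :=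
    { smul := fun g v => ⟨(g : V ≃ₗ[F] V) v, by
        obtain ⟨g, hg⟩ := g
        obtain ⟨n, rfl⟩ : ∃ n : ℕ, T ^ n = g := by
          have hfin : IsOfFinOrder T := isOfFinOrder_iff_pow_eq_one.2 ⟨r, hr.pos, hTr⟩
          exact (IsOfFinOrder.mem_powers_iff_mem_zpowers hfin).2 hg
        exact hpow n v v.2⟩
      one_smul := fun v => rfl
      mul_smul := fun g h v => rfl }
  have hG : IsPGroup r (Subgroup.zpowers T) := by
    intro g
    obtain ⟨g, n, hn⟩ := g
    refine ⟨1, Subtype.ext ?_⟩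
    change g ^ r ^ 1 = 1
    have hn' : g = T ^ n := hn.symm
    rw [hn', pow_one, ← zpow_natCast, ← zpow_mul, mul_comm, zpow_mul, zpow_natCast, hTr, one_zpow]
  have h1 := hG.card_modEq_card_fixedPoints D
  have h2 : MulAction.fixedPoints (Subgroup.zpowers T) D = {0} := by
    ext v
    rw [Set.mem_singleton_iff, MulAction.mem_fixedPoints]
    constructor
    · intro h
      have h3 := h ⟨T, Subgroup.mem_zpowers T⟩
      exact Subtype.ext (hf v v.2 (congrArg Subtype.val h3))
    · rintro rfl g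
      exact Subtype.ext (map_zero (g : V ≃ₗ[F] V))
  have h3 : Nat.card D = 2 ^ finrank F D := by rw [Module.natCard_eq_pow_finrank (K := F), hF]
  have h4 : Nat.card ({0} : Set D) = 1 := by rw [Nat.card_coe_set_eq, Set.ncard_singleton]
  rw [h2, h3, h4] at h1
  exact (Nat.modEq_iff_dvd' Nat.one_le_two_pow).1 h1.symm

theorem even_fx (hF : Nat.card F = 2) : (2 : F) = 0 := by
  have h := card_nsmul_eq_zero' (G := F) (x := (1 : F))
  rwa [hF, two_nsmul, one_add_one_eq_two] at h

theorem odd_ne (hF : Nat.card F = 2) {r : ℕ} (hr : r.Prime) (hr2 : r ≠ 2) : (r : F) ≠ 0 := by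
  have h2 := even_fx (F := F) hF
  obtain ⟨m, hm⟩ := hr.eq_two_or_odd'.resolve_left hr2
  rw [hm]
  push_cast
  rw [h2, zero_mul, zero_add]
  exact one_ne_zero

/-- a nondegenerate plane over `F_2` is only moved by elements of order 3 -/
theorem plane_two (hF : Nat.card F = 2) {E : Submodule F V} (hE : NdOn Q E) (h2 : finrank F E = 2)
    {S : V ≃ₗ[F] V} (hS : ∀ v, Q (S v) = Q v) (hSE : ∀ v ∈ E, S v ∈ E) {s : ℕ} (hs : s.Prime) (hs2 : s ≠ 2)
    (hs3 : s ≠ 3) (hSs : S ^ s = 1) : ∀ v ∈ E, S v = v := by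
  have h20 := even_fx (F := F) hF
  have hs0 := odd_ne (F := F) hF hs hs2
  have hP : Pc Q (fun _ : Unit => S) E := ⟨hE, fun _ => hSE⟩
  have hf := (hP.fxp () (fun _ => hS) (fun _ _ _ => rfl) hs0 hSs).nd
  have hsum := finrank_fxp_cmp hs0 hSs hSE
  have he := NdOn.even h20 hf
  have hcases : finrank F (fxp S E) = 0 ∨ finrank F (fxp S E) = 2 := by
    obtain ⟨k, hk⟩ := he
    omega
  rcases hcases with h0 | h0
  · exfalso
    have h1 : ∀ v ∈ E, S v = v → v = 0 := by
      intro v hv hv1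
      have h3 : v ∈ fxp S E := ⟨hv, mem_fx.2 hv1⟩
      rw [Submodule.finrank_eq_zero.1 h0, Submodule.mem_bot] at h3
      exact h3
    have h3 := fpf_dvd hF hSE h1 hs hSs
    rw [h2] at h3
    exact hs3 ((Nat.prime_dvd_prime_iff_eq hs Nat.prime_three).1 h3)
  · intro v hv
    have h1 : fxp S E = E := Submodule.eq_of_le_of_finrank_eq inf_le_left (by rw [h0, h2])
    rw [← h1] at hv
    exact mem_fx.1 hv.2

theorem no_four_aux (hF : Nat.card F = 2) {D : Submodule F V} (hD : NdOn Q D)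
    (h4 : Module.finrank F D = 4) {T S : V ≃ₗ[F] V} (hT : ∀ v, Q (T v) = Q v) (hS : ∀ v, Q (S v) = Q v)
    (hc : T * S = S * T) (hTD : ∀ v ∈ D, T v ∈ D) (hSD : ∀ v ∈ D, S v ∈ D) {r s : ℕ} (hr : r.Prime) (hs : s.Prime)
    (hr2 : r ≠ 2) (hs2 : s ≠ 2) (hrs : r ≠ s) (hTr : T ^ r = 1) (hSs : S ^ s = 1) (hT1 : ∃ v ∈ D, T v ≠ v)
    (hS1 : ∃ v ∈ D, S v ≠ v) : ∀ v ∈ D, T v = v → v = 0 := by
  intro v hv hv1
  by_contra hv0
  have h20 := even_fx (F := F) hF
  have hr0 := odd_ne (F := F) hF hr hr2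
  let U : Bool → V ≃ₗ[F] V := fun b => cond b T S
  have hU : ∀ i v, Q (U i v) = Q v := by
    intro i
    cases i
    · exact hS
    · exact hT
  have hcv : ∀ v, T (S v) = S (T v) := fun v => LinearEquiv.congr_fun hc v
  have hUc : ∀ i j v, U i (U j v) = U j (U i v) := by
    intro i j v
    cases i <;> cases j
    · rfl
    · exact (hcv v).symm
    · exact hcv v
    · rfl
  have hP : Pc Q U D := ⟨hD, fun i => by
    cases i
    · exact hSD
    · exact hTD⟩
  have hf := hP.fxp true hU hUc hr0 hTr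
  have hm := hP.cmp true hU hUc hr0 hTr
  have hsum := finrank_fxp_cmp hr0 hTr hTD
  have hfe := NdOn.even h20 hf.nd
  have hme := NdOn.even h20 hm.nd
  change Even (finrank F (fxp T D)) at hfe
  change Even (finrank F (cmp T D)) at hme
  have hf0 : finrank F (fxp T D) ≠ 0 := by
    intro h0
    have h3 : v ∈ fxp T D := ⟨hv, mem_fx.2 hv1⟩
    rw [Submodule.finrank_eq_zero.1 h0, Submodule.mem_bot] at h3
    exact hv0 h3
  have hm0 : finrank F (cmp T D) ≠ 0 := by
    intro h0
    obtain ⟨w, hw, hw1⟩ := hT1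
    apply hw1
    have h1 : nn T w ∈ cmp T D := ⟨D.sub_mem (hTD w hw) hw, ⟨w, rfl⟩⟩
    rw [Submodule.finrank_eq_zero.1 h0, Submodule.mem_bot, nn_apply, sub_eq_zero] at h1
    exact h1
  obtain ⟨k, hk⟩ := hfe
  obtain ⟨l, hl⟩ := hme
  have hf2 : finrank F (fxp T D) = 2 := by (clear * - h4 hsum hf0 hm0 hl; omega)
  have hm2 : finrank F (cmp T D) = 2 := by omega
  -- `T` has order 3
  have hr3 : r = 3 := by
    have h1 : ∀ x ∈ cmp T D, T x = x → x = 0 := by
      intro x hx hx1
      have h3 : x ∈ fxp T D ⊓ cmp T D := ⟨⟨hx.1, mem_fx.2 hx1⟩, hx⟩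
      rw [fxp_inf_cmp hr0 hTr, Submodule.mem_bot] at h3
      exact h3
    have h3 := fpf_dvd hF (fun x hx => hm.inv true x hx) h1 hr hTr
    change r ∣ 2 ^ finrank F (cmp T D) - 1 at h3
    rw [hm2] at h3
    exact (Nat.prime_dvd_prime_iff_eq hr Nat.prime_three).1 h3
  have hs3 : s ≠ 3 := fun h => hrs (hr3.trans h.symm)
  have ha := plane_two hF hf.nd hf2 hS (fun x hx => hf.inv false x hx) hs hs2 hs3 hSs
  have hb := plane_two hF hm.nd hm2 hS (fun x hx => hm.inv false x hx) hs hs2 hs3 hSs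
  obtain ⟨w, hw, hw1⟩ := hS1
  apply hw1
  rw [← fxp_sup_cmp hr0 hTr hTD] at hw
  obtain ⟨a, ha', b, hb', rfl⟩ := Submodule.mem_sup.1 hw
  rw [map_add, ha a ha', hb b hb']

/-- **Z3** no commuting isometries of different odd prime orders on a nondegenerate four-dimensional space over `F_2` -/
theorem no_four (hF : Nat.card F = 2) {D : Submodule F V} (hD : Nondeg (Q.comp D.subtype))
    (h4 : Module.finrank F D = 4) {T S : V ≃ₗ[F] V} (hT : T ∈ O Q) (hS : S ∈ O Q) (hc : T * S = S * T)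
    (hTD : ∀ v ∈ D, T v ∈ D) (hSD : ∀ v ∈ D, S v ∈ D) {r s : ℕ} (hr : r.Prime) (hs : s.Prime) (hr2 : r ≠ 2)
    (hs2 : s ≠ 2) (hrs : r ≠ s) (hTr : T ^ r = 1) (hSs : S ^ s = 1) (hT1 : ∃ v ∈ D, T v ≠ v)
    (hS1 : ∃ v ∈ D, S v ≠ v) : False := by
  have hDn : NdOn Q D := by
    intro x hx h
    exact congrArg Subtype.val (hD ⟨x, hx⟩ fun y => h y y.2)
  have hfT := no_four_aux hF hDn h4 hT hS hc hTD hSD hr hs hr2 hs2 hrs hTr hSs hT1 hS1
  have hfS := no_four_aux hF hDn h4 hS hT hc.symm hSD hTD hs hr hs2 hr2 hrs.symm hSs hTr hS1 hT1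
  have hr15 := fpf_dvd hF hTD hfT hr hTr
  have hs15 := fpf_dvd hF hSD hfS hs hSs
  rw [h4] at hr15 hs15
  have hcase : ∀ {p : ℕ}, p.Prime → p ∣ 2 ^ 4 - 1 → p = 3 ∨ p = 5 := by
    intro p hp h
    have h1 : p ∣ 3 * 5 := h
    rcases (Nat.Prime.dvd_mul hp).1 h1 with h2 | h2
    · exact Or.inl ((Nat.prime_dvd_prime_iff_eq hp Nat.prime_three).1 h2)
    · exact Or.inr ((Nat.prime_dvd_prime_iff_eq hp Nat.prime_five).1 h2)
  have hrc := hcase hr hr15
  have hsc := hcase hs hs15
  have hrs15 : r * s = 15 := by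
    rcases hrc with rfl | rfl <;> rcases hsc with rfl | rfl
    · exact absurd rfl hrs
    · rfl
    · rfl
    · exact absurd rfl hrs
  have hcop : Nat.Coprime r s := (Nat.coprime_primes hr hs).2 hrs
  have hcm : Commute T S := hc
  have hX15 : (T * S) ^ 15 = 1 := by
    rw [← hrs15, hcm.mul_pow, pow_mul, hTr, one_pow, one_mul, mul_comm r s, pow_mul, hSs, one_pow]
  -- the minimal period is 15
  have hmp : ∀ v ∈ D, v ≠ 0 → Function.minimalPeriod (T * S) v = 15 := by
    intro v hv hv0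
    have hd : Function.minimalPeriod (T * S) v ∣ r * s := by
      rw [hrs15]
      apply Function.IsPeriodicPt.minimalPeriod_dvd
      show (⇑(T * S))^[15] v = v
      rw [iter_pow, hX15]
      rfl
    have key : ∀ n, Function.minimalPeriod (T * S) v ∣ n → ((T * S) ^ n) v = v := by
      intro n hn
      rw [← iter_pow]
      exact Function.isPeriodicPt_iff_minimalPeriod_dvd.2 hn
    have hnr : ¬ Function.minimalPeriod (T * S) v ∣ r := by
      intro h
      have h1 := key r h
      rw [hcm.mul_pow, hTr, one_mul] at h1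
      exact hv0 (hfS v hv (fix_of_coprime hcop h1 (by rw [hSs]; rfl)))
    have hns : ¬ Function.minimalPeriod (T * S) v ∣ s := by
      intro h
      have h1 := key s h
      rw [hcm.mul_pow, hSs, mul_one] at h1
      exact hv0 (hfT v hv (fix_of_coprime hcop.symm h1 (by rw [hTr]; rfl)))
    rw [← hrs15]
    obtain ⟨a, b, ha, hb, hab⟩ := (Nat.dvd_mul).1 hd
    rw [Nat.dvd_prime hr] at ha
    rw [Nat.dvd_prime hs] at hb
    rcases ha with rfl | rfl
    · exfalso
      apply hns
      rw [← hab, one_mul]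
      rcases hb with rfl | rfl
      · exact one_dvd _
      · exact dvd_rfl
    · rcases hb with rfl | rfl
      · exfalso
        apply hnr
        rw [← hab, mul_one]
      · exact hab.symm
  have : Finite V := Module.finite_of_finite F
  have hcard : Nat.card D = 16 := by
    rw [Module.natCard_eq_pow_finrank (K := F), hF, h4]
    norm_num
  have hXD : ∀ (n : ℕ) (v : V), v ∈ D → ((T * S) ^ n) v ∈ D := by
    intro n
    induction n with
    | zero => intro v hv; exact hv
    | succ n ih => intro v hv; rw [pow_succ]; exact ih _ (hTD _ (hSD v hv))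
  have hXQ : ∀ (n : ℕ) (v : V), Q (((T * S) ^ n) v) = Q v := by
    intro n
    induction n with
    | zero => intro v; rfl
    | succ n ih =>
      intro v
      rw [pow_succ]
      change Q (((T * S) ^ n) (T (S v))) = Q v
      rw [ih, hT, hS]
  -- `Q` is constant on `D - 0`
  have hconst : ∀ v ∈ D, v ≠ 0 → ∀ w ∈ D, w ≠ 0 → Q w = Q v := by
    intro v hv hv0 w hw hw0
    let f : Fin 15 → {x : D // x ≠ 0} := fun n =>
      ⟨⟨((T * S) ^ (n : ℕ)) v, hXD n v hv⟩, fun h0 => hv0 (by
        have h1 : ((T * S) ^ (n : ℕ)) v = 0 := congrArg Subtype.val h0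
        exact (LinearEquiv.map_eq_zero_iff _).1 h1)⟩
    have hinj : Function.Injective f := by
      intro a b hab
      have h1 : ((T * S) ^ (a : ℕ)) v = ((T * S) ^ (b : ℕ)) v := congrArg (fun x : {x : D // x ≠ 0} => ((x : D) : V)) hab
      have h2 := Function.iterate_injOn_Iio_minimalPeriod (f := ⇑(T * S)) (x := v)
      rw [hmp v hv hv0] at h2
      have h3 : (⇑(T * S))^[(a : ℕ)] v = (⇑(T * S))^[(b : ℕ)] v := by
        rw [iter_pow, iter_pow, h1]
      exact Fin.ext (h2 (Set.mem_Iio.2 a.2) (Set.mem_Iio.2 b.2) h3)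
    have hc15 : Nat.card {x : D // x ≠ 0} = 15 := by
      classical
      have h1 := Nat.card_congr (Equiv.optionSubtypeNe (0 : D))
      rw [Finite.card_option, hcard] at h1
      omega
    have hsur : Function.Surjective f := by
      have h1 := (Nat.bijective_iff_injective_and_card f).2 ⟨hinj, by rw [hc15]; simp⟩
      exact h1.2
    obtain ⟨n, hn⟩ := hsur ⟨⟨w, hw⟩, fun h => hw0 (congrArg Subtype.val h)⟩
    have h1 : ((T * S) ^ (n : ℕ)) v = w := congrArg (fun x : {x : D // x ≠ 0} => ((x : D) : V)) hn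
    rw [← h1, hXQ]
  -- contradiction
  have h20 := even_fx (F := F) hF
  obtain ⟨v, hv, hv1⟩ := hT1
  have hv0 : v ≠ 0 := fun h => hv1 (by rw [h, map_zero])
  have hpol : ∀ w ∈ D, w ≠ 0 → w ≠ v → polar Q v w = Q v := by
    intro w hw hw0 hwv
    have h1 : v + w ≠ 0 := by
      intro h
      apply hwv
      have h2 : w = -v := (neg_eq_of_add_eq_zero_right h).symm
      have h3 : v + v = 0 := by rw [← two_smul F v, h20, zero_smul]
      rw [h2]
      exact neg_eq_of_add_eq_zero_right h3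
    show Q (v + w) - Q v - Q w = Q v
    rw [hconst v hv hv0 _ (D.add_mem hv hw) h1, hconst v hv hv0 w hw hw0]
    have h4 : Q v + Q v = 0 := by rw [← two_mul, h20, zero_mul]
    linear_combination (-1 : F) * h4
  have hTv := hpol (T v) (hTD v hv) (fun h => hv0 ((LinearEquiv.map_eq_zero_iff _).1 h)) hv1
  -- a third vector
  obtain ⟨w, hw, hwn⟩ : ∃ w ∈ D, w ∉ Submodule.span F {v, T v} := by
    by_contra hcon
    push Not at hcon
    have h1 : finrank F D ≤ 2 := by
      classical
      refine (Submodule.finrank_mono hcon).trans ?_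
      have h5 := finrank_span_finset_le_card (R := F) ({v, T v} : Finset V)
      rw [Finset.coe_pair] at h5
      exact h5.trans Finset.card_le_two
    omega
  have hw0 : w ≠ 0 := fun h => hwn (h ▸ Submodule.zero_mem _)
  have hwv : w ≠ v := fun h => hwn (h ▸ Submodule.subset_span (by simp))
  have hTw : T v + w ≠ 0 := by
    intro h
    apply hwn
    have : w = -T v := (neg_eq_of_add_eq_zero_right h).symm
    rw [this]
    exact Submodule.neg_mem _ (Submodule.subset_span (by simp))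
  have hTwv : T v + w ≠ v := by
    intro h
    apply hwn
    have : w = v - T v := eq_sub_of_add_eq' h
    rw [this]
    exact Submodule.sub_mem _ (Submodule.subset_span (by simp)) (Submodule.subset_span (by simp))
  have h1 := hpol w hw hw0 hwv
  have h2 := hpol (T v + w) (D.add_mem (hTD v hv) hw) hTw hTwv
  rw [polar_add_right, hTv, h1] at h2
  have hQv : Q v = 0 := by linear_combination h2
  have hall : ∀ x ∈ D, Q x = 0 := by
    intro x hx
    by_cases hx0 : x = 0
    · rw [hx0, map_zero]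
    · rw [hconst v hv hv0 x hx hx0, hQv]
  apply hv0
  apply hDn v hv
  intro y hy
  show Q (v + y) - Q v - Q y = 0
  rw [hall _ (D.add_mem hv hy), hall v hv, hall y hy]
  ring

end fin

end Cfsg.Agent.H138.RC
end
end

-- part: H578/RC/One
section
prune_inst 0x347071656b621200401c0014600000b1590001000000880020a50d46080986608d02a0410aa0041b4802018000010040001000300040000004240000000401000040940431400019000088000008010000100000000000000000000000000000010000000
set_option linter.all false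
open scoped Cfsg.Agent.FastGrp

-- part: H578/RC/Lin2
section
/-!
# S3510, row F, box E7: involutions commuting with a fixed-point-free element of odd order (helper578)
-/

set_option autoImplicit false
open Cfsg

namespace Cfsg.Agent.H578.RC

open QuadraticMap
open Cfsg.Agent.LieClassical.OrthCore

variable {F V : Type*} [Field F] [CharP F 2] [AddCommGroup V] [Module F V] {Q : QuadraticForm F V}

theorem two0 : (2 : F) = 0 := CharTwo.two_eq_zero

include F in
theorem vadd_self (v : V) : v + v = 0 := by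
  have : v + v = (2 : F) • v := by rw [two_smul]
  rw [this, two0, zero_smul]

include F in
theorem vsub_eq (v w : V) : v - w = v + w := by
  have h := vadd_self (F := F) w
  rw [sub_eq_add_neg]
  congr 1
  exact neg_eq_of_add_eq_zero_left h

theorem polar_self2 (v : V) : polar Q v v = 0 := by
  rw [polar_self', two0, zero_mul]

/-- `u` is an involutory isometry -/
structure Inv2 (Q : QuadraticForm F V) (u : V ≃ₗ[F] V) : Prop where
  iso : u ∈ O Q
  sq : ∀ v, u (u v) = v

variable {u : V ≃ₗ[F] V}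

theorem Inv2.dl_dl (h : Inv2 Q u) (v : V) : u (u v - v) = u v - v := by
  rw [map_sub, h.sq, vsub_eq (F := F), vsub_eq (F := F), add_comm]

theorem Inv2.adj (h : Inv2 Q u) (v w : V) : polar Q (u v) w = polar Q v (u w) := by
  conv_lhs => rw [← h.sq w]
  rw [polar_map h.iso]

theorem Inv2.Q_dl (h : Inv2 Q u) (v : V) : Q (u v - v) = polar Q (u v) v := by
  rw [vsub_eq (F := F), Q_add, mem_O.1 h.iso]
  have : Q v + Q v = 0 := CharTwo.add_self_eq_zero _
  rw [this, zero_add]

/-- the map `v ↦ polar Q (u v) v` is additive -/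
theorem Inv2.add (h : Inv2 Q u) (v w : V) :
    polar Q (u (v + w)) (v + w) = polar Q (u v) v + polar Q (u w) w := by
  rw [map_add, polar_add_left, polar_add_right, polar_add_right, h.adj w v, polar_comm Q w (u v)]
  have := CharTwo.add_self_eq_zero (polar Q (u v) w)
  linear_combination this

theorem Inv2.zero_of_fpf [FiniteDimensional F V] (h : Inv2 Q u) {T : V ≃ₗ[F] V} (hT : T ∈ O Q)
    (hc : ∀ v, T (u v) = u (T v)) {D : Submodule F V} (hTD : ∀ v ∈ D, T v ∈ D)
    (hf : ∀ v ∈ D, T v = v → v = 0) {v : V} (hv : v ∈ D) : polar Q (u v) v = 0 := by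
  obtain ⟨y, hy, rfl⟩ := surj_dl hTD hf hv
  have h1 := h.add (T y) y
  rw [← vsub_eq (F := F)] at h1
  rw [h1, ← hc, polar_map hT, CharTwo.add_self_eq_zero]

/-- the space `(u - 1) D` -/
def Xs (u : V ≃ₗ[F] V) (D : Submodule F V) : Submodule F V := D.map (dl u)

omit [CharP F 2] in
theorem mem_Xs {D : Submodule F V} {x : V} : x ∈ Xs u D ↔ ∃ v ∈ D, u v - v = x := Iff.rfl

omit [CharP F 2] in
theorem Xs_le {D : Submodule F V} (hu : ∀ v ∈ D, u v ∈ D) : Xs u D ≤ D := by
  rintro _ ⟨v, hv, rfl⟩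
  exact D.sub_mem (hu v hv) hv

theorem Inv2.Xs_fix (h : Inv2 Q u) {D : Submodule F V} {x : V} (hx : x ∈ Xs u D) : u x = x := by
  obtain ⟨v, hv, rfl⟩ := mem_Xs.1 hx
  exact h.dl_dl v

theorem Inv2.Xs_perp (h : Inv2 Q u) {D : Submodule F V} {x y : V} (hx : x ∈ Xs u D) (hy : u y = y) :
    polar Q x y = 0 := by
  obtain ⟨v, hv, rfl⟩ := mem_Xs.1 hx
  rw [polar_sub_left, h.adj, hy, sub_self]

omit [CharP F 2] in
theorem Xs_inv {T : V ≃ₗ[F] V} (hc : ∀ v, T (u v) = u (T v)) {D : Submodule F V} (hTD : ∀ v ∈ D, T v ∈ D) :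
    ∀ x ∈ Xs u D, T x ∈ Xs u D := by
  rintro _ ⟨v, hv, rfl⟩
  refine mem_Xs.2 ⟨T v, hTD v hv, ?_⟩
  rw [dl_apply, map_sub, hc]

omit [CharP F 2] in
theorem Xs_eq_bot {D : Submodule F V} : Xs u D = ⊥ ↔ ∀ v ∈ D, u v = v := by
  constructor
  · intro h v hv
    have : u v - v ∈ Xs u D := mem_Xs.2 ⟨v, hv, rfl⟩
    rw [h, Submodule.mem_bot] at this
    exact sub_eq_zero.1 this
  · intro h
    rw [eq_bot_iff]
    rintro _ ⟨v, hv, rfl⟩
    rw [dl_apply, h v hv, sub_self]
    exact Submodule.zero_mem _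

/-- the rank is even when the values are totally singular -/
theorem Inv2.even_Xs [FiniteDimensional F V] (h : Inv2 Q u) {D : Submodule F V} (hD : Nondeg (Q.comp D.subtype))
    (hu : ∀ v ∈ D, u v ∈ D) (h0 : ∀ v ∈ D, polar Q (u v) v = 0) : Even (Module.finrank F (Xs u D)) := by
  classical
  let f : D →ₗ[F] D := (dl u).restrict (p := D) (q := D) fun v hv => D.sub_mem (hu v hv) hv
  let β : LinearMap.BilinForm F D := ((polarBilin Q).compl₁₂ D.subtype D.subtype) ∘ₗ f
  have hβ : ∀ v w : D, β v w = polar Q (u v - v) w := fun v w => rfl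
  have halt : β.IsAlt := by
    intro v
    rw [hβ, polar_sub_left, h0 v v.2, polar_self2, sub_zero]
  have h1 := Cfsg.Agent.H174.even_finrank_range_of_isAlt β halt
  have hker : LinearMap.ker β = LinearMap.ker f := by
    ext v
    rw [LinearMap.mem_ker, LinearMap.mem_ker]
    constructor
    · intro hv
      apply hD
      intro y
      have := LinearMap.congr_fun hv y
      exact this
    · intro hv
      ext w
      have h2 : u v - (v : V) = 0 := congrArg Subtype.val hv
      rw [hβ, h2, polar_zero_left]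
      rfl
  have h2 := LinearMap.finrank_range_add_finrank_ker β
  have h3 := LinearMap.finrank_range_add_finrank_ker f
  rw [hker] at h2
  have h4 : Module.finrank F (LinearMap.range f) = Module.finrank F (Xs u D) := by
    have h5 : (LinearMap.range f).map D.subtype = Xs u D := by
      ext x
      rw [Submodule.mem_map, mem_Xs]
      constructor
      · rintro ⟨_, ⟨v, rfl⟩, rfl⟩
        exact ⟨v, v.2, rfl⟩
      · rintro ⟨v, hv, rfl⟩
        exact ⟨f ⟨v, hv⟩, ⟨_, rfl⟩, rfl⟩
    rw [← h5]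
    exact (LinearEquiv.finrank_eq (Submodule.equivMapOfInjective _ D.injective_subtype _))
  have h6 : Module.finrank F (LinearMap.range β) = Module.finrank F (Xs u D) := by omega
  rw [← h6]
  exact h1

/-- `X` is totally singular -/
theorem Inv2.Xs_sing (h : Inv2 Q u) {D : Submodule F V} (h0 : ∀ v ∈ D, polar Q (u v) v = 0) :
    ∀ x ∈ Xs u D, Q x = 0 := by
  rintro _ ⟨v, hv, rfl⟩
  rw [dl_apply, h.Q_dl, h0 v hv]

theorem Inv2.Xs_polar (h : Inv2 Q u) {D : Submodule F V} :
    ∀ x ∈ Xs u D, ∀ y ∈ Xs u D, polar Q x y = 0 := by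
  intro x hx y hy
  exact h.Xs_perp hx (h.Xs_fix hy)

/-- twice the dimension -/
theorem Inv2.two_Xs [FiniteDimensional F V] (hQ : Nondeg Q) (h : Inv2 Q u) {D : Submodule F V} (hD : Nondeg (Q.comp D.subtype))
    (hu : ∀ v ∈ D, u v ∈ D) : 2 * Module.finrank F (Xs u D) ≤ Module.finrank F D := by
  have h1 : Xs u D ⊔ pp Q D ≤ pp Q (Xs u D) := by
    apply sup_le
    · intro x hx y hy
      exact h.Xs_polar y hy x hx
    · exact pp_anti (Xs_le hu)
  have h2 := Submodule.finrank_mono h1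
  have h3 := Submodule.finrank_sup_add_finrank_inf_eq (Xs u D) (pp Q D)
  have h4 : Xs u D ⊓ pp Q D = ⊥ := by
    rw [eq_bot_iff, ← (nondeg_iff D).1 hD]
    exact inf_le_inf_right _ (Xs_le hu)
  rw [h4, finrank_bot] at h3
  have h5 := finrank_pp hQ (Xs u D)
  have h6 := finrank_pp hQ D
  omega

end Cfsg.Agent.H578.RC
end

-- part: H578/RC/Lin3
section
/-!
# S3510, row F, box E7: the four-dimensional piece (helper578)
-/

set_option autoImplicit false
open Cfsg

namespace Cfsg.Agent.H578.RC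

open QuadraticMap
open Cfsg.Agent.LieClassical.OrthCore

variable {F V : Type*} [Field F] [CharP F 2] [AddCommGroup V] [Module F V] {Q : QuadraticForm F V}

/-- four vectors on which `u` is a long root element -/
structure Q4 (Q : QuadraticForm F V) (u : V ≃ₗ[F] V) (y1 y2 x1 x2 : V) : Prop where
  qy1 : Q y1 = 0
  qy2 : Q y2 = 0
  qx1 : Q x1 = 0
  qx2 : Q x2 = 0
  yy : polar Q y1 y2 = 0
  xx : polar Q x1 x2 = 0
  b11 : polar Q x1 y1 = 1
  b22 : polar Q x2 y2 = 1
  b12 : polar Q x1 y2 = 0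
  b21 : polar Q x2 y1 = 0
  u1 : u y1 = y1 + x2
  u2 : u y2 = y2 + x1
  ux1 : u x1 = x1
  ux2 : u x2 = x2

variable {u : V ≃ₗ[F] V} {y1 y2 x1 x2 : V}

omit [CharP F 2] in
theorem Q4.c11 (h : Q4 Q u y1 y2 x1 x2) : polar Q y1 x1 = 1 := by rw [polar_comm]; exact h.b11
omit [CharP F 2] in
theorem Q4.c22 (h : Q4 Q u y1 y2 x1 x2) : polar Q y2 x2 = 1 := by rw [polar_comm]; exact h.b22
omit [CharP F 2] in
theorem Q4.c21 (h : Q4 Q u y1 y2 x1 x2) : polar Q y2 x1 = 0 := by rw [polar_comm]; exact h.b12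
omit [CharP F 2] in
theorem Q4.c12 (h : Q4 Q u y1 y2 x1 x2) : polar Q y1 x2 = 0 := by rw [polar_comm]; exact h.b21
omit [CharP F 2] in
theorem Q4.yy' (h : Q4 Q u y1 y2 x1 x2) : polar Q y2 y1 = 0 := by rw [polar_comm]; exact h.yy
omit [CharP F 2] in
theorem Q4.xx' (h : Q4 Q u y1 y2 x1 x2) : polar Q x2 x1 = 0 := by rw [polar_comm]; exact h.xx

/-- existence -/
theorem exists_Q4 (h : Inv2 Q u) {D : Submodule F V} (hD : Nondeg (Q.comp D.subtype))
    (hu : ∀ v ∈ D, u v ∈ D) (h0 : ∀ v ∈ D, polar Q (u v) v = 0) (hne : ∃ v ∈ D, u v ≠ v) :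
    ∃ y1 ∈ D, ∃ y2 ∈ D, ∃ x1 ∈ D, ∃ x2 ∈ D, Q4 Q u y1 y2 x1 x2 := by
  obtain ⟨v, hv, hv1⟩ := hne
  have hx : u v - v ∈ D := D.sub_mem (hu v hv) hv
  obtain ⟨w, hw, hw1⟩ : ∃ w ∈ D, polar Q (u v - v) w = 1 := by
    obtain ⟨⟨w, hw⟩, hw1⟩ := hD.exists_polar_eq (x := (⟨u v - v, hx⟩ : D)) (by
      intro h1
      exact hv1 (sub_eq_zero.1 (congrArg Subtype.val h1))) 1
    exact ⟨w, hw, hw1⟩
  set x2 := u v - v with hx2
  set x1 := u w - w with hx1
  have hx1D : x1 ∈ D := D.sub_mem (hu w hw) hw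
  have qx1 : Q x1 = 0 := by rw [hx1, h.Q_dl, h0 w hw]
  have qx2 : Q x2 = 0 := by rw [hx2, h.Q_dl, h0 v hv]
  have ux1 : u x1 = x1 := h.dl_dl w
  have ux2 : u x2 = x2 := h.dl_dl v
  have b11 : polar Q x1 v = 1 := by
    rw [hx1, polar_sub_left, h.adj, ← hw1, hx2, polar_sub_left, polar_comm Q w (u v), polar_comm Q w v]
  have b12 : polar Q x1 w = 0 := by rw [hx1, polar_sub_left, h0 w hw, polar_self2, sub_zero]
  have b21 : polar Q x2 v = 0 := by rw [hx2, polar_sub_left, h0 v hv, polar_self2, sub_zero]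
  have xx : polar Q x1 x2 = 0 := h.Xs_polar x1 ⟨w, hw, rfl⟩ x2 ⟨v, hv, rfl⟩
  have e1 : u v = v + x2 := by rw [hx2]; abel
  have e2 : u w = w + x1 := by rw [hx1]; abel
  have v11 : polar Q v x1 = 1 := by rw [polar_comm]; exact b11
  have v12 : polar Q w x1 = 0 := by rw [polar_comm]; exact b12
  have v21 : polar Q v x2 = 0 := by rw [polar_comm]; exact b21
  have v22 : polar Q w x2 = 1 := by rw [polar_comm]; exact hw1
  have xx' : polar Q x2 x1 = 0 := by rw [polar_comm]; exact xx
  have two : (2 : F) = 0 := two0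
  have ds : ∀ a : F, a + a = 0 := fun a => CharTwo.add_self_eq_zero a
  refine ⟨v + Q v • x1, D.add_mem hv (D.smul_mem _ hx1D), w + Q w • x2 + polar Q v w • x1,
    D.add_mem (D.add_mem hw (D.smul_mem _ hx)) (D.smul_mem _ hx1D), x1, hx1D, x2, hx, ?_⟩
  constructor
  · rw [Q_add, QuadraticMap.map_smul, qx1, polar_smul_right, v11]
    simp only [smul_eq_mul, mul_zero, mul_one, add_zero]
    exact ds _
  · rw [Q_add, Q_add, QuadraticMap.map_smul, QuadraticMap.map_smul, qx1, qx2, polar_smul_right, polar_smul_right,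
      v22, polar_add_left, v12, polar_smul_left, xx']
    simp only [smul_eq_mul, mul_zero, mul_one, add_zero]
    exact ds _
  · exact qx1
  · exact qx2
  · rw [polar_add_left, polar_add_right, polar_add_right, polar_smul_right, polar_smul_right, v21, v11,
      polar_smul_left, polar_add_right, polar_add_right, b12, polar_smul_right, polar_smul_right, xx,
      polar_self_of_sing qx1]
    simp only [smul_eq_mul, mul_zero, mul_one, add_zero]
    exact ds _
  · exact xx
  · rw [polar_add_right, b11, polar_smul_right, polar_self_of_sing qx1]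
    simp
  · rw [polar_add_right, polar_add_right, hw1, polar_smul_right, polar_smul_right, polar_self_of_sing qx2, xx']
    simp
  · rw [polar_add_right, polar_add_right, b12, polar_smul_right, polar_smul_right, polar_self_of_sing qx1, xx]
    simp
  · rw [polar_add_right, b21, polar_smul_right, xx']
    simp
  · rw [map_add, map_smul, ux1, e1]; abel
  · rw [map_add, map_add, map_smul, map_smul, ux1, ux2, e2]; abel
  · exact ux1
  · exact ux2

/-- coordinates in a four-dimensional space -/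
theorem Q4.span [FiniteDimensional F V] (h : Q4 Q u y1 y2 x1 x2) {D : Submodule F V} (h4 : Module.finrank F D = 4)
    (m1 : y1 ∈ D) (m2 : y2 ∈ D) (m3 : x1 ∈ D) (m4 : x2 ∈ D) {v : V} (hv : v ∈ D) :
    ∃ a b c d : F, v = a • y1 + b • y2 + c • x1 + d • x2 := by
  have hli : LinearIndependent F ![y1, y2, x1, x2] := by
    rw [Fintype.linearIndependent_iff]
    intro g hg
    rw [Fin.sum_univ_four] at hg
    simp only [Matrix.cons_val_zero, Matrix.cons_val_one, Matrix.cons_val] at hg
    have e1 := congrArg (fun z => polar Q x1 z) hg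
    have e2 := congrArg (fun z => polar Q x2 z) hg
    have e3 := congrArg (fun z => polar Q y1 z) hg
    have e4 := congrArg (fun z => polar Q y2 z) hg
    simp only [polar_add_right, polar_smul_right, h.b11, h.b12, h.xx, polar_self_of_sing h.qx1, polar_zero_right,
      smul_eq_mul, mul_one, mul_zero, add_zero] at e1
    simp only [polar_add_right, polar_smul_right, h.b22, h.b21, h.xx', polar_self_of_sing h.qx2, polar_zero_right,
      smul_eq_mul, mul_one, mul_zero, add_zero, zero_add] at e2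
    simp only [polar_add_right, polar_smul_right, h.c11, h.c12, h.yy, polar_self_of_sing h.qy1, polar_zero_right,
      smul_eq_mul, mul_one, mul_zero, add_zero, zero_add] at e3
    simp only [polar_add_right, polar_smul_right, h.c22, h.c21, h.yy', polar_self_of_sing h.qy2, polar_zero_right,
      smul_eq_mul, mul_one, mul_zero, add_zero, zero_add] at e4
    intro i
    fin_cases i
    · exact e1
    · exact e2
    · exact e3
    · exact e4
  have hfr : Module.finrank F (Submodule.span F (Set.range ![y1, y2, x1, x2])) = 4 := by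
    rw [finrank_span_eq_card hli]; rfl
  have hle : Submodule.span F (Set.range ![y1, y2, x1, x2]) ≤ D := by
    rw [Submodule.span_le]
    rintro _ ⟨i, rfl⟩
    fin_cases i
    · exact m1
    · exact m2
    · exact m3
    · exact m4
  have heq := Submodule.eq_of_le_of_finrank_eq hle (by rw [hfr, h4])
  rw [← heq, Submodule.mem_span_range_iff_exists_fun] at hv
  obtain ⟨g, hg⟩ := hv
  rw [Fin.sum_univ_four] at hg
  exact ⟨g 0, g 1, g 2, g 3, hg.symm⟩

/-- `T` preserves `⟨y1, y2⟩` -/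
theorem Q4.pres [FiniteDimensional F V] (hu : Inv2 Q u) (h : Q4 Q u y1 y2 x1 x2) {D : Submodule F V}
    (h4 : Module.finrank F D = 4)
    (m1 : y1 ∈ D) (m2 : y2 ∈ D) (m3 : x1 ∈ D) (m4 : x2 ∈ D) {T : V ≃ₗ[F] V} (hT : T ∈ O Q)
    (hc : ∀ v, T (u v) = u (T v)) (hTD : ∀ v ∈ D, T v ∈ D) {r : ℕ} (hr : Odd r) (hTr : T ^ r = 1) :
    ∃ a b c d : F, a * d + b * c = 1 ∧ T y1 = a • y1 + b • y2 ∧ T y2 = c • y1 + d • y2 ∧
      T x1 = d • x1 + c • x2 ∧ T x2 = b • x1 + a • x2 := by
  obtain ⟨a, b, p, q, e1⟩ := h.span h4 m1 m2 m3 m4 (hTD y1 m1)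
  obtain ⟨c, d, p', q', e2⟩ := h.span h4 m1 m2 m3 m4 (hTD y2 m2)
  have ds : ∀ a : F, a + a = 0 := fun a => CharTwo.add_self_eq_zero a
  have e3 : T x2 = b • x1 + a • x2 := by
    have h1 : x2 = u y1 - y1 := by rw [h.u1]; abel
    nth_rewrite 1 [h1]
    rw [map_sub, hc, e1]
    simp only [map_add, map_smul, h.u1, h.u2, h.ux1, h.ux2]
    module
  have e4 : T x1 = d • x1 + c • x2 := by
    have h1 : x1 = u y2 - y2 := by rw [h.u2]; abel
    nth_rewrite 1 [h1]
    rw [map_sub, hc, e2]
    simp only [map_add, map_smul, h.u1, h.u2, h.ux1, h.ux2]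
    module
  have r1 : a * d + b * c = 1 := by
    have h1 := polar_map hT x1 y1
    rw [e4, e1, h.b11] at h1
    simp only [polar_add_right, polar_smul_right, polar_add_left, polar_smul_left, h.b11, h.b12, h.b21, h.b22,
      h.xx, h.xx', polar_self_of_sing h.qx1, polar_self_of_sing h.qx2, smul_eq_mul, mul_one, mul_zero, add_zero,
      zero_add] at h1
    linear_combination h1
  have r2 : a * p + b * q = 0 := by
    have h1 := mem_O.1 hT y1
    rw [e1, h.qy1] at h1
    simp only [Q_add, QuadraticMap.map_smul, polar_add_right, polar_smul_right, polar_add_left, polar_smul_left,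
      h.qy1, h.qy2, h.qx1, h.qx2, h.yy, h.c11, h.c12, h.c21, h.c22, h.xx, smul_eq_mul, mul_one, mul_zero, add_zero,
      zero_add] at h1
    linear_combination h1
  have r3 : c * p' + d * q' = 0 := by
    have h1 := mem_O.1 hT y2
    rw [e2, h.qy2] at h1
    simp only [Q_add, QuadraticMap.map_smul, polar_add_right, polar_smul_right, polar_add_left, polar_smul_left,
      h.qy1, h.qy2, h.qx1, h.qx2, h.yy, h.c11, h.c12, h.c21, h.c22, h.xx, smul_eq_mul, mul_one, mul_zero, add_zero,
      zero_add] at h1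
    linear_combination h1
  have r4 : a * p' + b * q' + p * c + q * d = 0 := by
    have h1 := polar_map hT y1 y2
    rw [e1, e2, h.yy] at h1
    simp only [polar_add_right, polar_smul_right, polar_add_left, polar_smul_left,
      h.qy1, h.qy2, h.qx1, h.qx2, h.yy, h.yy', h.c11, h.c12, h.c21, h.c22, h.b11, h.b12, h.b21, h.b22, h.xx, h.xx',
      polar_self_of_sing h.qx1, polar_self_of_sing h.qx2, polar_self_of_sing h.qy1, polar_self_of_sing h.qy2,
      smul_eq_mul, mul_one, mul_zero, add_zero, zero_add] at h1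
    linear_combination h1
  have two : (2 : F) = 0 := two0
  -- the scalar `ν`
  obtain ⟨ν, hν⟩ : ∃ ν, ν = c * p + d * q := ⟨_, rfl⟩
  have hp : p = ν * b := by
    rw [hν]; linear_combination (-1 : F) * p * r1 + d * r2 - (b * d * q) * two + (b * c * p) * two - (b * c * p) * two
  have hq : q = ν * a := by
    rw [hν]; linear_combination (-1 : F) * q * r1 + c * r2 - (a * c * p) * two
  have hp' : p' = ν * d := by
    have : a * p' + b * q' = ν := by rw [hν]; linear_combination r4 - (c * p + d * q) * two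
    rw [← this]
    linear_combination (-1 : F) * p' * r1 + b * r3 - (b * d * q') * two
  have hq' : q' = ν * c := by
    have : a * p' + b * q' = ν := by rw [hν]; linear_combination r4 - (c * p + d * q) * two
    rw [← this]
    linear_combination (-1 : F) * q' * r1 + a * r3 - (a * c * p') * two
  -- `ν = 0`
  let t : Module.End F V := (T : V →ₗ[F] V)
  let n : Module.End F V := dl u
  let g : Module.End F V := 1 + ν • n
  have hnn : n * n = 0 := by
    ext v
    show dl u (dl u v) = 0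
    rw [dl_apply, dl_apply, hu.dl_dl, sub_self]
  have hgg : g * g = 1 := by
    have h1 : g * g = 1 + (2 : F) • (ν • n) + (ν * ν) • (n * n) := by
      show (1 + ν • n) * (1 + ν • n) = _
      rw [mul_add, add_mul, add_mul, one_mul, mul_one, one_mul, smul_mul_smul_comm, two_smul]
      abel
    rw [h1, hnn, two, zero_smul, smul_zero, add_zero, add_zero]
  have htn : t * n = n * t := by
    ext v
    show T (u v - v) = u (T v) - T v
    rw [map_sub, hc]
  have htg : Commute t g := by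
    show t * (1 + ν • n) = (1 + ν • n) * t
    rw [mul_add, add_mul, mul_one, one_mul, mul_smul_comm, smul_mul_assoc, htn]
  have htr : t ^ r = 1 := by
    have h1 : ∀ k : ℕ, t ^ k = ((T ^ k : V ≃ₗ[F] V) : V →ₗ[F] V) := by
      intro k
      induction k with
      | zero => rfl
      | succ k ih => rw [pow_succ, ih, pow_succ]; rfl
    rw [h1, hTr]; rfl
  have hgr : g ^ r = g := by
    obtain ⟨k, rfl⟩ := hr
    rw [pow_add, pow_mul, pow_one, pow_two, hgg, one_pow, one_mul]
  have hY : ∀ k : ℕ, ∀ w, (∃ α β : F, w = α • y1 + β • y2) → ∃ α β : F, ((t * g) ^ k) w = α • y1 + β • y2 := by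
    intro k
    induction k with
    | zero => intro w hw; exact hw
    | succ k ih =>
      rintro w ⟨α, β, rfl⟩
      have h1 : (t * g) (α • y1 + β • y2) = (α * a + β * c) • y1 + (α * b + β * d) • y2 := by
        show T (g (α • y1 + β • y2)) = _
        have h2 : g (α • y1 + β • y2) = α • y1 + β • y2 + ν • (α • x2 + β • x1) := by
          show α • y1 + β • y2 + ν • (u (α • y1 + β • y2) - (α • y1 + β • y2)) = _
          rw [map_add, map_smul, map_smul, h.u1, h.u2]
          module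
        rw [h2]
        simp only [map_add, map_smul, e1, e2, e3, e4, hp, hq, hp', hq']
        have h3 : ∀ v : V, v + v = 0 := vadd_self (F := F)
        have key : α • (a • y1 + b • y2 + (ν * b) • x1 + (ν * a) • x2) + β • (c • y1 + d • y2 + (ν * d) • x1 + (ν * c) • x2) +
            ν • (α • (b • x1 + a • x2) + β • (d • x1 + c • x2)) =
            (α * a + β * c) • y1 + (α * b + β * d) • y2 + ((ν * (α * b + β * d)) • x1 + (ν * (α * b + β * d)) • x1) +
              ((ν * (α * a + β * c)) • x2 + (ν * (α * a + β * c)) • x2) := by module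
        rw [key, h3, h3, add_zero, add_zero]
      rw [pow_succ]
      show ∃ α' β' : F, ((t * g) ^ k) ((t * g) (α • y1 + β • y2)) = _
      exact ih _ ⟨_, _, h1⟩
  have hν0 : ν = 0 := by
    obtain ⟨α, β, h1⟩ := hY r y1 ⟨1, 0, by module⟩
    rw [htg.mul_pow, htr, hgr, one_mul] at h1
    have h2 : g y1 = y1 + ν • x2 := by
      show y1 + ν • (u y1 - y1) = _
      rw [h.u1]; module
    rw [h2] at h1
    have h3 := congrArg (fun z => polar Q y2 z) h1
    simp only [polar_add_right, polar_smul_right, h.yy', h.c22, polar_self_of_sing h.qy2, smul_eq_mul, mul_one,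
      mul_zero, add_zero, zero_add] at h3
    exact h3
  refine ⟨a, b, c, d, r1, ?_, ?_, e4, e3⟩
  · rw [e1, hp, hq, hν0]; module
  · rw [e2, hp', hq', hν0]; module

end Cfsg.Agent.H578.RC
end

-- part: H578/RC/Fam
section
/-!
# S3510, row F, box E7: the rules for families of isometries in characteristic 2 (helper578)
-/

set_option autoImplicit false
open Cfsg

namespace Cfsg.Agent.H578.RC

open QuadraticMap MulAction
open Cfsg.Agent.LieClassical Cfsg.Agent.LieClassical.OrthCore Cfsg.Agent.LieClassical.OrthTrans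
open Cfsg.Agent.LieClassical.OrthSimple Cfsg.Agent.ClassicalGeometry.OrthSemi
open Cfsg.Agent.ClassicalGeometry.OrthAut1 Cfsg.Agent.H106.RC Cfsg.Agent.H93.RC Cfsg.Agent.H138.RC

section lin

variable {F V : Type*} [Field F] [AddCommGroup V] [Module F V] {Q : QuadraticForm F V}

/-- `T` is not the identity on `W` -/
def Nt (T : V ≃ₗ[F] V) (W : Submodule F V) : Prop := ∃ v ∈ W, T v ≠ v

theorem not_Nt {T : V ≃ₗ[F] V} {W : Submodule F V} : ¬ Nt T W ↔ ∀ v ∈ W, T v = v := by
  unfold Nt; push Not; rfl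

/-- fixed-point-free on `D` -/
def Fpf (T : V ≃ₗ[F] V) (D : Submodule F V) : Prop := ∀ v ∈ D, T v = v → v = 0

variable [CharP F 2]

theorem Fpf.sq {T : V ≃ₗ[F] V} {D : Submodule F V} (hD : ∀ v ∈ D, T v ∈ D) (h : Fpf T D) : Fpf (T ^ 2) D := by
  intro v hv hv2
  have h1 : T (T v - v) = T v - v := by
    have h2 : T (T v) = v := hv2
    rw [map_sub, h2, vsub_eq (F := F), vsub_eq (F := F), add_comm]
  exact h v hv (sub_eq_zero.1 (h _ (D.sub_mem (hD v hv) hv) h1))

omit [CharP F 2] in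
theorem pow_inv {T : V ≃ₗ[F] V} {D : Submodule F V} (hD : ∀ v ∈ D, T v ∈ D) (k : ℕ) :
    ∀ v ∈ D, (T ^ k) v ∈ D := by
  induction k with
  | zero => intro v hv; exact hv
  | succ k ih =>
    intro v hv
    rw [pow_succ]
    exact ih _ (hD v hv)

theorem Fpf.two_pow {T : V ≃ₗ[F] V} {D : Submodule F V} (hD : ∀ v ∈ D, T v ∈ D) (h : Fpf T D) (k : ℕ) :
    Fpf (T ^ (2 ^ k)) D := by
  induction k with
  | zero => simpa using h
  | succ k ih =>
    rw [pow_succ, pow_mul]
    exact Fpf.sq (pow_inv hD _) ih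

theorem scal_one {T : V ≃ₗ[F] V} (hT : T ∈ O Q) {W : Submodule F V} (hW : Nondeg (Q.comp W.subtype))
    (h0 : W ≠ ⊥) {a : F} (h : ∀ v ∈ W, T v = a • v) : a = 1 := by
  obtain ⟨v, hv, hv0⟩ := W.ne_bot_iff.1 h0
  obtain ⟨⟨w, hw⟩, hvw⟩ := hW.exists_polar_ne (x := (⟨v, hv⟩ : W)) (fun h => hv0 (congrArg Subtype.val h))
  have hvw' : polar Q v w ≠ 0 := hvw
  have h1 := polar_map hT v w
  rw [h v hv, h w hw, polar_smul_left, polar_smul_right, smul_eq_mul, smul_eq_mul, ← mul_assoc] at h1
  have h2 : (a * a - 1) * polar Q v w = 0 := by rw [sub_mul, h1, one_mul, sub_self]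
  have h3 : a * a - 1 = 0 := (mul_eq_zero.1 h2).resolve_right hvw'
  have h4 : (a - 1) * (a - 1) = 0 := by
    have : (2 : F) = 0 := two0
    linear_combination h3 + (1 - a) * this
  exact sub_eq_zero.1 (mul_self_eq_zero.1 h4)

end lin

variable {F V G Ω : Type} [Field F] [Finite F] [CharP F 2] [AddCommGroup V] [Module F V] [FiniteDimensional F V]
  [Group G] [Finite G] [MulAction G Ω] [Nonempty Ω]
  {Q : QuadraticForm F V} {N : Subgroup G} {ρ : ↥(E Q) →* G} {ι : Type} [Finite ι] {x : ι → G}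
  {M : ι → Gam Q} {X : ι → V ≃ₗ[F] V} {c : ι → F} {r : ι → ℕ}

/-- a cover by isometries -/
structure FC (Q : QuadraticForm F V) (Ω : Type) [MulAction G Ω] (N : Subgroup G) (ρ : ↥(E Q) →* G)
    {ι : Type} (x : ι → G) (M : ι → Gam Q) (X : ι → V ≃ₗ[F] V) (r : ι → ℕ) : Prop where
  cv : CV Q Ω N ρ 2 x M X (fun _ => 1) r
  iso : ∀ i, X i ∈ O Q

/-- **Rule (A)** -/
theorem FC.box_A (h : FC Q Ω N ρ x M X r)
    (W : Submodule F V) (hW : Nondeg (Q.comp W.subtype)) (h5 : 5 ≤ Module.finrank F W) (hWt : W ≠ ⊤)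
    (hinv : ∀ i, ∀ v ∈ W, X i v ∈ W) (hne : ∃ i, Nt (X i) W)
    (hinj : ∀ i j, Nt (X i) W → Nt (X j) W → r i = r j → i = j)
    (hp : ∀ i, r i = 2 → Nt (X i) W)
    (hRC : ¬ (Nat.card F = 2 ∧ Module.finrank F W = 6 ∧ ∃ U : Submodule F V, U ≤ W ∧ (∀ v ∈ U, Q v = 0) ∧
      Module.finrank F U = 3) ∨ ∀ i j, Nt (X i) W → Nt (X j) W → i = j) : False := by
  have h0 : W ≠ ⊥ := by
    rintro rfl
    rw [finrank_bot] at h5
    omega
  have key : ∀ i, (∀ a : F, ¬ ∀ v ∈ W, X i v = a • v) ↔ Nt (X i) W := by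
    intro i
    constructor
    · intro h1
      by_contra h2
      rw [not_Nt] at h2
      exact h1 1 fun v hv => by rw [h2 v hv, one_smul]
    · rintro ⟨v, hv, h1⟩ a h2
      apply h1
      rw [h2 v hv, scal_one (h.iso i) hW h0 h2, one_smul]
  refine h.cv.box_A W (OrthFinite.good_of_finite hW h5) hWt hinv ?_ ?_ ?_ ?_
  · obtain ⟨i, hi⟩ := hne
    exact ⟨i, (key i).2 hi⟩
  · intro i hi j hj hij
    exact hinj i j ((key i).1 hi) ((key j).1 hj) hij
  · rintro i ⟨a, ha⟩ h2
    exact (key i).2 (hp i h2) a ha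
  · rcases hRC with h1 | h1
    · left
      rintro ⟨a, b, U, hU, hU3⟩
      refine h1 ⟨a, b, U.map W.subtype, ?_, ?_, ?_⟩
      · rintro _ ⟨v, -, rfl⟩
        exact v.2
      · rintro _ ⟨v, hv, rfl⟩
        exact hU v hv
      · rw [← hU3]
        exact (LinearEquiv.finrank_eq (Submodule.equivMapOfInjective _ W.injective_subtype _)).symm
    · right
      intro i hi j hj
      exact h1 i j ((key i).1 hi) ((key j).1 hj)

/-- the elements `E Q` commuting with the `X j` -/
theorem FC.rho_comm (h : FC Q Ω N ρ x M X r) (i : ι) {c : ↥(E Q)}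
    (hc : ∀ v, X i ((c : V ≃ₗ[F] V) v) = (c : V ≃ₗ[F] V) (X i v)) : ρ c * x i = x i * ρ c := by
  have h1 := h.cv.lf i c
  have h2 : conjE Q (M i) c = c := by
    apply Subtype.ext
    rw [coe_conjE]
    ext v
    obtain ⟨v, rfl⟩ := (M i).1.surjective v
    rw [conjLin_apply', h.cv.lin, h.cv.lin, hc]
  rw [h2] at h1
  exact (mul_inv_eq_iff_eq_mul.1 h1).symm

omit [Finite F] [CharP F 2] [FiniteDimensional F V] in
theorem tg_pow_apply {M : Gam Q} {X : V ≃ₗ[F] V} (h : ∀ v, M.1 v = X v) (k : ℕ) (v : V) :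
    (M ^ k).1 v = (X ^ k) v := by
  induction k generalizing v with
  | zero => rfl
  | succ k ih =>
    rw [pow_succ, pow_succ]
    change (M ^ k).1 (M.1 v) = (X ^ k) (X v)
    rw [h, ih]

omit [Finite F] [CharP F 2] [FiniteDimensional F V] in
theorem tg_inv_apply {M : Gam Q} {X : V ≃ₗ[F] V} (h : ∀ v, M.1 v = X v) (v : V) :
    (M⁻¹).1 v = X⁻¹ v := by
  obtain ⟨v, rfl⟩ := X.surjective v
  have h1 : X⁻¹ (X v) = v := X.symm_apply_apply v
  rw [h1, ← h]
  exact _root_.Cfsg.Agent.ClassicalGeometry.OrthSemi.inv_apply M.1 v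

/-- **(MV)** : the member `i₀` may be replaced by an element of odd prime order -/
theorem FC.mv [DecidableEq ι] (h : FC Q Ω N ρ x M X r) (i₀ : ι) (c : ↥(E Q))
    (hc : ∀ j, j ≠ i₀ → ∀ v, X j ((c : V ≃ₗ[F] V) v) = (c : V ≃ₗ[F] V) (X j v))
    (z : V ≃ₗ[F] V) (hz : z = (c : V ≃ₗ[F] V) * X i₀ * (c : V ≃ₗ[F] V)⁻¹ * (X i₀)⁻¹)
    (D : Submodule F V) (hD0 : D ≠ ⊥) (hD : ∀ v ∈ D, z v ∈ D) (hf : Fpf z D)
    (hfix : ∃ v, v ≠ 0 ∧ z v = v) :
    ∃ (k : ℕ) (ℓ : ℕ) (x' : ι → G) (M' : ι → Gam Q), ℓ ≠ 2 ∧ z ^ k ≠ 1 ∧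
      FC Q Ω N ρ x' M' (Function.update X i₀ (z ^ k)) (Function.update r i₀ ℓ) := by
  classical
  let zG : G := ρ c * x i₀ * (ρ c)⁻¹ * (x i₀)⁻¹
  let L : Gam Q := tg Q c * M i₀ * (tg Q c)⁻¹ * (M i₀)⁻¹
  have hL : Lf ρ zG L := ((Lf.tg c).mul (h.cv.lf i₀)).mul (Lf.tg c).inv |>.mul (h.cv.lf i₀).inv
  have hLz : ∀ v, L.1 v = z v := by
    intro v
    have h1 : L.1 v = (tg Q c).1 ((M i₀).1 (((tg Q c)⁻¹).1 (((M i₀)⁻¹).1 v))) := rfl
    rw [h1, tg_inv_apply (X := (c : V ≃ₗ[F] V)) (fun v => tg_apply c v), tg_inv_apply (h.cv.lin i₀), h.cv.lin,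
      tg_apply, hz]
    rfl
  have hcx : ∀ j, j ≠ i₀ → ρ c * x j = x j * ρ c := fun j hj => h.rho_comm j (hc j hj)
  have hcov := h.cv.cov
  -- an odd prime dividing the order
  obtain ⟨ℓ, hℓ, hℓ2, hℓm⟩ : ∃ ℓ : ℕ, ℓ.Prime ∧ ℓ ≠ 2 ∧ ℓ ∣ orderOf zG := by
    by_contra hno
    push Not at hno
    have h2 : orderOf zG = 2 ^ (orderOf zG).primeFactorsList.length :=
      Nat.eq_prime_pow_of_unique_prime_dvd (orderOf_pos zG).ne' (fun {d} hd hdm => by
        by_contra h3
        exact hno d hd h3 hdm)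
    set a := (orderOf zG).primeFactorsList.length
    have h3 : zG ^ (2 ^ a) = 1 := by rw [← h2]; exact pow_orderOf_eq_one zG
    have h4 : IsScal (L ^ (2 ^ a)) := hL.pow_scal h.cv.good h.cv.rep h3
    obtain ⟨s, -, hs⟩ := h4
    obtain ⟨v, hv0, hv⟩ := hfix
    have h5 : s = 1 := by
      have h6 := hs v
      rw [tg_pow_apply hLz, pow_apply_of hv] at h6
      have h7 : (1 - s) • v = 0 := by rw [sub_smul, one_smul, ← h6, sub_self]
      rcases smul_eq_zero.1 h7 with h8 | h8
      · exact (sub_eq_zero.1 h8).symm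
      · exact (hv0 h8).elim
    obtain ⟨w, hw, hw0⟩ := D.ne_bot_iff.1 hD0
    apply hw0
    apply Fpf.two_pow hD hf a w hw
    rw [← tg_pow_apply hLz, hs, h5, one_smul]
  obtain ⟨k, hk⟩ := hℓm
  have hz1 : (zG ^ k) ^ ℓ = 1 := by rw [← pow_mul, mul_comm, ← hk]; exact pow_orderOf_eq_one zG
  have hzne : zG ^ k ≠ 1 := by
    intro h1
    have h2 := orderOf_dvd_of_pow_eq_one h1
    rw [hk] at h2
    have hk0 : 0 < k := by
      rcases Nat.eq_zero_or_pos k with h3 | h3
      · rw [h3, mul_zero] at hk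
        exact absurd hk (orderOf_pos zG).ne'
      · exact h3
    have h3 := Nat.le_of_dvd hk0 h2
    have := hℓ.two_le
    nlinarith only [hk0, h3, this]
  have hzc : ∀ j, j ≠ i₀ → zG ^ k * x j = x j * zG ^ k := by
    intro j hj
    have h1 : Commute (ρ c) (x j) := hcx j hj
    have h2 : Commute (x i₀) (x j) := h.cv.comm i₀ j
    exact (((h1.mul_left h2).mul_left h1.inv_left).mul_left h2.inv_left).pow_left k
  have hmem : zG ^ k ∈ Subgroup.closure {z | ∃ c : G, (∀ j, j ≠ i₀ → c * x j = x j * c) ∧ z = c * x i₀ * c⁻¹} := by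
    apply Subgroup.pow_mem
    apply Subgroup.mul_mem
    · exact Subgroup.subset_closure ⟨ρ c, fun j hj => hcx j hj, rfl⟩
    · apply Subgroup.inv_mem
      exact Subgroup.subset_closure ⟨1, by simp, by simp⟩
  have hzcx : ∀ j, j ≠ i₀ → ∀ v, X j (z v) = z (X j v) := by
    intro j hj v
    have hcj := hc j hj
    have h1 : ∀ v, X j ((c : V ≃ₗ[F] V)⁻¹ v) = (c : V ≃ₗ[F] V)⁻¹ (X j v) := by
      intro v
      obtain ⟨v, rfl⟩ := (c : V ≃ₗ[F] V).surjective v
      have h2 : ∀ w, (c : V ≃ₗ[F] V)⁻¹ ((c : V ≃ₗ[F] V) w) = w := fun w => (c : V ≃ₗ[F] V).symm_apply_apply w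
      rw [h2, hcj, h2]
    have hij := h.cv.commX i₀ j
    have h3 : ∀ v, X j (X i₀ v) = X i₀ (X j v) := fun v => (LinearEquiv.congr_fun hij v).symm
    have h4 : ∀ v, X j ((X i₀)⁻¹ v) = (X i₀)⁻¹ (X j v) := by
      intro v
      obtain ⟨v, rfl⟩ := (X i₀).surjective v
      have h2 : ∀ w, (X i₀)⁻¹ (X i₀ w) = w := fun w => (X i₀).symm_apply_apply w
      rw [h2, h3, h2]
    rw [hz]
    show X j ((c : V ≃ₗ[F] V) (X i₀ ((c : V ≃ₗ[F] V)⁻¹ ((X i₀)⁻¹ v)))) =
      (c : V ≃ₗ[F] V) (X i₀ ((c : V ≃ₗ[F] V)⁻¹ ((X i₀)⁻¹ (X j v))))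
    rw [hcj, h3, h1, h4]
  have hzO : z ∈ O Q := by
    rw [hz]
    exact (O Q).mul_mem ((O Q).mul_mem ((O Q).mul_mem (E_le_O c.2) (h.iso i₀)) ((O Q).inv_mem (E_le_O c.2)))
      ((O Q).inv_mem (h.iso i₀))
  have hzkc : ∀ j, j ≠ i₀ → X j * z ^ k = z ^ k * X j := by
    intro j hj
    have h1 : Commute (X j) z := by
      ext v
      exact hzcx j hj v
    exact h1.pow_right k
  have hiso : ∀ i, Function.update X i₀ (z ^ k) i ∈ O Q := by
    intro i
    by_cases hi : i = i₀
    · subst hi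
      rw [Function.update_self]
      exact (O Q).pow_mem hzO k
    · rw [Function.update_of_ne hi]
      exact h.iso i
  refine ⟨k, ℓ, Function.update x i₀ (zG ^ k), Function.update M i₀ (L ^ k), hℓ2, ?_, ⟨⟨h.cv.good, h.cv.env, h.cv.rep, h.cv.lr,
    h.cv.ih, ?_, ?_, ?_, ?_, h.cv.cov.mv i₀ hmem, ?_, ?_, ?_, ?_⟩, hiso⟩⟩
  · intro h1
    apply hzne
    rw [(hL.pow k).eq_one_iff h.cv.good h.cv.env h.cv.rep]
    refine ⟨1, one_ne_zero, fun v => ?_⟩
    rw [tg_pow_apply hLz, h1, one_smul]; rfl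
  · intro i
    by_cases hi : i = i₀
    · subst hi; rw [Function.update_self]; exact hℓ
    · rw [Function.update_of_ne hi]; exact h.cv.prime i
  · intro i
    by_cases hi : i = i₀
    · subst hi; rw [Function.update_self, Function.update_self]; exact hz1
    · rw [Function.update_of_ne hi, Function.update_of_ne hi]; exact h.cv.pow i
  · intro i
    by_cases hi : i = i₀
    · subst hi; rw [Function.update_self]; exact hzne
    · rw [Function.update_of_ne hi]; exact h.cv.ne i
  · intro i j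
    by_cases hi : i = i₀
    · subst hi
      rw [Function.update_self]
      by_cases hj : j = i
      · subst hj; rw [Function.update_self]
      · rw [Function.update_of_ne hj]; exact hzc j hj
    · rw [Function.update_of_ne hi]
      by_cases hj : j = i₀
      · subst hj; rw [Function.update_self]; exact (hzc i hi).symm
      · rw [Function.update_of_ne hj]; exact h.cv.comm i j
  · intro i
    by_cases hi : i = i₀
    · subst hi; rw [Function.update_self, Function.update_self]; exact hL.pow k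
    · rw [Function.update_of_ne hi, Function.update_of_ne hi]; exact h.cv.lf i
  · intro i v
    by_cases hi : i = i₀
    · subst hi; rw [Function.update_self, Function.update_self]; exact tg_pow_apply hLz k v
    · rw [Function.update_of_ne hi, Function.update_of_ne hi]; exact h.cv.lin i v
  · intro i v
    rw [one_mul]
    exact hiso i v
  · intro i j
    by_cases hi : i = i₀
    · subst hi
      rw [Function.update_self]
      by_cases hj : j = i
      · subst hj; rw [Function.update_self]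
      · rw [Function.update_of_ne hj]; exact (hzkc j hj).symm
    · rw [Function.update_of_ne hi]
      by_cases hj : j = i₀
      · subst hj; rw [Function.update_self]; exact hzkc i hi
      · rw [Function.update_of_ne hj]; exact h.cv.commX i j

end Cfsg.Agent.H578.RC
end

-- part: H578/RC/Lin4
section
/-!
# S3510, row F, box E7: more linear algebra (helper578)
-/

set_option autoImplicit false
open Cfsg

namespace Cfsg.Agent.H578.RC

open QuadraticMap
open Cfsg.Agent.LieClassical.OrthCore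

section gen

variable {F V : Type*} [Field F] [AddCommGroup V] [Module F V] {Q : QuadraticForm F V}

/-- complement inside a subspace -/
theorem nd_compl [FiniteDimensional F V] (hQ : Nondeg Q) {D P : Submodule F V} (hP : Nondeg (Q.comp P.subtype))
    (hD : Nondeg (Q.comp D.subtype)) (hPD : P ≤ D) :
    Nondeg (Q.comp (D ⊓ pp Q P).subtype) ∧
      Module.finrank F P + Module.finrank F ↥(D ⊓ pp Q P) = Module.finrank F D := by
  have hsplit : ∀ y ∈ D, ∃ p ∈ P, ∃ q ∈ D ⊓ pp Q P, y = p + q := by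
    intro y hy
    obtain ⟨p, hp, q, hq, rfl⟩ := exists_dec hQ hP y
    refine ⟨p, hp, q, ⟨?_, hq⟩, rfl⟩
    have : q = (p + q) - p := by abel
    rw [this]
    exact D.sub_mem hy (hPD hp)
  constructor
  · rw [nondeg_iff, eq_bot_iff]
    rintro x ⟨⟨hxD, hxP⟩, hx⟩
    have h1 : x ∈ D ⊓ pp Q D := by
      refine ⟨hxD, fun y hy => ?_⟩
      obtain ⟨p, hp, q, hq, rfl⟩ := hsplit y hy
      rw [polar_add_left, hxP p hp, hx q hq, add_zero]
    rw [(nondeg_iff D).1 hD] at h1
    exact h1
  · have h1 := Submodule.finrank_sup_add_finrank_inf_eq P (D ⊓ pp Q P)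
    have h2 : P ⊓ (D ⊓ pp Q P) = ⊥ := by
      rw [eq_bot_iff, ← (nondeg_iff P).1 hP]
      rintro x ⟨h3, -, h4⟩
      exact ⟨h3, h4⟩
    have h3 : P ⊔ (D ⊓ pp Q P) = D := by
      apply le_antisymm
      · exact sup_le hPD inf_le_left
      · intro y hy
        obtain ⟨p, hp, q, hq, rfl⟩ := hsplit y hy
        exact Submodule.add_mem_sup hp hq
    rw [h2, h3, finrank_bot] at h1
    omega

/-- a basis of a plane -/
theorem exists_pair {L : Submodule F V} (h2 : Module.finrank F L = 2) :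
    ∃ u ∈ L, ∃ w ∈ L, u ≠ 0 ∧ (∀ a : F, w ≠ a • u) ∧ Submodule.span F {u, w} = L := by
  have hfin : Module.Finite F L := Module.finite_of_finrank_pos (by omega)
  let b := Module.finBasisOfFinrankEq F L h2
  have hli := b.linearIndependent
  have h01 : LinearIndependent F ![(b 0 : L), b 1] := by
    have : ![(b 0 : L), b 1] = b := by
      ext i
      fin_cases i <;> rfl
    rw [this]; exact hli
  rw [LinearIndependent.pair_iff] at h01
  refine ⟨b 0, (b 0).2, b 1, (b 1).2, ?_, ?_, ?_⟩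
  · intro h
    have h3 := h01 1 0 (by
      rw [zero_smul, add_zero, one_smul]
      exact Subtype.ext h)
    exact one_ne_zero h3.1
  · intro a ha
    have h3 := h01 (-a) 1 (by
      rw [one_smul]
      apply Subtype.ext
      show (-a) • (b 0 : V) + (b 1 : V) = 0
      rw [ha]; module)
    exact one_ne_zero h3.2
  · have h3 := b.span_eq
    have h4 : Set.range b = {b 0, b 1} := by
      ext v
      constructor
      · rintro ⟨i, rfl⟩
        fin_cases i
        · left; rfl
        · right; rfl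
      · rintro (rfl | rfl)
        · exact ⟨0, rfl⟩
        · exact ⟨1, rfl⟩
    rw [h4] at h3
    have h5 := congrArg (Submodule.map L.subtype) h3
    rw [Submodule.map_span, Submodule.map_top, Submodule.range_subtype, Set.image_pair] at h5
    exact h5

theorem finrank_pair {u w : V} (hu : u ≠ 0) (hw : ∀ a : F, w ≠ a • u) :
    Module.finrank F (Submodule.span F {u, w}) = 2 := by
  have hli : LinearIndependent F ![u, w] := by
    rw [LinearIndependent.pair_iff]
    intro s t h
    by_cases ht : t = 0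
    · subst ht
      rw [zero_smul, add_zero] at h
      exact ⟨(smul_eq_zero.1 h).resolve_right hu, rfl⟩
    · exfalso
      apply hw (-(t⁻¹ * s))
      have h1 : t • w = -(s • u) := by rw [eq_neg_iff_add_eq_zero, add_comm]; exact h
      have h2 : w = t⁻¹ • (t • w) := by rw [smul_smul, inv_mul_cancel₀ ht, one_smul]
      rw [h2, h1]; module
  have h := finrank_span_eq_card hli
  have h4 : Set.range ![u, w] = {u, w} := by
    ext v
    constructor
    · rintro ⟨i, rfl⟩
      fin_cases i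
      · left; rfl
      · right; rfl
    · rintro (rfl | rfl)
      · exact ⟨0, rfl⟩
      · exact ⟨1, rfl⟩
  rw [h4] at h
  exact h

/-- a linear map preserving the generators preserves the plane -/
theorem span_inv {u w : V} {T : V ≃ₗ[F] V} (h1 : T u ∈ Submodule.span F {u, w})
    (h2 : T w ∈ Submodule.span F {u, w}) : ∀ v ∈ Submodule.span F {u, w}, T v ∈ Submodule.span F {u, w} := by
  intro v hv
  obtain ⟨a, b, rfl⟩ := Submodule.mem_span_pair.1 hv
  rw [map_add, map_smul, map_smul]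
  exact Submodule.add_mem _ (Submodule.smul_mem _ _ h1) (Submodule.smul_mem _ _ h2)

theorem span_sing {u w : V} (hu : Q u = 0) (hw : Q w = 0) (huw : polar Q u w = 0) :
    ∀ v ∈ Submodule.span F {u, w}, Q v = 0 := by
  intro v hv
  obtain ⟨a, b, rfl⟩ := Submodule.mem_span_pair.1 hv
  rw [Q_add, QuadraticMap.map_smul, QuadraticMap.map_smul, polar_smul_left, polar_smul_right, hu, hw, huw]
  simp

end gen

section two

variable {F V : Type*} [Field F] [CharP F 2] [AddCommGroup V] [Module F V] {Q : QuadraticForm F V}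

/-- nondegenerate subspaces have even dimension -/
theorem even_nd [FiniteDimensional F V] {D : Submodule F V} (hD : Nondeg (Q.comp D.subtype)) :
    Even (Module.finrank F D) := by
  let β : LinearMap.BilinForm F D := polarBilin (Q.comp D.subtype)
  have halt : β.IsAlt := fun v => polar_self2 v
  have h1 := Cfsg.Agent.H174.even_finrank_range_of_isAlt β halt
  have h2 := LinearMap.finrank_range_add_finrank_ker β
  have h3 : LinearMap.ker β = ⊥ := by
    rw [LinearMap.ker_eq_bot']
    intro v hv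
    exact hD v fun y => LinearMap.congr_fun hv y
  rw [h3, finrank_bot, add_zero] at h2
  rwa [h2] at h1

variable {u : V ≃ₗ[F] V} {y1 y2 x1 x2 : V}

/-- the opposite root element -/
theorem Q4.hyw (h : Q4 Q u y1 y2 x1 x2) (m : F) : polar Q y1 (m • y2) = 0 := by
  rw [polar_smul_right, h.yy, smul_zero]

theorem Q4.c_apply (h : Q4 Q u y1 y2 x1 x2) (m : F) (v : V) :
    siegel Q y1 (m • y2) h.qy1 (h.hyw m) v = v + (m * polar Q y1 v) • y2 + (m * polar Q y2 v) • y1 := by
  rw [siegel_apply, QuadraticMap.map_smul, h.qy2, polar_smul_left, vsub_eq (F := F), vsub_eq (F := F)]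
  simp only [smul_eq_mul, mul_zero, zero_mul, zero_smul, add_zero]
  module

theorem Q4.c_comm (h : Q4 Q u y1 y2 x1 x2) (m : F) {T : V ≃ₗ[F] V} (hT : T ∈ O Q) {a b c d : F}
    (hdet : a * d + b * c = 1) (h1 : T y1 = a • y1 + b • y2) (h2 : T y2 = c • y1 + d • y2) (v : V) :
    T (siegel Q y1 (m • y2) h.qy1 (h.hyw m) v) = siegel Q y1 (m • y2) h.qy1 (h.hyw m) (T v) := by
  have two : (2 : F) = 0 := two0
  have e1 : y1 = d • T y1 + b • T y2 := by
    rw [h1, h2]
    have : d • (a • y1 + b • y2) + b • (c • y1 + d • y2) = (a * d + b * c) • y1 + (2 * (b * d)) • y2 := by module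
    rw [this, hdet, two, zero_mul, zero_smul, one_smul, add_zero]
  have e2 : y2 = c • T y1 + a • T y2 := by
    rw [h1, h2]
    have : c • (a • y1 + b • y2) + a • (c • y1 + d • y2) = (a * d + b * c) • y2 + (2 * (a * c)) • y1 := by module
    rw [this, hdet, two, zero_mul, zero_smul, one_smul, add_zero]
  have p1 : polar Q y1 (T v) = d * polar Q y1 v + b * polar Q y2 v := by
    conv_lhs => rw [e1]
    rw [polar_add_left, polar_smul_left, polar_smul_left, polar_map hT, polar_map hT, smul_eq_mul, smul_eq_mul]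
  have p2 : polar Q y2 (T v) = c * polar Q y1 v + a * polar Q y2 v := by
    conv_lhs => rw [e2]
    rw [polar_add_left, polar_smul_left, polar_smul_left, polar_map hT, polar_map hT, smul_eq_mul, smul_eq_mul]
  rw [h.c_apply, h.c_apply, p1, p2, map_add, map_add, map_smul, map_smul, h1, h2]
  module

/-- `c` fixes the orthogonal space -/
theorem Q4.c_fix (h : Q4 Q u y1 y2 x1 x2) (m : F) {v : V} (h1 : polar Q y1 v = 0) (h2 : polar Q y2 v = 0) :
    siegel Q y1 (m • y2) h.qy1 (h.hyw m) v = v := by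
  rw [h.c_apply, h1, h2, mul_zero, zero_smul, zero_smul, add_zero, add_zero]

theorem Q4.c_inv (h : Q4 Q u y1 y2 x1 x2) (m : F) :
    (siegel Q y1 (m • y2) h.qy1 (h.hyw m))⁻¹ = siegel Q y1 (m • y2) h.qy1 (h.hyw m) := by
  apply inv_eq_of_mul_eq_one_left
  ext v
  show siegel Q y1 (m • y2) h.qy1 (h.hyw m) (siegel Q y1 (m • y2) h.qy1 (h.hyw m) v) = v
  rw [h.c_apply, h.c_apply]
  simp only [polar_add_right, polar_smul_right, h.yy, h.yy', polar_self_of_sing h.qy1, polar_self_of_sing h.qy2,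
    smul_eq_mul, mul_zero, add_zero]
  have h1 := vadd_self (F := F) ((m * polar Q y1 v) • y2)
  have h2 := vadd_self (F := F) ((m * polar Q y2 v) • y1)
  calc v + (m * polar Q y1 v) • y2 + (m * polar Q y2 v) • y1 + (m * polar Q y1 v) • y2 + (m * polar Q y2 v) • y1
      = v + ((m * polar Q y1 v) • y2 + (m * polar Q y1 v) • y2) + ((m * polar Q y2 v) • y1 + (m * polar Q y2 v) • y1) := by
        abel
    _ = v := by rw [h1, h2, add_zero, add_zero]

theorem Inv2.inv (hu : Inv2 Q u) : u⁻¹ = u := by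
  apply inv_eq_of_mul_eq_one_left
  ext v
  exact hu.sq v

/-- the product `c u` on `D` -/
theorem Q4.cu (h : Q4 Q u y1 y2 x1 x2) (m : F) (α β γ δ : F) :
    siegel Q y1 (m • y2) h.qy1 (h.hyw m) (u (α • y1 + β • y2 + γ • x1 + δ • x2)) =
      (α * (1 + m) + δ * m) • y1 + (β * (1 + m) + γ * m) • y2 + (β + γ) • x1 + (α + δ) • x2 := by
  have e : u (α • y1 + β • y2 + γ • x1 + δ • x2) = α • y1 + β • y2 + (β + γ) • x1 + (α + δ) • x2 := by
    simp only [map_add, map_smul, h.u1, h.u2, h.ux1, h.ux2]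
    module
  rw [e, h.c_apply]
  simp only [polar_add_right, polar_smul_right, h.yy, h.yy', h.c11, h.c12, h.c21, h.c22, polar_self_of_sing h.qy1,
    polar_self_of_sing h.qy2, smul_eq_mul, mul_one, mul_zero, add_zero, zero_add]
  module

/-- the commutator `[c,u]` -/
theorem Q4.z_apply (hu : Inv2 Q u) (h : Q4 Q u y1 y2 x1 x2) (m : F) (v : V) :
    (siegel Q y1 (m • y2) h.qy1 (h.hyw m) * u * (siegel Q y1 (m • y2) h.qy1 (h.hyw m))⁻¹ * u⁻¹) v =
      siegel Q y1 (m • y2) h.qy1 (h.hyw m) (u (siegel Q y1 (m • y2) h.qy1 (h.hyw m) (u v))) := by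
  rw [h.c_inv, hu.inv]; rfl

/-- fixed-point-free on `D` -/
theorem Q4.fpf [FiniteDimensional F V] (hu : Inv2 Q u) (h : Q4 Q u y1 y2 x1 x2) {m : F} (hm : m ≠ 0) {D : Submodule F V}
    (h4 : Module.finrank F D = 4)
    (m1 : y1 ∈ D) (m2 : y2 ∈ D) (m3 : x1 ∈ D) (m4 : x2 ∈ D) :
    Fpf (siegel Q y1 (m • y2) h.qy1 (h.hyw m) * u * (siegel Q y1 (m • y2) h.qy1 (h.hyw m))⁻¹ * u⁻¹) D ∧
    (∀ v ∈ D, (siegel Q y1 (m • y2) h.qy1 (h.hyw m) * u * (siegel Q y1 (m • y2) h.qy1 (h.hyw m))⁻¹ * u⁻¹) v ∈ D) := by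
  have two : (2 : F) = 0 := two0
  have hf : ∀ v ∈ D, (siegel Q y1 (m • y2) h.qy1 (h.hyw m) * u * (siegel Q y1 (m • y2) h.qy1 (h.hyw m))⁻¹ * u⁻¹) v =
      v + m • siegel Q y1 (m • y2) h.qy1 (h.hyw m) (u v) := by
    intro v hv
    obtain ⟨α, β, γ, δ, rfl⟩ := h.span h4 m1 m2 m3 m4 hv
    rw [h.z_apply hu, h.cu, h.cu]
    have e1 : (α * (1 + m) + δ * m) * (1 + m) + (α + δ) * m = α + m * (α * (1 + m) + δ * m) := by
      linear_combination (m * α + m * δ) * two
    have e2 : (β * (1 + m) + γ * m) * (1 + m) + (β + γ) * m = β + m * (β * (1 + m) + γ * m) := by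
      linear_combination (m * β + m * γ) * two
    have e3 : β * (1 + m) + γ * m + (β + γ) = γ + m * (β + γ) := by linear_combination β * two
    have e4 : α * (1 + m) + δ * m + (α + δ) = δ + m * (α + δ) := by linear_combination α * two
    rw [e1, e2, e3, e4]
    module
  constructor
  · intro v hv hv1
    rw [hf v hv, add_eq_left] at hv1
    have h1 := (smul_eq_zero.1 hv1).resolve_left hm
    rw [LinearEquiv.map_eq_zero_iff, LinearEquiv.map_eq_zero_iff] at h1
    exact h1
  · intro v hv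
    rw [hf v hv]
    apply D.add_mem hv
    apply D.smul_mem
    obtain ⟨α, β, γ, δ, rfl⟩ := h.span h4 m1 m2 m3 m4 hv
    rw [h.cu]
    exact D.add_mem (D.add_mem (D.add_mem (D.smul_mem _ m1) (D.smul_mem _ m2)) (D.smul_mem _ m3)) (D.smul_mem _ m4)

/-- the eigenplane for `m = b + 1/b` -/
theorem Q4.eigen (hu : Inv2 Q u) (h : Q4 Q u y1 y2 x1 x2) {b : F} (hb : b ≠ 0) {m : F} (hm : m = b + b⁻¹) :
    (siegel Q y1 (m • y2) h.qy1 (h.hyw m) * u * (siegel Q y1 (m • y2) h.qy1 (h.hyw m))⁻¹ * u⁻¹)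
        ((b + 1) • y1 + x2) = (b * b) • ((b + 1) • y1 + x2) ∧
    (siegel Q y1 (m • y2) h.qy1 (h.hyw m) * u * (siegel Q y1 (m • y2) h.qy1 (h.hyw m))⁻¹ * u⁻¹)
        ((b + 1) • y2 + x1) = (b * b) • ((b + 1) • y2 + x1) := by
  have two : (2 : F) = 0 := two0
  have hbm : m * b = b * b + 1 := by rw [hm, add_mul, inv_mul_cancel₀ hb]
  have key : (b + 1) * (1 + m) + m = b * (b + 1) := by
    have h1 : b * ((b + 1) * (1 + m) + m) = b * (b * (b + 1)) := by
      linear_combination (b + 2) * hbm + (b * b + b + 1) * two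
    exact mul_left_cancel₀ hb h1
  have e1 : siegel Q y1 (m • y2) h.qy1 (h.hyw m) (u ((b + 1) • y1 + x2)) = b • ((b + 1) • y1 + x2) := by
    have e : (b + 1) • y1 + x2 = (b + 1) • y1 + (0 : F) • y2 + (0 : F) • x1 + (1 : F) • x2 := by module
    rw [e, h.cu]
    have k1 : (b + 1) * (1 + m) + 1 * m = b * (b + 1) := by rw [one_mul]; exact key
    have k2 : b + 1 + 1 = b * 1 := by linear_combination two
    rw [k1, k2]
    module
  have e2 : siegel Q y1 (m • y2) h.qy1 (h.hyw m) (u ((b + 1) • y2 + x1)) = b • ((b + 1) • y2 + x1) := by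
    have e : (b + 1) • y2 + x1 = (0 : F) • y1 + (b + 1) • y2 + (1 : F) • x1 + (0 : F) • x2 := by module
    rw [e, h.cu]
    have k1 : (b + 1) * (1 + m) + 1 * m = b * (b + 1) := by rw [one_mul]; exact key
    have k2 : b + 1 + 1 = b * 1 := by linear_combination two
    rw [k1, k2]
    module
  constructor
  · rw [h.z_apply hu, e1, map_smul, map_smul, e1, smul_smul]
  · rw [h.z_apply hu, e2, map_smul, map_smul, e2, smul_smul]

/-- two reflections -/
theorem two_refl {a a' : V} (ha : Q a ≠ 0) (ha' : Q a' ≠ 0) (hQ : Q a' = Q a) (hp : polar Q a a' ≠ 0) :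
    Fpf (refl Q a' ha' * refl Q a ha) (Submodule.span F {a, a'}) ∧
    (∀ v ∈ Submodule.span F {a, a'}, (refl Q a' ha' * refl Q a ha) v ∈ Submodule.span F {a, a'}) ∧
    (∀ v ∈ pp Q (Submodule.span F {a, a'}), (refl Q a' ha' * refl Q a ha) v = v) ∧
    Nondeg (Q.comp (Submodule.span F {a, a'}).subtype) ∧
    Module.finrank F (Submodule.span F {a, a'}) = 2 := by
  have hma : a ∈ Submodule.span F {a, a'} := Submodule.subset_span (by simp)
  have hma' : a' ∈ Submodule.span F {a, a'} := Submodule.subset_span (by simp)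
  have hind : ∀ s t : F, s • a = t • a' → s = 0 ∧ t = 0 := by
    intro s t h
    have h1 := congrArg (fun z => polar Q a z) h
    have h2 := congrArg (fun z => polar Q a' z) h
    simp only [polar_smul_right, polar_self2, smul_eq_mul, mul_zero] at h1 h2
    rw [polar_comm Q a' a] at h2
    exact ⟨(mul_eq_zero.1 h2).resolve_right hp, (mul_eq_zero.1 h1.symm).resolve_right hp⟩
  have hnd : Nondeg (Q.comp (Submodule.span F {a, a'}).subtype) := by
    rw [nondeg_iff, eq_bot_iff]
    rintro v ⟨hv, hv'⟩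
    obtain ⟨s, t, rfl⟩ := Submodule.mem_span_pair.1 hv
    have h1 := hv' a hma
    have h2 := hv' a' hma'
    rw [polar_add_right, polar_smul_right, polar_smul_right, polar_self2, smul_zero, zero_add, smul_eq_mul] at h1
    rw [polar_add_right, polar_smul_right, polar_smul_right, polar_self2, smul_zero, add_zero, smul_eq_mul,
      polar_comm Q a' a] at h2
    rw [(mul_eq_zero.1 h1).resolve_right hp, (mul_eq_zero.1 h2).resolve_right hp]
    simp only [_root_.zero_smul, _root_.add_zero, _root_.ZeroMemClass.zero_mem]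
  refine ⟨?_, ?_, ?_, hnd, ?_⟩
  · intro v hv h
    have h1 : refl Q a ha v = refl Q a' ha' v := by
      have h2 : refl Q a' ha' ((refl Q a' ha' * refl Q a ha) v) = refl Q a ha v := by
        have h3 := LinearEquiv.congr_fun (refl_mul_self ha') (refl Q a ha v)
        exact h3
      rw [← h2, h]
    rw [refl_apply, refl_apply] at h1
    have h4 := hind _ _ (sub_right_injective h1)
    have h5 : polar Q a v = 0 := (mul_eq_zero.1 h4.1).resolve_left (inv_ne_zero ha)
    have h6 : polar Q a' v = 0 := (mul_eq_zero.1 h4.2).resolve_left (inv_ne_zero ha')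
    have h7 : v ∈ Submodule.span F {a, a'} ⊓ pp Q (Submodule.span F {a, a'}) := by
      refine ⟨hv, fun w hw => ?_⟩
      obtain ⟨s, t, rfl⟩ := Submodule.mem_span_pair.1 hw
      rw [polar_add_left, polar_smul_left, polar_smul_left, h5, h6]
      simp
    rw [(nondeg_iff _).1 hnd] at h7
    exact h7
  · intro v hv
    show refl Q a' ha' (refl Q a ha v) ∈ _
    rw [refl_apply, refl_apply]
    exact Submodule.sub_mem _ (Submodule.sub_mem _ hv (Submodule.smul_mem _ _ hma)) (Submodule.smul_mem _ _ hma')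
  · intro v hv
    show refl Q a' ha' (refl Q a ha v) = v
    rw [refl_apply ha, hv a hma, mul_zero, zero_smul, sub_zero, refl_apply, hv a' hma', mul_zero, zero_smul, sub_zero]
  · apply finrank_pair
    · rintro rfl
      exact hp (by rw [polar_zero_left])
    · intro s hs
      have h1 := hind (-s) (-1) (by rw [hs]; module)
      exact one_ne_zero (neg_eq_zero.1 h1.2)

end two

end Cfsg.Agent.H578.RC
end

-- part: H578/RC/Rul
section
/-!
# S3510, row F, box E7: planes, long root elements, the semisimple part (helper578)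
-/

set_option autoImplicit false
open Cfsg

namespace Cfsg.Agent.H578.RC

open QuadraticMap MulAction
open Cfsg.Agent.LieClassical Cfsg.Agent.LieClassical.OrthCore Cfsg.Agent.LieClassical.OrthTrans
open Cfsg.Agent.LieClassical.OrthSimple Cfsg.Agent.ClassicalGeometry.OrthSemi
open Cfsg.Agent.ClassicalGeometry.OrthAut1 Cfsg.Agent.H106.RC Cfsg.Agent.H93.RC Cfsg.Agent.H138.RC

section lin

variable {F V : Type*} [Field F] [CharP F 2] [AddCommGroup V] [Module F V] {Q : QuadraticForm F V}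

/-- a nontrivial action of prime order on a space over `F_2` -/
theorem nt_fpf {T : V ≃ₗ[F] V} {r : ℕ} (hr : Odd r) (hTr : T ^ r = 1) {W : Submodule F V}
    (hW : ∀ v ∈ W, T v ∈ W) :
    Fpf T (Xs T W) ∧ (∀ v ∈ Xs T W, T v ∈ Xs T W) ∧ Xs T W ≤ W ∧ (Nt T W → Xs T W ≠ ⊥) := by
  refine ⟨?_, Xs_inv (fun v => rfl) hW, Xs_le hW, ?_⟩
  · rintro _ ⟨v, hv, rfl⟩ h
    rw [dl_apply] at h ⊢
    rw [eq_of_unip hr hTr h, sub_self]
  · rintro ⟨v, hv, h1⟩ h2
    rw [Xs_eq_bot] at h2
    exact h1 (h2 v hv)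

theorem nd_Xs [FiniteDimensional F V] {T : V ≃ₗ[F] V} (hT : T ∈ O Q) {r : ℕ} (hr : Odd r) (hTr : T ^ r = 1)
    {W : Submodule F V} (hW : ∀ v ∈ W, T v ∈ W) (hWn : Nondeg (Q.comp W.subtype)) :
    Nondeg (Q.comp (Xs T W).subtype) := by
  rw [nondeg_iff, eq_bot_iff]
  rintro v ⟨hv, hv'⟩
  have hvW : v ∈ W := Xs_le hW hv
  -- `T v = v`
  have h1 : T v = v := by
    have h2 : T v - v ∈ W ⊓ pp Q W := by
      refine ⟨W.sub_mem (hW v hvW) hvW, fun w hw => ?_⟩
      obtain ⟨w, hw', rfl⟩ := surj_on hW hw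
      have h3 := hv' (T w - w) ⟨w, hw', rfl⟩
      rw [polar_sub_left] at h3
      rw [polar_sub_right, polar_map hT, ← neg_sub, h3, neg_zero]
    rw [(nondeg_iff W).1 hWn] at h2
    exact sub_eq_zero.1 h2
  exact (nt_fpf hr hTr hW).1 v hv h1

end lin

variable {F V G Ω : Type} [Field F] [Finite F] [CharP F 2] [AddCommGroup V] [Module F V] [FiniteDimensional F V]
  [Group G] [Finite G] [MulAction G Ω] [Nonempty Ω]
  {Q : QuadraticForm F V} {N : Subgroup G} {ρ : ↥(E Q) →* G} {ι : Type} [Finite ι] {x : ι → G}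
  {M : ι → Gam Q} {X : ι → V ≃ₗ[F] V} {r : ι → ℕ}

/-- **no invariant totally singular plane** for `2'`-families -/
theorem FC.no_plane (h : FC Q Ω N ρ x M X r) (hp : ∀ i, r i ≠ 2) {L : Submodule F V} (hL : ∀ v ∈ L, Q v = 0)
    (h2 : Module.finrank F L = 2) (hinv : ∀ i, ∀ v ∈ L, X i v ∈ L) : False := by
  obtain ⟨u, hu, w, hw, hu0, hind, hs⟩ := exists_pair h2
  have huw : polar Q u w = 0 := by
    rw [polar, hL _ (L.add_mem hu hw), hL u hu, hL w hw]; simp
  exact h.cv.no_plane hp (hL u hu) (hL w hw) huw hu0 hind (by rw [hs]; exact hinv)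

/-- **no long root element** of an invariant plane in the family -/
theorem FC.no_long (h : FC Q Ω N ρ x M X r) (i₀ : ι) (hp : ∀ i, i ≠ i₀ → r i ≠ 2) {u w : V} (hu : Q u = 0)
    (hw : Q w = 0) (huw : polar Q u w = 0) (hu0 : u ≠ 0) (hind : ∀ a : F, w ≠ a • u)
    (hX : ∀ v, X i₀ v = siegel Q u w hu huw v)
    (hinv : ∀ i, i ≠ i₀ → ∀ v ∈ Submodule.span F {u, w}, X i v ∈ Submodule.span F {u, w}) : False := by
  have hx : x i₀ = ρ (AutOrth.SemiSim.sg Q u w hu huw) := by
    have h1 : Lf ρ (x i₀ * (ρ (AutOrth.SemiSim.sg Q u w hu huw))⁻¹) (M i₀ * (tg Q (AutOrth.SemiSim.sg Q u w hu huw))⁻¹) :=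
      (h.cv.lf i₀).mul (Lf.tg _).inv
    have h2 : IsScal (M i₀ * (tg Q (AutOrth.SemiSim.sg Q u w hu huw))⁻¹) := by
      refine ⟨1, one_ne_zero, fun v => ?_⟩
      obtain ⟨v, rfl⟩ := (tg Q (AutOrth.SemiSim.sg Q u w hu huw)).1.surjective v
      have h3 : (M i₀ * (tg Q (AutOrth.SemiSim.sg Q u w hu huw))⁻¹).1 ((tg Q (AutOrth.SemiSim.sg Q u w hu huw)).1 v) =
          (M i₀).1 v := by
        show (M i₀).1 ((tg Q (AutOrth.SemiSim.sg Q u w hu huw)).1⁻¹ ((tg Q (AutOrth.SemiSim.sg Q u w hu huw)).1 v)) = _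
        rw [inv_apply]
      rw [h3, one_smul, h.cv.lin, hX]; rfl
    rw [← h1.eq_one_iff h.cv.good h.cv.env h.cv.rep] at h2
    exact mul_inv_eq_one.1 h2
  refine h.cv.no_lr {i | i ≠ i₀} (fun i hi => hp i hi) hu hw huw hu0 hind (fun i hi => hinv i hi) ?_
  intro ω
  obtain ⟨i, hi⟩ := h.cv.cov ω
  by_cases h1 : i = i₀
  · subst h1
    left; rw [← hx]; exact hi
  · right; exact ⟨i, h1, hi⟩

/-- the powers of the lifts -/
theorem FC.pow_one (h : FC Q Ω N ρ x M X r) (i : ι) : X i ^ r i = 1 := by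
  obtain ⟨a, -, ha⟩ := h.cv.pow_scal i
  have h1 : X i ^ r i ∈ O Q := (O Q).pow_mem (h.iso i) _
  have := h.cv.nt
  have hnt : Nondeg (Q.comp (⊤ : Submodule F V).subtype) := by
    rw [nondeg_iff, eq_bot_iff]
    rintro v ⟨-, hv⟩
    exact h.cv.good.nondeg v fun y => by rw [polar_comm]; exact hv y trivial
  have h2 := scal_one h1 hnt (by
    obtain ⟨v, hv⟩ := exists_ne (0 : V)
    intro h3
    exact hv ((Submodule.mem_bot F).1 (h3 ▸ Submodule.mem_top))) (fun v _ => ha v)
  ext v
  rw [ha, h2, one_smul]; rfl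

theorem FC.X_ne (h : FC Q Ω N ρ x M X r) (i : ι) : X i ≠ 1 := by
  intro h1
  apply h.cv.not_scal i 1
  intro v
  rw [h1, one_smul]; rfl

theorem FC.cm (h : FC Q Ω N ρ x M X r) (i j : ι) (v : V) : X i (X j v) = X j (X i v) :=
  LinearEquiv.congr_fun (h.cv.commX i j) v

/-- the involution -/
theorem FC.inv2 (h : FC Q Ω N ρ x M X r) {i₀ : ι} (h2 : r i₀ = 2) : Inv2 Q (X i₀) := by
  refine ⟨h.iso i₀, fun v => ?_⟩
  have h1 := h.pow_one i₀
  rw [h2] at h1
  exact LinearEquiv.congr_fun h1 v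

theorem FC.odd (h : FC Q Ω N ρ x M X r) {i : ι} (h2 : r i ≠ 2) : Odd (r i) := (h.cv.prime i).odd_of_ne_two h2

theorem FC.nondeg (h : FC Q Ω N ρ x M X r) : Nondeg Q := h.cv.good.nondeg

/-- nontrivial on `V`, trivial on `W`: nontrivial on the orthogonal space -/
theorem FC.nt_pp (h : FC Q Ω N ρ x M X r) {i : ι} {W : Submodule F V} (hW : Nondeg (Q.comp W.subtype))
    (h1 : ¬ Nt (X i) W) : Nt (X i) (pp Q W) := by
  by_contra h2
  rw [not_Nt] at h1 h2
  exact h.X_ne i (ext_dec h.nondeg hW h1 h2)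

/-- the generator of the semisimple part -/
theorem FC.exists_s (h : FC Q Ω N ρ x M X r) (hinj : Function.Injective r) (i₀ : ι) (h2 : r i₀ = 2) :
    ∃ (s : V ≃ₗ[F] V) (m : ℕ), s ∈ O Q ∧ Odd m ∧ s ^ m = 1 ∧ (∀ i v, X i (s v) = s (X i v)) ∧
      (∀ v, s v = v ↔ ∀ j, j ≠ i₀ → X j v = v) := by
  classical
  have : Finite V := Module.finite_of_finite F
  have : Finite (V ≃ₗ[F] V) := Finite.of_injective (fun e : V ≃ₗ[F] V => (e : V → V)) DFunLike.coe_injective
  let J := {j : ι // j ≠ i₀}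
  obtain ⟨g, hg, hgz⟩ := exists_gen (fun j : J => X j.1) (fun j : J => r j.1) (fun j => h.cv.prime _)
    (fun i j hij => Subtype.ext (hinj hij)) (fun j => h.pow_one _) (fun i j => h.cv.commX _ _)
  obtain ⟨a, m, hm, hgm⟩ := Nat.exists_eq_two_pow_mul_odd (orderOf_pos g).ne'
  have hcl : Subgroup.closure (Set.range fun j : J => X j.1) ≤ O Q := by
    rw [Subgroup.closure_le]
    rintro _ ⟨j, rfl⟩
    exact h.iso _
  have hcomm : ∀ t ∈ Subgroup.closure (Set.range fun j : J => X j.1), ∀ i, Commute (X i) t := by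
    intro t ht i
    induction ht using Subgroup.closure_induction with
    | mem y hy =>
      obtain ⟨j, rfl⟩ := hy
      exact h.cv.commX _ _
    | one => exact Commute.one_right _
    | mul a b _ _ ha hb => exact ha.mul_right hb
    | inv a _ ha => exact ha.inv_right
  have hs : g ^ (2 ^ a) ∈ Subgroup.closure (Set.range fun j : J => X j.1) := Subgroup.pow_mem _ hg _
  have hodd : ∀ j : J, r j.1 ≠ 2 := fun j h3 => j.2 (hinj (h3.trans h2.symm))
  have hXs : ∀ j : J, X j.1 ∈ Subgroup.zpowers (g ^ (2 ^ a)) := by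
    intro j
    obtain ⟨k, hk⟩ := Subgroup.mem_zpowers_iff.1 (hgz j)
    have hk' : g ^ k = X j.1 := hk
    have hcop : Nat.Coprime (2 ^ a) (r j.1) := by
      apply Nat.Coprime.pow_left
      exact (Nat.coprime_primes Nat.prime_two (h.cv.prime _)).2 (Ne.symm (hodd j))
    obtain ⟨b, hb⟩ := Nat.exists_mul_mod_eq_one_of_coprime hcop (h.cv.prime _).one_lt
    have h3 : X j.1 ^ (2 ^ a * b) = X j.1 := by
      conv_rhs => rw [← _root_.pow_one (X j.1)]
      rw [pow_eq_pow_iff_modEq]
      have h4 : orderOf (X j.1) ∣ r j.1 := orderOf_dvd_of_pow_eq_one (h.pow_one _)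
      refine Nat.ModEq.of_dvd h4 ?_
      rw [Nat.ModEq, hb.2, Nat.mod_eq_of_lt (h.cv.prime _).one_lt]
    rw [Subgroup.mem_zpowers_iff]
    refine ⟨k * b, ?_⟩
    rw [← h3, ← hk', ← zpow_natCast, ← zpow_natCast, ← zpow_mul, ← zpow_mul]
    congr 1
    push_cast
    ring
  refine ⟨g ^ (2 ^ a), m, hcl hs, hm, ?_, fun i v => LinearEquiv.congr_fun (hcomm _ hs i) v, ?_⟩
  · rw [← pow_mul, ← hgm, pow_orderOf_eq_one]
  · intro v
    constructor
    · intro hv j hj
      obtain ⟨k, hk⟩ := Subgroup.mem_zpowers_iff.1 (hXs ⟨j, hj⟩)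
      have hk' : (g ^ (2 ^ a)) ^ k = X j := hk
      rw [← hk']
      have hst : g ^ (2 ^ a) ∈ MulAction.stabilizer (V ≃ₗ[F] V) v := hv
      exact (MulAction.stabilizer (V ≃ₗ[F] V) v).zpow_mem hst k
    · intro hv
      have hle : Subgroup.closure (Set.range fun j : J => X j.1) ≤ MulAction.stabilizer (V ≃ₗ[F] V) v := by
        rw [Subgroup.closure_le]
        rintro _ ⟨j, rfl⟩
        exact hv j.1 j.2
      exact hle hs

/-- all the semisimple members are trivial on `Cf s`; if `u` is trivial on all `Cm (X j)`, it is on `Cm s` -/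
theorem FC.u_Cm_s (h : FC Q Ω N ρ x M X r) {i₀ : ι} {s : V ≃ₗ[F] V} (hs : s ∈ O Q)
    (hsX : ∀ v, s v = v ↔ ∀ j, j ≠ i₀ → X j v = v)
    (hu : ∀ j, j ≠ i₀ → ¬ Nt (X i₀) (Cm (X j))) : ¬ Nt (X i₀) (Cm s) := by
  rw [not_Nt]
  have h1 : Cm s ≤ pp Q (pp Q (Cf (X i₀))) := by
    rw [← pp_Cf h.nondeg hs]
    apply pp_anti
    intro v hv
    rw [mem_Cf, hsX]
    intro j hj
    rw [← mem_Cf, ← Cm_eq h.nondeg (h.iso j)]
    refine (pp_anti ?_ : pp Q (Cf (X i₀)) ≤ pp Q (Cm (X j))) hv
    intro w hw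
    rw [mem_Cf]
    exact (not_Nt.1 (hu j hj)) w hw
  rw [pp_pp h.nondeg] at h1
  intro v hv
  exact mem_Cf.1 (h1 hv)

end Cfsg.Agent.H578.RC
end

-- part: H578/RC/Two
section
/-!
# S3510, row F, box E7: the involution is trivial on the moved part of the others (helper578)
-/

set_option autoImplicit false
open Cfsg

namespace Cfsg.Agent.H578.RC

open QuadraticMap MulAction
open Cfsg.Agent.LieClassical Cfsg.Agent.LieClassical.OrthCore Cfsg.Agent.LieClassical.OrthTrans
open Cfsg.Agent.LieClassical.OrthSimple Cfsg.Agent.ClassicalGeometry.OrthSemi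
open Cfsg.Agent.ClassicalGeometry.OrthAut1 Cfsg.Agent.H106.RC Cfsg.Agent.H93.RC Cfsg.Agent.H138.RC

section lin

variable {F V : Type*} [Field F] [CharP F 2] [AddCommGroup V] [Module F V] {Q : QuadraticForm F V}

theorem nd_pair {a a' : V} (hp : polar Q a a' ≠ 0) :
    Nondeg (Q.comp (Submodule.span F {a, a'}).subtype) ∧ Module.finrank F (Submodule.span F {a, a'}) = 2 := by
  have hma : a ∈ Submodule.span F {a, a'} := Submodule.subset_span (by simp)
  have hma' : a' ∈ Submodule.span F {a, a'} := Submodule.subset_span (by simp)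
  constructor
  · rw [nondeg_iff, eq_bot_iff]
    rintro v ⟨hv, hv'⟩
    obtain ⟨s, t, rfl⟩ := Submodule.mem_span_pair.1 hv
    have h1 := hv' a hma
    have h2 := hv' a' hma'
    rw [polar_add_right, polar_smul_right, polar_smul_right, polar_self2, smul_zero, zero_add, smul_eq_mul] at h1
    rw [polar_add_right, polar_smul_right, polar_smul_right, polar_self2, smul_zero, add_zero, smul_eq_mul,
      polar_comm Q a' a] at h2
    rw [(mul_eq_zero.1 h1).resolve_right hp, (mul_eq_zero.1 h2).resolve_right hp]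
    simp only [_root_.zero_smul, _root_.add_zero, _root_.ZeroMemClass.zero_mem]
  · apply finrank_pair
    · rintro rfl
      exact hp (by rw [polar_zero_left])
    · intro s hs
      apply hp
      rw [hs, polar_smul_right, polar_self2, smul_zero]

/-- an isometry fixing `e` and `b` commutes with `siegel e b` -/
theorem siegel_comm {e b : V} (he : Q e = 0) (heb : polar Q e b = 0) {T : V ≃ₗ[F] V} (hT : T ∈ O Q) (h1 : T e = e)
    (h2 : T b = b) (v : V) : T (siegel Q e b he heb v) = siegel Q e b he heb (T v) := by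
  have p1 : polar Q e (T v) = polar Q e v := by
    conv_lhs => rw [← h1]
    rw [polar_map hT]
  have p2 : polar Q b (T v) = polar Q b v := by
    conv_lhs => rw [← h2]
    rw [polar_map hT]
  rw [siegel_apply, siegel_apply, p1, p2, map_sub, map_sub, map_add, map_smul, map_smul, map_smul, h1, h2]

/-- nondegenerate spaces contain nonsingular vectors -/
theorem exists_ns {D : Submodule F V} (hD : Nondeg (Q.comp D.subtype)) (h0 : D ≠ ⊥) : ∃ b ∈ D, Q b ≠ 0 := by
  by_contra hno
  push Not at hno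
  apply h0
  rw [eq_bot_iff]
  intro v hv
  have h1 := hD ⟨v, hv⟩ fun y => by
    show polar Q v y = 0
    rw [polar, hno _ (D.add_mem hv y.2), hno v hv, hno y y.2]
    simp
  exact congrArg Subtype.val h1

/-- a fixed nonsingular vector in a nondegenerate plane -/
theorem exists_fixed_ns [FiniteDimensional F V] (hQ : Nondeg Q) {u : V ≃ₗ[F] V} (hu : Inv2 Q u) {R : Submodule F V}
    (hR : Nondeg (Q.comp R.subtype)) (h2 : Module.finrank F R = 2) (huR : ∀ v ∈ R, u v ∈ R) :
    ∃ b ∈ R, Q b ≠ 0 ∧ u b = b := by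
  by_cases h : ∃ w ∈ R, polar Q (u w) w ≠ 0
  · obtain ⟨w, hw, hw1⟩ := h
    exact ⟨u w - w, R.sub_mem (huR w hw) hw, by rw [hu.Q_dl]; exact hw1, hu.dl_dl w⟩
  · push Not at h
    have h1 := hu.even_Xs hR huR h
    have h3 := hu.two_Xs hQ hR huR
    have h4 : Module.finrank F (Xs u R) = 0 := by
      obtain ⟨k, hk⟩ := h1
      omega
    rw [Submodule.finrank_eq_zero, Xs_eq_bot] at h4
    have h0 : R ≠ ⊥ := by
      rintro rfl
      rw [finrank_bot] at h2
      omega
    obtain ⟨b, hb, hb1⟩ := exists_ns hR h0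
    exact ⟨b, hb, hb1, h4 b hb⟩

theorem exists_sqrt [Finite F] (a : F) : ∃ κ : F, κ * κ = a := by
  have := Fintype.ofFinite F
  have h2 : ringChar F = 2 := ringChar.eq F 2 ▸ rfl
  obtain ⟨κ, hκ⟩ := FiniteField.isSquare_of_char_two h2 a
  exact ⟨κ, hκ.symm⟩

end lin

variable {F V G Ω : Type} [Field F] [Finite F] [CharP F 2] [AddCommGroup V] [Module F V] [FiniteDimensional F V]
  [Group G] [Finite G] [MulAction G Ω] [Nonempty Ω]
  {Q : QuadraticForm F V} {N : Subgroup G} {ρ : ↥(E Q) →* G} {ι : Type} [Finite ι] {x : ι → G}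
  {M : ι → Gam Q} {X : ι → V ≃ₗ[F] V} {r : ι → ℕ}

/-- another member -/
theorem FC.other (h : FC Q Ω N ρ x M X r) (i₀ : ι) : ∃ j, j ≠ i₀ := h.cv.cov.two h.cv.env h.cv.ne i₀

/-- **case (II')**: a four-dimensional space fixed by the other members, on which `u` is not a long root element -/
theorem FC.rot (h : FC Q Ω N ρ x M X r) (hinj : Function.Injective r) (i₀ : ι) (h2 : r i₀ = 2)
    (h8 : 8 ≤ Module.finrank F V) {D : Submodule F V} (hDn : Nondeg (Q.comp D.subtype))
    (h4 : Module.finrank F D = 4) (hDu : ∀ v ∈ D, X i₀ v ∈ D) (hDX : ∀ j, j ≠ i₀ → ∀ v ∈ D, X j v = v)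
    (hex : ∃ v ∈ D, polar Q (X i₀ v) v ≠ 0) : False := by
  classical
  obtain ⟨v, hv, hv1⟩ := hex
  have hu := h.inv2 h2
  have hQ := h.nondeg
  obtain ⟨u, hudef⟩ : ∃ u, u = X i₀ := ⟨_, rfl⟩
  rw [← hudef] at hu hv1 hDu
  obtain ⟨a, hadef⟩ : ∃ a, a = u v - v := ⟨_, rfl⟩
  have haD : a ∈ D := by rw [hadef]; exact D.sub_mem (hDu v hv) hv
  have hQa : Q a = polar Q (u v) v := by rw [hadef, hu.Q_dl]
  have hQa0 : Q a ≠ 0 := by rw [hQa]; exact hv1
  have hua : u a = a := by rw [hadef]; exact hu.dl_dl v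
  have huv : u v = v + a := by rw [hadef]; abel
  have hav : polar Q a v = Q a := by rw [hQa, hadef, polar_sub_left, polar_self2, sub_zero]
  have hva : polar Q v a = Q a := by rw [polar_comm]; exact hav
  have hva0 : polar Q v a ≠ 0 := by rw [hva]; exact hQa0
  -- the plane `⟨v, a⟩`
  obtain ⟨hPn, hP2⟩ := nd_pair hva0
  have hvP : v ∈ Submodule.span F {v, a} := Submodule.subset_span (by simp)
  have haP : a ∈ Submodule.span F {v, a} := Submodule.subset_span (by simp)
  have hPD : Submodule.span F {v, a} ≤ D := by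
    rw [Submodule.span_le]
    rintro w (rfl | rfl)
    · exact hv
    · exact haD
  obtain ⟨hRn, hR2⟩ := nd_compl hQ hPn hDn hPD
  rw [hP2, h4] at hR2
  have huP : ∀ w ∈ Submodule.span F {v, a}, u w ∈ Submodule.span F {v, a} := by
    apply span_inv
    · rw [huv]; exact Submodule.add_mem _ hvP haP
    · rw [hua]; exact haP
  have huR : ∀ w ∈ D ⊓ pp Q (Submodule.span F {v, a}), u w ∈ D ⊓ pp Q (Submodule.span F {v, a}) :=
    fun w hw => ⟨hDu w hw.1, inv_pp hu.iso huP w hw.2⟩
  obtain ⟨b, ⟨hbD, hbP⟩, hb0, hub⟩ := exists_fixed_ns hQ hu hRn (by omega) huR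
  have hvb : polar Q v b = 0 := hbP v hvP
  have hab : polar Q a b = 0 := hbP a haP
  have hba : polar Q b a = 0 := by rw [polar_comm]; exact hab
  obtain ⟨κ, hκ⟩ := exists_sqrt (Q v / Q b)
  obtain ⟨e, hedef⟩ : ∃ e, e = v + κ • b := ⟨_, rfl⟩
  have heD : e ∈ D := by rw [hedef]; exact D.add_mem hv (D.smul_mem _ hbD)
  have he : Q e = 0 := by
    rw [hedef, Q_add, QuadraticMap.map_smul, hκ, polar_smul_right, hvb, smul_zero, add_zero, smul_eq_mul,
      div_mul_cancel₀ _ hb0]
    exact CharTwo.add_self_eq_zero _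
  have heb : polar Q e b = 0 := by
    rw [hedef, polar_add_left, hvb, polar_smul_left, polar_self2, smul_zero, add_zero]
  have hea : polar Q e a = Q a := by
    rw [hedef, polar_add_left, hva, polar_smul_left, hba, smul_zero, add_zero]
  let c : ↥(E Q) := ⟨siegel Q e b he heb, siegel_mem_E he heb⟩
  have hcc : (c : V ≃ₗ[F] V) = siegel Q e b he heb := rfl
  -- the second factor of `u`
  obtain ⟨w, hw⟩ : ∃ w, w = refl Q a hQa0 * u := ⟨_, rfl⟩
  have hwO : w ∈ O Q := by rw [hw]; exact (O Q).mul_mem (refl_mem_O _) hu.iso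
  have hraa : refl Q a hQa0 a = a := by rw [refl_apply, polar_self2, mul_zero, zero_smul, sub_zero]
  have hrav : refl Q a hQa0 v = v - a := by rw [refl_apply, hav, inv_mul_cancel₀ hQa0, one_smul]
  have hrab : refl Q a hQa0 b = b := by rw [refl_apply, hab, mul_zero, zero_smul, sub_zero]
  have hwv : w v = v := by
    rw [hw]
    show refl Q a hQa0 (u v) = v
    rw [huv, map_add, hraa, hrav]; abel
  have hwb : w b = b := by
    rw [hw]
    show refl Q a hQa0 (u b) = b
    rw [hub, hrab]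
  have hwe : w e = e := by rw [hedef, map_add, map_smul, hwv, hwb]
  have hcw : (c : V ≃ₗ[F] V) * w = w * (c : V ≃ₗ[F] V) := by
    ext y
    exact (siegel_comm he heb hwO hwe hwb y).symm
  -- the new vector
  obtain ⟨a', ha'def⟩ : ∃ a', a' = (c : V ≃ₗ[F] V) a := ⟨_, rfl⟩
  have hQa' : Q a' = Q a := by rw [ha'def]; exact E_le_O c.2 a
  have hQa'0 : Q a' ≠ 0 := by rw [hQa']; exact hQa0
  have ha' : a' = a + Q a • b - (Q b * Q a) • e := by
    rw [ha'def, hcc, siegel_apply, hea, hba, zero_smul, sub_zero]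
  have ha'D : a' ∈ D := by
    rw [ha']; exact D.sub_mem (D.add_mem haD (D.smul_mem _ hbD)) (D.smul_mem _ heD)
  have hae : polar Q a e = Q a := by rw [polar_comm]; exact hea
  have hpaa : polar Q a a' ≠ 0 := by
    rw [ha', polar_sub_right, polar_add_right, polar_self2, polar_smul_right, polar_smul_right, hab, hae,
      smul_zero, zero_add, zero_sub, neg_ne_zero, smul_eq_mul]
    exact mul_ne_zero (mul_ne_zero hb0 hQa0) hQa0
  have hz : refl Q a' hQa'0 * refl Q a hQa0 = (c : V ≃ₗ[F] V) * X i₀ * (c : V ≃ₗ[F] V)⁻¹ * (X i₀)⁻¹ := by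
    rw [← hudef]
    have h1 : u = refl Q a hQa0 * w := by
      rw [hw, ← mul_assoc, refl_mul_self, one_mul]
    have h2 : refl Q a' hQa'0 = (c : V ≃ₗ[F] V) * refl Q a hQa0 * (c : V ≃ₗ[F] V)⁻¹ := by
      rw [refl_conj (E_le_O c.2) hQa0 (by rw [← ha'def]; exact hQa'0)]
      congr 1
    have h3 : w * (c : V ≃ₗ[F] V)⁻¹ = (c : V ≃ₗ[F] V)⁻¹ * w := by
      rw [eq_inv_mul_iff_mul_eq, ← mul_assoc, hcw, mul_inv_cancel_right]
    rw [h2, h1]
    calc (c : V ≃ₗ[F] V) * refl Q a hQa0 * (c : V ≃ₗ[F] V)⁻¹ * refl Q a hQa0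
        = (c : V ≃ₗ[F] V) * refl Q a hQa0 * ((c : V ≃ₗ[F] V)⁻¹ * w) * w⁻¹ * (refl Q a hQa0)⁻¹ := by
          rw [refl_inv]; group
      _ = (c : V ≃ₗ[F] V) * (refl Q a hQa0 * w) * (c : V ≃ₗ[F] V)⁻¹ * (refl Q a hQa0 * w)⁻¹ := by
          rw [← h3]; group
  obtain ⟨hf, hinv, hfix, hDn0, hD02⟩ := two_refl hQa0 hQa'0 hQa' hpaa
  obtain ⟨D0, hD0⟩ : ∃ D0, D0 = Submodule.span F {a, a'} := ⟨_, rfl⟩
  rw [← hD0] at hf hinv hfix hDn0 hD02
  have hD0D : D0 ≤ D := by
    rw [hD0, Submodule.span_le]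
    rintro y (rfl | rfl)
    · exact haD
    · exact ha'D
  have hn0 := finrank_pp hQ D0
  have hn1 := finrank_pp hQ D
  -- (MV)
  obtain ⟨k, ℓ, x', M', hℓ, hzk, hFC⟩ := h.mv i₀ c
    (fun j hj => siegel_comm he heb (h.iso j) (hDX j hj e heD) (hDX j hj b hbD)) _ hz D0
    (by rintro h0; rw [h0, finrank_bot] at hD02; omega) hinv hf (by
      have : pp Q D0 ≠ ⊥ := by
        intro h0
        rw [h0, finrank_bot] at hn0
        omega
      obtain ⟨y, hy, hy0⟩ := (pp Q D0).ne_bot_iff.1 this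
      exact ⟨y, hy0, hfix y hy⟩)
  obtain ⟨z, hzdef⟩ : ∃ z, z = refl Q a' hQa'0 * refl Q a hQa0 := ⟨_, rfl⟩
  rw [← hzdef] at hfix hzk hFC
  have hupd : ∀ i, i ≠ i₀ → Function.update X i₀ (z ^ k) i = X i := fun i hi => Function.update_of_ne hi _ _
  have hupr : ∀ i, i ≠ i₀ → Function.update r i₀ ℓ i = r i := fun i hi => Function.update_of_ne hi _ _
  have hnt0 : ¬ Nt (Function.update X i₀ (z ^ k) i₀) (pp Q D0) := by
    rw [Function.update_self, not_Nt]
    intro y hy
    exact pow_apply_of (hfix y hy) k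
  have hD0X : ∀ j, j ≠ i₀ → ∀ y ∈ D0, X j y = y := fun j hj y hy => hDX j hj y (hD0D hy)
  refine hFC.box_A (pp Q D0) (nondeg_pp hQ hDn0) (by omega) ?_ ?_ ?_ ?_ ?_ ?_
  · intro h0
    rw [h0, finrank_top] at hn0
    omega
  · intro i
    by_cases hi : i = i₀
    · subst hi
      intro y hy
      rw [not_Nt] at hnt0
      rw [hnt0 y hy]; exact hy
    · rw [hupd i hi]
      exact inv_pp (h.iso i) (fun y hy => by rw [hD0X i hi y hy]; exact hy)
  · obtain ⟨j, hj⟩ := h.other i₀
    refine ⟨j, ?_⟩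
    rw [hupd j hj]
    exact h.nt_pp hDn0 (not_Nt.2 (hD0X j hj))
  · intro i j hi hj hij
    have hi0 : i ≠ i₀ := by rintro rfl; exact hnt0 hi
    have hj0 : j ≠ i₀ := by rintro rfl; exact hnt0 hj
    rw [hupr i hi0, hupr j hj0] at hij
    exact hinj hij
  · intro i hi
    exfalso
    by_cases hi0 : i = i₀
    · subst hi0
      rw [Function.update_self] at hi
      exact hℓ hi
    · rw [hupr i hi0, ← h2] at hi
      exact hi0 (hinj hi)
  · by_cases hF : Nat.card F = 2 ∧ Module.finrank F (pp Q D0) = 6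
    · right
      intro i j hi hj
      have hi0 : i ≠ i₀ := by rintro rfl; exact hnt0 hi
      have hj0 : j ≠ i₀ := by rintro rfl; exact hnt0 hj
      by_contra hij
      refine no_four hF.1 (nondeg_pp hQ hDn) (by omega) (h.iso i) (h.iso j) (h.cv.commX i j)
        (inv_pp (h.iso i) fun y hy => by rw [hDX i hi0 y hy]; exact hy)
        (inv_pp (h.iso j) fun y hy => by rw [hDX j hj0 y hy]; exact hy) (h.cv.prime i) (h.cv.prime j)
        (fun h3 => hi0 (hinj (h3.trans h2.symm))) (fun h3 => hj0 (hinj (h3.trans h2.symm)))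
        (fun h3 => hij (hinj h3)) (h.pow_one i) (h.pow_one j) ?_ ?_
      · exact h.nt_pp hDn (not_Nt.2 (hDX i hi0))
      · exact h.nt_pp hDn (not_Nt.2 (hDX j hj0))
    · left
      rintro ⟨h3, h4', -⟩
      exact hF ⟨h3, h4'⟩

/-- **case (II)**: `u` is trivial on all `[V, X j]` -/
theorem FC.caseII (h : FC Q Ω N ρ x M X r) (hinj : Function.Injective r) (i₀ : ι) (h2 : r i₀ = 2)
    (h8 : 8 ≤ Module.finrank F V) (hu1 : ∀ j, j ≠ i₀ → ¬ Nt (X i₀) (Cm (X j)))
    (hrefl : ∀ (a : V) (ha : Q a ≠ 0), X i₀ = refl Q a ha → False) : False := by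
  classical
  have hQ := h.nondeg
  have hu := h.inv2 h2
  obtain ⟨s, m, hs, hm, hsm, hsX, hsf⟩ := h.exists_s hinj i₀ h2
  have hus : ¬ Nt (X i₀) (Cm s) := h.u_Cm_s hs hsf hu1
  have hDn : Nondeg (Q.comp (Cf s).subtype) := nondeg_Cf hQ hs hm hsm
  have hpp : pp Q (Cf s) = Cm s := pp_Cf hQ hs
  have hDu : ∀ v ∈ Cf s, X i₀ v ∈ Cf s := Cf_inv (hsX i₀)
  have hDX : ∀ j, j ≠ i₀ → ∀ v ∈ Cf s, X j v = v := fun j hj v hv => (hsf v).1 (mem_Cf.1 hv) j hj
  have hnt : Nt (X i₀) (Cf s) := by
    by_contra h1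
    have h3 := h.nt_pp hDn h1
    rw [hpp] at h3
    exact hus h3
  have hne : Cf s ≠ ⊤ := by
    intro h0
    obtain ⟨j, hj⟩ := h.other i₀
    apply h.X_ne j
    ext v
    exact hDX j hj v (h0 ▸ Submodule.mem_top)
  have hev := even_nd hDn
  have hinv : ∀ i, ∀ v ∈ Cf s, X i v ∈ Cf s := fun i => Cf_inv (hsX i)
  have hodd : ∀ i, i ≠ i₀ → r i ≠ 2 := fun i hi h3 => hi (hinj (h3.trans h2.symm))
  have h0 : Cf s ≠ ⊥ := by
    rintro h0
    obtain ⟨v, hv, hv1⟩ := hnt
    rw [h0, Submodule.mem_bot] at hv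
    exact hv1 (by rw [hv, map_zero])
  have hpos : 0 < Module.finrank F (Cf s) := by
    rw [Nat.pos_iff_ne_zero]
    intro h1
    exact h0 (Submodule.finrank_eq_zero.1 h1)
  have huniq : ∀ i, Nt (X i) (Cf s) → i = i₀ := by
    intro i hi
    by_contra hi0
    exact (not_Nt.2 (hDX i hi0)) hi
  by_cases h5 : 5 ≤ Module.finrank F (Cf s)
  · refine h.box_A (Cf s) hDn h5 hne hinv ⟨i₀, hnt⟩ ?_ ?_ (Or.inr ?_)
    · intro i j hi hj _
      rw [huniq i hi, huniq j hj]
    · intro i hi
      rw [hinj (hi.trans h2.symm)]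
      exact hnt
    · intro i j hi hj
      rw [huniq i hi, huniq j hj]
  · by_cases h4 : Module.finrank F (Cf s) = 4
    · by_cases hex : ∃ v ∈ Cf s, polar Q (X i₀ v) v ≠ 0
      · exact h.rot hinj i₀ h2 h8 hDn h4 hDu hDX hex
      · push Not at hex
        obtain ⟨y1, m1, y2, m2, x1, m3, x2, m4, hq⟩ := exists_Q4 hu hDn hDu hex hnt
        have hx0 : x1 ≠ 0 := by
          rintro rfl
          have := hq.b11
          rw [polar_zero_left] at this
          exact zero_ne_one this
        refine h.no_long i₀ hodd hq.qx1 hq.qx2 hq.xx hx0 ?_ ?_ ?_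
        · rintro t ht
          have := hq.b22
          rw [ht, polar_smul_left, hq.b12, smul_zero] at this
          exact zero_ne_one this
        · intro v
          have hsl : ∀ v, siegel Q x1 x2 hq.qx1 hq.xx v = v + polar Q x1 v • x2 + polar Q x2 v • x1 := by
            intro v
            rw [siegel_apply, hq.qx2, zero_mul, zero_smul, sub_zero, vsub_eq (F := F)]
          obtain ⟨v1, hv1, v2, hv2, rfl⟩ := exists_dec hQ hDn v
          rw [map_add, map_add]
          congr 1
          · obtain ⟨α, β, γ, δ, rfl⟩ := hq.span h4 m1 m2 m3 m4 hv1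
            rw [hsl]
            simp only [map_add, map_smul, hq.u1, hq.u2, hq.ux1, hq.ux2, polar_add_right, polar_smul_right, hq.b11,
              hq.b12, hq.b21, hq.b22, hq.xx, hq.xx', polar_self_of_sing hq.qx1, polar_self_of_sing hq.qx2, smul_eq_mul,
              mul_one, mul_zero, add_zero, zero_add]
            module
          · rw [hsl, hv2 x1 m3, hv2 x2 m4, zero_smul, zero_smul, add_zero, add_zero]
            rw [hpp] at hv2
            exact (not_Nt.1 hus) v2 hv2
        · intro i hi v hv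
          have hsub : Submodule.span F {x1, x2} ≤ Cf s := by
            rw [Submodule.span_le]
            rintro y (rfl | rfl)
            · exact m3
            · exact m4
          rw [hDX i hi v (hsub hv)]
          exact hv
    · have h2' : Module.finrank F (Cf s) = 2 := by
        obtain ⟨k, hk⟩ := hev
        omega
      -- a reflection
      have hex : ∃ v ∈ Cf s, polar Q (X i₀ v) v ≠ 0 := by
        by_contra hno
        push Not at hno
        have h1 := hu.even_Xs hDn hDu hno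
        have h3 := hu.two_Xs hQ hDn hDu
        have h6 : Module.finrank F (Xs (X i₀) (Cf s)) = 0 := by
          obtain ⟨k, hk⟩ := h1
          omega
        rw [Submodule.finrank_eq_zero, Xs_eq_bot] at h6
        exact (not_Nt.2 h6) hnt
      obtain ⟨v, hv, hv1⟩ := hex
      obtain ⟨a, hadef⟩ : ∃ a, a = X i₀ v - v := ⟨_, rfl⟩
      have haD : a ∈ Cf s := by rw [hadef]; exact (Cf s).sub_mem (hDu v hv) hv
      have hQa : Q a = polar Q (X i₀ v) v := by rw [hadef, hu.Q_dl]
      have hQa0 : Q a ≠ 0 := by rw [hQa]; exact hv1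
      have hua : X i₀ a = a := by rw [hadef]; exact hu.dl_dl v
      have huv : X i₀ v = v + a := by rw [hadef]; abel
      have hav : polar Q a v = Q a := by rw [hQa, hadef, polar_sub_left, polar_self2, sub_zero]
      have hva0 : polar Q v a ≠ 0 := by rw [polar_comm, hav]; exact hQa0
      obtain ⟨hPn, hP2⟩ := nd_pair hva0
      have hPD : Submodule.span F {v, a} ≤ Cf s := by
        rw [Submodule.span_le]
        rintro w (rfl | rfl)
        · exact hv
        · exact haD
      have hPeq : Submodule.span F {v, a} = Cf s := Submodule.eq_of_le_of_finrank_eq hPD (by rw [hP2, h2'])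
      apply hrefl a hQa0
      apply ext_dec hQ hDn
      · intro w hw
        rw [← hPeq] at hw
        obtain ⟨α, β, rfl⟩ := Submodule.mem_span_pair.1 hw
        have hraa : refl Q a hQa0 a = a := by rw [refl_apply, polar_self2, mul_zero, zero_smul, sub_zero]
        have hrav : refl Q a hQa0 v = v + a := by
          rw [refl_apply, hav, inv_mul_cancel₀ hQa0, one_smul, vsub_eq (F := F)]
        rw [map_add, map_add, map_smul, map_smul, map_smul, map_smul, huv, hua, hraa, hrav]
      · intro w hw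
        rw [refl_apply, hw a haD, mul_zero, zero_smul, sub_zero]
        rw [hpp] at hw
        exact (not_Nt.1 hus) w hw

end Cfsg.Agent.H578.RC
end

-- part: H393/RC/Six
section
/-!
# S3510, row F even, box E7, piece Z2 (helper393)

`no_six` : an isometry of order 3 without fixed vectors on a nondegenerate 6-space over `F_2` excludes plus type.
-/

set_option autoImplicit false
open Cfsg

namespace Cfsg.Agent.H393.RC

open QuadraticMap
open Cfsg.Agent.LieClassical.OrthCore Cfsg.Agent.LieClassical.OrthTrans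

variable {F V : Type*} [Field F] [AddCommGroup V] [Module F V] {Q : QuadraticForm F V}

/-- a totally singular subspace of half the dimension is its own orthogonal space -/
theorem mem_of_perp {D : Submodule F V} [FiniteDimensional F D] (hD : Nondeg (Q.comp D.subtype)) {U : Submodule F V}
    (hUD : U ≤ D) (hU : ∀ v ∈ U, Q v = 0) (hd : Module.finrank F D ≤ 2 * Module.finrank F U) {z : V} (hz : z ∈ D)
    (hzU : ∀ v ∈ U, polar Q v z = 0) : z ∈ U := by
  have hpol : ∀ x y : D, polar (Q.comp D.subtype) x y = polar Q (x : V) (y : V) := fun x y => by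
    simp only [polar, QuadraticMap.comp_apply, Submodule.subtype_apply, Submodule.coe_add]
  have hB : (polarBilin (Q.comp D.subtype)).Nondegenerate := by
    constructor
    · intro x hx
      exact hD x hx
    · intro x hx
      exact hD x fun y => by rw [polar_comm]; exact hx y
  have hrefl : (polarBilin (Q.comp D.subtype)).IsRefl := by
    intro x y h
    change polar (Q.comp D.subtype) y x = 0
    rw [polar_comm]
    exact h
  let U' : Submodule F D := U.comap D.subtype
  have hU' : Module.finrank F U' = Module.finrank F U :=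
    (Submodule.comapSubtypeEquivOfLe hUD).finrank_eq
  have h1 := LinearMap.BilinForm.finrank_orthogonal hB U'
  have h2 : U' ≤ LinearMap.BilinForm.orthogonal (polarBilin (Q.comp D.subtype)) U' := by
    intro x hx
    rw [LinearMap.BilinForm.mem_orthogonal_iff]
    intro y hy
    change polar (Q.comp D.subtype) y x = 0
    rw [hpol]
    have hx' : (x : V) ∈ U := hx
    have hy' : (y : V) ∈ U := hy
    rw [polar, hU _ (U.add_mem hy' hx'), hU _ hx', hU _ hy']
    simp
  have h3 : U' = LinearMap.BilinForm.orthogonal (polarBilin (Q.comp D.subtype)) U' :=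
    Submodule.eq_of_le_of_finrank_le h2 (by rw [h1, hU']; omega)
  have h4 : (⟨z, hz⟩ : D) ∈ LinearMap.BilinForm.orthogonal (polarBilin (Q.comp D.subtype)) U' := by
    rw [LinearMap.BilinForm.mem_orthogonal_iff]
    intro y hy
    change polar (Q.comp D.subtype) y _ = 0
    rw [hpol]
    exact hzU _ hy
  rw [← h3] at h4
  exact h4

/-- an alternating form on a 3-dimensional space has a radical -/
theorem exists_radical {U : Submodule F V} (hU3 : Module.finrank F U = 3) (f : V → V → F)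
    (hadd : ∀ x ∈ U, ∀ y ∈ U, ∀ z ∈ U, f (x + y) z = f x z + f y z) (hsmul : ∀ (c : F), ∀ x ∈ U, ∀ z ∈ U, f (c • x) z = c * f x z)
    (halt : ∀ x ∈ U, f x x = 0) (hanti : ∀ x ∈ U, ∀ y ∈ U, f x y = - f y x) :
    ∃ x ∈ U, x ≠ 0 ∧ ∀ y ∈ U, f x y = 0 := by
  have hfin : FiniteDimensional F U := Module.finite_of_finrank_pos (by omega)
  let b := Module.finBasisOfFinrankEq F U hU3
  obtain ⟨e1, he1⟩ : ∃ e : U, e = b 0 := ⟨_, rfl⟩
  obtain ⟨e2, he2⟩ : ∃ e : U, e = b 1 := ⟨_, rfl⟩
  obtain ⟨e3, he3⟩ : ∃ e : U, e = b 2 := ⟨_, rfl⟩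
  have hexp : ∀ y : V, y ∈ U → ∃ a1 a2 a3 : F, y = a1 • (e1 : V) + a2 • (e2 : V) + a3 • (e3 : V) := by
    intro y hy
    refine ⟨b.repr ⟨y, hy⟩ 0, b.repr ⟨y, hy⟩ 1, b.repr ⟨y, hy⟩ 2, ?_⟩
    have h1 := congrArg Subtype.val (b.sum_repr ⟨y, hy⟩)
    rw [Fin.sum_univ_three] at h1
    rw [he1, he2, he3]
    exact h1.symm
  have hind : ∀ a1 a2 a3 : F, a1 • (e1 : V) + a2 • (e2 : V) + a3 • (e3 : V) = 0 → a1 = 0 ∧ a2 = 0 ∧ a3 = 0 := by
    intro a1 a2 a3 h
    have h1 : a1 • e1 + a2 • e2 + a3 • e3 = 0 := Subtype.ext h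
    have h2 := Fintype.linearIndependent_iff.1 b.linearIndependent ![a1, a2, a3] (by
      rw [Fin.sum_univ_three, ← he1, ← he2, ← he3]
      exact h1)
    exact ⟨h2 0, h2 1, h2 2⟩
  have m1 := e1.2
  have m2 := e2.2
  have m3 := e3.2
  have hf0 : ∀ x ∈ U, ∀ a1 a2 a3 : F, f (a1 • (e1 : V) + a2 • (e2 : V) + a3 • (e3 : V)) x =
      a1 * f e1 x + a2 * f e2 x + a3 * f e3 x := by
    intro x hx a1 a2 a3
    rw [hadd _ (U.add_mem (U.smul_mem _ m1) (U.smul_mem _ m2)) _ (U.smul_mem _ m3) _ hx,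
      hadd _ (U.smul_mem _ m1) _ (U.smul_mem _ m2) _ hx, hsmul _ _ m1 _ hx, hsmul _ _ m2 _ hx, hsmul _ _ m3 _ hx]
  obtain ⟨p, hp⟩ : ∃ p, p = f e2 e3 := ⟨_, rfl⟩
  obtain ⟨q, hq⟩ : ∃ q, q = f e1 e3 := ⟨_, rfl⟩
  obtain ⟨s, hs⟩ : ∃ s, s = f e1 e2 := ⟨_, rfl⟩
  have hp' : f e3 e2 = -p := by rw [hanti _ m3 _ m2, hp]
  have hq' : f e3 e1 = -q := by rw [hanti _ m3 _ m1, hq]
  have hs' : f e2 e1 = -s := by rw [hanti _ m2 _ m1, hs]
  -- the vector `x0`
  have hx0 : ∀ y ∈ U, f (p • (e1 : V) + (-q) • (e2 : V) + s • (e3 : V)) y = 0 := by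
    intro y hy
    have hmem : p • (e1 : V) + (-q) • (e2 : V) + s • (e3 : V) ∈ U :=
      U.add_mem (U.add_mem (U.smul_mem _ m1) (U.smul_mem _ m2)) (U.smul_mem _ m3)
    rw [hanti _ hmem _ hy]
    obtain ⟨a1, a2, a3, rfl⟩ := hexp y hy
    rw [hf0 _ hmem, hanti _ m1 _ hmem, hanti _ m2 _ hmem, hanti _ m3 _ hmem, hf0 _ m1, hf0 _ m2, hf0 _ m3,
      halt _ m1, halt _ m2, halt _ m3, hp', hq', hs', ← hp, ← hq, ← hs]
    ring
  by_cases h0 : p • (e1 : V) + (-q) • (e2 : V) + s • (e3 : V) = 0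
  · obtain ⟨hp0, hq0, hs0⟩ := hind _ _ _ h0
    have hq0' : q = 0 := neg_eq_zero.1 hq0
    refine ⟨e1, m1, ?_, ?_⟩
    · intro h1
      have := hind 1 0 0 (by rw [h1]; simp)
      exact one_ne_zero this.1
    · intro y hy
      rw [hanti _ m1 _ hy]
      obtain ⟨a1, a2, a3, rfl⟩ := hexp y hy
      rw [hf0 _ m1, halt _ m1, hs', hq', hs0, hq0']
      simp
  · exact ⟨_, U.add_mem (U.add_mem (U.smul_mem _ m1) (U.smul_mem _ m2)) (U.smul_mem _ m3), h0, hx0⟩

/-- Z2: an element of order 3 does not act fixed-point-freely on a six-dimensional space of plus type -/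
theorem no_six (hF : Nat.card F = 2) {D : Submodule F V} (hD : Nondeg (Q.comp D.subtype))
    (h6 : Module.finrank F D = 6) {T : V ≃ₗ[F] V} (hT : T ∈ O Q) (hTD : ∀ v ∈ D, T v ∈ D)
    (hf : ∀ v ∈ D, T v = v → v = 0) (hT3 : T ^ 3 = 1) {U : Submodule F V} (hUD : U ≤ D)
    (hU : ∀ v ∈ U, Q v = 0) (hU3 : Module.finrank F U = 3) : False := by
  have hfinF : Finite F := Nat.finite_of_card_ne_zero (by omega)
  have hFc : ∀ c : F, c = 0 ∨ c = 1 := by
    intro c
    have h1 : c ^ 2 = c := by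
      have := Fintype.ofFinite F
      have h0 := FiniteField.pow_card c
      rwa [← Nat.card_eq_fintype_card, hF] at h0
    have h2 : c * (c - 1) = 0 := by linear_combination h1
    rcases mul_eq_zero.1 h2 with h | h
    · exact Or.inl h
    · exact Or.inr (sub_eq_zero.1 h)
  have hfinD : FiniteDimensional F D := Module.finite_of_finrank_pos (by omega)
  have hT3' : ∀ v, T (T (T v)) = v := by
    intro v
    have h1 : (T ^ 3) v = v := by rw [hT3]; rfl
    rw [pow_succ, pow_two] at h1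
    exact h1
  have hmin : ∀ v ∈ D, T (T v) = -v - T v := by
    intro v hv
    have h1 : T (T (T v) + T v + v) = T (T v) + T v + v := by
      rw [map_add, map_add, hT3']
      abel
    have h2 := hf _ (D.add_mem (D.add_mem (hTD _ (hTD _ hv)) (hTD _ hv)) hv) h1
    have h3 : T (T v) = T (T v) + T v + v - T v - v := by abel
    rw [h3, h2]
    abel
  have hxx : ∀ x ∈ U, polar Q x (T x) = 0 := by
    intro x hx
    have hxD := hUD hx
    have h1 : Q (T (T x)) = 0 := by rw [mem_O.1 hT, mem_O.1 hT]; exact hU x hx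
    rw [hmin x hxD, show -x - T x = -(x + T x) by abel, QuadraticMap.map_neg, Q_add, mem_O.1 hT, hU x hx] at h1
    simpa using h1
  have hanti : ∀ x ∈ U, ∀ y ∈ U, polar Q x (T y) = -polar Q y (T x) := by
    intro x hx y hy
    have h1 := hxx _ (U.add_mem hx hy)
    rw [map_add, polar_add_left, polar_add_right, polar_add_right, hxx x hx, hxx y hy] at h1
    linear_combination h1
  obtain ⟨x, hxU, hx0, hrad⟩ := exists_radical (V := V) hU3 (fun x y => polar Q x (T y))
    (fun x _ y _ z _ => by rw [polar_add_left]) (fun c x _ z _ => by rw [polar_smul_left, smul_eq_mul])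
    hxx hanti
  have hrad' : ∀ y ∈ U, polar Q x (T y) = 0 := hrad
  have hd : Module.finrank F D ≤ 2 * Module.finrank F U := by omega
  have hTx : T x ∈ U := by
    apply mem_of_perp hD hUD hU hd (hTD _ (hUD hxU))
    intro y hy
    rw [hanti y hy x hxU, hrad' y hy, neg_zero]
  have h2F : (1 : F) + 1 = 0 := by
    rcases hFc (1 + 1) with h | h
    · exact h
    · exfalso
      have : (1 : F) = 0 := by linear_combination h
      exact one_ne_zero this
  -- `w` outside `⟨x, Tx⟩`
  have hne : Submodule.span F {x, T x} ≠ U := by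
    intro h1
    have h2 : Module.finrank F (Submodule.span F ({x, T x} : Set V)) ≤ 2 := by
      classical
      have h3 := finrank_span_finset_le_card (R := F) ({x, T x} : Finset V)
      have h4 : (({x, T x} : Finset V) : Set V) = {x, T x} := by simp
      rw [Set.finrank, h4] at h3
      exact h3.trans Finset.card_le_two
    rw [h1, hU3] at h2
    omega
  have hle : Submodule.span F {x, T x} ≤ U := by
    rw [Submodule.span_le]
    rintro z (rfl | rfl)
    · exact hxU
    · exact hTx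
  obtain ⟨w, hwU, hw⟩ := SetLike.exists_of_lt (lt_of_le_of_ne hle hne)
  have hxS : x ∈ Submodule.span F {x, T x} := Submodule.subset_span (by simp)
  have hTxS : T x ∈ Submodule.span F {x, T x} := Submodule.subset_span (by simp)
  have hind : ∀ a b c : F, a • x + b • T x + c • w = 0 → a = 0 ∧ b = 0 ∧ c = 0 := by
    intro a b c hc
    have c2 : c = 0 := by
      by_contra h
      apply hw
      have h1 : w = (-(c⁻¹ * a)) • x + (-(c⁻¹ * b)) • T x := by
        have h2 : w = c⁻¹ • (c • w) := by rw [smul_smul, inv_mul_cancel₀ h, one_smul]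
        have h3 : c • w = -(a • x + b • T x) := by
          rw [eq_neg_iff_add_eq_zero, add_comm]
          exact hc
        rw [h2, h3]
        module
      rw [h1]
      exact Submodule.add_mem _ (Submodule.smul_mem _ _ hxS) (Submodule.smul_mem _ _ hTxS)
    rw [c2, zero_smul, add_zero] at hc
    have c1 : b = 0 := by
      rcases hFc b with h | h
      · exact h
      · exfalso
        rw [h, one_smul] at hc
        rcases hFc a with h' | h'
        · rw [h', zero_smul, zero_add] at hc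
          exact hx0 ((LinearEquiv.map_eq_zero_iff T).1 hc)
        · rw [h', one_smul] at hc
          apply hx0
          apply hf x (hUD hxU)
          have h3 : x + x = 0 := by
            have : (1 + 1 : F) • x = 0 := by rw [h2F, zero_smul]
            rwa [add_smul, one_smul] at this
          calc T x = x + T x - x := by abel
            _ = x + x - x := by rw [hc, h3]
            _ = x := by abel
    rw [c1, zero_smul, add_zero] at hc
    exact ⟨(smul_eq_zero.1 hc).resolve_right hx0, c1, c2⟩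
  have hspan : Submodule.span F {x, T x, w} = U := by
    have hli : LinearIndependent F ![x, T x, w] := by
      rw [Fintype.linearIndependent_iff]
      intro c hc
      rw [Fin.sum_univ_three] at hc
      simp only [Matrix.cons_val_zero, Matrix.cons_val_one, Matrix.cons_val] at hc
      obtain ⟨h1, h2, h3⟩ := hind _ _ _ hc
      intro i
      fin_cases i
      · exact h1
      · exact h2
      · exact h3
    have hle3 : Submodule.span F {x, T x, w} ≤ U := by
      rw [Submodule.span_le]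
      rintro z (rfl | rfl | rfl)
      · exact hxU
      · exact hTx
      · exact hwU
    have hfinU : FiniteDimensional F U := Module.finite_of_finrank_pos (by omega)
    apply Submodule.eq_of_le_of_finrank_le hle3
    have h1 := finrank_span_eq_card hli
    have h2 : Set.range ![x, T x, w] = {x, T x, w} := by
      simp only [Matrix.range_cons, Matrix.range_empty, Set.union_empty, Set.singleton_union]
    rw [h2] at h1
    rw [hU3, h1]
    rfl
  have hTw : T w ∈ U := by
    apply mem_of_perp hD hUD hU hd (hTD _ (hUD hwU))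
    intro y hy
    rw [← hspan] at hy
    obtain ⟨a, b, c, rfl⟩ := Submodule.mem_span_triple.1 hy
    have h1 : polar Q (T x) (T w) = 0 := by
      rw [polar_map hT, polar, hU _ (U.add_mem hxU hwU), hU _ hxU, hU _ hwU]
      simp
    rw [polar_add_left, polar_add_left, polar_smul_left, polar_smul_left, polar_smul_left, hrad' w hwU, h1, hxx w hwU]
    simp
  rw [← hspan] at hTw
  obtain ⟨a, b, c, habc⟩ := Submodule.mem_span_triple.1 hTw
  have h1 := hmin w (hUD hwU)
  rw [← habc, map_add, map_add, map_smul, map_smul, map_smul, hmin x (hUD hxU), ← habc] at h1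
  have h2 : (-b + a + c * a) • x + (a - b + b + c * b) • T x + (c * c + c + 1) • w = 0 := by
    have h3 : a • T x + b • (-x - T x) + c • (a • x + b • T x + c • w) - (-w - (a • x + b • T x + c • w)) = 0 := by
      rw [h1, sub_self]
    rw [← h3]
    module
  obtain ⟨-, -, h4⟩ := hind _ _ _ h2
  rcases hFc c with h | h
  · rw [h] at h4
    simp at h4
  · rw [h, mul_one, h2F, zero_add] at h4
    exact one_ne_zero h4

end Cfsg.Agent.H393.RC
end

-- part: H578/RC/One
section
/-!
# S3510, row F, box E7: the involution moves a space on which another member is fixed-point-free (helper578)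
-/

set_option autoImplicit false
open Cfsg

namespace Cfsg.Agent.H578.RC

open QuadraticMap MulAction
open Cfsg.Agent.LieClassical Cfsg.Agent.LieClassical.OrthCore Cfsg.Agent.LieClassical.OrthTrans
open Cfsg.Agent.LieClassical.OrthSimple Cfsg.Agent.ClassicalGeometry.OrthSemi
open Cfsg.Agent.ClassicalGeometry.OrthAut1 Cfsg.Agent.H106.RC Cfsg.Agent.H93.RC Cfsg.Agent.H138.RC
open Cfsg.Agent.H393.RC

section lin

variable {F V : Type*} [Field F] [CharP F 2] [AddCommGroup V] [Module F V] {Q : QuadraticForm F V}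
  {u : V ≃ₗ[F] V} {y1 y2 x1 x2 : V}

/-- the commutator `[c, u]` -/
noncomputable def Zz (h : Q4 Q u y1 y2 x1 x2) (m : F) : V ≃ₗ[F] V :=
  siegel Q y1 (m • y2) h.qy1 (h.hyw m) * u * (siegel Q y1 (m • y2) h.qy1 (h.hyw m))⁻¹ * u⁻¹

/-- `u` is a long root element if it is trivial on `D^⊥` -/
theorem Q4.eq_siegel [FiniteDimensional F V] (hQ : Nondeg Q) (h : Q4 Q u y1 y2 x1 x2) {D : Submodule F V}
    (hDn : Nondeg (Q.comp D.subtype)) (h4 : Module.finrank F D = 4)
    (m1 : y1 ∈ D) (m2 : y2 ∈ D) (m3 : x1 ∈ D) (m4 : x2 ∈ D) (hu : ∀ v ∈ pp Q D, u v = v) (v : V) :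
    u v = siegel Q x1 x2 h.qx1 h.xx v := by
  have hsl : ∀ v, siegel Q x1 x2 h.qx1 h.xx v = v + polar Q x1 v • x2 + polar Q x2 v • x1 := by
    intro v
    rw [siegel_apply, h.qx2, zero_mul, zero_smul, sub_zero, vsub_eq (F := F)]
  obtain ⟨v1, hv1, v2, hv2, rfl⟩ := exists_dec hQ hDn v
  rw [map_add, map_add]
  congr 1
  · obtain ⟨α, β, γ, δ, rfl⟩ := h.span h4 m1 m2 m3 m4 hv1
    rw [hsl]
    simp only [map_add, map_smul, h.u1, h.u2, h.ux1, h.ux2, polar_add_right, polar_smul_right, h.b11,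
      h.b12, h.b21, h.b22, h.xx, h.xx', polar_self_of_sing h.qx1, polar_self_of_sing h.qx2, smul_eq_mul,
      mul_one, mul_zero, add_zero, zero_add]
    module
  · rw [hsl, hv2 x1 m3, hv2 x2 m4, zero_smul, zero_smul, add_zero, add_zero, hu v2 hv2]

theorem Q4.x1_ne (h : Q4 Q u y1 y2 x1 x2) : x1 ≠ 0 := by
  rintro rfl
  have := h.b11
  rw [polar_zero_left] at this
  exact zero_ne_one this

theorem Q4.x2_ind (h : Q4 Q u y1 y2 x1 x2) (t : F) : x2 ≠ t • x1 := by
  intro ht
  have := h.b22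
  rw [ht, polar_smul_left, h.b12, smul_zero] at this
  exact zero_ne_one this

theorem Zz_fix (hu : Inv2 Q u) (h : Q4 Q u y1 y2 x1 x2) (m : F) {v : V} (h1 : polar Q y1 v = 0)
    (h2 : polar Q y2 v = 0) (h1' : polar Q y1 (u v) = 0) (h2' : polar Q y2 (u v) = 0) : Zz h m v = v := by
  show (siegel Q y1 (m • y2) h.qy1 (h.hyw m) * u * (siegel Q y1 (m • y2) h.qy1 (h.hyw m))⁻¹ * u⁻¹) v = v
  rw [h.z_apply hu, h.c_fix m h1' h2', hu.sq, h.c_fix m h1 h2]

end lin

variable {F V G Ω : Type} [Field F] [Finite F] [CharP F 2] [AddCommGroup V] [Module F V] [FiniteDimensional F V]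
  [Group G] [Finite G] [MulAction G Ω] [Nonempty Ω]
  {Q : QuadraticForm F V} {N : Subgroup G} {ρ : ↥(E Q) →* G} {ι : Type} [Finite ι] {x : ι → G}
  {M : ι → Gam Q} {X : ι → V ≃ₗ[F] V} {r : ι → ℕ}

/-- the family with `[c, u]` -/
theorem FC.zfam [DecidableEq ι] (h : FC Q Ω N ρ x M X r) (hinj : Function.Injective r) {i₀ : ι} (h2 : r i₀ = 2)
    {D : Submodule F V} (hDn : Nondeg (Q.comp D.subtype)) (h4 : Module.finrank F D = 4) (hDt : D ≠ ⊤)
    (hDi : ∀ i, ∀ v ∈ D, X i v ∈ D) {y1 y2 x1 x2 : V} (hq : Q4 Q (X i₀) y1 y2 x1 x2)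
    (m1 : y1 ∈ D) (m2 : y2 ∈ D) (m3 : x1 ∈ D) (m4 : x2 ∈ D) {m : F} (hm : m ≠ 0) :
    (∀ v ∈ pp Q D, Zz hq m v = v) ∧ ∃ (k : ℕ) (ℓ : ℕ) (x' : ι → G) (M' : ι → Gam Q), ℓ ≠ 2 ∧
      FC Q Ω N ρ x' M' (Function.update X i₀ (Zz hq m ^ k)) (Function.update r i₀ ℓ) := by
  have hu := h.inv2 h2
  have hQ := h.nondeg
  have hfix : ∀ v ∈ pp Q D, Zz hq m v = v := by
    intro v hv
    have hv' := inv_pp hu.iso (hDi i₀) v hv
    exact Zz_fix hu hq m (hv y1 m1) (hv y2 m2) (hv' y1 m1) (hv' y2 m2)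
  refine ⟨hfix, ?_⟩
  obtain ⟨hf, hinv⟩ := hq.fpf hu hm h4 m1 m2 m3 m4
  let c : ↥(E Q) := ⟨siegel Q y1 (m • y2) hq.qy1 (hq.hyw m), siegel_mem_E _ _⟩
  have hc : ∀ j, j ≠ i₀ → ∀ v, X j ((c : V ≃ₗ[F] V) v) = (c : V ≃ₗ[F] V) (X j v) := by
    intro j hj v
    have hodd : r j ≠ 2 := fun h3 => hj (hinj (h3.trans h2.symm))
    obtain ⟨a, b, c', d, hdet, e1, e2, -, -⟩ := hq.pres hu h4 m1 m2 m3 m4 (h.iso j) (h.cm j i₀) (hDi j) (h.odd hodd)
      (h.pow_one j)
    exact hq.c_comm m (h.iso j) hdet e1 e2 v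
  have hD0 : D ≠ ⊥ := by
    rintro rfl
    rw [finrank_bot] at h4
    omega
  obtain ⟨k, ℓ, x', M', hℓ, -, hFC⟩ := h.mv i₀ c hc (Zz hq m) rfl D hD0 hinv hf (by
    have hne : pp Q D ≠ ⊥ := by
      intro h0
      have h3 := sup_pp hQ hDn
      rw [h0, sup_bot_eq] at h3
      exact hDt h3
    obtain ⟨y, hy, hy0⟩ := (pp Q D).ne_bot_iff.1 hne
    exact ⟨y, hy0, hfix y hy⟩)
  exact ⟨k, ℓ, x', M', hℓ, hFC⟩

/-- the new family has no member of order 2 -/
theorem upd_ne_two [DecidableEq ι] {r : ι → ℕ} (hinj : Function.Injective r) {i₀ : ι} (h2 : r i₀ = 2) {ℓ : ℕ}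
    (hℓ : ℓ ≠ 2) (i : ι) : Function.update r i₀ ℓ i ≠ 2 := by
  by_cases hi : i = i₀
  · subst hi
    rw [Function.update_self]; exact hℓ
  · rw [Function.update_of_ne hi]
    exact fun h3 => hi (hinj (h3.trans h2.symm))

/-- **case (I)** -/
theorem FC.caseI (h : FC Q Ω N ρ x M X r) (hinj : Function.Injective r) (i₀ : ι) (h2 : r i₀ = 2)
    (h8 : 8 ≤ Module.finrank F V) {D : Submodule F V} (hDn : Nondeg (Q.comp D.subtype)) (hDt : D ≠ ⊤)
    (hDi : ∀ i, ∀ v ∈ D, X i v ∈ D) {j : ι} (hj : j ≠ i₀) (hf : Fpf (X j) D) (hnt : Nt (X i₀) D)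
    (hjD : (∀ v ∈ pp Q D, X j v = v) ∨ Fpf (X j) (pp Q D)) : False := by
  classical
  have hQ := h.nondeg
  have hu := h.inv2 h2
  have hodd : ∀ i, i ≠ i₀ → r i ≠ 2 := fun i hi h3 => hi (hinj (h3.trans h2.symm))
  have h0 : ∀ v ∈ D, polar Q (X i₀ v) v = 0 := fun v hv =>
    hu.zero_of_fpf (h.iso j) (h.cm j i₀) (hDi j) hf hv
  have hev := hu.even_Xs hDn (hDi i₀) h0
  have htw := hu.two_Xs hQ hDn (hDi i₀)
  have hX0 : Module.finrank F (Xs (X i₀) D) ≠ 0 := by
    intro h3
    rw [Submodule.finrank_eq_zero, Xs_eq_bot] at h3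
    exact (not_Nt.2 h3) hnt
  have hXi : ∀ i, ∀ v ∈ Xs (X i₀) D, X i v ∈ Xs (X i₀) D := fun i => Xs_inv (h.cm i i₀) (hDi i)
  have hfX : Fpf (X j) (Xs (X i₀) D) := fun v hv => hf v (Xs_le (hDi i₀) hv)
  have hp1 : ∀ i, r i = 2 → i = i₀ := fun i hi => hinj (hi.trans h2.symm)
  by_cases h5 : 5 ≤ Module.finrank F D
  · refine h.box_A D hDn h5 hDt hDi ⟨i₀, hnt⟩ (fun i k _ _ hik => hinj hik) (fun i hi => by rw [hp1 i hi]; exact hnt)
      (Or.inl ?_)
    rintro ⟨hF, h6, U, hUD, hU, hU3⟩
    have hX2 : Module.finrank F (Xs (X i₀) D) = 2 := by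
      obtain ⟨k, hk⟩ := hev
      omega
    have hd := fpf_dvd hF (hXi j) hfX (h.cv.prime j) (h.pow_one j)
    rw [hX2] at hd
    have h3 : r j = 3 := (Nat.prime_dvd_prime_iff_eq (h.cv.prime j) Nat.prime_three).1 hd
    have hT3 := h.pow_one j
    rw [h3] at hT3
    exact no_six hF hDn h6 (h.iso j) (hDi j) hf hT3 hUD hU hU3
  · have h4 : Module.finrank F D = 4 := by
      obtain ⟨k, hk⟩ := hev
      omega
    have hX2 : Module.finrank F (Xs (X i₀) D) = 2 := by
      obtain ⟨k, hk⟩ := hev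
      omega
    obtain ⟨y1, m1, y2, m2, x1, m3, x2, m4, hq⟩ := exists_Q4 hu hDn (hDi i₀) h0 hnt
    have hD'i : ∀ i, ∀ v ∈ pp Q D, X i v ∈ pp Q D := fun i => inv_pp (h.iso i) (hDi i)
    have hD'n := nondeg_pp hQ hDn
    by_cases hD' : Nt (X i₀) (pp Q D)
    swap
    · rw [not_Nt] at hD'
      refine h.no_long i₀ hodd hq.qx1 hq.qx2 hq.xx hq.x1_ne hq.x2_ind
        (hq.eq_siegel hQ hDn h4 m1 m2 m3 m4 hD') ?_
      intro i hi
      obtain ⟨a, b, c, d, -, -, -, e3, e4⟩ := hq.pres hu h4 m1 m2 m3 m4 (h.iso i) (h.cm i i₀) (hDi i)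
        (h.odd (hodd i hi)) (h.pow_one i)
      apply span_inv
      · rw [e3]; exact Submodule.mem_span_pair.2 ⟨d, c, rfl⟩
      · rw [e4]; exact Submodule.mem_span_pair.2 ⟨b, a, rfl⟩
    by_cases hF : Nat.card F = 2
    swap
    · -- `q ≥ 4`
      obtain ⟨b, hb0, hb1⟩ : ∃ b : F, b ≠ 0 ∧ b ≠ 1 := by
        by_contra hno
        push Not at hno
        apply hF
        have : Fintype F := Fintype.ofFinite F
        rw [Nat.card_eq_fintype_card]
        apply le_antisymm
        · have h1 : (Finset.univ : Finset F) ⊆ {0, 1} := by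
            intro b _
            by_cases hb : b = 0
            · simp only [hb, _root_.Finset.mem_insert, _root_.Finset.mem_singleton, _root_.zero_ne_one, _root_.or_false]
            · simp only [hno b hb, _root_.Finset.mem_insert, _root_.one_ne_zero, _root_.Finset.mem_singleton, _root_.or_true]
          have h3 := Finset.card_le_card h1
          rw [Finset.card_univ] at h3
          exact h3.trans (Finset.card_le_two)
        · exact Fintype.one_lt_card
      have hm : b + b⁻¹ ≠ 0 := by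
        intro h1
        have h3 : b * b + 1 = 0 := by
          have := congrArg (fun t => t * b) h1
          simpa only [add_mul, inv_mul_cancel₀ hb0, _root_.MulZeroClass.zero_mul] using this
        have h3' : (b + 1) * (b + 1) = 0 := by
          have two : (2 : F) = 0 := two0
          linear_combination h3 + b * two
        have h3'' := mul_self_eq_zero.1 h3'
        apply hb1
        have h6 : (1 : F) + 1 = 0 := CharTwo.add_self_eq_zero 1
        linear_combination h3'' - h6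
      obtain ⟨hzf, k, ℓ, x', M', hℓ, hFC⟩ := h.zfam hinj h2 hDn h4 hDt hDi hq m1 m2 m3 m4 hm
      obtain ⟨g1, g2⟩ := hq.eigen hu hb0 rfl
      have hb1' : b + 1 ≠ 0 := by
        intro h3
        apply hb1
        have h6 : (1 : F) + 1 = 0 := CharTwo.add_self_eq_zero 1
        linear_combination h3 - h6
      have hmem1 : (b + 1) • y1 + x2 ∈ Submodule.span F {(b + 1) • y1 + x2, (b + 1) • y2 + x1} :=
        Submodule.subset_span (by simp only [_root_.Set.mem_insert_iff, _root_.Set.mem_singleton_iff, _root_.true_or])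
      have hmem2 : (b + 1) • y2 + x1 ∈ Submodule.span F {(b + 1) • y1 + x2, (b + 1) • y2 + x1} :=
        Submodule.subset_span (by simp only [_root_.Set.mem_insert_iff, _root_.Set.mem_singleton_iff, _root_.or_true])
      refine hFC.no_plane (upd_ne_two hinj h2 hℓ) (L := Submodule.span F {(b + 1) • y1 + x2, (b + 1) • y2 + x1}) ?_ ?_ ?_
      · apply span_sing
        · rw [Q_add, QuadraticMap.map_smul, hq.qy1, hq.qx2, polar_smul_left, hq.c12]; simp
        · rw [Q_add, QuadraticMap.map_smul, hq.qy2, hq.qx1, polar_smul_left, hq.c21]; simp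
        · rw [polar_add_left, polar_add_right, polar_add_right, polar_smul_left, polar_smul_left, polar_smul_right,
            polar_smul_right, hq.yy, hq.c11, hq.b22, hq.xx']
          simp only [smul_eq_mul, mul_zero, mul_one, zero_add, add_zero]
          exact CharTwo.add_self_eq_zero _
      · apply finrank_pair
        · intro h3
          have h6 := congrArg (fun t => polar Q x1 t) h3
          simp only [polar_add_right, polar_smul_right, hq.b11, hq.xx, polar_zero_right, smul_eq_mul, mul_one,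
            add_zero] at h6
          exact hb1' h6
        · intro t h3
          have h6 := congrArg (fun t => polar Q x2 t) h3
          simp only [polar_add_right, polar_smul_right, hq.b22, hq.b21, hq.xx', polar_self_of_sing hq.qx2,
            smul_eq_mul, mul_one, mul_zero, add_zero] at h6
          exact hb1' h6
      · intro i
        by_cases hi : i = i₀
        · subst hi
          rw [Function.update_self]
          apply pow_inv
          apply span_inv
          · show (siegel Q y1 ((b + b⁻¹) • y2) hq.qy1 (hq.hyw (b + b⁻¹)) * X i *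
              (siegel Q y1 ((b + b⁻¹) • y2) hq.qy1 (hq.hyw (b + b⁻¹)))⁻¹ * (X i)⁻¹) ((b + 1) • y1 + x2) ∈ _
            rw [g1]
            exact Submodule.smul_mem _ _ hmem1
          · show (siegel Q y1 ((b + b⁻¹) • y2) hq.qy1 (hq.hyw (b + b⁻¹)) * X i *
              (siegel Q y1 ((b + b⁻¹) • y2) hq.qy1 (hq.hyw (b + b⁻¹)))⁻¹ * (X i)⁻¹) ((b + 1) • y2 + x1) ∈ _
            rw [g2]
            exact Submodule.smul_mem _ _ hmem2
        · rw [Function.update_of_ne hi]
          obtain ⟨a, b', c, d, -, e1, e2, e3, e4⟩ := hq.pres hu h4 m1 m2 m3 m4 (h.iso i) (h.cm i i₀) (hDi i)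
            (h.odd (hodd i hi)) (h.pow_one i)
          apply span_inv
          · refine Submodule.mem_span_pair.2 ⟨a, b', ?_⟩
            rw [map_add, map_smul, e1, e4]
            module
          · refine Submodule.mem_span_pair.2 ⟨c, d, ?_⟩
            rw [map_add, map_smul, e2, e3]
            module
    -- `q = 2`
    have hd := fpf_dvd hF (hXi j) hfX (h.cv.prime j) (h.pow_one j)
    rw [hX2] at hd
    have hrj : r j = 3 := (Nat.prime_dvd_prime_iff_eq (h.cv.prime j) Nat.prime_three).1 hd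
    have hT3 := h.pow_one j
    rw [hrj] at hT3
    -- no other member is fixed-point-free on a plane
    have hpl : ∀ k, k ≠ j → ∀ W : Submodule F V, Module.finrank F W = 2 → (∀ v ∈ W, X k v ∈ W) →
        ¬ Fpf (X k) W := by
      intro k hk W hW2 hW hfk
      have hd := fpf_dvd hF hW hfk (h.cv.prime k) (h.pow_one k)
      rw [hW2] at hd
      exact hk (hinj (((Nat.prime_dvd_prime_iff_eq (h.cv.prime k) Nat.prime_three).1 hd).trans hrj.symm))
    obtain ⟨hzf, k₀, ℓ, x', M', hℓ, hFC⟩ := h.zfam hinj h2 hDn h4 hDt hDi hq m1 m2 m3 m4 (one_ne_zero)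
    obtain ⟨z, hz⟩ : ∃ z, z = Zz hq 1 := ⟨_, rfl⟩
    rw [← hz] at hzf hFC
    have hupd : ∀ i, i ≠ i₀ → Function.update X i₀ (z ^ k₀) i = X i := fun i hi => Function.update_of_ne hi _ _
    have hupr : ∀ i, i ≠ i₀ → Function.update r i₀ ℓ i = r i := fun i hi => Function.update_of_ne hi _ _
    have hzk : ∀ v ∈ pp Q D, (z ^ k₀) v = v := fun v hv => pow_apply_of (hzf v hv) k₀
    have hnt0 : ¬ Nt (Function.update X i₀ (z ^ k₀) i₀) (pp Q D) := by
      rw [Function.update_self, not_Nt]; exact hzk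
    have hn := finrank_pp hQ D
    have hev' := even_nd hD'n
    -- members different from `j` acting nontrivially on `D^⊥`
    have hKK : ∀ k, k ≠ i₀ → k ≠ j → Nt (X k) (pp Q D) → Module.finrank F (pp Q D) ≤ 6 →
        Module.finrank F (Xs (X k) (pp Q D)) = 4 ∧ Module.finrank F (pp Q D) ≠ 4 := by
      intro k hk0 hkj hnk h6
      have hoddk := h.odd (hodd k hk0)
      obtain ⟨k1, k2, k3, k4⟩ := nt_fpf hoddk (h.pow_one k) (hD'i k)
      have hKn := nd_Xs (h.iso k) hoddk (h.pow_one k) (hD'i k) hD'n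
      have hKe := even_nd hKn
      have hKle := Submodule.finrank_mono k3
      have hK0 : Module.finrank F (Xs (X k) (pp Q D)) ≠ 0 := fun h3 => k4 hnk (Submodule.finrank_eq_zero.1 h3)
      have hK2 : Module.finrank F (Xs (X k) (pp Q D)) ≠ 2 := fun h3 => hpl k hkj _ h3 k2 k1
      have hKlt : Module.finrank F (Xs (X k) (pp Q D)) ≠ Module.finrank F (pp Q D) := by
        intro h3
        have heq : Xs (X k) (pp Q D) = pp Q D := Submodule.eq_of_le_of_finrank_eq k3 h3
        have hfk : Fpf (X k) (pp Q D) := by rw [← heq]; exact k1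
        have h0' : ∀ v ∈ pp Q D, polar Q (X i₀ v) v = 0 := fun v hv =>
          hu.zero_of_fpf (h.iso k) (h.cm k i₀) (hD'i k) hfk hv
        have hev2 := hu.even_Xs hD'n (hD'i i₀) h0'
        have htw2 := hu.two_Xs hQ hD'n (hD'i i₀)
        have hX0' : Module.finrank F (Xs (X i₀) (pp Q D)) ≠ 0 := by
          intro h7
          rw [Submodule.finrank_eq_zero, Xs_eq_bot] at h7
          exact (not_Nt.2 h7) hD'
        have hX2' : Module.finrank F (Xs (X i₀) (pp Q D)) = 2 := by
          obtain ⟨t, ht⟩ := hev2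
          omega
        exact hpl k hkj _ hX2' (Xs_inv (h.cm k i₀) (hD'i k)) (fun v hv => hfk v (Xs_le (hD'i i₀) hv))
      obtain ⟨t, ht⟩ := hKe
      obtain ⟨t', ht'⟩ := hev'
      constructor <;> omega
    have hD't : pp Q D ≠ ⊤ := by
      intro h3
      rw [h3, finrank_top] at hn
      omega
    by_cases h5' : 5 ≤ Module.finrank F (pp Q D)
    · by_cases hK : ∃ k, k ≠ i₀ ∧ Nt (X k) (pp Q D)
      · by_cases hex : Module.finrank F (pp Q D) = 6 ∧ ∃ U : Submodule F V, U ≤ pp Q D ∧ (∀ v ∈ U, Q v = 0) ∧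
            Module.finrank F U = 3
        · -- all the members different from `u` acting nontrivially have order 5
          obtain ⟨h6, U, hUD, hU, hU3⟩ := hex
          have h5k : ∀ k, k ≠ i₀ → Nt (X k) (pp Q D) → r k = 5 := by
            intro k hk0 hnk
            by_cases hkj : k = j
            · exfalso
              subst hkj
              rcases hjD with h7 | h7
              · exact (not_Nt.2 h7) hnk
              · exact no_six hF hD'n h6 (h.iso k) (hD'i k) h7 hT3 hUD hU hU3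
            · have h7 := (hKK k hk0 hkj hnk (by omega)).1
              obtain ⟨k1, k2, -, -⟩ := nt_fpf (h.odd (hodd k hk0)) (h.pow_one k) (hD'i k)
              have hd := fpf_dvd hF k2 k1 (h.cv.prime k) (h.pow_one k)
              rw [h7] at hd
              have hd' : r k ∣ 3 * 5 := hd
              rcases (h.cv.prime k).dvd_mul.1 hd' with h8' | h8'
              · exfalso
                exact hkj (hinj (((Nat.prime_dvd_prime_iff_eq (h.cv.prime k) Nat.prime_three).1 h8').trans hrj.symm))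
              · exact (Nat.prime_dvd_prime_iff_eq (h.cv.prime k) Nat.prime_five).1 h8'
          obtain ⟨k, hk0, hnk⟩ := hK
          have hback : ∀ i, Nt (Function.update X i₀ (z ^ k₀) i) (pp Q D) → i ≠ i₀ ∧ Nt (X i) (pp Q D) := by
            intro i hi
            have hi0 : i ≠ i₀ := by rintro rfl; exact hnt0 hi
            rw [hupd i hi0] at hi
            exact ⟨hi0, hi⟩
          refine hFC.box_A (pp Q D) hD'n h5' hD't ?_ ⟨k, by rw [hupd k hk0]; exact hnk⟩ ?_
            (fun i hi => absurd hi (upd_ne_two hinj h2 hℓ i)) (Or.inr ?_)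
          · intro i
            by_cases hi : i = i₀
            · subst hi
              rw [Function.update_self]
              intro v hv
              rw [hzk v hv]; exact hv
            · rw [hupd i hi]; exact hD'i i
          · intro i i' hi hi' hii
            obtain ⟨a1, a2⟩ := hback i hi
            obtain ⟨b1, b2⟩ := hback i' hi'
            exact hinj ((h5k i a1 a2).trans (h5k i' b1 b2).symm)
          · intro i i' hi hi'
            obtain ⟨a1, a2⟩ := hback i hi
            obtain ⟨b1, b2⟩ := hback i' hi'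
            exact hinj ((h5k i a1 a2).trans (h5k i' b1 b2).symm)
        · refine h.box_A (pp Q D) hD'n h5' hD't hD'i ⟨i₀, hD'⟩ (fun i k _ _ hik => hinj hik)
            (fun i hi => by rw [hp1 i hi]; exact hD') (Or.inl ?_)
          rintro ⟨-, h6, hU⟩
          exact hex ⟨h6, hU⟩
      · push Not at hK
        refine h.box_A (pp Q D) hD'n h5' hD't hD'i ⟨i₀, hD'⟩ (fun i k _ _ hik => hinj hik)
          (fun i hi => by rw [hp1 i hi]; exact hD') (Or.inr ?_)
        have huniq : ∀ i, Nt (X i) (pp Q D) → i = i₀ := by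
          intro i hi
          by_contra hi0
          exact hK i hi0 hi
        intro i i' hi hi'
        rw [huniq i hi, huniq i' hi']
    · have h4' : Module.finrank F (pp Q D) = 4 := by
        obtain ⟨t, ht⟩ := hev'
        omega
      -- the plane `(u - 1) D^⊥`
      have hfin : (∀ v ∈ pp Q D, polar Q (X i₀ v) v = 0) → False := by
        intro h0'
        have hev2 := hu.even_Xs hD'n (hD'i i₀) h0'
        have htw2 := hu.two_Xs hQ hD'n (hD'i i₀)
        have hX0' : Module.finrank F (Xs (X i₀) (pp Q D)) ≠ 0 := by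
          intro h7
          rw [Submodule.finrank_eq_zero, Xs_eq_bot] at h7
          exact (not_Nt.2 h7) hD'
        have hX2' : Module.finrank F (Xs (X i₀) (pp Q D)) = 2 := by
          obtain ⟨t, ht⟩ := hev2
          omega
        refine hFC.no_plane (upd_ne_two hinj h2 hℓ) (L := Xs (X i₀) (pp Q D)) (hu.Xs_sing h0') hX2' ?_
        intro i
        by_cases hi : i = i₀
        · subst hi
          rw [Function.update_self]
          intro v hv
          rw [hzk v (Xs_le (hD'i i) hv)]; exact hv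
        · rw [hupd i hi]
          exact Xs_inv (h.cm i i₀) (hD'i i)
      by_cases hK : ∃ k, k ≠ i₀ ∧ Nt (X k) (pp Q D)
      · obtain ⟨k, hk0, hnk⟩ := hK
        by_cases hkj : k = j
        · subst hkj
          rcases hjD with h7 | h7
          · exact (not_Nt.2 h7) hnk
          · exact hfin fun v hv => hu.zero_of_fpf (h.iso k) (h.cm k i₀) (hD'i k) h7 hv
        · exact (hKK k hk0 hkj hnk (by omega)).2 h4'
      · push Not at hK
        have hK' : ∀ k, k ≠ i₀ → ∀ v ∈ pp Q D, X k v = v := fun k hk => not_Nt.1 (hK k hk)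
        by_cases hex : ∃ v ∈ pp Q D, polar Q (X i₀ v) v ≠ 0
        · exact h.rot hinj i₀ h2 h8 hD'n h4' (hD'i i₀) hK' hex
        · push Not at hex
          exact hfin hex

end Cfsg.Agent.H578.RC
end
end

-- part: H547/RC/M2F
section
prune_inst 0x357075657f6210004004009443001cb3fb0001000008880028e40d060d89cc4288028060aab0040a0002008400310060001000a04040000004040000011d018000419404b0480019000080000008010000100000000000000000000000000000010000000
set_option linter.all false
open scoped Cfsg.Agent.FastGrp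

/-!
# S3510, `Sp₄(2^p)`: covers containing a field automorphism of order `p` (fixed field of order two) (helper547)
-/

set_option autoImplicit false
set_option linter.unusedVariables false

namespace Cfsg.Agent.H547.RC

open Cfsg Cfsg.Agent.H106.RC Cfsg.Agent.H385.RC Cfsg.Agent.H380.RC Module

section abs

variable {G Ω ι : Type*} [Group G] [MulAction G Ω] {N : Subgroup G}

/-- `U` of exponent two contains the involution `x i0` and is normalised by the other members of the
cover; `t ∈ [U, x j]` for all other `j` -/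
theorem two_rule_all [Finite ι] [Nonempty Ω] (hE : Env G Ω N) {x : ι → G} {r : ι → ℕ} (hx : PF x r) (hcov : Cov Ω x) {i0 : ι}
    (hi : r i0 = 2) {U : Subgroup G} [Finite U] (hU2 : ∀ u ∈ U, u * u = 1) (hxU : x i0 ∈ U)
    (hU : ∀ i, ∀ u ∈ U, x i * u * (x i)⁻¹ ∈ U) {t : G} (ht : ∀ j, j ≠ i0 → t ∈ cmm U (x j))
    (hfin : x i0 ∈ cmm (N ⊓ Subgroup.centralizer {x i0}) t) : False := by
  have hab : ∀ u ∈ U, ∀ v ∈ U, u * v = v * u := by
    intro u hu v hv
    have h1 := hU2 _ (U.mul_mem hu hv)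
    have h2 := hU2 _ hu
    have h3 := hU2 _ hv
    have h4 : u⁻¹ = u := inv_eq_of_mul_eq_one_left h2
    have h5 : v⁻¹ = v := inv_eq_of_mul_eq_one_left h3
    have h6 : (u * v)⁻¹ = u * v := inv_eq_of_mul_eq_one_left h1
    rw [mul_inv_rev, h4, h5] at h6
    exact h6.symm
  have hodd : ∀ j, j ≠ i0 → r j ≠ 2 := fun j hj h => hj (hx.inj (h.trans hi.symm))
  refine not_cov_one hE (x := t) (y := x i0) (U := N ⊓ Subgroup.centralizer {x i0})
    (fun ω => ?_) (fun u hu => (Subgroup.mem_centralizer_singleton_iff.1 hu.2)) (hx.ne i0) hfin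
  by_cases hω : x i0 • ω = ω
  · exact Or.inl hω
  right
  have h1 : ∃ j : {j // j ≠ i0}, ∀ u ∈ U, x j.1 • u • ω = u • ω := by
    refine cover_loc (x := fun j : {j // j ≠ i0} => x j.1) (r := fun j => r j.1) (fun j => hx.prime _)
      (fun j => hx.pow _) (fun i j => hx.comm _ _) (fun u hu => ?_) (fun j u hu => hU _ u hu)
      (Or.inl ⟨hab, fun i j h1 _ => absurd (coprime_of_sq hU2 (hx.prime i.1) (hodd _ i.2)) h1⟩)
    obtain ⟨j, hj⟩ := hcov (u • ω)
    refine ⟨⟨j, fun h => hω ?_⟩, hj⟩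
    subst h
    rw [← mul_smul, hab _ hxU _ hu, mul_smul] at hj
    exact MulAction.injective u hj
  obtain ⟨⟨j, hj⟩, hjU⟩ := h1
  exact comm_le hjU (ht j hj)

end abs

section geo

variable {F V G : Type*} [Field F] [AddCommGroup V] [Module F V] [Group G] [DistribMulAction G V]
  {B : LinearMap.BilinForm F V} {N : Subgroup G}

/-- semilinear conjugation -/
theorem IsQ.conj_semi (h : Ev B N) {e : V} {g y : G} {w : V} {c : F} {σ : F ≃+* F}
    (h1 : ∀ (a : F) (v : V), y • a • v = σ a • y • v) (h2 : ∀ u v, B (y • u) (y • v) = σ (B u v)) (hye : y • e = e)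
    (hg : IsQ B e g w c) : IsQ B e (y * g * y⁻¹) (y • w) (σ c) := by
  intro z
  have h3 : ∀ a : V, σ (B (y⁻¹ • z) a) = B z (y • a) := fun a => h.form_inv h2 z a
  rw [mul_smul, mul_smul, hg, smul_add, smul_add, h1, h1, smul_inv_smul, map_add, map_mul, h3, h3, hye]

theorem IsM.conj_semi (h : Ev B N) {v v' : V} {g y : G} {a b c : F} {σ : F ≃+* F}
    (h1 : ∀ (a : F) (v : V), y • a • v = σ a • y • v) (h2 : ∀ u v, B (y • u) (y • v) = σ (B u v)) (hv : y • v = v)
    (hv' : y • v' = v') (hg : IsM B v v' g a b c) : IsM B v v' (y * g * y⁻¹) (σ a) (σ b) (σ c) := by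
  intro z
  have h3 : ∀ a : V, σ (B (y⁻¹ • z) a) = B z (y • a) := fun a => h.form_inv h2 z a
  rw [mul_smul, mul_smul, hg, smul_add, smul_add, h1, h1, smul_inv_smul, map_add, map_add, map_mul, map_mul, map_mul,
    map_mul, h3, h3, hv, hv']

/-- commutator of a transvection with a semilinear element -/
theorem tr_comm (h : Ev B N) {y : G} {σ : F ≃+* F} (h1 : ∀ (a : F) (v : V), y • a • v = σ a • y • v)
    (h2 : ∀ u v, B (y • u) (y • v) = σ (B u v)) {v : V} (hv : y • v = v) (d : F) :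
    h.tr v d * y * (h.tr v d)⁻¹ * y⁻¹ = h.tr v d * h.tr v (σ d) := by
  have h3 := h.conj_tr h1 h2 v d
  rw [hv] at h3
  rw [h.tr_inv, ← h3]; group

/-- two elements of the radical commute -/
theorem IsM.comm (h : Ev B N) {v v' : V} (hv : B v v' = 0) {g g' : G} {a b c a' b' c' : F} (hg : g ∈ N) (hg' : g' ∈ N)
    (h1 : IsM B v v' g a b c) (h2 : IsM B v v' g' a' b' c') : g * g' = g' * g := by
  have h3 := h1.mul h hv hg h2
  have h4 := h2.mul h hv hg' h1
  rw [add_comm a' a, add_comm b' b, add_comm c' c] at h4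
  exact h3.eq h h4

/-- **final step, field automorphism** -/
theorem fin3 (h : Ev B N) {y : G} {σ : F ≃+* F}
    (h1 : ∀ (a : F) (v : V), y • a • v = σ a • y • v) (h2 : ∀ u v, B (y • u) (y • v) = σ (B u v)) (hσ : ∃ k, σ k ≠ k)
    {v v' : V} (hv0 : v ≠ 0) (hv : y • v = v) (hv' : y • v' = v') (hvv : B v v' = 0) (hli : ∀ c : F, v' ≠ c • v) {t : G}
    (htN : t ∈ N) (ht : IsM B v v' t 1 0 1) : t ∈ cmm (N ⊓ Subgroup.centralizer {t}) y := by
  obtain ⟨w', hw1, hw2⟩ := exists_dual2 h hv0 hli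
  obtain ⟨k, hk⟩ := hσ
  -- elements `(0, d, 0)`
  have a1 : ∀ d : F, IsM B v v' (h.tr v' d) 0 d 0 := fun d z => by
    rw [h.tr_apply]; simp
  have a2 : ∀ d : F, ∃ g ∈ cmm (N ⊓ Subgroup.centralizer {t}) y, g ∈ N ∧ IsM B v v' g 0 (d + σ d) 0 := by
    intro d
    have h4 := (a1 d).mul h hvv (h.tr_mem _ _) (a1 (σ d))
    rw [add_zero] at h4
    refine ⟨h.tr v' d * y * (h.tr v' d)⁻¹ * y⁻¹, mem_cmm ⟨h.tr_mem _ _, ?_⟩, ?_, ?_⟩
    · exact Subgroup.mem_centralizer_singleton_iff.2 ((a1 d).comm h hvv (h.tr_mem _ _) htN ht)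
    · rw [tr_comm h h1 h2 hv']
      exact N.mul_mem (h.tr_mem _ _) (h.tr_mem _ _)
    · rw [tr_comm h h1 h2 hv']
      exact h4
  have a3 : ∀ d l : F, ∃ g ∈ cmm (N ⊓ Subgroup.centralizer {t}) y, g ∈ N ∧
      IsM B v v' g ((d + σ d) * l ^ 2) 0 ((d + σ d) * l) := by
    intro d l
    obtain ⟨g, hg, hgN, hgM⟩ := a2 d
    have h3 : B v (l • w') = 0 := by rw [map_smul, hw2, smul_zero]
    have h4 : h.sr h3 • v = v := by rw [h.sr_apply, h.self, h3]; simp
    have h5 : h.sr h3 • v' = v' + l • v := by rw [h.sr_apply, h.symm v' v, hvv, map_smul, hw1]; simp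
    have h6 := ht.conj h (h.sr_mem h3) h4 h5
    rw [zero_mul, zero_mul, add_zero] at h6
    have h7 := h6.eq h ht
    rw [mul_inv_eq_iff_eq_mul] at h7
    have h8 := hgM.conj h (h.sr_mem h3) h4 h5
    have h9 := h8.mul h hvv (N.mul_mem (N.mul_mem (h.sr_mem h3) hgN) (N.inv_mem (h.sr_mem h3))) hgM
    rw [zero_add, zero_add, h.add_self, add_zero, add_zero] at h9
    refine ⟨h.sr h3 * g * (h.sr h3)⁻¹ * g, (cmm _ _).mul_mem (cmm_conj ⟨h.sr_mem h3,
      Subgroup.mem_centralizer_singleton_iff.2 h7⟩ hg) hg,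
      N.mul_mem (N.mul_mem (N.mul_mem (h.sr_mem h3) hgN) (N.inv_mem (h.sr_mem h3))) hgN, h9⟩
  have hs : k + σ k ≠ 0 := by
    intro h3
    apply hk
    have h4 := eq_neg_of_add_eq_zero_left h3
    rw [h.neg] at h4
    exact h4.symm
  set s : F := k + σ k with hsdef
  have e2 : k ^ 2 + σ (k ^ 2) = s ^ 2 := by
    rw [hsdef, map_pow]
    linear_combination (-(k * σ k)) * h.two
  have e4 : k ^ 4 + σ (k ^ 4) = s ^ 4 := by
    have h5 : k ^ 4 + σ (k ^ 4) = (k ^ 2 + σ (k ^ 2)) ^ 2 := by
      rw [map_pow, map_pow]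
      linear_combination (-(k ^ 2 * σ k ^ 2)) * h.two
    rw [h5, e2]; ring
  obtain ⟨g1, c1, n1, q1⟩ := a3 (k ^ 2) ((1 + s) / s ^ 2)
  obtain ⟨g2, c2, n2, q2⟩ := a3 (k ^ 4) (s⁻¹ ^ 3)
  rw [e2] at q1
  rw [e4] at q2
  have h3 := q1.mul h hvv n1 q2
  have h4 : s ^ 2 * ((1 + s) / s ^ 2) ^ 2 + s ^ 4 * (s⁻¹ ^ 3) ^ 2 = 1 := by
    field_simp
    linear_combination (1 + s) * h.two
  have h5 : s ^ 2 * ((1 + s) / s ^ 2) + s ^ 4 * s⁻¹ ^ 3 = 1 := by
    field_simp
    linear_combination s * h.two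
  rw [h4, h5, add_zero] at h3
  have h6 := (cmm _ _).mul_mem c1 c2
  rwa [h3.eq h ht] at h6

/-- `y` is a semilinear isometry with fixed field of order two, `b` is a basis fixed by `y` -/
structure D0 (B : LinearMap.BilinForm F V) (N : Subgroup G) (y : G) (σ : F ≃+* F) (b : Basis (Fin 4) F V) : Prop where
  ev : Ev B N
  semi : ∀ (a : F) (v : V), y • a • v = σ a • y • v
  form : ∀ u v, B (y • u) (y • v) = σ (B u v)
  fix : ∀ a, σ a = a → a = 0 ∨ a = 1
  bas : ∀ i, y • b i = b i

variable {y : G} {σ : F ≃+* F} {b : Basis (Fin 4) F V}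

theorem D0.nd0 (d : D0 B N y σ b) {u : V} (hu : ∀ v, y • v = v → B u v = 0) : u = 0 := by
  apply d.ev.nd
  intro v
  have h1 : B u = 0 := b.ext fun i => by rw [hu _ (d.bas i), LinearMap.zero_apply]
  rw [h1, LinearMap.zero_apply]

theorem D0.val (d : D0 B N y σ b) {u v : V} (hu : y • u = u) (hv : y • v = v) : B u v = 0 ∨ B u v = 1 := by
  apply d.fix
  rw [← d.form, hu, hv]

theorem D0.val' (d : D0 B N y σ b) {u v : V} (hu : y • u = u) (hv : y • v = v) (h : B u v ≠ 0) : B u v = 1 :=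
  (d.val hu hv).resolve_left h

theorem D0.move (d : D0 B N y σ b) {g : G} (hg : g ∈ N) (hg1 : g ≠ 1) : ∃ v : V, y • v = v ∧ g • v ≠ v := by
  by_contra hcon
  push Not at hcon
  apply hg1
  apply d.ev.inj
  have h1 : (d.ev.le hg).toLinearMap = LinearMap.id := b.ext fun i => hcon _ (d.bas i)
  intro v
  exact LinearMap.congr_fun h1 v

theorem D0.indep (d : D0 B N y σ b) {u v : V} (hu : y • u = u) (hv : y • v = v) (hu0 : u ≠ 0) (hv0 : v ≠ 0) (huv : u ≠ v)
    (c : F) : u ≠ c • v := by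
  intro h1
  have h2 : σ c • v = c • v := by
    have h3 := hu
    rwa [h1, d.semi, hv] at h3
  have h3 := d.fix c (smul_left_injective F hv0 h2)
  rcases h3 with h3 | h3
  · rw [h3, zero_smul] at h1; exact hu0 h1
  · rw [h3, one_smul] at h1; exact huv h1

theorem D0.sum (d : D0 B N y σ b) (v : V) : y • v = ∑ i, σ (b.repr v i) • b i := by
  have h1 := b.sum_repr v
  nth_rewrite 1 [← h1]
  rw [Finset.smul_sum]
  exact Finset.sum_congr rfl fun i _ => by rw [d.semi, d.bas]

theorem D0.fixed_iff (d : D0 B N y σ b) (v : V) : y • v = v ↔ ∀ i, σ (b.repr v i) = b.repr v i := by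
  constructor
  · intro h1 i
    have h2 := d.sum v
    rw [h1] at h2
    have h3 : b.repr v i = b.repr (∑ i, σ (b.repr v i) • b i) i := by rw [← h2]
    rw [b.repr_sum_self] at h3
    exact h3.symm
  · intro h1
    rw [d.sum v]
    simp_rw [h1]
    exact b.sum_repr v

theorem D0.card (d : D0 B N y σ b) : Nat.card {v : V // y • v = v} = 16 := by
  let f : {v : V // y • v = v} → (Fin 4 → {a : F // σ a = a}) := fun v i => ⟨b.repr v.1 i, (d.fixed_iff v.1).1 v.2 i⟩
  have hf : Function.Bijective f := by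
    constructor
    · intro v v' hvv
      apply Subtype.ext
      apply b.repr.injective
      ext i
      exact congrArg Subtype.val (congrFun hvv i)
    · intro a
      have h1 : ∀ i, b.repr (∑ i, (a i).1 • b i) i = (a i).1 := fun i => by rw [b.repr_sum_self]
      refine ⟨⟨∑ i, (a i).1 • b i, (d.fixed_iff _).2 fun i => by rw [h1]; exact (a i).2⟩, ?_⟩
      funext i
      exact Subtype.ext (h1 i)
  have h2 : Nat.card {a : F // σ a = a} = 2 := by
    have h3 : {a : F | σ a = a} = {0, 1} := by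
      ext a
      constructor
      · exact d.fix a
      · rintro (rfl | rfl)
        · exact map_zero σ
        · exact map_one σ
    have h4 : Nat.card {a : F // σ a = a} = ({a : F | σ a = a} : Set F).ncard := rfl
    rw [h4, h3, Set.ncard_pair zero_ne_one]
  rw [Nat.card_congr (Equiv.ofBijective f hf), Nat.card_fun, h2]
  norm_num

theorem D0.perp (d : D0 B N y σ b) {a1 a2 : V} (h1 : y • a1 = a1) (h2 : y • a2 = a2) :
    ∃ e : V, e ≠ 0 ∧ y • e = e ∧ B e a1 = 0 ∧ B e a2 = 0 := by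
  classical
  have hfin : Finite {v : V // y • v = v} := Nat.finite_of_card_ne_zero (by rw [d.card]; norm_num)
  have := Fintype.ofFinite {v : V // y • v = v}
  let f : {v : V // y • v = v} → Bool × Bool := fun v => (decide (B v.1 a1 = 0), decide (B v.1 a2 = 0))
  have h3 : Fintype.card (Bool × Bool) < Fintype.card {v : V // y • v = v} := by
    rw [← Nat.card_eq_fintype_card, ← Nat.card_eq_fintype_card, d.card]
    simp
  obtain ⟨v, v', hne, hvv⟩ := Fintype.exists_ne_map_eq_of_card_lt f h3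
  have key : ∀ a : V, y • a = a → (decide (B v.1 a = 0) = decide (B v'.1 a = 0)) → B (v.1 + v'.1) a = 0 := by
    intro a ha h4
    rw [map_add, LinearMap.add_apply]
    rw [decide_eq_decide] at h4
    by_cases h5 : B v.1 a = 0
    · rw [h5, h4.1 h5, add_zero]
    · rw [d.val' v.2 ha h5, d.val' v'.2 ha fun h6 => h5 (h4.2 h6), d.ev.add_self]
  refine ⟨v.1 + v'.1, ?_, ?_, key a1 h1 (congrArg Prod.fst hvv), key a2 h2 (congrArg Prod.snd hvv)⟩
  · intro h4
    apply hne
    apply Subtype.ext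
    have h5 := eq_neg_of_add_eq_zero_left h4
    rwa [d.ev.vneg] at h5
  · rw [smul_add, v.2, v'.2]

/-- the product of two commuting transvections -/
theorem isM_two (h : Ev B N) {a c : V} : IsM B (a + c) a (h.tr a 1 * h.tr c 1) 1 0 1 ∨ B a c ≠ 0 := by
  by_cases hac : B a c = 0
  · left
    intro z
    rw [mul_smul, h.tr_apply, h.tr_apply, map_add, map_add, LinearMap.add_apply, map_smul, LinearMap.smul_apply,
      h.symm c a, hac]
    have h1 : z + (1 * (B z a + B z c) + 1 * B z a) • (a + c) + (0 * B z a + 1 * (B z a + B z c)) • a =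
      z + (1 * B z c) • c + (1 * (B z a + (1 * B z c) • 0)) • a + (2 : F) • (B z c • a + B z a • (a + c)) := by
      simp only [smul_zero]
      module
    rw [h1, h.two, zero_smul, add_zero]
  · exact Or.inr hac

/-- a cover by `y` and one linear element -/
theorem one_other {Ω : Type*} [MulAction G Ω] [Nonempty Ω] (d : D0 B N y σ b) (hσ : ∃ k, σ k ≠ k) (hE : Env G Ω N) {s : G} (hs : s ∈ N)
    (hs1 : s ≠ 1) (hsy : s * y = y * s) (hcov : ∀ ω : Ω, y • ω = ω ∨ s • ω = ω) : False := by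
  have h := d.ev
  have htr : ∀ {a : V}, y • a = a → h.tr a 1 ∈ N ⊓ Subgroup.centralizer {y} := by
    intro a ha
    refine ⟨h.tr_mem _ _, Subgroup.mem_centralizer_singleton_iff.2 ?_⟩
    have h1 := h.conj_tr d.semi d.form a 1
    rw [ha, map_one, mul_inv_eq_iff_eq_mul] at h1
    exact h1.symm
  -- it suffices to find a product of two commuting transvections in the commutator group
  have key : ∀ a c : V, y • a = a → y • c = c → a ≠ 0 → c ≠ 0 → a ≠ c → B a c = 0 →
      h.tr a 1 * h.tr c 1 ∈ cmm (N ⊓ Subgroup.centralizer {y}) s → False := by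
    intro a c ha hc ha0 hc0 hac hB hmem
    have hM := (isM_two h (a := a) (c := c)).resolve_right fun h1 => h1 hB
    have htN : h.tr a 1 * h.tr c 1 ∈ N := N.mul_mem (h.tr_mem _ _) (h.tr_mem _ _)
    have hac0 : a + c ≠ 0 := fun h1 => hac (by
      have h2 := eq_neg_of_add_eq_zero_left h1
      rwa [h.vneg] at h2)
    have hyac : y • (a + c) = a + c := by rw [smul_add, ha, hc]
    have hne : a ≠ a + c := fun h1 => hc0 (by simpa using h1)
    have h3 : h.tr a 1 * h.tr c 1 ≠ 1 := by
      intro h4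
      obtain ⟨w, hw1, hw2⟩ := exists_dual2 h hac0 (d.indep ha hyac ha0 hac0 hne)
      have h5 := hM w
      rw [h4, one_smul, h.symm w a, h.symm w (a + c), hw1, hw2] at h5
      simp only [mul_zero, zero_add, mul_one, add_zero, zero_smul, one_smul] at h5
      exact hac0 (left_eq_add.1 h5)
    refine not_cov_one hE (x := y) (y := h.tr a 1 * h.tr c 1)
      (U := N ⊓ Subgroup.centralizer {h.tr a 1 * h.tr c 1}) (fun ω => ?_)
      (fun u hu => Subgroup.mem_centralizer_singleton_iff.1 hu.2) h3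
      (fin3 h d.semi d.form hσ hac0 hyac ha (by rw [map_add, LinearMap.add_apply, h.self, h.symm, hB, add_zero])
        (d.indep ha hyac ha0 hac0 hne) htN hM)
    by_cases hω : y • ω = ω
    · exact Or.inr hω
    left
    refine comm_le (U := N ⊓ Subgroup.centralizer {y}) (x := s) (fun u hu => ?_) hmem
    refine (hcov (u • ω)).resolve_left fun h5 => hω ?_
    have h6 := Subgroup.mem_centralizer_singleton_iff.1 hu.2
    rw [← mul_smul, ← h6, mul_smul] at h5
    exact MulAction.injective u h5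
  obtain ⟨v, hv, hsv⟩ := d.move hs hs1
  have hsv' : y • s • v = s • v := by rw [← mul_smul, ← hsy, mul_smul, hv]
  have hv0 : v ≠ 0 := fun h1 => hsv (by rw [h1, smul_zero])
  have hsv0 : s • v ≠ 0 := fun h1 => hv0 ((smul_eq_zero_iff_eq s).1 h1)
  have hst : s * h.tr v 1 * s⁻¹ = h.tr (s • v) 1 := by
    obtain ⟨τ, h1, h2⟩ := h.semi s
    have h3 := h.conj_tr h1 h2 v 1
    rwa [map_one] at h3
  have hg0 : h.tr v 1 * h.tr (s • v) 1 ∈ cmm (N ⊓ Subgroup.centralizer {y}) s := by
    have h1 : h.tr v 1 * s * (h.tr v 1)⁻¹ * s⁻¹ = h.tr v 1 * h.tr (s • v) 1 := by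
      rw [← hst, h.tr_inv]; group
    rw [← h1]
    exact mem_cmm (htr hv)
  by_cases hB : B v (s • v) = 0
  · exact key v (s • v) hv hsv' hv0 hsv0 (Ne.symm hsv) hB hg0
  have hB1 := d.val' hv hsv' hB
  obtain ⟨c, hc0, hc, hc1, hc2⟩ := d.perp hv hsv'
  have hvc : B v c = 0 := by rw [h.symm, hc1]
  have hsvc : B (s • v) c = 0 := by rw [h.symm, hc2]
  have hk : h.sr hvc ∈ N ⊓ Subgroup.centralizer {y} := by
    refine ⟨h.sr_mem _, Subgroup.mem_centralizer_singleton_iff.2 ?_⟩
    apply h.ext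
    intro z
    have h3 : ∀ a : V, y • a = a → σ (B z a) = B (y • z) a := fun a ha => by rw [← d.form, ha]
    rw [mul_smul, mul_smul, h.sr_apply, h.sr_apply, smul_add, smul_add, d.semi, d.semi, h3 _ hv, h3 _ hc, hv, hc]
  have hkt : ∀ a : V, h.sr hvc * h.tr a 1 * (h.sr hvc)⁻¹ = h.tr (h.sr hvc • a) 1 := by
    intro a
    obtain ⟨τ, h1, h2⟩ := h.semi (h.sr hvc)
    have h3 := h.conj_tr h1 h2 a 1
    rwa [map_one] at h3
  have hkv : h.sr hvc • v = v := by rw [h.sr_apply, h.self, hvc]; simp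
  have hksv : h.sr hvc • s • v = s • v + c := by rw [h.sr_apply, h.symm (s • v) v, hB1, hsvc]; simp
  have h1 := cmm_comm hk hg0
  have h2 := cmm_conj (htr hv) h1
  have h3 : h.tr v 1 * (h.sr hvc * (h.tr v 1 * h.tr (s • v) 1) * (h.sr hvc)⁻¹ * (h.tr v 1 * h.tr (s • v) 1)⁻¹) *
      (h.tr v 1)⁻¹ = h.tr (s • v + c) 1 * h.tr (s • v) 1 := by
    have h4 : h.sr hvc * (h.tr v 1 * h.tr (s • v) 1) * (h.sr hvc)⁻¹ =
        (h.sr hvc * h.tr v 1 * (h.sr hvc)⁻¹) * (h.sr hvc * h.tr (s • v) 1 * (h.sr hvc)⁻¹) := by group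
    rw [h4, hkt, hkt, hkv, hksv, mul_inv_rev, h.tr_inv, h.tr_inv]
    have h5 := h.tr_sq v 1
    calc h.tr v 1 * (h.tr v 1 * h.tr (s • v + c) 1 * (h.tr (s • v) 1 * h.tr v 1)) * h.tr v 1
        = (h.tr v 1 * h.tr v 1) * (h.tr (s • v + c) 1 * h.tr (s • v) 1) * (h.tr v 1 * h.tr v 1) := by group
      _ = _ := by rw [h5, one_mul, mul_one]
  rw [h3] at h2
  refine key (s • v + c) (s • v) (by rw [smul_add, hsv', hc]) hsv' ?_ hsv0 ?_ ?_ h2
  · intro h4
    have h5 := congrArg (B v) h4
    rw [map_add, hB1, hvc, map_zero, add_zero] at h5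
    exact one_ne_zero h5
  · intro h4
    exact hc0 (by simpa using h4)
  · rw [map_add, LinearMap.add_apply, h.self, hc2, add_zero]

/-- counting: a set without fixed points of an element of order `p` -/
theorem cnt {G X : Type*} [Group G] [MulAction G X] {S : Set X} {g : G} {p : ℕ} (hp : p.Prime) (hg : g ^ p = 1)
    (hS : ∀ v ∈ S, g • v ∈ S) (hfin : S.Finite) : S.ncard ≡ {v | v ∈ S ∧ g • v = v}.ncard [MOD p] := by
  classical
  have := Fact.mk hp
  have := hfin.to_subtype
  have := Fintype.ofFinite S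
  let f : Function.End S := fun v => ⟨g • v.1, hS v.1 v.2⟩
  have h1 : ∀ (k : ℕ) (v : S), ((f ^ k) v : X) = g ^ k • (v : X) := by
    intro k
    induction k with
    | zero => intro v; rw [pow_zero, pow_zero, one_smul]; rfl
    | succ k ih =>
      intro v
      rw [pow_succ', pow_succ']
      show g • ((f ^ k) v : X) = (g * g ^ k) • (v : X)
      rw [ih, mul_smul]
  have h2 : f ^ p ^ 1 = 1 := by
    rw [pow_one]
    funext v
    apply Subtype.ext
    rw [h1, hg, one_smul]
    rfl
  have h3 := Equiv.Perm.card_fixedPoints_modEq h2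
  rw [← Nat.card_eq_fintype_card, ← Nat.card_eq_fintype_card] at h3
  have h4 : Nat.card S = S.ncard := rfl
  have h5 : Nat.card (Function.fixedPoints f) = {v | v ∈ S ∧ g • v = v}.ncard := by
    rw [← Nat.card_coe_set_eq]
    refine Nat.card_congr ⟨fun v => ⟨v.1.1, v.1.2, congrArg Subtype.val v.2⟩, fun v => ⟨⟨v.1, v.2.1⟩, Subtype.ext v.2.2⟩,
      fun v => rfl, fun v => rfl⟩
  rw [h4, h5] at h3
  exact h3

/-- fixed vectors -/
def fx (V : Type*) [AddCommGroup V] [DistribMulAction G V] (g : G) : AddSubgroup V where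
  carrier := {v | g • v = v}
  zero_mem' := smul_zero g
  add_mem' := fun {a b} ha hb => by
    show g • (a + b) = a + b
    rw [smul_add, ha, hb]
  neg_mem' := fun {a} ha => by
    show g • (-a) = -a
    rw [smul_neg, ha]

theorem mem_fx {g : G} {v : V} : v ∈ fx V g ↔ g • v = v := Iff.rfl

theorem D0.card_fx (d : D0 B N y σ b) : Nat.card (fx V y) = 16 := d.card

theorem D0.fin_fx (d : D0 B N y σ b) : (fx V y : Set V).Finite :=
  Set.finite_coe_iff.1 (Nat.finite_of_card_ne_zero (by
    have := d.card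
    change Nat.card (fx V y) = 16 at this
    rw [SetLike.coe_sort_coe, this]; norm_num))

theorem stab_fx {g g' : G} (hc : g * g' = g' * g) {v : V} (hv : v ∈ fx V g') : g • v ∈ fx V g' := by
  rw [mem_fx, ← mul_smul, ← hc, mul_smul, mem_fx.1 hv]

/-- commuting elements of order 3 and 5 without fixed vectors do not exist in `Sp₄(2)` -/
theorem D0.no_35 (d : D0 B N y σ b) {a c : G} (ha : a ∈ N) (hc : c ∈ N) (ha5 : a ^ 5 = 1) (hc3 : c ^ 3 = 1)
    (hac : a * c = c * a) (hay : a * y = y * a) (hcy : c * y = y * c) (hafix : ∀ v : V, y • v = v → a • v = v → v = 0)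
    (hcfix : ∀ v : V, y • v = v → c • v = v → v = 0) : False := by
  have h := d.ev
  let Z : Set V := {v | y • v = v ∧ v ≠ 0 ∧ B v (c • v) = 0}
  have hZ0 : Z ⊆ (fx V y : Set V) := fun v hv => hv.1
  have hZfin := d.fin_fx.subset hZ0
  have key : ∀ (g : G) (p : ℕ), g ∈ N → p.Prime → g ^ p = 1 → g * y = y * g → g * c = c * g →
      (∀ v : V, y • v = v → g • v = v → v = 0) → p ∣ Z.ncard := by
    intro g p hg hp hgp hgy hgc hfix
    have h1 := cnt hp hgp (S := Z) (fun v hv => ⟨stab_fx hgy hv.1, fun h2 => hv.2.1 ((smul_eq_zero_iff_eq g).1 h2), by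
      rw [← mul_smul, ← hgc, mul_smul, h.isom hg, hv.2.2]⟩) hZfin
    have h2 : {v | v ∈ Z ∧ g • v = v} = (∅ : Set V) := by
      ext v
      constructor
      · rintro ⟨h3, h4⟩
        exact absurd (hfix v h3.1 h4) h3.2.1
      · intro h3
        exact h3.elim
    rw [h2, Set.ncard_empty] at h1
    exact (Nat.modEq_zero_iff_dvd).1 h1
  have h5 := key a 5 ha (by norm_num) ha5 hay hac hafix
  have h3 := key c 3 hc (by norm_num) hc3 hcy rfl hcfix
  have hall : ((fx V y : Set V) \ {0}).ncard = 15 := by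
    rw [Set.ncard_sdiff_singleton_of_mem (fx V y).zero_mem]
    have := d.card_fx
    rw [← SetLike.coe_sort_coe, Nat.card_coe_set_eq] at this
    rw [this]
  have hZle : Z ⊆ (fx V y : Set V) \ {0} := fun v hv => ⟨hv.1, hv.2.1⟩
  have hfin' : ((fx V y : Set V) \ {0}).Finite := d.fin_fx.subset Set.sdiff_subset
  have h15 : Z.ncard ≤ 15 := hall ▸ Set.ncard_le_ncard hZle hfin'
  have h0 : Z.ncard = 0 ∨ Z.ncard = 15 := by
    have : 15 ∣ Z.ncard := by
      have := Nat.Coprime.mul_dvd_of_dvd_of_dvd (by norm_num : Nat.Coprime 5 3) h5 h3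
      simpa using this
    (clear * - h15 this; omega)
  -- `c² v + c v + v = 0`
  have hc2 : ∀ v : V, y • v = v → c • c • v = c • v + v := by
    intro v hv
    have h1 : c • c • v + c • v + v = 0 := by
      apply hcfix
      · have h6 : y • c • v = c • v := stab_fx hcy hv
        have h7 : y • c • c • v = c • c • v := stab_fx hcy h6
        rw [smul_add, smul_add, h6, h7, hv]
      · rw [smul_add, smul_add]
        have h6 : c • c • c • v = v := by rw [← mul_smul, ← mul_smul, ← pow_two, ← pow_succ, hc3, one_smul]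
        rw [h6]; abel
    rw [add_assoc] at h1
    have h2 := eq_neg_of_add_eq_zero_left h1
    rwa [h.vneg] at h2
  have hb0 : (b 0 : V) ≠ 0 := b.ne_zero 0
  have hcy' : ∀ {v : V}, y • v = v → y • c • v = c • v := fun hv => stab_fx hcy hv
  rcases h0 with h0 | h0
  · rw [Set.ncard_eq_zero hZfin] at h0
    have h1 : ∀ v : V, y • v = v → v ≠ 0 → B v (c • v) = 1 := fun v hv hv0 => d.val' hv (hcy' hv) fun h2 => by
      have h6 : v ∈ Z := ⟨hv, hv0, h2⟩
      rw [h0] at h6
      exact h6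
    obtain ⟨e, he0, he, he1, he2⟩ := d.perp (d.bas 0) (hcy' (d.bas 0))
    have h2 := h1 _ (d.bas 0) hb0
    have h6 := h1 e he he0
    have h7 : b 0 + e ≠ 0 := by
      intro h8
      have h9 := eq_neg_of_add_eq_zero_left h8
      rw [h.vneg] at h9
      rw [← h9, h2] at he2
      exact one_ne_zero he2
    have h8 := h1 (b 0 + e) (by rw [smul_add, d.bas, he]) h7
    have h9 : B (b 0) (c • e) = 0 := by
      have h10 : c • c • c • e = e := by rw [← mul_smul, ← mul_smul, ← pow_two, ← pow_succ, hc3, one_smul]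
      rw [← h.isom hc, ← h.isom hc, h10, hc2 _ (d.bas 0), map_add, LinearMap.add_apply, h.symm _ e, h.symm _ e, he1, he2,
        add_zero]
    simp only [smul_add, map_add, LinearMap.add_apply] at h8
    rw [h2, h6, h9, he2, add_zero, zero_add, h.add_self] at h8
    exact zero_ne_one h8
  · have h1 : Z = (fx V y : Set V) \ {0} := Set.eq_of_subset_of_ncard_le hZle (by rw [hall, h0]) hfin'
    have h2 : ∀ v : V, y • v = v → B v (c • v) = 0 := by
      intro v hv
      by_cases hv0 : v = 0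
      · rw [hv0, map_zero, LinearMap.zero_apply]
      · have h6 : v ∈ Z := by
          rw [h1]
          exact ⟨hv, hv0⟩
        exact h6.2.2
    have h6 : ∀ v w : V, y • v = v → y • w = w → B v (c • w) = B (c • v) w := by
      intro v w hv hw
      have h7 := h2 (v + w) (by rw [smul_add, hv, hw])
      simp only [smul_add, map_add, LinearMap.add_apply] at h7
      rw [h2 v hv, h2 w hw, zero_add, add_zero, add_comm] at h7
      have h8 := eq_neg_of_add_eq_zero_left h7
      rw [h.symm (c • v) w, h8]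
      exact h.neg _
    have h7 : ∀ v w : V, y • v = v → y • w = w → B v (c • w) = 0 := by
      intro v w hv hw
      have h8 := h6 v (c • w) hv (hcy' hw)
      rw [h.isom hc, hc2 w hw, map_add] at h8
      exact left_eq_add.1 (by rw [add_comm]; exact h8.symm)
    have h8 : c • b 0 = 0 := d.nd0 fun v hv => by rw [h.symm]; exact h7 v _ hv (d.bas 0)
    exact hb0 ((smul_eq_zero_iff_eq c).1 h8)

theorem D0.card_dvd (d : D0 B N y σ b) (K : AddSubgroup V) (hK : K ≤ fx V y) : Nat.card K ∣ 16 := by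
  rw [← d.card_fx]
  exact AddSubgroup.card_dvd_of_le hK

theorem D0.cnt_fx (d : D0 B N y σ b) {K : AddSubgroup V} (hK : K ≤ fx V y) {g : G} {p : ℕ} (hp : p.Prime) (hg : g ^ p = 1)
    (hS : ∀ v ∈ K, g • v ∈ K) : Nat.card K ≡ Nat.card (K ⊓ fx V g : AddSubgroup V) [MOD p] := by
  have h1 := cnt hp hg (S := (K : Set V)) hS (d.fin_fx.subset hK)
  exact h1

theorem dvd_sixteen {n : ℕ} (hn : n ∣ 16) : n = 1 ∨ n = 2 ∨ n = 4 ∨ n = 8 ∨ n = 16 := by
  obtain ⟨k, hk, rfl⟩ := (Nat.dvd_prime_pow Nat.prime_two).1 (show n ∣ 2 ^ 4 from hn)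
  interval_cases k <;> simp

theorem prime_cases {p n : ℕ} (hp : p.Prime) (hp2 : p ≠ 2) (hn : n ∣ 16) (hn16 : n ≠ 16) (h : 16 ≡ n [MOD p]) :
    (p = 3 ∧ (n = 1 ∨ n = 4)) ∨ (p = 5 ∧ n = 1) ∨ (p = 7 ∧ n = 2) := by
  have h2 : p ∣ 16 - n := (Nat.modEq_iff_dvd' (Nat.le_of_dvd (by norm_num) hn)).1 h.symm
  rcases dvd_sixteen hn with h | h | h | h | h <;> subst h
  · have h3 : p ∣ 3 * 5 := h2
    rcases (Nat.Prime.dvd_mul hp).1 h3 with h4 | h4
    · exact Or.inl ⟨(Nat.prime_dvd_prime_iff_eq hp Nat.prime_three).1 h4, Or.inl rfl⟩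
    · exact Or.inr (Or.inl ⟨(Nat.prime_dvd_prime_iff_eq hp Nat.prime_five).1 h4, rfl⟩)
  · have h3 : p ∣ 2 * 7 := h2
    rcases (Nat.Prime.dvd_mul hp).1 h3 with h4 | h4
    · exact absurd ((Nat.prime_dvd_prime_iff_eq hp Nat.prime_two).1 h4) hp2
    · exact Or.inr (Or.inr ⟨(Nat.prime_dvd_prime_iff_eq hp (by norm_num)).1 h4, rfl⟩)
  · have h3 : p ∣ 2 ^ 2 * 3 := h2
    rcases (Nat.Prime.dvd_mul hp).1 h3 with h4 | h4
    · exact absurd ((Nat.prime_dvd_prime_iff_eq hp Nat.prime_two).1 (hp.dvd_of_dvd_pow h4)) hp2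
    · exact Or.inl ⟨(Nat.prime_dvd_prime_iff_eq hp Nat.prime_three).1 h4, Or.inr rfl⟩
  · have h3 : p ∣ 2 ^ 3 := h2
    exact absurd ((Nat.prime_dvd_prime_iff_eq hp Nat.prime_two).1 (hp.dvd_of_dvd_pow h3)) hp2
  · exact absurd rfl hn16

theorem ari_35 {p q A C D : ℕ} (hp : p.Prime) (hq : q.Prime) (hp2 : p ≠ 2) (hq2 : q ≠ 2) (hpq : p ≠ q)
    (hA : 16 ≡ A [MOD p]) (hC : 16 ≡ C [MOD q]) (hAD : A ≡ D [MOD q]) (hCD : C ≡ D [MOD p]) (hA16 : A ∣ 16) (hC16 : C ∣ 16)
    (hDA : D ∣ A) (hDC : D ∣ C) (hA1 : A ≠ 16) (hC1 : C ≠ 16) :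
    A = 1 ∧ C = 1 ∧ ((p = 3 ∧ q = 5) ∨ (p = 5 ∧ q = 3)) := by
  have hD16 := dvd_sixteen (hDA.trans hA16)
  have hDA' := Nat.le_of_dvd (Nat.pos_of_dvd_of_pos hA16 (by norm_num)) hDA
  have hDC' := Nat.le_of_dvd (Nat.pos_of_dvd_of_pos hC16 (by norm_num)) hDC
  unfold Nat.ModEq at hAD hCD
  rcases prime_cases hp hp2 hA16 hA1 hA with ⟨rfl, h1⟩ | ⟨rfl, h1⟩ | ⟨rfl, h1⟩ <;>
  rcases prime_cases hq hq2 hC16 hC1 hC with ⟨rfl, h2⟩ | ⟨rfl, h2⟩ | ⟨rfl, h2⟩ <;> (clear * - hpq hDC' h1 h2 hAD hCD hDA'; omega)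

/-- commuting linear elements of different odd prime orders do not exist -/
theorem D0.no_two_odd (d : D0 B N y σ b) {a c : G} (ha : a ∈ N) (hc : c ∈ N) {p q : ℕ} (hp : p.Prime) (hq : q.Prime)
    (hp2 : p ≠ 2) (hq2 : q ≠ 2) (hpq : p ≠ q) (hap : a ^ p = 1) (hcq : c ^ q = 1) (ha1 : a ≠ 1) (hc1 : c ≠ 1)
    (hac : a * c = c * a) (hay : a * y = y * a) (hcy : c * y = y * c) : False := by
  have hA := d.cnt_fx le_rfl hp hap (fun v hv => stab_fx hay hv)
  have hC := d.cnt_fx le_rfl hq hcq (fun v hv => stab_fx hcy hv)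
  have hAD := d.cnt_fx (K := fx V y ⊓ fx V a) inf_le_left hq hcq
    (fun v hv => ⟨stab_fx hcy hv.1, stab_fx hac.symm hv.2⟩)
  have hCD := d.cnt_fx (K := fx V y ⊓ fx V c) inf_le_left hp hap
    (fun v hv => ⟨stab_fx hay hv.1, stab_fx hac hv.2⟩)
  have hA16 := d.card_dvd (fx V y ⊓ fx V a) inf_le_left
  have hC16 := d.card_dvd (fx V y ⊓ fx V c) inf_le_left
  have hDA : Nat.card (fx V y ⊓ fx V a ⊓ fx V c : AddSubgroup V) ∣ Nat.card (fx V y ⊓ fx V a : AddSubgroup V) :=
    AddSubgroup.card_dvd_of_le inf_le_left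
  have hDe : fx V y ⊓ fx V c ⊓ fx V a = fx V y ⊓ fx V a ⊓ fx V c := inf_right_comm _ _ _
  have hDC : Nat.card (fx V y ⊓ fx V a ⊓ fx V c : AddSubgroup V) ∣ Nat.card (fx V y ⊓ fx V c : AddSubgroup V) := by
    rw [← hDe]
    exact AddSubgroup.card_dvd_of_le inf_le_left
  rw [hDe] at hCD
  rw [d.card_fx] at hA hC
  have hne : ∀ g : G, g ∈ N → g ≠ 1 → Nat.card (fx V y ⊓ fx V g : AddSubgroup V) ≠ 16 := by
    intro g hg hg1 h1
    obtain ⟨v, hv, hgv⟩ := d.move hg hg1
    have hfin : Finite (fx V y) := d.fin_fx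
    have h2 : fx V y ⊓ fx V g = fx V y := AddSubgroup.eq_of_le_of_card_ge inf_le_left (by rw [h1, d.card_fx])
    have h3 : v ∈ fx V y := hv
    rw [← h2] at h3
    exact hgv h3.2
  have hbot : ∀ g : G, Nat.card (fx V y ⊓ fx V g : AddSubgroup V) = 1 → ∀ v : V, y • v = v → g • v = v → v = 0 := by
    intro g h1 v hv hgv
    rw [AddSubgroup.card_eq_one] at h1
    have h2 : v ∈ fx V y ⊓ fx V g := ⟨hv, hgv⟩
    rw [h1] at h2
    exact h2
  obtain ⟨h1, h2, h3⟩ := ari_35 hp hq hp2 hq2 hpq hA hC hAD hCD hA16 hC16 hDA hDC (hne a ha ha1) (hne c hc hc1)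
  rcases h3 with ⟨rfl, rfl⟩ | ⟨rfl, rfl⟩
  · exact d.no_35 hc ha hcq hap hac.symm hcy hay (hbot c h2) (hbot a h1)
  · exact d.no_35 ha hc hap hcq hac hay hcy (hbot a h1) (hbot c h2)

/-- elements of `QS h e` commuting with a linear element of odd order are transvections -/
theorem QS_comm (h : Ev B N) [FiniteDimensional F V] (h4 : finrank F V = 4) {x : G} (hx : x ∈ N) {r : ℕ} (hxr : x ^ r = 1)
    (hr : r % 2 = 1) (hx1 : x ≠ 1) {e : V} (he : e ≠ 0) (hxe : x • e = e) {g : G} (hg : g ∈ QS h e) (hgx : g * x = x * g) :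
    ∃ c', ∀ z : V, g • z = z + (c' * B z e) • e := by
  obtain ⟨hgN, w', c', he', h1⟩ := hg
  have h2 := h1.conj h hx hxe
  have h3 : x * g * x⁻¹ = g := by rw [← hgx, mul_inv_cancel_right]
  rw [h3] at h2
  obtain ⟨z, hz⟩ := exists_dual h he
  rw [h.symm] at hz
  have h4' := (h1 z).symm.trans (h2 z)
  rw [hz, one_smul, one_smul, add_assoc, add_assoc] at h4'
  have h5 := add_left_cancel h4'
  have h6 : x • w' + w' = (B z w' + B z (x • w')) • e := by
    have h7 : x • w' = w' + (B z w' + c' * 1) • e - (B z (x • w') + c' * 1) • e := eq_sub_of_add_eq h5.symm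
    have h8 : x • w' + w' = (2 : F) • (w' - B z (x • w') • e) + (B z w' + B z (x • w')) • e := by
      nth_rewrite 1 [h7]
      module
    rw [h8, h.two, zero_smul, zero_add]
  obtain ⟨b, hb⟩ := fpf1 h h4 hx hxr hr hx1 he hxe he' h6
  refine ⟨c', fun z => ?_⟩
  have h10 : z + B z e • b • e + (B z (b • e) + c' * B z e) • e =
      z + (c' * B z e) • e + (2 : F) • ((b * B z e) • e) := by
    rw [map_smul, smul_eq_mul]; module
  rw [h1 z, hb, h10, h.two, zero_smul, add_zero]

theorem comm_of_tr (h : Ev B N) {g x : G} (hx : x ∈ N) {e : V} (hxe : x • e = e) {c : F}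
    (hg : ∀ z : V, g • z = z + (c * B z e) • e) : g * x = x * g := by
  apply h.ext
  intro z
  rw [mul_smul, mul_smul, hg, hg, smul_add, h.lin hx, hxe]
  have h10 := h.isom hx z e
  rw [hxe] at h10
  rw [h10]

theorem conj_tr_lin (h : Ev B N) {g : G} (hg : g ∈ N) (e : V) (c : F) : g * h.tr e c * g⁻¹ = h.tr (g • e) c := by
  have h1 := h.conj_tr (σ := RingEquiv.refl F) (fun a v => h.lin hg a v) (fun u v => h.isom hg u v) e c
  exact h1

/-- **an involution of type 1, an odd linear element, a field automorphism** -/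
theorem inv1 {Ω ι : Type*} [Finite F] [FiniteDimensional F V] [Finite G] [MulAction G Ω] [Nonempty Ω] [Finite ι]
    (hE : Env G Ω N) {x : ι → G} {r : ι → ℕ} (hx : PF x r) (hcov : Cov Ω x) (hdim : finrank F V = 4) (hq : 2 < Nat.card F)
    {i0 i1 j0 : ι} (d : D0 B N (x i1) σ b) (hσ : ∃ k, σ k ≠ k) (hi : r i0 = 2) (h01 : i0 ≠ i1) (hj0 : j0 ≠ i0) (hj1 : j0 ≠ i1)
    (hlin : ∀ j, j ≠ i1 → x j ∈ N) {e : V} {c : F} (he : e ≠ 0) (hc : c ≠ 0) (hu : IsQ B e (x i0) 0 c) : False := by
  have h := d.ev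
  have hodd : ∀ j, j ≠ i0 → r j % 2 = 1 := fun j hj =>
    (hx.prime j).eq_two_or_odd.resolve_left fun h3 => hj (hx.inj (h3.trans hi.symm))
  have huN := hlin i0 h01
  have hsN := hlin j0 hj1
  -- a fixed centre
  obtain ⟨e', c', he', hye, hu'⟩ : ∃ (e' : V) (c' : F), e' ≠ 0 ∧ x i1 • e' = e' ∧ IsQ B e' (x i0) 0 c' := by
    obtain ⟨v0, hv0, huv0⟩ := d.move huN (hx.ne i0)
    have h1 : x i0 • v0 + v0 = (c * B v0 e) • e := by
      rw [hu v0, map_zero, smul_zero, add_zero, zero_add, add_right_comm, h.vadd_self, zero_add]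
    have h2 : x i0 • v0 + v0 ≠ 0 := by
      intro h3
      have h4 := eq_neg_of_add_eq_zero_left h3
      rw [h.vneg] at h4
      exact huv0 h4
    have h3 : c * B v0 e ≠ 0 := by
      intro h4
      rw [h1, h4, zero_smul] at h2
      exact h2 rfl
    refine ⟨(c * B v0 e) • e, c / (c * B v0 e) ^ 2, by rwa [← h1], ?_, ?_⟩
    · rw [← h1, smul_add, hv0]
      have h4 : x i1 • x i0 • v0 = x i0 • v0 := by
        rw [← mul_smul, hx.comm, mul_smul, hv0]
      rw [h4]
    · generalize c * B v0 e = l at h3 ⊢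
      intro z
      rw [hu z, map_smul, smul_smul, map_zero, smul_zero, smul_zero, add_zero, zero_add, zero_add, smul_eq_mul]
      congr 2
      field_simp
  clear hu he hc
  have hc' : c' ≠ 0 := by
    rintro rfl
    apply hx.ne i0
    apply h.ext
    intro z
    rw [hu' z]; simp
  have hfix : ∀ j, j ≠ i1 → x j • e' = e' := fun j hj => fix_centre h he' hc' hu' (hlin j hj) (hx.comm _ _)
  obtain ⟨z0, hz0, hez0⟩ : ∃ z0 : V, x i1 • z0 = z0 ∧ B e' z0 = 1 := by
    by_contra hcon
    push Not at hcon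
    apply he'
    apply d.nd0
    intro v hv
    by_contra h1
    exact hcon v hv (d.val' hye hv h1)
  obtain ⟨w0, hw0, hyw0, hw0e, hw0z⟩ := d.perp hye hz0
  have hne : w0 ≠ e' := by
    rintro rfl
    rw [hez0] at hw0z
    exact one_ne_zero hw0z
  have hysw : x i1 • x j0 • w0 = x j0 • w0 := by rw [← mul_smul, hx.comm, mul_smul, hyw0]
  obtain ⟨k, hk⟩ := hσ
  have hm : k + σ k ≠ 0 := by
    intro h3
    apply hk
    have h4 := eq_neg_of_add_eq_zero_left h3
    rw [h.neg] at h4
    exact h4.symm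
  have hew0 : B e' w0 = 0 := by rw [h.symm, hw0e]
  have hesw : B e' (x j0 • w0) = 0 := by
    have := h.isom hsN e' w0
    rwa [hfix j0 hj1, hew0] at this
  have hmw : B e' ((k + σ k) • w0) = 0 := by rw [map_smul, hew0, smul_zero]
  have hemw : B e' ((k + σ k) • (w0 + x j0 • w0)) = 0 := by rw [map_smul, map_add, hew0, hesw, add_zero, smul_zero]
  have hkw : B e' (k • (w0 + x j0 • w0)) = 0 := by rw [map_smul, map_add, hew0, hesw, add_zero, smul_zero]
  set bb : F := B (x j0 • w0) w0 with hbb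
  have hσbb : σ bb = bb := by rw [hbb, ← d.form, hysw, hyw0]
  -- the element `t`
  have q0 : ∀ {w : V} (hw : B e' w = 0), IsQ B e' (h.sr hw) w 0 := fun hw z => by rw [h.sr_apply, zero_mul, add_zero]
  have qt : ∀ c : F, IsQ B e' (h.tr e' c) 0 c := fun c z => by rw [h.tr_apply]; simp only [_root_.smul_zero, _root_.add_zero, _root_.map_zero, _root_.zero_add]
  have t1 : IsQ B e' (h.sr hmw * x j0 * (h.sr hmw)⁻¹ * (x j0)⁻¹) ((k + σ k) • (w0 + x j0 • w0)) ((k + σ k) ^ 2 * bb) := by
    have h1 := (q0 hmw).conj h hsN (hfix j0 hj1)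
    have h2 := (q0 hmw).mul h (h.sr_mem _) hmw (by rw [h.lin hsN, map_smul, hesw, smul_zero]) h1
    have h3 : h.sr hmw * (x j0 * h.sr hmw * (x j0)⁻¹) = h.sr hmw * x j0 * (h.sr hmw)⁻¹ * (x j0)⁻¹ := by
      rw [h.sr_inv]; group
    rw [h3, h.lin hsN, ← smul_add, add_zero, zero_add, map_smul, map_smul, LinearMap.smul_apply, ← hbb, smul_eq_mul,
      smul_eq_mul, ← mul_assoc, ← pow_two] at h2
    exact h2
  have t1N : h.sr hmw * x j0 * (h.sr hmw)⁻¹ * (x j0)⁻¹ ∈ N :=
    N.mul_mem (N.mul_mem (N.mul_mem (h.sr_mem _) hsN) (N.inv_mem (h.sr_mem _))) (N.inv_mem hsN)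
  have hyN : ∀ g ∈ N, x i1 * g * (x i1)⁻¹ ∈ N := fun g hg => hE.norm.conj_mem g hg (x i1)
  have t2 : IsQ B e' (h.sr hkw * x i1 * (h.sr hkw)⁻¹ * (x i1)⁻¹) ((k + σ k) • (w0 + x j0 • w0)) 0 := by
    have h1 := (q0 hkw).conj_semi h d.semi d.form hye
    have hyw : x i1 • k • (w0 + x j0 • w0) = σ k • (w0 + x j0 • w0) := by rw [d.semi, smul_add, hyw0, hysw]
    rw [hyw] at h1
    have h2 := (q0 hkw).mul h (h.sr_mem _) hkw (by rw [map_smul, map_add, hew0, hesw, add_zero, smul_zero]) h1
    have h3 : h.sr hkw * (x i1 * h.sr hkw * (x i1)⁻¹) = h.sr hkw * x i1 * (h.sr hkw)⁻¹ * (x i1)⁻¹ := by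
      rw [h.sr_inv]; group
    rw [h3, ← add_smul, map_zero, add_zero, zero_add, map_smul, map_smul, LinearMap.smul_apply, h.self, smul_zero,
      smul_zero] at h2
    exact h2
  have t2N : h.sr hkw * x i1 * (h.sr hkw)⁻¹ * (x i1)⁻¹ ∈ N := by
    have h1 := N.mul_mem (h.sr_mem hkw) (hyN _ (N.inv_mem (h.sr_mem hkw)))
    rwa [← mul_assoc, ← mul_assoc] at h1
  have t3 : IsQ B e' (h.tr e' (k ^ 2 * bb) * x i1 * (h.tr e' (k ^ 2 * bb))⁻¹ * (x i1)⁻¹) 0 ((k + σ k) ^ 2 * bb) := by
    rw [tr_comm h d.semi d.form hye, map_mul, map_pow, hσbb]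
    have h2 := (qt (k ^ 2 * bb)).mul h (h.tr_mem _ _) (map_zero _) (map_zero _) (qt (σ k ^ 2 * bb))
    rw [add_zero, map_zero, add_zero] at h2
    have h3 : k ^ 2 * bb + σ k ^ 2 * bb = (k + σ k) ^ 2 * bb := by linear_combination (-(k * σ k * bb)) * h.two
    rw [h3] at h2
    exact h2
  have hteq : h.sr hmw * x j0 * (h.sr hmw)⁻¹ * (x j0)⁻¹ =
      (h.sr hkw * x i1 * (h.sr hkw)⁻¹ * (x i1)⁻¹) *
        (h.tr e' (k ^ 2 * bb) * x i1 * (h.tr e' (k ^ 2 * bb))⁻¹ * (x i1)⁻¹) := by
    have h1 := t2.mul h t2N hemw (map_zero _) t3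
    rw [add_zero, zero_add, map_zero, LinearMap.zero_apply, add_zero] at h1
    exact t1.eq h h1
  have hmem : ∀ j, ∀ g ∈ QS h e', x j * g * (x j)⁻¹ ∈ QS h e' := by
    rintro j g ⟨hg, w', c', he', h1⟩
    by_cases hj : j = i1
    · subst hj
      refine ⟨hyN g hg, x j • w', σ c', ?_, h1.conj_semi h d.semi d.form hye⟩
      have := d.form e' w'
      rwa [hye, he', map_zero] at this
    · refine ⟨N.mul_mem (N.mul_mem (hlin j hj) hg) (N.inv_mem (hlin j hj)), x j • w', c', ?_,
        h1.conj h (hlin j hj) (hfix j hj)⟩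
      have := h.isom (hlin j hj) e' w'
      rwa [hfix j hj, he'] at this
  have hU2 : ∀ u ∈ QS h e', u * u = 1 := by
    rintro g ⟨hg, w', c', he', h1⟩
    exact h1.sq h hg he'
  have hab : ∀ u ∈ QS h e', ∀ v ∈ QS h e', u * v = v * u := by
    intro u hu v hv
    have h1 := hU2 _ ((QS h e').mul_mem hu hv)
    have h4 : u⁻¹ = u := inv_eq_of_mul_eq_one_left (hU2 _ hu)
    have h5 : v⁻¹ = v := inv_eq_of_mul_eq_one_left (hU2 _ hv)
    have h6 : (u * v)⁻¹ = u * v := inv_eq_of_mul_eq_one_left h1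
    rw [mul_inv_rev, h4, h5] at h6
    exact h6.symm
  have hu0Q : h.sr hmw ∈ QS h e' := ⟨h.sr_mem _, _, 0, hmw, q0 hmw⟩
  have hcop : ∀ j, j ≠ i0 → (r j).Coprime (Nat.card (QS h e')) := fun j hj =>
    coprime_of_sq hU2 (hx.prime j) fun h1 => by have := hodd j hj; omega
  refine two_rule_all hE hx hcov hi (U := QS h e') hU2 ⟨huN, 0, c', map_zero _, hu'⟩ hmem
    (t := h.sr hmw * x j0 * (h.sr hmw)⁻¹ * (x j0)⁻¹) (fun j hj => ?_) ?_
  · by_cases hji : j = i1
    · rw [hteq, hji]
      exact (cmm _ _).mul_mem (mem_cmm ⟨h.sr_mem _, _, 0, hkw, q0 hkw⟩)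
        (mem_cmm ⟨h.tr_mem _ _, 0, _, map_zero _, qt _⟩)
    · refine common hab (hx.pow j0) (hcop j0 hj0) (hx.comm j0 j) (hmem _) (hmem _) (fun u hu h2 => ?_) hu0Q
      obtain ⟨c2, hc2⟩ := QS_comm h hdim (hlin j hji) (hx.pow j) (hodd j hj) (hx.ne j) he' (hfix j hji) hu h2
      exact comm_of_tr h hsN (hfix j0 hj1) hc2
  · refine fin1 hq h he' hu' t1N hemw t1 fun a ha => ?_
    have h1 : x j0 • w0 + w0 = ((k + σ k)⁻¹ * a) • e' := by
      rw [mul_smul, ← ha, smul_smul, inv_mul_cancel₀ hm, one_smul, add_comm]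
    obtain ⟨b', hb'⟩ := fpf1 h hdim hsN (hx.pow j0) (hodd j0 hj0) (hx.ne j0) he' (hfix j0 hj1) hew0 h1
    exact d.indep hyw0 hye hw0 he' hne b' hb'

/-- **an involution of type 2, an odd linear element, a field automorphism** -/
theorem inv2 {Ω ι : Type*} [Finite F] [FiniteDimensional F V] [Finite G] [MulAction G Ω] [Nonempty Ω] [Finite ι]
    (hE : Env G Ω N) {x : ι → G} {r : ι → ℕ} (hx : PF x r) (hcov : Cov Ω x) (hdim : finrank F V = 4) (hq : 2 < Nat.card F)
    {i0 i1 j0 : ι} (d : D0 B N (x i1) σ b) (hσ : ∃ k, σ k ≠ k) (hi : r i0 = 2) (h01 : i0 ≠ i1) (hj0 : j0 ≠ i0) (hj1 : j0 ≠ i1)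
    (hlin : ∀ j, j ≠ i1 → x j ∈ N) (hu2 : x i0 * x i0 = 1) (hru : ∀ z : V, x i0 • z = z → ∃ y : V, x i0 • y + y = z)
    (hk2 : finrank F (LinearMap.ker (nu d.ev (hlin i0 h01))) = 2) : False := by
  have h := d.ev
  have hodd : ∀ j, j ≠ i0 → r j % 2 = 1 := fun j hj =>
    (hx.prime j).eq_two_or_odd.resolve_left fun h3 => hj (hx.inj (h3.trans hi.symm))
  have huN := hlin i0 h01
  have hsN := hlin j0 hj1
  have hfpf : ∀ j, j ≠ i0 → j ≠ i1 → ∀ z : V, x j • z = z → z = 0 := fun j hj hj' z hz =>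
    fpf2 h hdim huN hu2 hru (hlin j hj') (hx.pow j) (hodd j hj) (hx.ne j) (hx.comm _ _) hz
  obtain ⟨v, hv0, hyv, huv⟩ : ∃ v : V, v ≠ 0 ∧ x i1 • v = v ∧ x i0 • v = v := by
    obtain ⟨v0, hv0, huv0⟩ := d.move huN (hx.ne i0)
    refine ⟨x i0 • v0 + v0, ?_, ?_, nu_nu h hu2 v0⟩
    · intro h3
      have h4 := eq_neg_of_add_eq_zero_left h3
      rw [h.vneg] at h4
      exact huv0 h4
    · have h4 : x i1 • x i0 • v0 = x i0 • v0 := by rw [← mul_smul, hx.comm, mul_smul, hv0]
      rw [smul_add, hv0, h4]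
  have hcm : ∀ i j : ι, ∀ z : V, x i • z = z → x i • x j • z = x j • z := fun i j z hz => by
    rw [← mul_smul, hx.comm, mul_smul, hz]
  obtain ⟨v', hv'⟩ : ∃ v', v' = x j0 • v := ⟨_, rfl⟩
  have hyv' : x i1 • v' = v' := by rw [hv']; exact hcm _ _ v hyv
  have huv' : x i0 • v' = v' := by rw [hv']; exact hcm _ _ v huv
  have hv'0 : v' ≠ 0 := fun h1 => hv0 ((smul_eq_zero_iff_eq (x j0)).1 (hv'.symm.trans h1))
  have hne : v ≠ v' := fun h1 => hv0 (hfpf j0 hj0 hj1 v (hv'.symm.trans h1.symm))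
  have hi1 := d.indep hyv hyv' hv0 hv'0 hne
  have hi2 := d.indep hyv' hyv hv'0 hv0 hne.symm
  have hvv : B v v' = 0 := iso_fix h huN hu2 hru huv huv'
  have hli : ∀ a c : F, a • v + c • v' = 0 → a = 0 ∧ c = 0 := by
    intro a c hac
    by_cases hc : c = 0
    · rw [hc, zero_smul, add_zero] at hac
      exact ⟨(smul_eq_zero.1 hac).resolve_right hv0, hc⟩
    · exfalso
      apply hi2 (-(c⁻¹ * a))
      have h6 : v' = c⁻¹ • (c • v') := by rw [smul_smul, inv_mul_cancel₀ hc, one_smul]
      have h7 : c • v' = -(a • v) := (neg_eq_of_add_eq_zero_right hac).symm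
      rw [h6, h7, smul_neg, smul_smul, neg_smul]
  have hspan : ∀ z : V, x i0 • z = z → ∃ a c : F, a • v + c • v' = z := fun z hz =>
    span_pair hk2 ((mem_ker_nu h huN).2 huv) ((mem_ker_nu h huN).2 huv') hli ((mem_ker_nu h huN).2 hz)
  obtain ⟨w, hvw, hv'w⟩ := exists_dual2 h hv'0 hi1
  obtain ⟨w', hv'w', hvw'⟩ := exists_dual2 h hv0 hi2
  have huU : x i0 ∈ UE N V (x i0) := ⟨huN, fun z hz => hz⟩
  have hM : ∀ j, j ≠ i0 → j ≠ i1 → ∀ g ∈ UE N V (x i0), g * x j = x j * g → ∃ μ, IsM B v v' g 0 0 μ :=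
    fun j hj hj' g hg hgj => UE_isM h huN hu2 hg (UE_form h huN hu2 (hlin j hj') (hfpf j hj hj') hg hgj) hspan hvw hvw'
      hv'w hv'w'
  obtain ⟨μ, hμ⟩ := hM j0 hj0 hj1 _ huU (hx.comm _ _)
  have hμ0 : μ ≠ 0 := by
    rintro rfl
    apply hx.ne i0
    apply h.ext
    intro z
    rw [hμ z]; simp
  have hμ' : ∀ z, x i0 • z + z = μ • (B z v' • v + B z v • v') := by
    intro z
    rw [hμ z]
    have : z + (0 * B z v + μ * B z v') • v + (0 * B z v' + μ * B z v) • v' + z =
      (2 : F) • z + μ • (B z v' • v + B z v • v') := by module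
    rw [this, h.two, zero_smul, zero_add]
  have hcen : ∀ {g : G} {m : F}, IsM B v v' g 0 0 m → ∀ z : V, g • z = z + (m / μ) • (x i0 • z + z) := by
    intro g m hg z
    rw [hμ', smul_smul, div_mul_cancel₀ _ hμ0, hg z]
    module
  obtain ⟨k, hk⟩ := hσ
  have hm : k + σ k ≠ 0 := by
    intro h3
    apply hk
    have h4 := eq_neg_of_add_eq_zero_left h3
    rw [h.neg] at h4
    exact h4.symm
  have m1 : ∀ a : F, IsM B v v' (h.tr v a) a 0 0 := fun a z => by rw [h.tr_apply]; simp
  have m2 : ∀ a : F, IsM B v v' (h.tr v' a) 0 a 0 := fun a z => by rw [h.tr_apply]; simp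
  have n1 : ∀ a : F, h.tr v a ∈ UE N V (x i0) := fun a => ⟨h.tr_mem _ _, fun z hz => by
    rw [h.tr_apply, iso_fix h huN hu2 hru hz huv]; simp⟩
  have n2 : ∀ a : F, h.tr v' a ∈ UE N V (x i0) := fun a => ⟨h.tr_mem _ _, fun z hz => by
    rw [h.tr_apply, iso_fix h huN hu2 hru hz huv']; simp⟩
  have ht1 : h.tr v (k + σ k) * x j0 * (h.tr v (k + σ k))⁻¹ * (x j0)⁻¹ = h.tr v (k + σ k) * h.tr v' (k + σ k) := by
    have h1 := conj_tr_lin h hsN v (k + σ k)
    rw [← hv'] at h1
    rw [h.tr_inv, ← h1]; group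
  have ht2 : h.tr v (k + σ k) * h.tr v' (k + σ k) =
      (h.tr v k * x i1 * (h.tr v k)⁻¹ * (x i1)⁻¹) * (h.tr v' k * x i1 * (h.tr v' k)⁻¹ * (x i1)⁻¹) := by
    rw [tr_comm h d.semi d.form hyv, tr_comm h d.semi d.form hyv']
    have e1 := (m1 (k + σ k)).mul h hvv (h.tr_mem _ _) (m2 (k + σ k))
    have e2 := ((m1 k).mul h hvv (h.tr_mem _ _) (m1 (σ k))).mul h hvv (N.mul_mem (h.tr_mem _ _) (h.tr_mem _ _))
      ((m2 k).mul h hvv (h.tr_mem _ _) (m2 (σ k)))
    simp only [add_zero, zero_add] at e1 e2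
    exact e1.eq h e2
  have htM : IsM B v v' (h.tr v (k + σ k) * x j0 * (h.tr v (k + σ k))⁻¹ * (x j0)⁻¹) (k + σ k) (k + σ k) 0 := by
    rw [ht1]
    have e1 := (m1 (k + σ k)).mul h hvv (h.tr_mem _ _) (m2 (k + σ k))
    simp only [add_zero, zero_add] at e1
    exact e1
  have htN : h.tr v (k + σ k) * x j0 * (h.tr v (k + σ k))⁻¹ * (x j0)⁻¹ ∈ N := by
    rw [ht1]; exact N.mul_mem (h.tr_mem _ _) (h.tr_mem _ _)
  have hmem : ∀ j, ∀ g ∈ UE N V (x i0), x j * g * (x j)⁻¹ ∈ UE N V (x i0) := by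
    intro j g hg
    refine ⟨hE.norm.conj_mem g hg.1 (x j), fun z hz => ?_⟩
    have h1 : x i0 • (x j)⁻¹ • z = (x j)⁻¹ • z := by
      rw [eq_inv_smul_iff, ← mul_smul, ← hx.comm, mul_smul, smul_inv_smul, hz]
    rw [mul_smul, mul_smul, hg.2 _ h1, smul_inv_smul]
  have hU2 : ∀ u ∈ UE N V (x i0), u * u = 1 := fun g hg => UE_sq h huN hu2 hg
  have hab : ∀ u ∈ UE N V (x i0), ∀ v ∈ UE N V (x i0), u * v = v * u := by
    intro u hu v hv
    have h1 := hU2 _ ((UE N V (x i0)).mul_mem hu hv)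
    have h4 : u⁻¹ = u := inv_eq_of_mul_eq_one_left (hU2 _ hu)
    have h5 : v⁻¹ = v := inv_eq_of_mul_eq_one_left (hU2 _ hv)
    have h6 : (u * v)⁻¹ = u * v := inv_eq_of_mul_eq_one_left h1
    rw [mul_inv_rev, h4, h5] at h6
    exact h6.symm
  have hcop : ∀ j, j ≠ i0 → (r j).Coprime (Nat.card (UE N V (x i0))) := fun j hj =>
    coprime_of_sq hU2 (hx.prime j) fun h1 => by have := hodd j hj; omega
  refine two_rule_all hE hx hcov hi (U := UE N V (x i0)) hU2 huU hmem
    (t := h.tr v (k + σ k) * x j0 * (h.tr v (k + σ k))⁻¹ * (x j0)⁻¹) (fun j hj => ?_) ?_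
  · by_cases hji : j = i1
    · rw [ht1, ht2, hji]
      exact (cmm _ _).mul_mem (mem_cmm (n1 k)) (mem_cmm (n2 k))
    · refine common hab (hx.pow j0) (hcop j0 hj0) (hx.comm j0 j) (hmem _) (hmem _) (fun g hg hgi => ?_) (n1 _)
      obtain ⟨m, hm'⟩ := hM j hj hji g hg hgi
      apply h.ext
      intro z
      have h3 : x i0 • x j0 • z = x j0 • x i0 • z := by rw [← mul_smul, hx.comm, mul_smul]
      rw [mul_smul, mul_smul, hcen hm', hcen hm' z, smul_add (x j0) z, h.lin hsN, smul_add (x j0), h3]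
  · exact fin2 hq h hvv hvw hvw' hv'w hv'w' hμ htN htM hm

end geo

section fin

/-- an automorphism fixing the fixed field of `σ` is a power of `σ` -/
theorem zpowers_of_fix {F : Type*} [Field F] [Finite F] (σ σ' : F ≃+* F) (h : ∀ a, σ a = a → σ' a = a) :
    σ' ∈ Subgroup.zpowers σ := by
  classical
  let Gm := Subgroup.zpowers σ
  have : Finite (F ≃+* F) := Finite.of_injective (fun e : F ≃+* F => (e : F → F)) DFunLike.coe_injective
  have : Fintype Gm := Fintype.ofFinite _
  let τ : F ≃ₐ[FixedPoints.subfield Gm F] F :=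
    { σ' with
      commutes' := fun c => h c (c.2 ⟨σ, Subgroup.mem_zpowers σ⟩) }
  obtain ⟨g, hg⟩ := (FixedPoints.toAlgAutMulEquiv Gm F).surjective τ
  have : (g : F ≃+* F) = σ' := by
    ext a
    have := DFunLike.congr_fun hg a
    exact this
  rw [← this]
  exact g.2

theorem pow_semi {F V G : Type*} [Field F] [AddCommGroup V] [Module F V] [Group G] [DistribMulAction G V] {x : G}
    {σ : F ≃+* F} (h1 : ∀ (a : F) (v : V), x • a • v = σ a • x • v) (n : ℕ) (a : F) (v : V) :
    x ^ n • a • v = (σ ^ n) a • x ^ n • v := by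
  induction n generalizing a v with
  | zero => simp
  | succ n ih => rw [pow_succ, mul_smul, h1, ih, mul_smul, pow_succ]; rfl

theorem pow_eq_one_semi {F V G : Type*} [Field F] [AddCommGroup V] [Module F V] [Nontrivial V] [Group G]
    [DistribMulAction G V] {x : G} {σ : F ≃+* F} (h1 : ∀ (a : F) (v : V), x • a • v = σ a • x • v) {n : ℕ}
    (hx : x ^ n = 1) : σ ^ n = 1 := by
  obtain ⟨v, hv⟩ := exists_ne (0 : V)
  ext a
  have h2 := pow_semi h1 n a v
  rw [hx, one_smul, one_smul] at h2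
  exact (smul_left_injective F hv h2).symm

/-- **`Sp₄(2^p)`, a field automorphism with fixed field of order two** -/
theorem m2f_two {F V G Ω S : Type} [Field F] [Finite F] [AddCommGroup V] [Module F V] [FiniteDimensional F V] [Group G]
    [Finite G] [DistribMulAction G V] {B : LinearMap.BilinForm F V} {N : Subgroup G} (h : Ev B N) [MulAction G Ω]
    [Nonempty Ω] (hE : Env G Ω N) [Group S] [Finite S] (hIH : IH (Nat.card S)) (eS : N ≃* S) {ι : Type} [Finite ι]
    {x : ι → G} {r : ι → ℕ} (hx : PF x r) (hcov : Cov Ω x) (hdim : finrank F V = 4) (i : ι) (hi : x i ∉ N)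
    (hfix : ∀ c : F, (∀ v : V, x i • c • v = c • x i • v) → c = 0 ∨ c = 1) : False := by
  have hnt : Nontrivial V := nontrivial_of_finrank_pos (R := F) (by rw [hdim]; norm_num)
  obtain ⟨σ, h1, h2⟩ := h.semi (x i)
  have hσ : ∃ k, σ k ≠ k := by
    by_contra hcon
    push Not at hcon
    apply hi
    rw [h.mem]
    intro a v
    rw [h1, hcon]
  have hσ1 : σ ≠ 1 := by
    rintro rfl
    obtain ⟨k, hk⟩ := hσ
    exact hk rfl
  have hord : orderOf σ = r i := by
    have := Fact.mk (hx.prime i)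
    exact orderOf_eq_prime (pow_eq_one_semi h1 (hx.pow i)) hσ1
  have hq : 2 < Nat.card F := by
    obtain ⟨k, hk⟩ := hσ
    by_contra hcon
    have h3 : ({0, 1, k} : Set F).ncard ≤ Nat.card F := by
      rw [← Set.ncard_univ]
      exact Set.ncard_le_ncard (Set.subset_univ _) (Set.toFinite _)
    have h4 : ({0, 1, k} : Set F).ncard = 3 := by
      rw [Set.ncard_eq_three]
      refine ⟨0, 1, k, zero_ne_one, ?_, ?_, rfl⟩
      · rintro rfl; exact hk (map_zero σ)
      · rintro rfl; exact hk (map_one σ)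
    omega
  have hdesc := descent_one σ (r i) (hx.prime i).pos hord (fun v : V => x i • v) (fun v w => smul_add _ _ _) h1
    (fun v => by rw [smul_iterate]; show x i ^ r i • v = v; rw [hx.pow, one_smul])
  rw [hdim] at hdesc
  obtain ⟨b, hb⟩ := hdesc
  have d : D0 B N (x i) σ b := ⟨h, h1, h2, fun a ha => hfix a fun v => by rw [h1, ha], hb⟩
  have hlin : ∀ j, j ≠ i → x j ∈ N := by
    intro j hj
    obtain ⟨τ, h3, h4⟩ := h.semi (x j)
    have h5 : τ ∈ Subgroup.zpowers σ := zpowers_of_fix σ τ fun a ha => by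
      rcases d.fix a ha with rfl | rfl
      · exact map_zero τ
      · exact map_one τ
    have h6 : orderOf τ ∣ r i := by
      rw [← hord, ← Nat.card_zpowers σ]
      exact Subgroup.orderOf_dvd_natCard _ h5
    have h7 : orderOf τ ∣ r j := orderOf_dvd_of_pow_eq_one (pow_eq_one_semi h3 (hx.pow j))
    have h8 : (r i).Coprime (r j) := (Nat.coprime_primes (hx.prime i) (hx.prime j)).2 fun h9 => hj (hx.inj h9).symm
    have h9 : τ = 1 := orderOf_eq_one_iff.1 (Nat.eq_one_of_dvd_coprimes h8 h6 h7)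
    rw [h.mem]
    intro a v
    rw [h3, h9]
    rfl
  -- involution and an odd element
  have hinv : ∀ i0 j0 : ι, r i0 = 2 → i0 ≠ i → j0 ≠ i0 → j0 ≠ i → False := by
    intro i0 j0 hi0 h01 hj0 hj1
    have hu2 : x i0 * x i0 = 1 := by
      have := hx.pow i0
      rwa [hi0, pow_two] at this
    have hle : LinearMap.range (nu h (hlin i0 h01)) ≤ LinearMap.ker (nu h (hlin i0 h01)) := by
      rintro _ ⟨z, rfl⟩
      rw [mem_ker_nu, nu_apply]
      exact nu_nu h hu2 z
    have h3 := LinearMap.finrank_range_add_finrank_ker (nu h (hlin i0 h01))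
    have h4 := Submodule.finrank_mono hle
    have h5 : finrank F (LinearMap.range (nu h (hlin i0 h01))) ≠ 0 := by
      intro h4
      rw [Submodule.finrank_eq_zero] at h4
      apply hx.ne i0
      apply h.inj
      intro z
      have h5 : nu h (hlin i0 h01) z ∈ LinearMap.range (nu h (hlin i0 h01)) := ⟨z, rfl⟩
      rw [h4, Submodule.mem_bot] at h5
      exact (mem_ker_nu h (hlin i0 h01)).1 (LinearMap.mem_ker.2 h5)
    have h6 : finrank F (LinearMap.range (nu h (hlin i0 h01))) = 1 ∨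
        finrank F (LinearMap.range (nu h (hlin i0 h01))) = 2 := by omega
    rcases h6 with h6 | h6
    · obtain ⟨e, c, he, hc, hu⟩ := type1 h (hlin i0 h01) hu2 h6
      exact inv1 hE hx hcov hdim hq d hσ hi0 h01 hj0 hj1 hlin he hc hu
    · have h7 : finrank F (LinearMap.ker (nu h (hlin i0 h01))) = 2 := by omega
      have h8 := Submodule.eq_of_le_of_finrank_eq hle (h6.trans h7.symm)
      refine inv2 hE hx hcov hdim hq d hσ hi0 h01 hj0 hj1 hlin hu2 (fun z hz => ?_) h7
      have h9 := (mem_ker_nu h (hlin i0 h01)).2 hz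
      rw [← h8] at h9
      obtain ⟨y, hy⟩ := h9
      exact ⟨y, hy⟩
  by_cases hj : ∃ j0, j0 ≠ i
  swap
  · push Not at hj
    refine hE.not_all (hx.ne i) fun ω => ?_
    obtain ⟨j, hj'⟩ := hcov ω
    rw [hj j] at hj'
    exact hj'
  obtain ⟨j0, hj0⟩ := hj
  by_cases hj2 : ∃ j1, j1 ≠ i ∧ j1 ≠ j0
  swap
  · push Not at hj2
    refine one_other d hσ hE (hlin j0 hj0) (hx.ne j0) (hx.comm _ _) fun ω => ?_
    obtain ⟨j, hj'⟩ := hcov ω
    by_cases h3 : j = i
    · left; rw [← h3]; exact hj'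
    · right; rw [hj2 j h3] at hj'; exact hj'
  obtain ⟨j1, hj1, hj10⟩ := hj2
  by_cases h3 : r j0 = 2
  · exact hinv j0 j1 h3 hj0 hj10 hj1
  by_cases h4 : r j1 = 2
  · exact hinv j1 j0 h4 hj1 hj10.symm hj0
  exact d.no_two_odd (hlin j0 hj0) (hlin j1 hj1) (hx.prime j0) (hx.prime j1) h3 h4 (fun h5 => hj10 (hx.inj h5).symm)
    (hx.pow _) (hx.pow _) (hx.ne _) (hx.ne _) (hx.comm _ _) (hx.comm _ _) (hx.comm _ _)

end fin

end Cfsg.Agent.H547.RC
end

-- part: H721/RC/RowsEven
section
prune_inst 0x357071257f401000401c001462001cf7fb0000020048880028a50b060e898e62ad02a061aeb0001b4892014420310040000000300240000004240000011c018000419406a1580019020080000088010000100000000000000000000000000000010000000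
set_option linter.all false
open scoped Cfsg.Agent.FastGrp

-- part: H721/RC/EvenBase
section
/-!
# S3510, row F, even dimension: rescaling of lifts, exact commutation (helper721)
-/

set_option autoImplicit false
open Cfsg

namespace Cfsg.Agent.H721.RC

open QuadraticMap MulAction
open Cfsg.Agent.LieClassical.OrthCore Cfsg.Agent.LieClassical.OrthTrans
open Cfsg.Agent.LieClassical.OrthSimple Cfsg.Agent.ClassicalGeometry.OrthSemi
open Cfsg.Agent.ClassicalGeometry.OrthAut1 Cfsg.Agent.H106.RC Cfsg.Agent.H93.RC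

variable {F V : Type*} [Field F] [AddCommGroup V] [Module F V] {Q : QuadraticForm F V}

/-- an isometry as a semisimilitude -/
def gamO (T : V ≃ₗ[F] V) (hT : T ∈ O Q) : Gam Q :=
  ⟨T.toEquiv, RingEquiv.refl F, 1, one_ne_zero, fun u v => map_add T u v, fun a v => map_smul T a v,
    fun v => by
      rw [one_mul]
      exact hT v⟩

/-- semisimilitudes which differ by a scalar induce the same automorphism -/
theorem conjE_eq_of_smul {M L : Gam Q} {a : F} (ha : a ≠ 0) (h : ∀ v, M.1 v = a • L.1 v) :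
    conjE Q M = conjE Q L := by
  ext t v
  show (conjLin M t.1) v = (conjLin L t.1) v
  obtain ⟨w, rfl⟩ := L.1.surjective v
  rw [conjLin_apply']
  obtain ⟨σ, c, hM⟩ := M.2
  have h1 : L.1 w = M.1 (σ.symm a⁻¹ • w) := by
    rw [hM.smul, h, σ.apply_symm_apply, inv_smul_smul₀ ha]
  rw [h1, conjLin_apply', map_smul, hM.smul, σ.apply_symm_apply, h, inv_smul_smul₀ ha]

theorem Lf.rescale {G : Type*} [Group G] {ρ : ↥(E Q) →* G} {x : G} {M L : Gam Q} (hM : Lf ρ x M) {a : F}
    (ha : a ≠ 0) (h : ∀ v, M.1 v = a • L.1 v) : Lf ρ x L := by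
  intro t
  rw [hM t, conjE_eq_of_smul ha h]

/-- powers -/
theorem comm_pow {M L : Gam Q} (hL : IsLin L) {a : F} (h : ∀ v, M.1 (L.1 v) = a • L.1 (M.1 v)) (hM : IsLin M)
    (n : ℕ) : ∀ v, (M ^ n).1 (L.1 v) = a ^ n • L.1 ((M ^ n).1 v) := by
  induction n with
  | zero => intro v; rw [pow_zero, pow_zero, one_smul]; rfl
  | succ n ih =>
    intro v
    rw [pow_succ, pow_succ]
    have e1 : ∀ w, (M ^ n * M).1 w = (M ^ n).1 (M.1 w) := fun _ => rfl
    rw [e1, e1, h, mul_comm, mul_smul]
    have hlin : ∀ k : ℕ, IsLin (M ^ k) := by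
      intro k
      induction k with
      | zero => intro b w; rw [pow_zero]; rfl
      | succ k ihk =>
        intro b w
        rw [pow_succ]
        change (M ^ k).1 (M.1 (b • w)) = b • (M ^ k).1 (M.1 w)
        rw [hM, ihk]
    rw [hlin n, ih]

/-- lifts of coprime orders modulo scalars commute exactly -/
theorem comm_exact [Nontrivial V] {M L : Gam Q} (hM : IsLin M) (hL : IsLin L) {m n : ℕ} (hm : IsScal (M ^ m))
    (hn : IsScal (L ^ n)) (hmn : m.Coprime n) {a : F} (ha : a ≠ 0) (h : ∀ v, M.1 (L.1 v) = a • L.1 (M.1 v)) :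
    ∀ v, M.1 (L.1 v) = L.1 (M.1 v) := by
  have key : ∀ {M L : Gam Q} (_ : IsLin M) (_ : IsLin L) {m : ℕ} (_ : IsScal (M ^ m)) {a : F}
      (_ : ∀ v, M.1 (L.1 v) = a • L.1 (M.1 v)), a ^ m = 1 := by
    intro M L hM hL m hm a h
    obtain ⟨b, hb, hm⟩ := hm
    obtain ⟨v, hv⟩ := exists_ne (0 : V)
    have h1 := comm_pow hL h hM m v
    rw [hm, hm, hL, smul_smul, ← sub_eq_zero, ← sub_smul] at h1
    have h2 : L.1 v ≠ 0 := by
      intro h0
      obtain ⟨σ, c, hL'⟩ := L.2
      exact hv (L.1.injective (by rw [h0, hL'.map_zero]))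
    have h3 : b - a ^ m * b = 0 := (smul_eq_zero.1 h1).resolve_right h2
    have h4 : (1 - a ^ m) * b = 0 := by linear_combination h3
    exact (sub_eq_zero.1 ((mul_eq_zero.1 h4).resolve_right hb)).symm
  have h1 := key hM hL hm h
  have h2 : (a⁻¹) ^ n = 1 := key hL hM hn (fun v => by rw [h, inv_smul_smul₀ ha])
  rw [inv_pow, inv_eq_one] at h2
  have h3 : orderOf a ∣ 1 := by
    rw [← hmn]
    exact Nat.dvd_gcd (orderOf_dvd_of_pow_eq_one h1) (orderOf_dvd_of_pow_eq_one h2)
  have h4 : a = 1 := orderOf_eq_one_iff.1 (Nat.dvd_one.1 h3)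
  intro v
  rw [h, h4, one_smul]

/-- a linear semisimilitude as a linear map -/
def linOf (M : Gam Q) (hM : IsLin M) : V →ₗ[F] V where
  toFun v := M.1 v
  map_add' u v := by
    obtain ⟨σ, c, h⟩ := M.2
    exact h.add u v
  map_smul' a v := hM a v

theorem polar_of_form {M : Gam Q} {c : F} (h : ∀ v, Q (M.1 v) = c * Q v) (v w : V) :
    polar Q (M.1 v) (M.1 w) = c * polar Q v w := by
  obtain ⟨σ, d, hM⟩ := M.2
  rw [polar, polar, ← hM.add, h, h, h]
  ring

/-- eigenspaces of a linear map with `κ² = d²` -/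
theorem isCompl_eig (h2 : (2 : F) ≠ 0) {κ : V →ₗ[F] V} {d : F} (hd : d ≠ 0)
    (h : ∀ v, κ (κ v) = (d * d) • v) :
    IsCompl (LinearMap.ker (κ - d • LinearMap.id)) (LinearMap.ker (κ + d • LinearMap.id)) := by
  rw [isCompl_iff]
  constructor
  · rw [Submodule.disjoint_def]
    intro v h1 h3
    simp only [LinearMap.mem_ker, LinearMap.sub_apply, LinearMap.add_apply, LinearMap.smul_apply,
      LinearMap.id_coe, id_eq] at h1 h3
    have h4 : (2 * d) • v = 0 := by
      rw [mul_smul, two_smul]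
      have h5 := congrArg₂ (· - ·) h3 h1
      simp only [sub_zero] at h5
      rw [← h5]; abel
    exact (smul_eq_zero.1 h4).resolve_left (mul_ne_zero h2 hd)
  · rw [codisjoint_iff, eq_top_iff]
    intro v _
    have e : v = (2 * d)⁻¹ • (κ v + d • v) + (-(2 * d)⁻¹) • (κ v - d • v) := by
      match_scalars
      · field_simp
        norm_num
      · ring
    rw [e]
    apply Submodule.add_mem
    · apply Submodule.mem_sup_left
      apply Submodule.smul_mem
      simp only [LinearMap.mem_ker, LinearMap.sub_apply, LinearMap.smul_apply, LinearMap.id_coe, id_eq, map_add,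
        map_smul, h]
      module
    · apply Submodule.mem_sup_right
      apply Submodule.smul_mem
      simp only [LinearMap.mem_ker, LinearMap.add_apply, LinearMap.smul_apply, LinearMap.id_coe, id_eq, map_sub,
        map_smul, h]
      module

end Cfsg.Agent.H721.RC
end

-- part: H721/RC/Even
section
/-!
# S3510, row F, even dimension `≥ 8`: assembly from the boxes (helper721)

`no_cov_even_of` : no family of commuting elements of different prime orders with semisimilar lifts covers.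
-/

set_option autoImplicit false
open Cfsg

namespace Cfsg.Agent.H721.RC

open QuadraticMap MulAction
open Cfsg.Agent.LieClassical.OrthCore Cfsg.Agent.LieClassical.OrthTrans
open Cfsg.Agent.LieClassical.OrthSimple Cfsg.Agent.ClassicalGeometry.OrthSemi
open Cfsg.Agent.ClassicalGeometry.OrthAut1 Cfsg.Agent.H106.RC Cfsg.Agent.H93.RC

section

variable {F V : Type} [Field F] [Finite F] [AddCommGroup V] [Module F V] [FiniteDimensional F V]
  {Q : QuadraticForm F V} {G Ω : Type} [Group G] [Finite G] [MulAction G Ω] [Nonempty Ω]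
  {N : Subgroup G} {ρ : ↥(E Q) →* G}

/-- the commutation of two members with different primes -/
theorem lift_comm (hG : Good Q) (hρ : _root_.Cfsg.Agent.H93.RC.Rep Q N ρ) {ι : Type} {x : ι → G} {M : ι → Gam Q} {r : ι → ℕ}
    (hl : ∀ i, Lf ρ (x i) (M i)) (hlin : ∀ i, IsLin (M i)) (hx : PF x r) (i j : ι) :
    ∀ v, (M i).1 ((M j).1 v) = (M j).1 ((M i).1 v) := by
  classical
  by_cases hij : i = j
  · subst hij
    intro v; rfl
  have hnt : Nontrivial V := by
    have := hG.dim
    exact Module.nontrivial_of_finrank_pos (R := F) (by omega)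
  obtain ⟨a, ha, h⟩ := (hl i).comm hG hρ (hl j) (hx.comm i j)
  exact comm_exact (hlin i) (hlin j) ((hl i).pow_scal hG hρ (hx.pow i)) ((hl j).pow_scal hG hρ (hx.pow j))
    ((Nat.coprime_primes (hx.prime i) (hx.prime j)).2 fun h => hij (hx.inj h)) ha h

/-- some member is not a scalar multiple of an isometry -/
theorem no_cov_skew (hB : BoxB) (hC : BoxC) (hD5 : BoxD5) (hD4m : BoxD4m) (hD4p : BoxD4p)
    (hG : Good Q) (hE : Env G Ω N) (hρ : _root_.Cfsg.Agent.H93.RC.Rep Q N ρ) (hIH : IH (Nat.card (P Q))) {p : ℕ} [CharP F p] {ι : Type}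
    [Finite ι] {x : ι → G} {M : ι → Gam Q} {r : ι → ℕ} (hl : ∀ i, Lf ρ (x i) (M i)) (hlin : ∀ i, IsLin (M i))
    (hx : PF x r) (hcov : Cov Ω x) (h8 : 8 ≤ Module.finrank F V) (heven : Even (Module.finrank F V))
    (i₀ : ι) (hr2 : r i₀ = 2) (hp2 : p ≠ 2) {c : F} (hc0 : c ≠ 0) (hsq : ∀ v, (M i₀).1 ((M i₀).1 v) = c • v)
    (hc : (∀ v, Q ((M i₀).1 v) = -c * Q v) ∨ ((∀ v, Q ((M i₀).1 v) = c * Q v) ∧ ¬ IsSquare c)) : False := by
  classical
  have h2 : (2 : F) ≠ 0 := by
    intro h
    apply hp2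
    have h1 : (p : ℕ) ∣ 2 := (CharP.cast_eq_zero_iff F p 2).1 (by exact_mod_cast h)
    rcases (Nat.dvd_prime Nat.prime_two).1 h1 with h3 | h3
    · exact (CharP.char_ne_one F p h3).elim
    · exact h3
  have hcom := lift_comm hG hρ hl hlin hx
  let κ : V →ₗ[F] V := linOf (M i₀) (hlin i₀)
  have hκ : ∀ v, κ v = (M i₀).1 v := fun v => rfl
  have hκ2 : ∀ v, κ (κ v) = (0 : F) • κ v - (-c) • v := by
    intro v
    rw [zero_smul, zero_sub, neg_smul, neg_neg]
    exact hsq v
  have hκcom : ∀ i v, (M i).1 (κ v) = κ ((M i).1 v) := fun i v => hcom i i₀ v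
  have hirr : ¬ IsSquare c → ∀ a : F, a * a - 0 * a + -c ≠ 0 := by
    intro hns a h
    apply hns
    exact ⟨a, by linear_combination -h⟩
  rcases hc with hc | ⟨hc, hns⟩
  · by_cases hs : IsSquare c
    · obtain ⟨d, rfl⟩ := hs
      have hd : d ≠ 0 := fun h => hc0 (by rw [h, mul_zero])
      have hsing : ∀ e : F, e * e = d * d → ∀ v, κ v = e • v → Q v = 0 := by
        intro e he v hv
        have h1 := hc v
        rw [← hκ, hv, QuadraticMap.map_smul, smul_eq_mul, he] at h1
        have h3 : 2 * (d * d) * Q v = 0 := by linear_combination h1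
        rcases mul_eq_zero.1 h3 with h4 | h4
        · rcases mul_eq_zero.1 h4 with h5 | h5
          · exact (h2 h5).elim
          · exact (hc0 h5).elim
        · exact h4
      refine hB hG hE hρ hIH (p := p) hl hlin hx hcov h8 ?_ _ _
        (isCompl_eig h2 hd (κ := κ) (fun v => hsq v)) ?_ ?_ ?_ ?_
      · rintro ⟨hF, -⟩
        apply hp2
        have : CharP F 2 := by
          have h3 : Fintype F := Fintype.ofFinite F
          have h4 : Fintype.card F = 2 := by rw [← Nat.card_eq_fintype_card]; exact hF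
          exact charP_of_card_eq_prime h4
        exact CharP.eq F ‹CharP F p› this
      · intro v hv
        simp only [LinearMap.mem_ker, LinearMap.sub_apply, LinearMap.smul_apply, LinearMap.id_coe, id_eq] at hv
        exact hsing d rfl v (sub_eq_zero.1 hv)
      · intro v hv
        simp only [LinearMap.mem_ker, LinearMap.add_apply, LinearMap.smul_apply, LinearMap.id_coe, id_eq] at hv
        exact hsing (-d) (by ring) v (by rw [neg_smul]; exact eq_neg_of_add_eq_zero_left hv)
      · intro i v hv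
        simp only [LinearMap.mem_ker, LinearMap.sub_apply, LinearMap.smul_apply, LinearMap.id_coe, id_eq] at hv ⊢
        rw [← hκcom, sub_eq_zero.1 hv, hlin, sub_self]
      · intro i v hv
        simp only [LinearMap.mem_ker, LinearMap.add_apply, LinearMap.smul_apply, LinearMap.id_coe, id_eq] at hv ⊢
        rw [← hκcom, eq_neg_of_add_eq_zero_left hv, ← neg_smul, hlin, neg_smul, neg_add_cancel]
    · exact hC hG hE hρ hIH (p := p) hl hlin hx hcov h8 κ 0 (-c) hκ2 (hirr hs) (fun v => hc v) hκcom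
  · have hadj : ∀ v w, polar Q (κ v) w = polar Q v (κ w) := by
      intro v w
      have h3 : w = κ (c⁻¹ • κ w) := by
        rw [map_smul, hκ (κ w), hκ w, hsq, inv_smul_smul₀ hc0]
      conv_lhs => rw [h3]
      rw [hκ v, hκ (c⁻¹ • κ w), polar_of_form hc, polar_smul_right, smul_eq_mul, mul_inv_cancel_left₀ hc0]
    have h20 : (2 : F) = 0 → ∀ v, polar Q v (κ v) = 0 := fun h => (h2 h).elim
    rcases Nat.lt_or_ge (Module.finrank F V) 10 with hlt | hge
    · have h8' : Module.finrank F V = 8 := by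
        obtain ⟨k, hk⟩ := heven
        omega
      by_cases hU : ∃ U : Submodule F V, (∀ v ∈ U, Q v = 0) ∧ (∀ v ∈ U, κ v ∈ U) ∧ Module.finrank F U = 4
      · obtain ⟨U, hU1, hU2, hU3⟩ := hU
        refine hD4p hG hE hρ hIH (p := p) hl hlin hx hcov h8' κ 0 (-c) hκ2 (hirr hns) hadj h20 hκcom U hU1 hU2 hU3
          ?_
        intro i hi
        have : i = i₀ := hx.inj (by rw [hi, hr2])
        subst this
        exact Or.inl ⟨0, 1, fun v => by rw [zero_smul, one_smul, zero_add]; rfl⟩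
      · push Not at hU
        exact hD4m hG hE hρ hIH (p := p) hl hlin hx hcov h8' κ 0 (-c) hκ2 (hirr hns) hadj h20 hκcom hU
    · exact hD5 hG hE hρ hIH (p := p) hl hlin hx hcov hge κ 0 (-c) hκ2 (hirr hns) hadj h20 hκcom

/-- **The even row, given semisimilar lifts.** -/
theorem no_cov_even_of (hB : BoxB) (hC : BoxC) (hD5 : BoxD5) (hD4m : BoxD4m) (hD4p : BoxD4p) (hE0 : BoxE0)
    (hH : BoxH) (hE5 : BoxE5) (hE6 : BoxE6) (hE7 : BoxE7)
    (hG : Good Q) (hE : Env G Ω N) (hρ : _root_.Cfsg.Agent.H93.RC.Rep Q N ρ) (hIH : IH (Nat.card (P Q))) {ι : Type}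
    [Finite ι] {x : ι → G} {M : ι → Gam Q} {r : ι → ℕ} (hl : ∀ i, Lf ρ (x i) (M i))
    (hx : PF x r) (hcov : Cov Ω x) (h8 : 8 ≤ Module.finrank F V) (heven : Even (Module.finrank F V)) : False := by
  classical
  by_cases hnl : ∃ i, ¬ IsLin (M i)
  · exact H236.RC.box_FA' hG (by omega) hE hρ hl hx hcov hIH hnl
  push Not at hnl
  obtain ⟨p, hp⟩ := CharP.exists F
  have hpw : ∀ i, IsScal (M i ^ r i) := fun i => (hl i).pow_scal hG hρ (hx.pow i)
  have h0 := fun i => hE0 hG (p := p) (M i) (hnl i) (hx.prime i) (hpw i)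
  by_cases hsk : ∃ i, r i = 2 ∧ p ≠ 2 ∧ ∃ c : F, c ≠ 0 ∧ (∀ v, (M i).1 ((M i).1 v) = c • v) ∧
      ((∀ v, Q ((M i).1 v) = -c * Q v) ∨ ((∀ v, Q ((M i).1 v) = c * Q v) ∧ ¬ IsSquare c))
  · obtain ⟨i₀, h1, h2, c, h3, h4, h5⟩ := hsk
    exact no_cov_skew hB hC hD5 hD4m hD4p hG hE hρ hIH hl hnl hx hcov h8 heven i₀ h1 h2 h3 h4 h5
  have h1 : ∀ i, ∃ (T : V ≃ₗ[F] V) (a : F), T ∈ O Q ∧ T ^ r i = 1 ∧ a ≠ 0 ∧ ∀ v, (M i).1 v = a • T v := by
    intro i
    rcases h0 i with h | h
    · exact h
    · exact (hsk ⟨i, h⟩).elim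
  choose T a hTO hTr ha hT using h1
  let M' : ι → Gam Q := fun i => gamO (T i) (hTO i)
  have hl' : ∀ i, Lf ρ (x i) (M' i) := fun i => Lf.rescale (hl i) (ha i) (fun v => hT i v)
  have hlin' : ∀ i, IsLin (M' i) := fun i b v => map_smul (T i) b v
  have hTc : ∀ i j, T i * T j = T j * T i := by
    intro i j
    apply LinearEquiv.ext
    intro v
    exact lift_comm hG hρ hl' hlin' hx i j v
  have hD := hH p hG hE hρ hIH hl' hx hcov h8 heven T hTO (fun i v => rfl) hTr hTc
  by_cases hpr : ∃ i, r i = p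
  · obtain ⟨i₀, hi₀⟩ := hpr
    by_cases hp2 : p = 2
    · subst hp2
      exact hE7 hG hE hρ hIH hl' hx hcov h8 heven T hTO (fun i v => rfl) hTr hTc hD i₀ hi₀
    · exact hE6 p hG hE hρ hIH hl' hx hcov h8 heven T hTO (fun i v => rfl) hTr hTc hD hp2 i₀ hi₀
  · push Not at hpr
    exact hE5 p hG hE hρ hIH hl' hx hcov h8 heven T hTO (fun i v => rfl) hTr hTc hD hpr

end

end Cfsg.Agent.H721.RC
end

-- part: H721/RC/RowsEven
section
/-!
# S3510, rows `PΩ⁻_{2m}(q)`, `PΩ⁺_{2m}(q)` (`m ≥ 5`) from the boxes (helper721)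
-/

set_option autoImplicit false
open Cfsg

namespace Cfsg.Agent.H721.RC

open QuadraticMap MulAction
open Cfsg.Agent.LieClassical.OrthCore Cfsg.Agent.LieClassical.OrthTrans
open Cfsg.Agent.LieClassical.OrthSimple Cfsg.Agent.ClassicalGeometry.OrthSemi
open Cfsg.Agent.ClassicalGeometry.OrthAut1 Cfsg.Agent.H106.RC Cfsg.Agent.H93.RC
open Cfsg.Agent.AutOrth.Main

/-- the engine of the even rows: no cover with semisimilar lifts -/
def NoCovEven : Prop :=
  ∀ {F V : Type} [Field F] [Finite F] [AddCommGroup V] [Module F V] [FiniteDimensional F V]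
    {Q : QuadraticForm F V} {G Ω : Type} [Group G] [Finite G] [MulAction G Ω] [Nonempty Ω]
    {N : Subgroup G} {ρ : ↥(E Q) →* G} (_ : Good Q) (_ : Env G Ω N) (_ : _root_.Cfsg.Agent.H93.RC.Rep Q N ρ)
    (_ : IH (Nat.card (P Q))) {ι : Type} [Finite ι] {x : ι → G} {M : ι → Gam Q} {r : ι → ℕ}
    (_ : ∀ i, Lf ρ (x i) (M i)) (_ : PF x r) (_ : Cov Ω x) (_ : 8 ≤ Module.finrank F V)
    (_ : Even (Module.finrank F V)), False

/-- all automorphisms of `P Q` are induced by semisimilitudes -/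
theorem rc_of_surjective (hN : NoCovEven) {F V : Type} [Field F] [Finite F] [AddCommGroup V] [Module F V]
    [FiniteDimensional F V] {Q : QuadraticForm F V} (hG : Good Q) (h8 : 8 ≤ Module.finrank F V)
    (heven : Even (Module.finrank F V)) (hs : Function.Surjective (Psi Q)) {S : Type} [Group S] [Finite S]
    (hS : IsSimpleGroup S) (hSn : ¬ IsMulCommutative S) (f : S ≃* P Q) (hIH : IH (Nat.card S)) : RC S := by
  classical
  apply rc_of_set hS hSn
  intro G _ _ Ω _ _ _ N hE e g
  by_contra hno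
  push Not at hno
  obtain ⟨ι, _, x, r, hx, hcov, -, -⟩ := exists_cover hno
  obtain ⟨ρ, hρ⟩ := exists_rep (N := N) e f
  choose M hM using fun i => exists_Lf hE.norm hρ hs (x i)
  exact hN hG hE hρ (by rw [← Nat.card_congr f.toEquiv]; exact hIH) hM hx hcov h8 heven

/-- row `PΩ⁻_{2m}(q)`, `m ≥ 4` -/
theorem row_minus_of (hN : NoCovEven) : Row (fun S _ => IsPOmegaMinus S) := by
  intro S _ _ hS hSn hP _ hIH
  obtain ⟨F, i1, i2, m, a, b, hm, hab, ⟨f⟩⟩ := hP
  have hG : Good (LieClassical.QuadForms.minusForm (m - 1) F a b) := good_minus (by omega) hab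
  have hs := AutOrth.Final.surjective_minus (F := F) (m := m - 1) (by omega) hab
  rw [minusForm_eq] at hs
  have f' : S ≃* Cfsg.POmega F ⇑(LieClassical.QuadForms.minusForm (m - 1) F a b) := by
    rw [LieClassical.QuadForms.coe_minusForm]
    exact f
  refine rc_of_surjective hN hG ?_ ?_ hs hS hSn (f'.trans (pe hG)) hIH
  · rw [Module.finrank_fintype_fun_eq_card]; simp only [_root_.Fintype.card_sum, _root_.Fintype.card_fin, _root_.Nat.reduceLeDiff]; omega
  · rw [Module.finrank_fintype_fun_eq_card]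
    simp only [Fintype.card_sum, Fintype.card_fin]
    exact ⟨m - 1 + 1, by omega⟩

/-- `PΩ⁺_8(q)` -/
def Row8 : Prop := Row (fun S _ => ∃ (F : Type) (_ : Field F) (_ : Fintype F),
  Nonempty (S ≃* POmega F (quadFormPlus 4 F)))

/-- row `PΩ⁺_{2m}(q)`, `m ≥ 4`; `m = 4` is a hypothesis -/
theorem row_plus_of (hN : NoCovEven) (h8 : Row8) : Row (fun S _ => IsPOmegaPlus S) := by
  intro S _ _ hS hSn hP hEx hIH
  obtain ⟨F, i1, i2, m, hm, ⟨f⟩⟩ := hP
  rcases Nat.lt_or_ge m 5 with hlt | hge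
  · have hm4 : m = 4 := by omega
    subst hm4
    exact h8 S hS hSn ⟨F, i1, i2, ⟨f⟩⟩ hEx hIH
  have hG : Good (LieClassical.QuadForms.plusForm m F) := good_plus (by omega)
  have hs := AutOrth.Final.surjective_plus (F := F) (m := m) hge
  rw [plusForm_eq] at hs
  have f' : S ≃* Cfsg.POmega F ⇑(LieClassical.QuadForms.plusForm m F) := by
    rw [LieClassical.QuadForms.coe_plusForm]
    exact f
  refine rc_of_surjective hN hG ?_ ?_ hs hS hSn (f'.trans (pe hG)) hIH
  · rw [Module.finrank_fintype_fun_eq_card]; simp only [_root_.Fintype.card_sum, _root_.Fintype.card_fin]; omega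
  · rw [Module.finrank_fintype_fun_eq_card]
    simp only [Fintype.card_sum, Fintype.card_fin]
    exact ⟨m, by omega⟩

end Cfsg.Agent.H721.RC
end
end

-- part: H610/RC/AltSmall_mg
section
prune_inst 0x31505561076200004004008471001cd3b700019200488000008500400480cc4000028060802010194008090400310060000000a0424000000e240000011d01800040800080080011000080000088010000100000000000000000000000000004010000000
set_option linter.all false
open scoped Cfsg.Agent.FastGrp

-- part: H610/RC/AltSmall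
section
/-!
# S3510-B, box BR1: odd order automorphisms of `A_5`, `A_6` and the induction hypothesis (helper610)
-/

set_option autoImplicit false

namespace Cfsg.Agent.H610.RC

open Equiv Equiv.Perm Cfsg.Agent.H106.RC Cfsg.Agent.H384.RC

/-- odd order permutations of at most 6 points have prime power order -/
theorem order_of_odd {n : ℕ} (hn : n ≤ 6) (σ : Perm (Fin n)) (ho : Odd (orderOf σ)) :
    ∃ p k : ℕ, p.Prime ∧ orderOf σ = p ^ k := by
  have hsum : σ.cycleType.sum ≤ 6 := by
    rw [sum_cycleType]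
    exact (Finset.card_le_univ _).trans (by simpa only [_root_.Fintype.card_fin] using hn)
  have hpart : ∀ m ∈ σ.cycleType, 3 ≤ m ∧ Odd m := by
    intro m hm
    have h2 := two_le_of_mem_cycleType hm
    have h3 : Odd m := Odd.of_dvd_nat ho (dvd_of_mem_cycleType hm)
    obtain ⟨k, hk⟩ := h3
    exact ⟨by omega, ⟨k, hk⟩⟩
  by_cases h5 : 5 ∈ σ.cycleType
  · refine ⟨5, 1, by norm_num, ?_⟩
    obtain ⟨m', hm'⟩ := Multiset.exists_cons_of_mem h5
    have h0 : m' = 0 := by
      rw [Multiset.eq_zero_iff_forall_notMem]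
      intro a ha
      have h1 := (hpart a (by rw [hm']; exact Multiset.mem_cons_of_mem ha)).1
      have h2 := Multiset.le_sum_of_mem ha
      rw [hm', Multiset.sum_cons] at hsum
      omega
    rw [← lcm_cycleType, hm', h0]
    simp
  · have h3 : orderOf σ ∣ 3 := by
      rw [← lcm_cycleType]
      refine Multiset.lcm_dvd.2 fun a ha => ?_
      obtain ⟨h1, k, hk⟩ := hpart a ha
      have h2 := (Multiset.le_sum_of_mem ha).trans hsum
      have h4 : a ≠ 5 := fun h => h5 (h ▸ ha)
      have : a = 3 := by omega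
      rw [this]
    rcases (Nat.dvd_prime Nat.prime_three).1 h3 with h | h
    · exact ⟨3, 0, Nat.prime_three, by rw [h, pow_zero]⟩
    · exact ⟨3, 1, Nat.prime_three, by rw [h, pow_one]⟩

theorem rco_alt {n : ℕ} (hn5 : 5 ≤ n) (hn : n ≤ 6) : RCo (alternatingGroup (Fin n)) := by
  intro α hα
  have hs : IsSimpleGroup (alternatingGroup (Fin n)) := alternatingGroup.isSimpleGroup (by simpa only [_root_.Nat.card_eq_fintype_card, _root_.Fintype.card_fin] using hn5)
  have hc : Subgroup.center (alternatingGroup (Fin n)) = ⊥ :=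
    alternatingGroup.center_eq_bot (by simp only [_root_.Nat.card_eq_fintype_card, _root_.Fintype.card_fin]; omega)
  obtain ⟨a, ha⟩ := Cfsg.Agent.H952.F4.MaxA.sq_inner hn5 α
  obtain ⟨k, hk⟩ := hα
  have h1 : α = MulAut.conj (a ^ (k + 1)) := by
    rw [map_pow, ← ha, ← pow_two, ← pow_mul]
    have h2 : α ^ orderOf α = 1 := pow_orderOf_eq_one α
    rw [hk] at h2
    rw [show 2 * (k + 1) = 2 * k + 1 + 1 by ring, pow_succ, h2, one_mul]
  have hinj : Function.Injective (MulAut.conj : alternatingGroup (Fin n) →* MulAut (alternatingGroup (Fin n))) := by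
    rw [injective_iff_map_eq_one]
    intro b hb
    have h2 : b ∈ Subgroup.center (alternatingGroup (Fin n)) := by
      rw [Subgroup.mem_center_iff]
      intro g
      have h3 : b * g * b⁻¹ = g := DFunLike.congr_fun hb g
      calc g * b = b * g * b⁻¹ * b := by rw [h3]
        _ = b * g := by group
    rw [hc] at h2
    exact Subgroup.mem_bot.1 h2
  have h2 : orderOf α = orderOf ((a ^ (k + 1) : alternatingGroup (Fin n)) : Perm (Fin n)) := by
    rw [Subgroup.orderOf_coe, ← orderOf_injective _ hinj, ← h1]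
  obtain ⟨p, j, hp, hj⟩ := order_of_odd hn ((a ^ (k + 1) : alternatingGroup (Fin n)) : Perm (Fin n))
    (by rw [← h2]; exact ⟨k, hk⟩)
  exact rce_of_prime_pow hs α hp (h2.trans hj)

theorem rco_A5 : RCo (alternatingGroup (Fin 5)) := rco_alt le_rfl (by norm_num)

theorem rco_A6 : RCo (alternatingGroup (Fin 6)) := rco_alt (by norm_num) le_rfl

theorem rco_ih {N : ℕ} (hIH : IH N) {Q : Type} [Group Q] [Finite Q] (hs : IsSimpleGroup Q)
    (hn : ¬ IsMulCommutative Q) (hcl : Cl Q)
    (h8 : ¬ Nonempty (Q ≃* alternatingGroup (Fin 8))) (hlt : Nat.card Q < N) : RCo Q := by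
  by_cases h5 : Nonempty (Q ≃* alternatingGroup (Fin 5))
  · obtain ⟨e⟩ := h5
    exact rco_A5.congr e.symm
  by_cases h6 : Nonempty (Q ≃* alternatingGroup (Fin 6))
  · obtain ⟨e⟩ := h6
    exact rco_A6.congr e.symm
  refine RCo.of_RC (hIH Q hs hn hcl ?_ hlt)
  rintro (h | h | h)
  · exact h5 h
  · exact h6 h
  · exact h8 h

end Cfsg.Agent.H610.RC
end

-- part: H212/RC/KilledS
section
/-!
# S3510 part B, box BS: symplectic polarities (helper212 for helper384)

`killed_S` : `gam J` is `Killed` in `Aut (PSL_{2m}(F))`.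

Pieces of use elsewhere: `spGL`, `sp_det`, `exists_line`, `sem_eq_one` (a semilinear automorphism fixing all points is
trivial), `psl_simple` (any index type), `psp_facts`.
-/

set_option autoImplicit false
set_option linter.unusedSectionVars false

open Matrix Cfsg
open Cfsg.Agent.H106.RC Cfsg.Agent.H999.PslGraph Cfsg.Agent.H384.RC
open Cfsg.Agent.ClassicalGeometry.AutPSL.Auto
open Cfsg.Agent.ClassicalGeometry.SympBasic

namespace Cfsg.Agent.H212.RC

/-! ### general facts -/

section gen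

variable {ι F : Type*} [Fintype ι] [DecidableEq ι] [Field F]

theorem psl_simple (hι : 3 ≤ Fintype.card ι) : IsSimpleGroup (Matrix.ProjectiveSpecialLinearGroup ι F) := by
  have h := Cfsg.Agent.S0249.result (F := F) (Fintype.card ι) hι
  let e := rePSL (F := F) (Fintype.equivFin ι)
  have : Nontrivial (Matrix.ProjectiveSpecialLinearGroup ι F) := e.toEquiv.nontrivial
  exact IsSimpleGroup.isSimpleGroup_of_surjective e.symm.toMonoidHom e.symm.surjective

theorem det_vmv (x y : ι → F) : (1 + vecMulVec x y).det = 1 + y ⬝ᵥ x := by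
  rw [vecMulVec_eq Unit, det_one_add_replicateCol_mul_replicateRow]

/-- A semilinear map fixing all points is a scalar. -/
theorem sem_eq_one [Nontrivial ι] (A : GL ι F) (σ : F ≃+* F)
    (h : ∀ v : ι → F, v ≠ 0 → ∃ c : F, (A : Matrix ι ι F) *ᵥ (fun i => σ (v i)) = c • v) : Sem A σ = 1 := by
  have hs : ∀ (i : ι) (a : F), (fun k => σ ((Pi.single i a : ι → F) k)) = Pi.single i (σ a) := by
    intro i a
    funext k
    by_cases hk : k = i
    · subst hk; simp
    · simp [hk]
  have h1 : ∀ i : ι, ∃ c : F, (A : Matrix ι ι F) *ᵥ (Pi.single i 1) = c • (Pi.single i 1 : ι → F) := by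
    intro i
    have h2 := h (Pi.single i 1) (by
      intro h3
      have := congrFun h3 i
      simp at this)
    rwa [hs, map_one] at h2
  choose l hl using h1
  have hl0 : ∀ i, l i ≠ 0 := by
    intro i h0
    have h2 := hl i
    rw [h0, zero_smul] at h2
    have h3 : (Pi.single i 1 : ι → F) = 0 := by
      have h4 : ((A⁻¹ : GL ι F) : Matrix ι ι F) *ᵥ ((A : Matrix ι ι F) *ᵥ (Pi.single i 1)) = 0 := by
        rw [h2, mulVec_zero]
      rwa [mulVec_mulVec, ← Units.val_mul, inv_mul_cancel, Units.val_one, one_mulVec] at h4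
    have := congrFun h3 i
    simp at this
  have key : ∀ i j : ι, i ≠ j → ∀ a : F, σ a * l i = l j * a := by
    intro i j hij a
    let v : ι → F := Pi.single i a + Pi.single j 1
    have hv : v ≠ 0 := by
      intro h3
      have := congrFun h3 j
      simp [v, hij.symm] at this
    obtain ⟨c, hc⟩ := h v hv
    have h2 : (fun k => σ (v k)) = σ a • Pi.single i 1 + Pi.single j 1 := by
      funext k
      simp only [v, Pi.add_apply, map_add, Pi.smul_apply, smul_eq_mul]
      congr 1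
      · by_cases hk : k = i
        · subst hk; simp
        · simp [hk]
      · by_cases hk : k = j
        · subst hk; simp
        · simp [hk]
    rw [h2, mulVec_add, mulVec_smul, hl, hl] at hc
    have hi := congrFun hc i
    have hj := congrFun hc j
    simp [v, hij] at hi
    simp [v, hij.symm] at hj
    rw [hj]
    linear_combination hi
  obtain ⟨i₀, j₀, hij₀⟩ := exists_pair_ne ι
  have hleq : ∀ i j : ι, l i = l j := by
    intro i j
    by_cases hij : i = j
    · rw [hij]
    · have := key i j hij 1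
      rw [map_one, one_mul, mul_one] at this
      exact this
  have hσ : σ = RingEquiv.refl F := by
    apply RingEquiv.ext
    intro a
    have h2 := key i₀ j₀ hij₀ a
    rw [hleq i₀ j₀, mul_comm] at h2
    exact mul_left_cancel₀ (hl0 j₀) h2
  rw [hσ, Sem_one, Cj_eq_one_iff]
  refine ⟨l i₀, ?_⟩
  ext i j
  have h2 := congrFun (hl j) i
  rw [mulVec_single_one] at h2
  have h3 : (A : Matrix ι ι F) i j = l j * (Pi.single j 1 : ι → F) i := by
    rw [← smul_eq_mul, ← Pi.smul_apply, ← h2]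
    rfl
  rw [h3, hleq j i₀, Matrix.smul_apply, smul_eq_mul, one_apply]
  congr 1
  by_cases hk : i = j
  · subst hk; simp
  · simp [hk]

/-- `x` commuting with the transvection `1 + v ⊗ y` and with its dual nonzero fixes the point of `v`. -/
theorem exists_line [Nontrivial ι] (A : GL ι F) (σ : F ≃+* F) (g : GL ι F) (v y : ι → F)
    (hg : (g : Matrix ι ι F) = 1 + vecMulVec v y) (hy : y ≠ 0) (hvy : y ⬝ᵥ v = 0)
    (h : Sem A σ * Cj g = Cj g * Sem A σ) : ∃ c : F, (A : Matrix ι ι F) *ᵥ (fun i => σ (v i)) = c • v := by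
  obtain ⟨c, -, hc⟩ := (Sem_comm_iff A σ g).1 h
  have hnil : IsNilpotent ((g : Matrix ι ι F) - 1) := by
    refine ⟨2, ?_⟩
    rw [hg, add_sub_cancel_left, pow_two, vecMulVec_mul_vecMulVec, hvy]
    simp
  have h1 := unip_exact A σ g hnil hc
  rw [hg] at h1
  have h2 : (1 + vecMulVec v y).map σ = 1 + vecMulVec (fun i => σ (v i)) (fun i => σ (y i)) := by
    ext i j
    simp [vecMulVec_apply, Matrix.one_apply, apply_ite σ]
  rw [h2, Matrix.mul_add, Matrix.add_mul, Matrix.mul_one, Matrix.one_mul, add_right_inj] at h1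
  -- apply to a vector
  obtain ⟨i, hi⟩ : ∃ i, y i ≠ 0 := Function.ne_iff.1 hy
  have hi' : σ (y i) ≠ 0 := fun h => hi ((map_eq_zero_iff σ σ.injective).1 h)
  have h3 : ((A : Matrix ι ι F) * vecMulVec (fun i => σ (v i)) (fun i => σ (y i))) *ᵥ (Pi.single i (σ (y i))⁻¹) =
      (vecMulVec v y * (A : Matrix ι ι F)) *ᵥ (Pi.single i (σ (y i))⁻¹) := by rw [h1]
  rw [← mulVec_mulVec, ← mulVec_mulVec, vecMulVec_mulVec, vecMulVec_mulVec] at h3
  have h4 : (fun i => σ (y i)) ⬝ᵥ (Pi.single i (σ (y i))⁻¹ : ι → F) = 1 := by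
    rw [dotProduct_single, mul_inv_cancel₀ hi']
  rw [h4] at h3
  refine ⟨y ⬝ᵥ ((A : Matrix ι ι F) *ᵥ Pi.single i (σ (y i))⁻¹), ?_⟩
  have h5 : (MulOpposite.op (1 : F)) • (fun i => σ (v i)) = fun i => σ (v i) := by
    funext k
    simp
  rw [h5] at h3
  rw [h3]
  funext k
  simp [mul_comm]

/-- `A k A⁻¹` is an isometry if `A` is a similarity and `k` an isometry. -/
theorem norm_aux {A Ai k Jm : Matrix ι ι F} {c : F} (hc0 : c ≠ 0) (hA : A * Ai = 1)
    (hc : Jm = c • (Aᵀ * Jm * A)) (hk : kᵀ * Jm * k = Jm) : (A * k * Ai)ᵀ * Jm * (A * k * Ai) = Jm := by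
  have e3 : Aiᵀ * Aᵀ = 1 := by rw [← transpose_mul, hA, transpose_one]
  have hJA : Aiᵀ * Jm * Ai = c • Jm := by
    calc Aiᵀ * Jm * Ai = Aiᵀ * (c • (Aᵀ * Jm * A)) * Ai := by rw [← hc]
      _ = c • ((Aiᵀ * Aᵀ) * Jm * (A * Ai)) := by
          rw [Matrix.mul_smul, Matrix.smul_mul]
          simp only [Matrix.mul_assoc]
      _ = _ := by rw [e3, hA, Matrix.one_mul, Matrix.mul_one]
  have hJA' : Aᵀ * Jm * A = c⁻¹ • Jm := by
    conv_rhs => rw [hc]
    rw [smul_smul, inv_mul_cancel₀ hc0, one_smul]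
  rw [transpose_mul, transpose_mul]
  calc Aiᵀ * (kᵀ * Aᵀ) * Jm * (A * k * Ai) = Aiᵀ * (kᵀ * (Aᵀ * Jm * A) * k) * Ai := by
        simp only [Matrix.mul_assoc]
    _ = c⁻¹ • (Aiᵀ * (kᵀ * Jm * k) * Ai) := by
        rw [hJA', Matrix.mul_smul, Matrix.smul_mul, Matrix.mul_smul, Matrix.smul_mul]
    _ = Jm := by rw [hk, hJA, smul_smul, inv_mul_cancel₀ hc0, one_smul]

end gen

/-! ### the symplectic group -/

section sp

variable {F : Type} [Field F] [Fintype F] {m : ℕ}

/-- the inclusion -/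
noncomputable def spGL (m : ℕ) (F : Type) [Field F] : symplecticGroup (Fin m) F →* GL (Fin m ⊕ Fin m) F :=
  (symplecticGroup (Fin m) F).subtype.toHomUnits

theorem coe_spGL (k : symplecticGroup (Fin m) F) : (spGL m F k : Matrix (Fin m ⊕ Fin m) (Fin m ⊕ Fin m) F) = k.1 := rfl

theorem sp_det (k : symplecticGroup (Fin m) F) : (k.1).det = 1 := by
  have h : k ∈ transvGroup m F := by
    rw [show transvGroup m F = ⊤ from Cfsg.Agent.S0765.result m]
    exact Subgroup.mem_top k
  refine Subgroup.closure_induction (p := fun k _ => (k.1).det = 1) ?_ ?_ ?_ ?_ h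
  · rintro x ⟨w, c, hx⟩
    rw [hx, sympTransvection_def, ← smul_vecMulVec, det_vmv, dotProduct_smul, dotProduct_comm]
    have : w ⬝ᵥ (Matrix.J (Fin m) F *ᵥ w) = 0 := sympForm_self w
    rw [this, smul_zero, add_zero]
  · exact det_one
  · intro x y _ _ hx hy
    change (x.1 * y.1).det = 1
    rw [det_mul, hx, hy, one_mul]
  · intro x _ hx
    have h1 : (x⁻¹).1 * x.1 = 1 := congrArg Subtype.val (inv_mul_cancel x)
    have h2 := congrArg Matrix.det h1
    rw [det_mul, hx, mul_one, det_one] at h2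
    exact h2

theorem psp_facts (hm : 2 ≤ m) (hne : ¬ (m = 2 ∧ Fintype.card F = 2)) :
    IsSimpleGroup (PSp m F) ∧ ¬ IsMulCommutative (PSp m F) := by
  have h3 : m = 2 → 3 ≤ Fintype.card F := by
    intro h
    have h1 : 1 < Fintype.card F := Fintype.one_lt_card
    by_contra h2
    exact hne ⟨h, by omega⟩
  have hs := Cfsg.Agent.S0270.result (F := F) m hm h3
  refine ⟨hs, fun hc => ?_⟩
  have hperf : commutator (Matrix.symplecticGroup (Fin m) F) = ⊤ := by
    refine Cfsg.Agent.S0269.result m ?_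
    by_cases h2 : m = 2
    · exact Or.inr (Or.inl ⟨h2, h3 h2⟩)
    · left; omega
  have h4 : commutator (symplecticGroup (Fin m) F) ≤ Subgroup.center (symplecticGroup (Fin m) F) := by
    rw [commutator_def, Subgroup.commutator_le]
    intro a _ b _
    rw [← QuotientGroup.eq_one_iff, ← QuotientGroup.mk'_apply, map_commutatorElement, commutatorElement_eq_one_iff_mul_comm]
    exact hc.is_comm.comm _ _
  rw [hperf] at h4
  have h5 : Nontrivial (PSp m F) := hs.toNontrivial
  obtain ⟨a, b, hab⟩ := h5.exists_pair_ne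
  apply hab
  obtain ⟨a, rfl⟩ := QuotientGroup.mk'_surjective _ a
  obtain ⟨b, rfl⟩ := QuotientGroup.mk'_surjective _ b
  have h6 : ∀ c : symplecticGroup (Fin m) F, QuotientGroup.mk' (Subgroup.center (symplecticGroup (Fin m) F)) c = 1 :=
    fun c => (QuotientGroup.eq_one_iff c).2 (h4 (Subgroup.mem_top c))
  rw [h6, h6]

theorem J_map (σ : F ≃+* F) : (J (Fin m) F).map σ = J (Fin m) F := by
  rw [Matrix.J, fromBlocks_map]
  congr 1
  · ext i j; simp
  · ext i j
    simp [Matrix.one_apply, apply_ite σ]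
  · ext i j
    simp only [Matrix.one_apply, apply_ite σ, _root_.Matrix.map_apply, _root_.map_one, _root_.map_zero]
  · ext i j; simp

/-- the image of the symplectic group -/
noncomputable def fS (m : ℕ) (F : Type) [Field F] : symplecticGroup (Fin m) F →*
    MulAut (Matrix.ProjectiveSpecialLinearGroup (Fin m ⊕ Fin m) F) := Cj.comp (spGL m F)

theorem fS_apply (k : symplecticGroup (Fin m) F) : fS m F k = Cj (spGL m F k) := rfl

theorem fS_eq_one [Nontrivial (Fin m ⊕ Fin m)] (k : symplecticGroup (Fin m) F) :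
    fS m F k = 1 ↔ k ∈ Subgroup.center (symplecticGroup (Fin m) F) := by
  rw [fS_apply, Cj_eq_one_iff, LieClassical.SympCenter.mem_center_iff]
  rfl

theorem fS_inn (k : symplecticGroup (Fin m) F) : fS m F k ∈ inn _ := Cj_mem_inn _ (sp_det k)

theorem row_dot (u w : Fin m ⊕ Fin m → F) : (u ᵥ* J (Fin m) F) ⬝ᵥ w = sympForm m F u w := by
  rw [sympForm_def, dotProduct_mulVec]

theorem J_row (v : Fin m ⊕ Fin m → F) : J (Fin m) F *ᵥ v = -(v ᵥ* J (Fin m) F) := by
  have h : (J (Fin m) F)ᵀ = -J (Fin m) F := J_transpose (Fin m) F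
  rw [← mulVec_transpose, h, neg_mulVec, neg_neg]

theorem J_J_row (w : Fin m ⊕ Fin m → F) : J (Fin m) F *ᵥ (w ᵥ* J (Fin m) F) = w := by
  have h : w ᵥ* J (Fin m) F = -(J (Fin m) F *ᵥ w) := by rw [J_row, neg_neg]
  rw [h, mulVec_neg, mulVec_mulVec, J_squared, neg_mulVec, one_mulVec, neg_neg]

/-- the element `q` -/
noncomputable def qq (v w : Fin m ⊕ Fin m → F) (h : sympForm m F w v = 0) : GL (Fin m ⊕ Fin m) F :=
  Matrix.SpecialLinearGroup.toGL ⟨1 + vecMulVec v (w ᵥ* J (Fin m) F), by rw [det_vmv, row_dot, h, add_zero]⟩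

theorem coe_qq (v w : Fin m ⊕ Fin m → F) (h : sympForm m F w v = 0) :
    (qq v w h : Matrix (Fin m ⊕ Fin m) (Fin m ⊕ Fin m) F) = 1 + vecMulVec v (w ᵥ* J (Fin m) F) := rfl

theorem coe_S (B : GL (Fin m ⊕ Fin m) F) (hB : (B : Matrix (Fin m ⊕ Fin m) (Fin m ⊕ Fin m) F) = J (Fin m) F)
    (v w : Fin m ⊕ Fin m → F) (h : sympForm m F w v = 0) :
    ((qq v w h * (B⁻¹ * (ct (qq v w h))⁻¹ * B) : GL (Fin m ⊕ Fin m) F) : Matrix (Fin m ⊕ Fin m) (Fin m ⊕ Fin m) F) =
      1 + (vecMulVec v (w ᵥ* J (Fin m) F) - vecMulVec w (v ᵥ* J (Fin m) F)) := by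
  have hBi : ((B⁻¹ : GL (Fin m ⊕ Fin m) F) : Matrix (Fin m ⊕ Fin m) (Fin m ⊕ Fin m) F) = -J (Fin m) F := by
    have h1 : (B : Matrix (Fin m ⊕ Fin m) (Fin m ⊕ Fin m) F) * ((B⁻¹ : GL (Fin m ⊕ Fin m) F) : Matrix _ _ F) = 1 := by
      rw [← Units.val_mul, mul_inv_cancel, Units.val_one]
    rw [hB] at h1
    have h2 : -J (Fin m) F * (J (Fin m) F * ((B⁻¹ : GL (Fin m ⊕ Fin m) F) : Matrix _ _ F)) = -J (Fin m) F := by
      rw [h1, Matrix.mul_one]
    rwa [← Matrix.mul_assoc, Matrix.neg_mul, J_squared, neg_neg, Matrix.one_mul] at h2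
  rw [Units.val_mul, coe_adj, hBi, hB, coe_qq]
  have h3 : -J (Fin m) F * (1 + vecMulVec v (w ᵥ* J (Fin m) F))ᵀ * J (Fin m) F = 1 - vecMulVec w (v ᵥ* J (Fin m) F) := by
    rw [transpose_add, transpose_one, transpose_vecMulVec, Matrix.mul_add, Matrix.mul_one, Matrix.add_mul,
      Matrix.neg_mul, J_squared, neg_neg, Matrix.neg_mul, mul_vecMulVec, J_J_row, Matrix.neg_mul, vecMulVec_mul,
      ← sub_eq_add_neg]
  rw [h3, Matrix.add_mul, Matrix.mul_sub, Matrix.mul_sub, Matrix.one_mul, Matrix.mul_one, Matrix.one_mul,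
    vecMulVec_mul_vecMulVec, row_dot, sympForm_self, zero_smul, vecMulVec_zero, sub_zero]
  abel

theorem coe_transv' (v : Fin m ⊕ Fin m → F) :
    (spGL m F (transv v 1) : Matrix (Fin m ⊕ Fin m) (Fin m ⊕ Fin m) F) = 1 - vecMulVec v (v ᵥ* J (Fin m) F) := by
  rw [coe_spGL, coe_transv, sympTransvection_def, one_smul, J_row, vecMulVec_neg, sub_eq_add_neg]

/-- **box BS** -/
theorem killed_S {F : Type} [Field F] [Fintype F] {m : ℕ} (hm : 2 ≤ m)
    (hne : ¬ (m = 2 ∧ Fintype.card F = 2))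
    (hRC : Nat.card (PSp m F) < Nat.card (Matrix.ProjectiveSpecialLinearGroup (Fin m ⊕ Fin m) F) →
      RCo (PSp m F))
    (B : GL (Fin m ⊕ Fin m) F) (hB : (B : Matrix (Fin m ⊕ Fin m) (Fin m ⊕ Fin m) F) = J (Fin m) F) :
    Killed (gam B) := by
  have hcard : 3 ≤ Fintype.card (Fin m ⊕ Fin m) := by
    rw [Fintype.card_sum, Fintype.card_fin]; omega
  have hnt : Nontrivial (Fin m ⊕ Fin m) := nontrivial_of_card hcard
  have hS : IsSimpleGroup (Matrix.ProjectiveSpecialLinearGroup (Fin m ⊕ Fin m) F) := psl_simple hcard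
  obtain ⟨hK, hKn⟩ := psp_facts (F := F) hm hne
  have ht2 : gam B * gam B = 1 := gam_sq B (Or.inr (by rw [hB, J_transpose]))
  have ht : ∀ k, gam B * fS m F k = fS m F k * gam B := by
    intro k
    rw [fS_apply, gam_comm_Cj_iff]
    refine ⟨1, one_ne_zero, ?_⟩
    rw [one_smul, hB, coe_spGL]
    exact (SymplecticGroup.mem_iff'.1 k.2).symm
  have hfin : Finite (Matrix.SpecialLinearGroup (Fin m ⊕ Fin m) F) := inferInstance
  have hfin' : Finite (Matrix.ProjectiveSpecialLinearGroup (Fin m ⊕ Fin m) F) := Quotient.finite _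
  have hSn : ¬ IsMulCommutative (Matrix.ProjectiveSpecialLinearGroup (Fin m ⊕ Fin m) F) := by
    intro hc
    apply hKn
    have h1 : ∀ k, fS m F k = 1 := by
      intro k
      obtain ⟨s, hs⟩ := fS_inn k
      rw [← hs]
      ext x
      rw [MulAut.conj_apply, MulAut.one_apply, hc.is_comm.comm s x, mul_inv_cancel_right]
    refine ⟨⟨fun a b => ?_⟩⟩
    obtain ⟨a, rfl⟩ := QuotientGroup.mk'_surjective _ a
    obtain ⟨b, rfl⟩ := QuotientGroup.mk'_surjective _ b
    rw [(QuotientGroup.eq_one_iff a).2 ((fS_eq_one a).1 (h1 a)) |> fun h => (show QuotientGroup.mk' _ a = 1 from h),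
      one_mul, mul_one]
  have hRC' : RCo (PSp m F) := hRC (card_lt_of_cent hS hSn (fS m F) fS_eq_one fS_inn (gam B) (gam_ne_one hcard B) ht)
  rw [killed_iff]
  intro κ _ x r hF H hcov
  have hsem : ∀ i, ∃ (A : GL (Fin m ⊕ Fin m) F) (σ : F ≃+* F), x i = Sem A σ := fun i =>
    exists_sem_of_odd (by omega) (x i) ((hF.pr i).odd_of_ne_two (hF.ne2 i)) (hF.pow i)
  -- the vectors
  have hm0 : 0 < m := by omega
  let i0 : Fin m := ⟨0, by omega⟩
  let i1 : Fin m := ⟨1, by omega⟩
  have hi01 : i0 ≠ i1 := by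
    intro h
    have := congrArg Fin.val h
    simp [i0, i1] at this
  let v : Fin m ⊕ Fin m → F := Pi.single (Sum.inl i0) 1
  let w : Fin m ⊕ Fin m → F := Pi.single (Sum.inr i1) 1
  let w' : Fin m ⊕ Fin m → F := Pi.single (Sum.inl i1) 1
  have hwv : sympForm m F w v = 0 := by
    rw [show w = Pi.single (Sum.inr i1) 1 from rfl, sympForm_single_inr_left]
    simp [v, hi01.symm]
  have hwv' : sympForm m F w' v = 0 := by
    rw [show w' = Pi.single (Sum.inl i1) 1 from rfl, sympForm_single_inl_left]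
    simp [v]
  have hww : sympForm m F w w' = 1 := by
    rw [show w = Pi.single (Sum.inr i1) 1 from rfl, sympForm_single_inr_left]
    simp [w']
  have hu : sympForm m F (w + w') v = 0 := by rw [sympForm_add_left, hwv, hwv', add_zero]
  have hvw : sympForm m F v w = 0 := by rw [sympForm_swap, hwv, neg_zero]
  have hvw' : sympForm m F v w' = 0 := by rw [sympForm_swap, hwv', neg_zero]
  have hvv : sympForm m F v v = 0 := sympForm_self v
  refine fam_K hS hF ht2 hcov (fS m F) fS_eq_one hK hKn hRC' fS_inn ht ?_ ?_ (transv v 1) ?_ ?_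
  · -- normalise
    intro i k
    obtain ⟨A, σ, hx⟩ := hsem i
    obtain ⟨c, hc0, hc⟩ := (gam_comm_iff A σ B).1 (by rw [← hx]; exact hF.commt i)
    rw [hB, J_map] at hc
    rw [hx, fS_apply, Sem_conj_Cj]
    have e2' : (A : Matrix (Fin m ⊕ Fin m) (Fin m ⊕ Fin m) F) * ((A⁻¹ : GL _ F) : Matrix _ _ F) = 1 := by
      rw [← Units.val_mul, mul_inv_cancel, Units.val_one]
    have hk : (k.1.map σ)ᵀ * J (Fin m) F * (k.1.map σ) = J (Fin m) F := by
      have h1 := congrArg (fun M : Matrix (Fin m ⊕ Fin m) (Fin m ⊕ Fin m) F => M.map σ) (SymplecticGroup.mem_iff'.1 k.2)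
      rw [J_map] at h1
      have h2 : (k.1ᵀ * J (Fin m) F * k.1).map σ = (k.1.map σ)ᵀ * (J (Fin m) F).map σ * k.1.map σ := by
        have h3 : ∀ M N : Matrix (Fin m ⊕ Fin m) (Fin m ⊕ Fin m) F, (M * N).map σ = M.map σ * N.map σ := fun M N =>
          Matrix.map_mul (f := (σ : F →+* F))
        rw [h3, h3]
        rfl
      rw [h2, J_map] at h1
      exact h1
    refine ⟨⟨(A : Matrix (Fin m ⊕ Fin m) (Fin m ⊕ Fin m) F) * k.1.map σ *
      ((A⁻¹ : GL (Fin m ⊕ Fin m) F) : Matrix (Fin m ⊕ Fin m) (Fin m ⊕ Fin m) F), ?_⟩, ?_⟩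
    · rw [SymplecticGroup.mem_iff']
      exact norm_aux hc0 e2' hc hk
    · rw [fS_apply]
      congr 1
      apply Units.ext
      rw [Units.val_mul, Units.val_mul, coe_mg]
      rfl
  · -- nobody centralises
    intro i h
    obtain ⟨A, σ, hx⟩ := hsem i
    apply hF.ne1 i
    rw [hx]
    apply sem_eq_one
    intro u hu0
    refine exists_line A σ (spGL m F (transv u 1)) u (J (Fin m) F *ᵥ u) ?_ ?_ ?_ ?_
    · rw [coe_spGL, coe_transv, sympTransvection_def, one_smul]
    · intro h0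
      apply hu0
      apply eq_zero_of_forall_sympForm_left
      intro z
      rw [sympForm_def, h0, dotProduct_zero]
    · rw [dotProduct_comm]
      exact sympForm_self u
    · rw [← hx]
      exact h (transv u 1)
  · -- the root element is not trivial
    rw [fS_apply, Ne, Cj_eq_one_iff]
    rintro ⟨c, hc⟩
    have h1 := congrArg (fun M : Matrix (Fin m ⊕ Fin m) (Fin m ⊕ Fin m) F =>
      (M *ᵥ (Pi.single (Sum.inr i0) 1)) (Sum.inl i0)) hc
    rw [coe_spGL, coe_transv, sympTransvection_mulVec, smul_mulVec, one_mulVec,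
      sympForm_single_inr_left] at h1
    simp [v] at h1
  · -- the root element
    have hmem : ∀ (u : Fin m ⊕ Fin m → F) (hu : sympForm m F u v = 0),
        Cj (qq v u hu * (B⁻¹ * (ct (qq v u hu))⁻¹ * B)) ∈ Subgroup.closure
          {z | ∃ q ∈ inn (Matrix.ProjectiveSpecialLinearGroup (Fin m ⊕ Fin m) F),
            q * fS m F (transv v 1) = fS m F (transv v 1) * q ∧ z = q * gam B * q⁻¹ * (gam B)⁻¹} := by
      intro u hu
      apply Subgroup.subset_closure
      refine ⟨Cj (qq v u hu), ?_, ?_, ?_⟩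
      · apply Cj_mem_inn
        rw [coe_qq, det_vmv, row_dot, hu, add_zero]
      · rw [fS_apply, ← map_mul, ← map_mul]
        congr 1
        apply Units.ext
        rw [Units.val_mul, Units.val_mul, coe_qq, coe_transv', Matrix.add_mul, Matrix.mul_sub, Matrix.sub_mul,
          Matrix.mul_add, Matrix.mul_one, Matrix.one_mul, Matrix.one_mul, Matrix.mul_sub, Matrix.mul_one,
          Matrix.mul_add, Matrix.mul_one, vecMulVec_mul_vecMulVec, vecMulVec_mul_vecMulVec, row_dot, row_dot, hu, hvv,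
          zero_smul, zero_smul, vecMulVec_zero]
        abel
      · rw [comm_gam]
    have h1 : fS m F (transv v 1) = Cj (qq v w hwv * (B⁻¹ * (ct (qq v w hwv))⁻¹ * B)) *
        Cj (qq v w' hwv' * (B⁻¹ * (ct (qq v w' hwv'))⁻¹ * B)) *
        (Cj (qq v (w + w') hu * (B⁻¹ * (ct (qq v (w + w') hu))⁻¹ * B)))⁻¹ := by
      have e1 := coe_S B hB v w hwv
      have e2 := coe_S B hB v w' hwv'
      have e3 := coe_S B hB v (w + w') hu
      generalize qq v w hwv * (B⁻¹ * (ct (qq v w hwv))⁻¹ * B) = s1 at e1 ⊢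
      generalize qq v w' hwv' * (B⁻¹ * (ct (qq v w' hwv'))⁻¹ * B) = s2 at e2 ⊢
      generalize qq v (w + w') hu * (B⁻¹ * (ct (qq v (w + w') hu))⁻¹ * B) = s3 at e3 ⊢
      rw [eq_mul_inv_iff_mul_eq, fS_apply, ← map_mul, ← map_mul]
      congr 1
      apply Units.ext
      rw [Units.val_mul, Units.val_mul, e1, e2, e3, coe_transv', add_vecMul, vecMulVec_add, add_vecMulVec]
      simp only [Matrix.mul_add, Matrix.add_mul, Matrix.mul_sub, Matrix.sub_mul, Matrix.mul_one, Matrix.one_mul,
        vecMulVec_mul_vecMulVec, row_dot, hvv, hvw, hvw', hwv, hww, zero_smul, one_smul, vecMulVec_zero]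
      abel
    have h2 := mul_mem (mul_mem (hmem w hwv) (hmem w' hwv')) (inv_mem (hmem (w + w') hu))
    rwa [← h1] at h2

end sp

end Cfsg.Agent.H212.RC
end

-- part: H239/RC/BSim
section
/-!
# S3510-B, box BSIM: similitudes of the plus type form in dimension four (helper239)

A matrix `A` on `F² ⊗ F²` preserving the form `J ⊗ J` (the polarisation of the determinant of `2 × 2` matrices) up to a
scalar is `a ⊗ b` or `a ⊗ b` composed with the flip.
-/

set_option autoImplicit false

open scoped Matrix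

namespace Cfsg.Agent.H239.RC

section
variable {F : Type*} [Field F]

/-- the alternating form on `F²` -/
def om (u v : Fin 2 → F) : F := u 0 * v 1 - u 1 * v 0

theorem om_smul_left (k : F) {u u' v : Fin 2 → F} (h : ∀ i, u' i = k * u i) : om u' v = k * om u v := by
  simp only [om, h]; ring

theorem om_smul_right (k : F) {u v v' : Fin 2 → F} (h : ∀ i, v' i = k * v i) : om u v' = k * om u v := by
  simp only [om, h]; ring

theorem om_swap (u v : Fin 2 → F) : om u v = -om v u := by simp only [om]; ring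

/-- parallel vectors -/
theorem exists_par {u v w : Fin 2 → F} (hw : om u w ≠ 0) (h : om u v = 0) : ∃ k, ∀ i, v i = k * u i := by
  by_cases h0 : u 0 = 0
  · have h1 : u 1 ≠ 0 := by
      intro h1
      apply hw
      simp only [om, h0, h1]; ring
    refine ⟨v 1 / u 1, fun i => ?_⟩
    simp only [om] at h
    fin_cases i
    · have h2 : u 1 * v 0 = 0 := by rw [h0] at h; linear_combination -h
      have h3 : v 0 = 0 := (mul_eq_zero.1 h2).resolve_left h1
      simp [h0, h3]
    · change v 1 = v 1 / u 1 * u 1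
      rw [div_mul_cancel₀ _ h1]
  · refine ⟨v 0 / u 0, fun i => ?_⟩
    simp only [om] at h
    fin_cases i
    · change v 0 = v 0 / u 0 * u 0
      rw [div_mul_cancel₀ _ h0]
    · change v 1 = v 0 / u 0 * u 1
      rw [div_mul_eq_mul_div, eq_div_iff h0]
      linear_combination h

/-- matrices of rank at most one -/
theorem exists_rank_one {X : Fin 2 → Fin 2 → F} (h : X 0 0 * X 1 1 - X 0 1 * X 1 0 = 0) :
    ∃ u s : Fin 2 → F, ∀ i j, X i j = u i * s j := by
  by_cases h00 : X 0 0 = 0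
  · by_cases h01 : X 0 1 = 0
    · refine ⟨![0, 1], fun j => X 1 j, fun i j => ?_⟩
      fin_cases i
      · fin_cases j
        · simp [h00]
        · simp [h01]
      · simp
    · have h10 : X 1 0 = 0 := by
        rw [h00] at h
        have h1 : X 0 1 * X 1 0 = 0 := by linear_combination -h
        exact (mul_eq_zero.1 h1).resolve_left h01
      refine ⟨fun i => X i 1, ![0, 1], fun i j => ?_⟩
      fin_cases j
      · fin_cases i
        · simp [h00]
        · simp [h10]
      · simp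
  · refine ⟨fun i => X i 0, fun j => X 0 j / X 0 0, fun i j => ?_⟩
    change X i j = X i 0 * (X 0 j / X 0 0)
    rw [mul_div_assoc', eq_div_iff h00]
    fin_cases i <;> fin_cases j
    · rfl
    · change X 0 1 * X 0 0 = X 0 0 * X 0 1
      ring
    · rfl
    · change X 1 1 * X 0 0 = X 1 0 * X 0 1
      linear_combination h

/-- the core computation -/
theorem core {c : F} (hc : c ≠ 0) {u s u' s' v w v' w' : Fin 2 → F} (h : om u u' = 0)
    (hXW : om u v' * om s w' = c) (hYZ : om u' v * om s' w = -c) (hXZ : om u v * om s w = 0)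
    (hYW : om u' v' * om s' w' = 0) (hZW : om v v' * om w w' = 0) :
    ∃ a b : Matrix (Fin 2) (Fin 2) F, ∀ i j, u i * s j = a i 0 * b j 0 ∧ u' i * s' j = a i 0 * b j 1 ∧
      v i * w j = a i 1 * b j 0 ∧ v' i * w' j = a i 1 * b j 1 := by
  have n1 : om u v' ≠ 0 := fun h0 => hc (by rw [← hXW, h0, zero_mul])
  have n2 : om s w' ≠ 0 := fun h0 => hc (by rw [← hXW, h0, mul_zero])
  have n3 : om u' v ≠ 0 := fun h0 => hc (by rw [h0, zero_mul] at hYZ; linear_combination hYZ)
  have n4 : om s' w ≠ 0 := fun h0 => hc (by rw [h0, mul_zero] at hYZ; linear_combination hYZ)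
  obtain ⟨l, hl⟩ := exists_par n1 h
  have e1 : om u' v = l * om u v := om_smul_left l hl
  have hl0 : l ≠ 0 := fun h0 => n3 (by rw [e1, h0, zero_mul])
  have n5 : om u v ≠ 0 := fun h0 => n3 (by rw [e1, h0, mul_zero])
  have e2 : om s w = 0 := (mul_eq_zero.1 hXZ).resolve_left n5
  obtain ⟨m, hm⟩ := exists_par n2 e2
  have e3 : om u' v' = l * om u v' := om_smul_left l hl
  have n6 : om u' v' ≠ 0 := by rw [e3]; exact mul_ne_zero hl0 n1
  have e4 : om s' w' = 0 := (mul_eq_zero.1 hYW).resolve_left n6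
  obtain ⟨k, hk⟩ := exists_par n4 e4
  have e5 : om w w' = m * om s w' := om_smul_left m hm
  have e5' : om s' w = m * om s' s := om_smul_right m hm
  have hm0 : m ≠ 0 := fun h0 => n4 (by rw [e5', h0, zero_mul])
  have n7 : om w w' ≠ 0 := by rw [e5]; exact mul_ne_zero hm0 n2
  have e6 : om v v' = 0 := (mul_eq_zero.1 hZW).resolve_right n7
  have n8 : om v u' ≠ 0 := by rw [om_swap]; exact neg_ne_zero.2 n3
  obtain ⟨r, hr⟩ := exists_par n8 e6
  have e7 : r * k = l * m := by
    have a1 : om u v' = r * om u v := om_smul_right r hr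
    have a2 : om s w' = k * om s s' := om_smul_right k hk
    have a3 : om s' s = -om s s' := om_swap _ _
    have a4 : om s s' ≠ 0 := fun h0 => n2 (by rw [a2, h0, mul_zero])
    rw [a1, a2] at hXW
    rw [e1, e5', a3] at hYZ
    have a5 : (r * k - l * m) * (om u v * om s s') = 0 := by linear_combination hXW + hYZ
    exact sub_eq_zero.1 ((mul_eq_zero.1 a5).resolve_right (mul_ne_zero n5 a4))
  refine ⟨fun i => ![u i, m * v i], fun j => ![s j, l * s' j], fun i j => ⟨?_, ?_, ?_, ?_⟩⟩
  · rfl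
  · change u' i * s' j = u i * (l * s' j)
    rw [hl]; ring
  · change v i * w j = m * v i * s j
    rw [hm]; ring
  · change v' i * w' j = m * v i * (l * s' j)
    rw [hr, hk]; linear_combination (v i * s' j) * e7

end

/-- Similitudes of the plus type form in dimension four. -/
theorem bsim {F : Type} [Field F] (h2 : (2 : F) ≠ 0) (A : GL (Fin 2 × Fin 2) F) {c : F} (hc : c ≠ 0)
    (h : (A : Matrix (Fin 2 × Fin 2) (Fin 2 × Fin 2) F)ᵀ *
      Matrix.kroneckerMap (· * ·) (!![0, 1; -1, 0] : Matrix (Fin 2) (Fin 2) F) !![0, 1; -1, 0] *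
      (A : Matrix (Fin 2 × Fin 2) (Fin 2 × Fin 2) F) =
      c • Matrix.kroneckerMap (· * ·) (!![0, 1; -1, 0] : Matrix (Fin 2) (Fin 2) F) !![0, 1; -1, 0]) :
    ∃ a b : Matrix (Fin 2) (Fin 2) F,
      (A : Matrix (Fin 2 × Fin 2) (Fin 2 × Fin 2) F) = Matrix.kroneckerMap (· * ·) a b ∨
      (A : Matrix (Fin 2 × Fin 2) (Fin 2 × Fin 2) F) = (Matrix.kroneckerMap (· * ·) a b).submatrix id Prod.swap := by
  set M : Matrix (Fin 2 × Fin 2) (Fin 2 × Fin 2) F := (A : Matrix (Fin 2 × Fin 2) (Fin 2 × Fin 2) F) with hM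
  have hB : ∀ p q : Fin 2 × Fin 2, M (0, 0) p * M (1, 1) q - M (0, 1) p * M (1, 0) q - M (1, 0) p * M (0, 1) q +
      M (1, 1) p * M (0, 0) q = c * ((!![0, 1; -1, 0] : Matrix (Fin 2) (Fin 2) F) p.1 q.1 *
        (!![0, 1; -1, 0] : Matrix (Fin 2) (Fin 2) F) p.2 q.2) := by
    intro p q
    have h1 := congrFun (congrFun h p) q
    rw [Matrix.smul_apply, Matrix.kroneckerMap_apply, smul_eq_mul] at h1
    rw [← h1]
    simp only [Matrix.mul_apply, Matrix.transpose_apply, Matrix.kroneckerMap_apply, Fintype.sum_prod_type,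
      Fin.sum_univ_two, Matrix.of_apply, Matrix.cons_val', Matrix.cons_val_zero, Matrix.cons_val_one,
      Matrix.cons_val_fin_one]
    ring
  -- the columns
  have hdet : ∀ p : Fin 2 × Fin 2, M (0, 0) p * M (1, 1) p - M (0, 1) p * M (1, 0) p = 0 := by
    intro p
    have h1 := hB p p
    have h3 : (!![0, 1; -1, 0] : Matrix (Fin 2) (Fin 2) F) p.1 p.1 = 0 := by
      obtain ⟨i, j⟩ := p
      fin_cases i <;> rfl
    rw [h3, zero_mul, mul_zero] at h1
    have h4 : (2 : F) * (M (0, 0) p * M (1, 1) p - M (0, 1) p * M (1, 0) p) = 0 := by linear_combination h1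
    exact (mul_eq_zero.1 h4).resolve_left h2
  have hcol : ∀ p : Fin 2 × Fin 2, ∃ u s : Fin 2 → F, ∀ i j, M (i, j) p = u i * s j := fun p =>
    exists_rank_one (X := fun i j => M (i, j) p) (hdet p)
  choose u s hus using hcol
  have hom : ∀ p q : Fin 2 × Fin 2, om (u p) (u q) * om (s p) (s q) =
      c * ((!![0, 1; -1, 0] : Matrix (Fin 2) (Fin 2) F) p.1 q.1 *
        (!![0, 1; -1, 0] : Matrix (Fin 2) (Fin 2) F) p.2 q.2) := by
    intro p q
    rw [← hB p q]
    simp only [hus, om]
    ring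
  have e1 : om (u (0, 0)) (u (0, 1)) * om (s (0, 0)) (s (0, 1)) = 0 := by rw [hom]; simp
  have e2 : om (u (0, 0)) (u (1, 0)) * om (s (0, 0)) (s (1, 0)) = 0 := by rw [hom]; simp
  have e3 : om (u (0, 1)) (u (1, 1)) * om (s (0, 1)) (s (1, 1)) = 0 := by rw [hom]; simp
  have e4 : om (u (1, 0)) (u (1, 1)) * om (s (1, 0)) (s (1, 1)) = 0 := by rw [hom]; simp
  have e5 : om (u (0, 0)) (u (1, 1)) * om (s (0, 0)) (s (1, 1)) = c := by rw [hom]; simp
  have e6 : om (u (0, 1)) (u (1, 0)) * om (s (0, 1)) (s (1, 0)) = -c := by rw [hom]; simp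
  rcases mul_eq_zero.1 e1 with h0 | h0
  · obtain ⟨a, b, hab⟩ := core hc h0 e5 e6 e2 e3 e4
    refine ⟨a, b, Or.inl ?_⟩
    ext ⟨i, j⟩ ⟨k, l⟩
    rw [Matrix.kroneckerMap_apply, hus]
    obtain ⟨h1, h2, h3, h4⟩ := hab i j
    fin_cases k <;> fin_cases l
    · exact h1
    · exact h2
    · exact h3
    · exact h4
  · obtain ⟨a, b, hab⟩ := core (u := s (0, 0)) (s := u (0, 0)) (u' := s (0, 1)) (s' := u (0, 1)) (v := s (1, 0))
      (w := u (1, 0)) (v' := s (1, 1)) (w' := u (1, 1)) hc h0 (by rw [mul_comm, e5]) (by rw [mul_comm, e6])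
      (by rw [mul_comm, e2]) (by rw [mul_comm, e3]) (by rw [mul_comm, e4])
    refine ⟨b, a, Or.inr ?_⟩
    ext ⟨i, j⟩ ⟨k, l⟩
    rw [Matrix.submatrix_apply, Matrix.kroneckerMap_apply, hus]
    obtain ⟨h1, h2, h3, h4⟩ := hab j i
    change u (k, l) i * s (k, l) j = b i l * a j k
    fin_cases k <;> fin_cases l
    · rw [mul_comm (b i _), mul_comm (u _ _)]; exact h1
    · rw [mul_comm (b i _), mul_comm (u _ _)]; exact h2
    · rw [mul_comm (b i _), mul_comm (u _ _)]; exact h3
    · rw [mul_comm (b i _), mul_comm (u _ _)]; exact h4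

end Cfsg.Agent.H239.RC
end

-- part: H815/RC/Star
section
/-!
# S3510 part B, box BO4: two commuting subgroups (helper815)

`t` centralises two commuting quasisimple subgroups `M₁ = f₁(K)`, `M₂ = f₂(K)`; every point of the
orbit is fixed by `t`, by `M₁` or by `M₂`.
-/

set_option autoImplicit false
open MulAction

namespace Cfsg.Agent.H815.RC

open Cfsg.Agent.H106.RC Cfsg.Agent.H384.RC

variable {S : Type*} [Group S]

/-- the two-step M-rule -/
theorem star {K : Type*} [Group K] {κ : Type} [Finite κ]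
    {t : MulAut S} {x : κ → MulAut S} {r : κ → ℕ} (hF : Fam t x r) (htt : t * t = 1)
    {H : Subgroup (MulAut S)} (hcov : CovH t x H)
    (hK : IsSimpleGroup (K ⧸ Subgroup.center K)) (hKn : ¬ IsMulCommutative (K ⧸ Subgroup.center K))
    (hRC : RCo (K ⧸ Subgroup.center K))
    (f₁ f₂ : K →* MulAut S) (hf₁ : ∀ k, f₁ k = 1 ↔ k ∈ Subgroup.center K)
    (hf₂ : ∀ k, f₂ k = 1 ↔ k ∈ Subgroup.center K)
    (hi₁ : ∀ k, f₁ k ∈ inn S) (hi₂ : ∀ k, f₂ k ∈ inn S)
    (ht₁ : ∀ k, t * f₁ k = f₁ k * t) (ht₂ : ∀ k, t * f₂ k = f₂ k * t)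
    (h₁₂ : ∀ k l, f₁ k * f₂ l = f₂ l * f₁ k)
    (hn₁ : ∀ i k, ∃ k', x i * f₁ k * (x i)⁻¹ = f₁ k')
    (hn₂ : ∀ i k, ∃ k', x i * f₂ k * (x i)⁻¹ = f₂ k')
    (hc : ∀ i, (∀ k, x i * f₁ k = f₁ k * x i) → (∀ k, x i * f₂ k = f₂ k * x i) → x i = 1) :
    ∀ n ∈ inn S, t • ((n : MulAut S) : MulAut S ⧸ H) = (n : MulAut S) ∨
      (∀ k, f₁ k • ((n : MulAut S) : MulAut S ⧸ H) = (n : MulAut S)) ∨
      (∀ k, f₂ k • ((n : MulAut S) : MulAut S ⧸ H) = (n : MulAut S)) := by
  intro n hn
  by_contra hcon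
  push Not at hcon
  obtain ⟨htn, ⟨k₁, hk₁⟩, ⟨k₂, hk₂⟩⟩ := hcon
  obtain ⟨π₁, hπ₁⟩ := exists_pi f₁ hf₁
  obtain ⟨π₂, hπ₂⟩ := exists_pi f₂ hf₂
  have hnorm₁ : ∀ i, x i ∈ Subgroup.normalizer (f₁.range : Set (MulAut S)) := fun i =>
    mem_norm_range f₁ (x i) (hF.pr i).pos (hF.pow i) (hn₁ i)
  have hnorm₂ : ∀ i, x i ∈ Subgroup.normalizer (f₂.range : Set (MulAut S)) := fun i =>
    mem_norm_range f₂ (x i) (hF.pr i).pos (hF.pow i) (hn₂ i)
  have hnt₁ : t ∈ Subgroup.normalizer (f₁.range : Set (MulAut S)) :=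
    mem_norm_range f₁ t two_pos (by rw [pow_two, htt]) fun k => ⟨k, by
      rw [ht₁, mul_inv_cancel_right]⟩
  -- the family with `t`
  have hr' : ∀ i, ((fun o : Option κ => o.elim 2 r) i).Prime := by
    rintro (_ | i)
    · exact Nat.prime_two
    · exact hF.pr i
  have hinj' : Function.Injective (fun o : Option κ => o.elim 2 r) := by
    rintro (_ | i) (_ | j) h
    · rfl
    · exact absurd h.symm (hF.ne2 j)
    · exact absurd h (hF.ne2 i)
    · exact congrArg some (hF.inj h)
  have hx' : ∀ i, (fun o : Option κ => o.elim t x) i ^ (fun o : Option κ => o.elim 2 r) i = 1 := by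
    rintro (_ | i)
    · show t ^ 2 = 1
      rw [pow_two, htt]
    · exact hF.pow i
  have hc' : ∀ i j : Option κ, (fun o : Option κ => o.elim t x) i * (fun o : Option κ => o.elim t x) j =
      (fun o : Option κ => o.elim t x) j * (fun o : Option κ => o.elim t x) i := by
    rintro (_ | i) (_ | j)
    · rfl
    · exact hF.commt j
    · exact (hF.commt i).symm
    · exact hF.comm i j
  have hnorm' : ∀ i, (fun o : Option κ => o.elim t x) i ∈
      Subgroup.normalizer (f₁.range : Set (MulAut S)) := by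
    rintro (_ | i)
    · exact hnt₁
    · exact hnorm₁ i
  -- every point of `M₂ n` is fixed by some `x j` which centralises `M₁`
  have key : ∀ k, ∃ j, (∀ l, x j * f₁ l = f₁ l * x j) ∧
      x j • f₂ k • ((n : MulAut S) : MulAut S ⧸ H) = f₂ k • ((n : MulAut S) : MulAut S ⧸ H) := by
    intro k
    have h1 := mrule hK hKn (fun o : Option κ => o.elim t x) (fun o : Option κ => o.elim 2 r)
      hr' hinj' hx' hc' f₁.range (comm_eq_of_simple hK hKn _ π₁) π₁.toMonoidHom π₁.surjective
      (by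
        intro z hz
        have : z = 1 := π₁.injective (by rw [map_one]; exact hz)
        rw [this]
        exact Subgroup.one_mem _)
      hnorm' (fun g hg α hα => hRC α (odd_ind hF f₁.range π₁.toMonoidHom π₁.surjective
        (by rintro _ ⟨k, rfl⟩; exact ht₁ k)
        (fun i m hm => (Subgroup.mem_normalizer_iff.1 (hnorm₁ i) m).1 hm) g hg α hα))
      (f₂ k • ((n : MulAut S) : MulAut S ⧸ H)) (by
        rintro _ ⟨l, rfl⟩
        have e : f₁ l • f₂ k • ((n : MulAut S) : MulAut S ⧸ H) =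
          ((f₁ l * (f₂ k * n) : MulAut S) : MulAut S ⧸ H) := rfl
        rw [e]
        rcases hcov.pt (f₁ l * (f₂ k * n))
          ((inn S).mul_mem (hi₁ l) ((inn S).mul_mem (hi₂ k) hn)) with h | ⟨i, h⟩
        · exact ⟨none, h⟩
        · exact ⟨some i, h⟩)
    rcases h1 with h1 | ⟨j, h1, h2⟩
    · exfalso
      have h3 : f₁ k₁ • f₂ k • ((n : MulAut S) : MulAut S ⧸ H) =
          f₂ k • ((n : MulAut S) : MulAut S ⧸ H) := h1 ⟨k₁, rfl⟩
      rw [← mul_smul, h₁₂, mul_smul] at h3
      exact hk₁ (smul_left_cancel _ h3)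
    · rcases j with _ | j
      · exfalso
        have h3 : t • f₂ k • ((n : MulAut S) : MulAut S ⧸ H) =
          f₂ k • ((n : MulAut S) : MulAut S ⧸ H) := h2
        rw [← mul_smul, ht₂, mul_smul] at h3
        exact htn (smul_left_cancel _ h3)
      · exact ⟨j, fun l => h1 _ ⟨l, rfl⟩, h2⟩
  -- the M-rule for `M₂` and the subfamily
  let κ' := {j : κ // ∀ l, x j * f₁ l = f₁ l * x j}
  have h1 := mrule hK hKn (fun j : κ' => x j.1) (fun j : κ' => r j.1)
    (fun j => hF.pr j.1) (fun i j h => Subtype.ext (hF.inj h)) (fun j => hF.pow j.1)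
    (fun i j => hF.comm i.1 j.1) f₂.range (comm_eq_of_simple hK hKn _ π₂) π₂.toMonoidHom
    π₂.surjective
    (by
      intro z hz
      have : z = 1 := π₂.injective (by rw [map_one]; exact hz)
      rw [this]
      exact Subgroup.one_mem _)
    (fun j => hnorm₂ j.1) (fun g hg α hα => hRC α (odd_ind hF f₂.range π₂.toMonoidHom π₂.surjective
        (by rintro _ ⟨k, rfl⟩; exact ht₂ k)
        (fun i m hm => (Subgroup.mem_normalizer_iff.1 (hnorm₂ i) m).1 hm) g (by
          refine Subgroup.closure_mono ?_ hg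
          rintro _ ⟨j, rfl⟩
          exact ⟨some j.1, rfl⟩) α hα))
    ((n : MulAut S) : MulAut S ⧸ H) (by
      rintro _ ⟨k, rfl⟩
      obtain ⟨j, hj, hj'⟩ := key k
      exact ⟨⟨j, hj⟩, hj'⟩)
  rcases h1 with h1 | ⟨j, h1, h2⟩
  · exact hk₂ (h1 ⟨k₂, rfl⟩)
  · exact hF.ne1 j.1 (hc j.1 j.2 fun k => h1 _ ⟨k, rfl⟩)

end Cfsg.Agent.H815.RC
end

-- part: H815/RC/Two
section
/-!
# S3510 part B, box BO4: additive subgroups of `M₂(F)` (helper815)
-/

set_option autoImplicit false

namespace Cfsg.Agent.H815.RC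

open Matrix

variable {F : Type*} [Field F]

/-- the Weyl element -/
def wSL (F : Type*) [Field F] : _root_.Matrix.SpecialLinearGroup (Fin 2) F :=
  ⟨!![0, 1; -1, 0], by rw [Matrix.det_fin_two_of]; ring⟩

/-- upper unipotent -/
def uSL (s : F) : _root_.Matrix.SpecialLinearGroup (Fin 2) F :=
  ⟨!![1, s; 0, 1], by rw [Matrix.det_fin_two_of]; ring⟩

/-- lower unipotent -/
def lSL (s : F) : _root_.Matrix.SpecialLinearGroup (Fin 2) F :=
  ⟨!![1, 0; s, 1], by rw [Matrix.det_fin_two_of]; ring⟩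

theorem adj_two (a b c d : F) : adjugate !![a, b; c, d] = !![d, -b; -c, a] := by
  rw [Matrix.adjugate_fin_two_of]

/-- conjugation action -/
def cjm (b : _root_.Matrix.SpecialLinearGroup (Fin 2) F) (X : Matrix (Fin 2) (Fin 2) F) :
    Matrix (Fin 2) (Fin 2) F := b.1 * X * adjugate b.1

theorem cjm_u (s a b c d : F) : cjm (uSL s) !![a, b; c, d] =
    !![a + s * c, b + s * d - s * (a + s * c); c, d - s * c] := by
  rw [cjm, uSL, adj_two]
  simp only [Matrix.mul_fin_two]
  ext i j
  (revert i j; simp only [_root_.Fin.forall_fin_succ, _root_.one_mul, _root_.mul_one, _root_.neg_zero, _root_.MulZeroClass.mul_zero, _root_.add_zero, _root_.mul_neg, _root_.MulZeroClass.zero_mul, _root_.zero_add, _root_.Matrix.of_apply, _root_.Matrix.cons_val', _root_.Matrix.cons_val_fin_one, Fin.isValue, _root_.Matrix.cons_val_zero, _root_.Matrix.cons_val_succ, _root_.forall_const, _root_.true_and]) <;> (repeat' with_reducible apply And.intro) <;> ring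

theorem cjm_l (s a b c d : F) : cjm (lSL s) !![a, b; c, d] =
    !![a - s * b, b; s * a + c - s * (s * b + d), s * b + d] := by
  rw [cjm, lSL, adj_two]
  simp only [Matrix.mul_fin_two]
  ext i j
  (revert i j; simp only [_root_.Fin.forall_fin_succ, _root_.one_mul, _root_.MulZeroClass.zero_mul, _root_.add_zero, _root_.mul_one, _root_.mul_neg, _root_.neg_zero, _root_.MulZeroClass.mul_zero, _root_.zero_add, _root_.Matrix.of_apply, _root_.Matrix.cons_val', _root_.Matrix.cons_val_fin_one, Fin.isValue, _root_.Matrix.cons_val_zero, _root_.Matrix.cons_val_succ, _root_.implies_true, _root_.and_true, _root_.forall_const]) <;> (repeat' with_reducible apply And.intro) <;> ring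

theorem cjm_w (a b c d : F) : cjm (wSL F) !![a, b; c, d] = !![d, -c; -b, a] := by
  rw [cjm, wSL, adj_two]
  simp only [Matrix.mul_fin_two]
  ext i j
  (revert i j; simp [_root_.Fin.forall_fin_succ])

theorem exists_of_two (X : Matrix (Fin 2) (Fin 2) F) : ∃ a b c d, X = !![a, b; c, d] :=
  ⟨_, _, _, _, Matrix.eta_fin_two X⟩

/-- `sl₂` is irreducible over the prime field -/
theorem irr (h2 : (2 : F) ≠ 0) (U : AddSubgroup (Matrix (Fin 2) (Fin 2) F))
    (hinv : ∀ b : _root_.Matrix.SpecialLinearGroup (Fin 2) F, ∀ X ∈ U, cjm b X ∈ U) {a₀ b₀ c₀ : F}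
    (hX : !![a₀, b₀; c₀, -a₀] ∈ U) (h0 : ¬ (a₀ = 0 ∧ b₀ = 0 ∧ c₀ = 0)) (a b c : F) :
    !![a, b; c, -a] ∈ U := by
  -- commutators with upper unipotents
  have hD : ∀ s a b c : F, !![a, b; c, -a] ∈ U → !![s * c, -(2 * s * a) - s ^ 2 * c; 0, -(s * c)] ∈ U := by
    intro s a b c h
    have h1 := U.sub_mem (hinv (uSL s) _ h) h
    rw [cjm_u] at h1
    convert h1 using 1
    ext i j
    (revert i j; simp only [_root_.Fin.forall_fin_succ, _root_.Matrix.of_apply, _root_.Matrix.cons_val', _root_.Matrix.cons_val_fin_one, _root_.mul_neg, _root_.Matrix.sub_apply, Fin.isValue, _root_.Matrix.cons_val_zero, _root_.Matrix.cons_val_succ, _root_.forall_const, _root_.add_sub_cancel_left, _root_.true_and, _root_.sub_self, _root_.sub_neg_eq_add]) <;> (repeat' with_reducible apply And.intro) <;> ring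
  -- an upper triangular element with `a ≠ 0`
  have h1 : ∃ a b : F, a ≠ 0 ∧ !![a, b; 0, -a] ∈ U := by
    have hc : ∀ a b c : F, c ≠ 0 → !![a, b; c, -a] ∈ U → ∃ a b : F, a ≠ 0 ∧ !![a, b; 0, -a] ∈ U := by
      intro a b c hc h
      have := hD 1 a b c h
      refine ⟨1 * c, _, by rwa [one_mul], this⟩
    by_cases hc0 : c₀ = 0
    · by_cases ha0 : a₀ = 0
      · have hb0 : b₀ ≠ 0 := fun h => h0 ⟨ha0, h, hc0⟩
        have h3 := hinv (wSL F) _ hX
        rw [cjm_w] at h3
        refine hc a₀ (-c₀) (-b₀) (neg_ne_zero.2 hb0) ?_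
        convert h3 using 1
        ext i j
        (revert i j; simp [ha0, _root_.Fin.forall_fin_succ])
      · exact ⟨a₀, b₀, ha0, by rwa [hc0] at hX⟩
    · exact hc _ _ _ hc0 hX
  obtain ⟨a₁, b₁, ha₁, h3⟩ := h1
  have h4 : ∀ β : F, !![0, β; 0, 0] ∈ U := by
    intro β
    have := hD (-β / (2 * a₁)) _ _ _ h3
    convert this using 1
    ext i j
    (revert i j; simp only [_root_.Fin.forall_fin_succ, _root_.Matrix.of_apply, _root_.Matrix.cons_val', _root_.Matrix.cons_val_fin_one, _root_.MulZeroClass.mul_zero, _root_.sub_zero, _root_.neg_zero, Fin.isValue, _root_.Matrix.cons_val_zero, _root_.Matrix.cons_val_succ, _root_.forall_const, _root_.implies_true, _root_.and_true, _root_.true_and]) <;> (repeat' with_reducible apply And.intro)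
    field_simp
  have h5 : ∀ γ : F, !![0, 0; γ, 0] ∈ U := by
    intro γ
    have := hinv (wSL F) _ (h4 (-γ))
    rw [cjm_w] at this
    convert this using 1
    ext i j
    (revert i j; simp [_root_.Fin.forall_fin_succ])
  have h6 : ∀ α : F, !![α, 0; 0, -α] ∈ U := by
    intro α
    have h7 := hD 1 0 0 α (by simpa using h5 α)
    have h8 := U.add_mem h7 (h4 α)
    convert h8 using 1
    ext i j
    (revert i j; simp only [_root_.Fin.forall_fin_succ, _root_.Matrix.of_apply, _root_.Matrix.cons_val', _root_.Matrix.cons_val_fin_one, _root_.one_mul, _root_.mul_one, _root_.MulZeroClass.mul_zero, _root_.neg_zero, _root_.one_pow, _root_.zero_sub, _root_.Matrix.add_apply, Fin.isValue, _root_.Matrix.cons_val_zero, _root_.left_eq_add, _root_.Matrix.cons_val_succ, _root_.forall_const, _root_.neg_add_cancel, _root_.and_self, _root_.add_zero, _root_.implies_true])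
  have h7 := U.add_mem (U.add_mem (h6 a) (h4 b)) (h5 c)
  convert h7 using 1
  ext i j
  (revert i j; simp only [_root_.Fin.forall_fin_succ, _root_.Matrix.of_apply, _root_.Matrix.cons_val', _root_.Matrix.cons_val_fin_one, _root_.Matrix.of_add_of, _root_.Matrix.add_cons, _root_.Matrix.head_cons, _root_.add_zero, _root_.Matrix.tail_cons, _root_.zero_add, _root_.Matrix.empty_add_empty, _root_.Matrix.add_apply, Fin.isValue, _root_.Matrix.cons_val_zero, _root_.Matrix.cons_val_succ, _root_.left_eq_add, _root_.forall_const, _root_.and_self, _root_.implies_true])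

/-- `SL₂`-invariant additive subgroups of `M₂` -/
theorem inv_two (h2 : (2 : F) ≠ 0) (V : AddSubgroup (Matrix (Fin 2) (Fin 2) F))
    (hinv : ∀ b : _root_.Matrix.SpecialLinearGroup (Fin 2) F, ∀ X ∈ V, cjm b X ∈ V) :
    (∀ a b c : F, !![a, b; c, -a] ∈ V) ∨ (∀ X ∈ V, ∃ c : F, X = c • 1) := by
  by_cases h : ∀ X ∈ V, ∃ c : F, X = c • 1
  · exact Or.inr h
  left
  push Not at h
  obtain ⟨X, hX, hX'⟩ := h
  obtain ⟨a, b, c, d, rfl⟩ := exists_of_two X
  -- commutator with an upper or lower unipotent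
  have h1 := V.sub_mem (hinv (uSL 1) _ hX) hX
  have h3 := V.sub_mem (hinv (lSL 1) _ hX) hX
  rw [cjm_u] at h1
  rw [cjm_l] at h3
  have h1' : !![c, d - a - c; 0, -c] ∈ V := by
    convert h1 using 1
    ext i j
    (revert i j; simp only [_root_.Fin.forall_fin_succ, _root_.Matrix.of_apply, _root_.Matrix.cons_val', _root_.Matrix.cons_val_fin_one, _root_.one_mul, _root_.Matrix.sub_apply, Fin.isValue, _root_.Matrix.cons_val_zero, _root_.Matrix.cons_val_succ, _root_.forall_const, _root_.add_sub_cancel_left, _root_.true_and, _root_.sub_self, _root_.sub_sub_cancel_left, _root_.and_self, _root_.implies_true, _root_.and_true]) <;> (repeat' with_reducible apply And.intro) <;> ring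
  have h3' : !![-b, 0; a - b - d, b] ∈ V := by
    convert h3 using 1
    ext i j
    (revert i j; simp only [_root_.Fin.forall_fin_succ, _root_.Matrix.of_apply, _root_.Matrix.cons_val', _root_.Matrix.cons_val_fin_one, _root_.one_mul, _root_.Matrix.sub_apply, Fin.isValue, _root_.Matrix.cons_val_zero, _root_.Matrix.cons_val_succ, _root_.forall_const, _root_.sub_sub_cancel_left, _root_.sub_self, _root_.and_self, _root_.add_sub_cancel_right, _root_.and_true, _root_.true_and]) <;> (repeat' with_reducible apply And.intro) <;> ring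
  by_cases hz : c = 0 ∧ d - a - c = 0
  · have hb : b ≠ 0 := by
      intro hb
      apply hX' a
      ext i j
      (revert i j; simp only [hb, hz.1, _root_.Fin.forall_fin_succ, _root_.Matrix.of_apply, _root_.Matrix.cons_val', _root_.Matrix.cons_val_fin_one, _root_.Matrix.smul_apply, _root_.smul_eq_mul, Fin.isValue, _root_.Matrix.cons_val_zero, _root_.Matrix.cons_val_succ, _root_.IsEmpty.forall_iff, _root_.Matrix.one_apply_eq, _root_.mul_one, Nat.reduceAdd, _root_.Fin.succ_zero_eq_one, _root_.ne_eq, _root_.zero_ne_one, _root_.not_false_eq_true, _root_.Matrix.one_apply_ne, _root_.MulZeroClass.mul_zero, _root_.Fin.succ_ne_zero, _root_.and_true, _root_.true_and]) <;> (repeat' with_reducible apply And.intro)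
      have := hz.2
      rw [hz.1] at this
      linear_combination this
    intro a' b' c'
    refine irr h2 V hinv (a₀ := -b) (b₀ := 0) (c₀ := a - b - d) (by simpa using h3') ?_ a' b' c'
    rintro ⟨h, -, -⟩
    exact hb (neg_eq_zero.1 h)
  · intro a' b' c'
    refine irr h2 V hinv (a₀ := c) (b₀ := d - a - c) (c₀ := 0) h1' ?_ a' b' c'
    rintro ⟨h, h', -⟩
    exact hz ⟨h, h'⟩

/-- the trichotomy forces `V = 0` or `V = M₂` -/
theorem zero_or_all (h2 : (2 : F) ≠ 0) (V : AddSubgroup (Matrix (Fin 2) (Fin 2) F))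
    (h : ∀ g : _root_.Matrix.SpecialLinearGroup (Fin 2) F, (∀ c : F, c • g.1 ∈ V) ∨
      (∀ a b c : F, !![a, b; c, -a] * g.1 ∈ V) ∨ (∀ X ∈ V, ∃ c : F, X = c • g.1)) :
    (∀ X ∈ V, X = 0) ∨ (∀ X, X ∈ V) := by
  by_cases h0 : ∀ X ∈ V, X = 0
  · exact Or.inl h0
  right
  by_contra hall
  push Not at h0
  obtain ⟨v, hv, hv0⟩ := h0
  -- no `sl₂ g` in `V`
  have hno : ∀ g : _root_.Matrix.SpecialLinearGroup (Fin 2) F, ¬ ∀ a b c : F, !![a, b; c, -a] * g.1 ∈ V := by
    intro g hg
    have e : (uSL (1 : F) * g).1 = (uSL (1 : F)).1 * g.1 := rfl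
    have hg1 : adjugate g.1 * g.1 = 1 := by
      rw [Matrix.adjugate_mul, g.2, one_smul]
    have hg2 : g.1 * adjugate g.1 = 1 := by
      rw [Matrix.mul_adjugate, g.2, one_smul]
    rcases h (uSL 1 * g) with h1 | h1 | h1
    · apply hall
      intro Y
      obtain ⟨a, b, c, d, hY⟩ := exists_of_two (Y * adjugate g.1)
      have h3 := V.add_mem (hg (a - (a + d) / 2) (b - (a + d) / 2) c) (h1 ((a + d) / 2))
      convert h3 using 1
      have h4 : Y = Y * adjugate g.1 * g.1 := by rw [Matrix.mul_assoc, hg1, Matrix.mul_one]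
      rw [h4, hY, e, ← Matrix.smul_mul, ← Matrix.add_mul]
      congr 1
      ext i j
      (revert i j; simp only [uSL, _root_.Fin.forall_fin_succ, _root_.Matrix.of_apply, _root_.Matrix.cons_val', _root_.Matrix.cons_val_fin_one, _root_.neg_sub, _root_.Matrix.smul_of, _root_.Matrix.smul_cons, _root_.smul_eq_mul, _root_.mul_one, _root_.Matrix.smul_empty, _root_.MulZeroClass.mul_zero, _root_.Matrix.add_apply, Fin.isValue, _root_.Matrix.cons_val_zero, _root_.Matrix.cons_val_succ, _root_.forall_const, _root_.sub_add_cancel, _root_.add_zero, _root_.and_true, _root_.true_and]) <;> (repeat' with_reducible apply And.intro)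
      field_simp
      ring
    · apply hall
      intro Y
      obtain ⟨a, b, c, d, hY⟩ := exists_of_two (Y * adjugate g.1)
      have h3 := V.add_mem (hg a b (c - (a + d))) (h1 0 0 (a + d))
      convert h3 using 1
      have h4 : Y = Y * adjugate g.1 * g.1 := by rw [Matrix.mul_assoc, hg1, Matrix.mul_one]
      rw [h4, hY, e, ← Matrix.mul_assoc, ← Matrix.add_mul]
      congr 1
      simp only [uSL, Matrix.mul_fin_two]
      ext i j
      (revert i j; simp only [_root_.Fin.forall_fin_succ, _root_.Matrix.of_apply, _root_.Matrix.cons_val', _root_.Matrix.cons_val_fin_one, _root_.mul_one, _root_.MulZeroClass.mul_zero, _root_.add_zero, _root_.neg_zero, _root_.Matrix.add_apply, Fin.isValue, _root_.Matrix.cons_val_zero, _root_.Matrix.cons_val_succ, _root_.forall_const, _root_.and_self, _root_.sub_add_cancel, _root_.neg_add_cancel_left, _root_.implies_true])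
    · obtain ⟨c, hc⟩ := h1 _ (hg 0 1 0)
      rw [e, ← Matrix.smul_mul] at hc
      have h3 := congrArg (fun Z => Z * adjugate g.1) hc
      simp only [Matrix.mul_assoc, hg2, Matrix.mul_one] at h3
      have h4 := congrFun (congrFun h3 0) 0
      have h5 := congrFun (congrFun h3 0) 1
      simp [uSL] at h4 h5
      rw [← h4] at h5
      exact one_ne_zero h5
  have h' : ∀ g : _root_.Matrix.SpecialLinearGroup (Fin 2) F, (∀ c : F, c • g.1 ∈ V) ∨
      (∀ X ∈ V, ∃ c : F, X = c • g.1) := by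
    intro g
    rcases h g with h1 | h1 | h1
    · exact Or.inl h1
    · exact absurd h1 (hno g)
    · exact Or.inr h1
  have h1 : ∀ c : F, c • (1 : Matrix (Fin 2) (Fin 2) F) ∈ V := by
    rcases h' 1 with h1 | h1
    · exact h1
    · exfalso
      obtain ⟨c, hc⟩ := h1 v hv
      rcases h' (wSL F) with h3 | h3
      · obtain ⟨c', hc'⟩ := h1 _ (h3 1)
        have := congrFun (congrFun hc' 0) 1
        simp [wSL] at this
      · obtain ⟨c', hc'⟩ := h3 v hv
        apply hv0
        rw [hc] at hc'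
        have := congrFun (congrFun hc' 0) 0
        simp [wSL] at this
        rw [hc, this, zero_smul]
  have h3 : ∀ g : _root_.Matrix.SpecialLinearGroup (Fin 2) F, (g.1 0 1 ≠ 0 ∨ g.1 1 0 ≠ 0) →
      ∀ c : F, c • g.1 ∈ V := by
    intro g hg
    rcases h' g with h4 | h4
    · exact h4
    · exfalso
      obtain ⟨c, hc⟩ := h4 _ (h1 1)
      have e0 := congrFun (congrFun hc 0) 0
      have e1 := congrFun (congrFun hc 0) 1
      have e2 := congrFun (congrFun hc 1) 0
      simp only [_root_.Fin.isValue, _root_.Matrix.smul_apply, _root_.Matrix.one_apply_eq, _root_.smul_eq_mul, _root_.mul_one, _root_.ne_eq, _root_.zero_ne_one, _root_.not_false_eq_true, _root_.Matrix.one_apply_ne, _root_.MulZeroClass.mul_zero, _root_.zero_eq_mul, _root_.one_ne_zero] at e0 e1 e2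
      have hc0 : c ≠ 0 := by
        rintro rfl
        simp at e0
      rcases hg with hg | hg
      · rcases e1 with e1 | e1
        · exact hc0 e1
        · exact hg e1
      · rcases e2 with e2 | e2
        · exact hc0 e2
        · exact hg e2
  have hb : ∀ s : F, !![0, s; 0, 0] ∈ V := by
    intro s
    have := V.sub_mem (h3 (uSL 1) (Or.inl (by simp [uSL])) s) (h1 s)
    convert this using 1
    ext i j
    (revert i j; simp only [uSL, _root_.Fin.forall_fin_succ, _root_.Matrix.of_apply, _root_.Matrix.cons_val', _root_.Matrix.cons_val_fin_one, _root_.Matrix.smul_of, _root_.Matrix.smul_cons, _root_.smul_eq_mul, _root_.mul_one, _root_.Matrix.smul_empty, _root_.MulZeroClass.mul_zero, _root_.Matrix.sub_apply, _root_.Matrix.smul_apply, Fin.isValue, _root_.Matrix.cons_val_zero, _root_.Matrix.cons_val_succ, _root_.IsEmpty.forall_iff, _root_.and_true, _root_.Matrix.one_apply_eq, _root_.sub_self, Nat.reduceAdd, _root_.Fin.succ_zero_eq_one, _root_.ne_eq, _root_.zero_ne_one,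 _root_.not_false_eq_true, _root_.Matrix.one_apply_ne, _root_.sub_zero, _root_.and_self, _root_.Fin.succ_ne_zero, _root_.true_and])
  have hc : ∀ s : F, !![0, 0; s, 0] ∈ V := by
    intro s
    have := V.sub_mem (h3 (lSL 1) (Or.inr (by simp [lSL])) s) (h1 s)
    convert this using 1
    ext i j
    (revert i j; simp only [lSL, _root_.Fin.forall_fin_succ, _root_.Matrix.of_apply, _root_.Matrix.cons_val', _root_.Matrix.cons_val_fin_one, _root_.Matrix.smul_of, _root_.Matrix.smul_cons, _root_.smul_eq_mul, _root_.mul_one, _root_.MulZeroClass.mul_zero, _root_.Matrix.smul_empty, _root_.Matrix.sub_apply, _root_.Matrix.smul_apply, Fin.isValue, _root_.Matrix.cons_val_zero, _root_.Matrix.cons_val_succ, _root_.IsEmpty.forall_iff, _root_.and_true, _root_.Matrix.one_apply_eq, _root_.sub_self, Nat.reduceAdd, _root_.Fin.succ_zero_eq_one, _root_.ne_eq, _root_.zero_ne_one, _root_.not_false_eq_true, _root_.Matrix.one_apply_ne, _root_.and_self, _root_.Fin.succ_ne_zero, _root_.sub_zero,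 _root_.true_and])
  have hd : ∀ s : F, !![0, 0; 0, s] ∈ V := by
    intro s
    have h4 := h3 ⟨!![1, 1; 1, 2], by rw [Matrix.det_fin_two_of]; ring⟩ (Or.inl (by simp)) s
    have := V.sub_mem (V.sub_mem (V.sub_mem h4 (h1 s)) (hb s)) (hc s)
    convert this using 1
    ext i j
    (revert i j; simp only [_root_.Fin.forall_fin_succ, _root_.Matrix.of_apply, _root_.Matrix.cons_val', _root_.Matrix.cons_val_fin_one, _root_.Matrix.smul_of, _root_.Matrix.smul_cons, _root_.smul_eq_mul, _root_.mul_one, _root_.Matrix.smul_empty, _root_.Matrix.sub_apply, _root_.Matrix.smul_apply, Fin.isValue, _root_.Matrix.cons_val_zero, _root_.Matrix.cons_val_succ, _root_.IsEmpty.forall_iff, _root_.Matrix.one_apply_eq, _root_.sub_self, Nat.reduceAdd, _root_.Fin.succ_zero_eq_one, _root_.ne_eq, _root_.zero_ne_one, _root_.not_false_eq_true, _root_.Matrix.one_apply_ne, _root_.MulZeroClass.mul_zero, _root_.sub_zero, _root_.Fin.succ_ne_zero, _root_.and_true, _root_.true_and]) <;> (repeat' with_reducible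 apply And.intro)
    ring
  apply hall
  intro Y
  obtain ⟨a, b, c, d, rfl⟩ := exists_of_two Y
  have := V.add_mem (V.add_mem (V.add_mem (h1 a) (hb b)) (hc c)) (hd (d - a))
  convert this using 1
  ext i j
  (revert i j; simp only [_root_.Fin.forall_fin_succ, _root_.Matrix.of_apply, _root_.Matrix.cons_val', _root_.Matrix.cons_val_fin_one, _root_.Matrix.add_apply, _root_.Matrix.smul_apply, _root_.smul_eq_mul, Fin.isValue, _root_.Matrix.cons_val_zero, _root_.Matrix.cons_val_succ, _root_.IsEmpty.forall_iff, _root_.and_true, _root_.Matrix.one_apply_eq, _root_.mul_one, _root_.add_zero, Nat.reduceAdd, _root_.Fin.succ_zero_eq_one, _root_.ne_eq, _root_.zero_ne_one, _root_.not_false_eq_true, _root_.Matrix.one_apply_ne, _root_.MulZeroClass.mul_zero, _root_.zero_add, _root_.and_self, _root_.Fin.succ_ne_zero, _root_.true_and, _root_.add_sub_cancel])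

end Cfsg.Agent.H815.RC
end

-- part: H815/RC/Four
section
/-!
# S3510 part B, box BO4: Kronecker products (helper815)
-/

set_option autoImplicit false
open Matrix
open scoped Kronecker

namespace Cfsg.Agent.H815.RC

open Cfsg.Agent.H106.RC Cfsg.Agent.H999.PslGraph Cfsg.Agent.H384.RC
open Cfsg.Agent.ClassicalGeometry.AutPSL.Auto

variable {F : Type*} [Field F]

abbrev I4 : Type := Fin 2 × Fin 2

/-- `E₀₁` -/
def nn (F : Type*) [Field F] : Matrix (Fin 2) (Fin 2) F := !![0, 1; 0, 0]
/-- `E₀₀` -/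
def e0 (F : Type*) [Field F] : Matrix (Fin 2) (Fin 2) F := !![1, 0; 0, 0]
/-- `E₁₁` -/
def e1 (F : Type*) [Field F] : Matrix (Fin 2) (Fin 2) F := !![0, 0; 0, 1]

theorem nn_nn : nn F * nn F = 0 := by
  rw [nn, Matrix.mul_fin_two]; ext i j; (revert i j; simp only [_root_.Fin.forall_fin_succ, _root_.MulZeroClass.mul_zero, _root_.add_zero, _root_.mul_one, _root_.Matrix.of_apply, _root_.Matrix.cons_val', _root_.Matrix.cons_val_fin_one, _root_.Matrix.zero_apply, Fin.isValue, _root_.Matrix.cons_val_zero, _root_.Matrix.cons_val_succ, _root_.forall_const, _root_.and_self, _root_.implies_true])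
theorem e0_e0 : e0 F * e0 F = e0 F := by
  rw [e0, Matrix.mul_fin_two]; ext i j; (revert i j; simp [_root_.Fin.forall_fin_succ])
theorem e1_e1 : e1 F * e1 F = e1 F := by
  rw [e1, Matrix.mul_fin_two]; ext i j; (revert i j; simp [_root_.Fin.forall_fin_succ])
theorem e0_e1 : e0 F * e1 F = 0 := by
  rw [e0, e1, Matrix.mul_fin_two]; ext i j; (revert i j; simp only [_root_.Fin.forall_fin_succ, _root_.MulZeroClass.mul_zero, _root_.add_zero, _root_.mul_one, _root_.Matrix.of_apply, _root_.Matrix.cons_val', _root_.Matrix.cons_val_fin_one, _root_.Matrix.zero_apply, Fin.isValue, _root_.Matrix.cons_val_zero, _root_.Matrix.cons_val_succ, _root_.forall_const, _root_.and_self, _root_.implies_true])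
theorem e1_e0 : e1 F * e0 F = 0 := by
  rw [e0, e1, Matrix.mul_fin_two]; ext i j; (revert i j; simp only [_root_.Fin.forall_fin_succ, _root_.mul_one, _root_.MulZeroClass.mul_zero, _root_.add_zero, _root_.Matrix.of_apply, _root_.Matrix.cons_val', _root_.Matrix.cons_val_fin_one, _root_.Matrix.zero_apply, Fin.isValue, _root_.Matrix.cons_val_zero, _root_.Matrix.cons_val_succ, _root_.forall_const, _root_.and_self, _root_.implies_true])
theorem e0_nn : e0 F * nn F = nn F := by
  rw [e0, nn, Matrix.mul_fin_two]; ext i j; (revert i j; simp [_root_.Fin.forall_fin_succ])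
theorem nn_e0 : nn F * e0 F = 0 := by
  rw [e0, nn, Matrix.mul_fin_two]; ext i j; (revert i j; simp only [_root_.Fin.forall_fin_succ, _root_.mul_one, _root_.MulZeroClass.mul_zero, _root_.add_zero, _root_.Matrix.of_apply, _root_.Matrix.cons_val', _root_.Matrix.cons_val_fin_one, _root_.Matrix.zero_apply, Fin.isValue, _root_.Matrix.cons_val_zero, _root_.Matrix.cons_val_succ, _root_.forall_const, _root_.and_self, _root_.implies_true])
theorem e1_nn : e1 F * nn F = 0 := by
  rw [e1, nn, Matrix.mul_fin_two]; ext i j; (revert i j; simp only [_root_.Fin.forall_fin_succ, _root_.MulZeroClass.mul_zero, _root_.add_zero, _root_.mul_one, _root_.Matrix.of_apply, _root_.Matrix.cons_val', _root_.Matrix.cons_val_fin_one, _root_.Matrix.zero_apply, Fin.isValue, _root_.Matrix.cons_val_zero, _root_.Matrix.cons_val_succ, _root_.forall_const, _root_.and_self, _root_.implies_true])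
theorem nn_e1 : nn F * e1 F = nn F := by
  rw [e1, nn, Matrix.mul_fin_two]; ext i j; (revert i j; simp [_root_.Fin.forall_fin_succ])
theorem e0_add_e1 : e0 F + e1 F = 1 := by
  rw [e0, e1]; ext i j; (revert i j; simp only [_root_.Fin.forall_fin_succ, _root_.Matrix.add_apply, _root_.Matrix.of_apply, _root_.Matrix.cons_val', _root_.Matrix.cons_val_fin_one, Fin.isValue, _root_.Matrix.cons_val_zero, _root_.Matrix.cons_val_succ, _root_.IsEmpty.forall_iff, _root_.and_true, _root_.add_zero, _root_.Matrix.one_apply_eq, Nat.reduceAdd, _root_.Fin.succ_zero_eq_one, _root_.ne_eq, _root_.zero_ne_one, _root_.not_false_eq_true, _root_.Matrix.one_apply_ne, _root_.and_self, _root_.Fin.succ_ne_zero, _root_.zero_add, _root_.true_and])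

/-- block equivalence -/
def eb : Fin 2 ⊕ Fin 2 ≃ Fin 2 × Fin 2 where
  toFun := Sum.elim (fun i => (0, i)) (fun i => (1, i))
  invFun p := if p.1 = 0 then Sum.inl p.2 else Sum.inr p.2
  left_inv := by rintro (i | i) <;> simp
  right_inv := by
    rintro ⟨i, j⟩
    fin_cases i <;> simp

theorem det_blk (A D X : Matrix (Fin 2) (Fin 2) F) :
    (e0 F ⊗ₖ A + e1 F ⊗ₖ D + nn F ⊗ₖ X).det = A.det * D.det := by
  rw [← Matrix.det_submatrix_equiv_self eb, ← Matrix.det_fromBlocks_zero₂₁ A X D]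
  congr 1
  ext i j
  rcases i with i | i <;> rcases j with j | j <;> simp [eb, e0, e1, nn]

theorem kr_neg (A X : Matrix (Fin 2) (Fin 2) F) : A ⊗ₖ (-X) = -(A ⊗ₖ X) := by
  ext ⟨i, j⟩ ⟨k, l⟩
  simp

/-- `1 + N ⊗ X` -/
def rad (X : Matrix (Fin 2) (Fin 2) F) : GL I4 F where
  val := 1 + nn F ⊗ₖ X
  inv := 1 + nn F ⊗ₖ (-X)
  val_inv := by
    rw [Matrix.mul_add, Matrix.add_mul, Matrix.add_mul, ← Matrix.mul_kronecker_mul, nn_nn, kr_neg]
    simp only [Matrix.one_mul, Matrix.mul_one, Matrix.zero_kronecker]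
    abel
  inv_val := by
    rw [Matrix.mul_add, Matrix.add_mul, Matrix.add_mul, ← Matrix.mul_kronecker_mul, nn_nn, kr_neg]
    simp only [Matrix.one_mul, Matrix.mul_one, Matrix.zero_kronecker]
    abel

theorem coe_rad (X : Matrix (Fin 2) (Fin 2) F) : (rad X : Matrix I4 I4 F) = 1 + nn F ⊗ₖ X := rfl

theorem rad_add (X Y : Matrix (Fin 2) (Fin 2) F) : rad (X + Y) = rad X * rad Y := by
  apply Units.ext
  rw [Units.val_mul, coe_rad, coe_rad, coe_rad, Matrix.mul_add, Matrix.add_mul, Matrix.add_mul,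
    ← Matrix.mul_kronecker_mul, nn_nn, Matrix.kronecker_add]
  simp only [Matrix.one_mul, Matrix.mul_one, Matrix.zero_kronecker]
  abel

theorem rad_zero : rad (0 : Matrix (Fin 2) (Fin 2) F) = 1 := by
  apply Units.ext
  rw [coe_rad, Matrix.kronecker_zero, add_zero, Units.val_one]

theorem det_rad (X : Matrix (Fin 2) (Fin 2) F) : (rad X : Matrix I4 I4 F).det = 1 := by
  have := det_blk (1 : Matrix (Fin 2) (Fin 2) F) 1 X
  rw [← Matrix.add_kronecker, e0_add_e1, Matrix.one_kronecker_one] at this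
  rw [coe_rad, this, det_one, one_mul]

/-- `a ↦ a ⊗ 1` -/
def kl : _root_.Matrix.SpecialLinearGroup (Fin 2) F →* GL I4 F where
  toFun a :=
    { val := a.1 ⊗ₖ 1
      inv := adjugate a.1 ⊗ₖ 1
      val_inv := by
        rw [← Matrix.mul_kronecker_mul, Matrix.mul_adjugate, a.2, one_smul, Matrix.mul_one,
          Matrix.one_kronecker_one]
      inv_val := by
        rw [← Matrix.mul_kronecker_mul, Matrix.adjugate_mul, a.2, one_smul, Matrix.mul_one,
          Matrix.one_kronecker_one] }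
  map_one' := by
    apply Units.ext
    exact Matrix.one_kronecker_one
  map_mul' a b := by
    apply Units.ext
    show (a.1 * b.1) ⊗ₖ (1 : Matrix (Fin 2) (Fin 2) F) = (a.1 ⊗ₖ 1) * (b.1 ⊗ₖ 1)
    rw [← Matrix.mul_kronecker_mul, Matrix.mul_one]

/-- `b ↦ 1 ⊗ b` -/
def kr : _root_.Matrix.SpecialLinearGroup (Fin 2) F →* GL I4 F where
  toFun a :=
    { val := 1 ⊗ₖ a.1
      inv := 1 ⊗ₖ adjugate a.1
      val_inv := by
        rw [← Matrix.mul_kronecker_mul, Matrix.mul_adjugate, a.2, one_smul, Matrix.mul_one,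
          Matrix.one_kronecker_one]
      inv_val := by
        rw [← Matrix.mul_kronecker_mul, Matrix.adjugate_mul, a.2, one_smul, Matrix.mul_one,
          Matrix.one_kronecker_one] }
  map_one' := by
    apply Units.ext
    exact Matrix.one_kronecker_one
  map_mul' a b := by
    apply Units.ext
    show (1 : Matrix (Fin 2) (Fin 2) F) ⊗ₖ (a.1 * b.1) = (1 ⊗ₖ a.1) * (1 ⊗ₖ b.1)
    rw [← Matrix.mul_kronecker_mul, Matrix.mul_one]

theorem coe_kl (a : _root_.Matrix.SpecialLinearGroup (Fin 2) F) : (kl a : Matrix I4 I4 F) = a.1 ⊗ₖ 1 := rfl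
theorem coe_kr (a : _root_.Matrix.SpecialLinearGroup (Fin 2) F) : (kr a : Matrix I4 I4 F) = 1 ⊗ₖ a.1 := rfl
theorem coe_kr_inv (a : _root_.Matrix.SpecialLinearGroup (Fin 2) F) :
    (((kr a)⁻¹ : GL I4 F) : Matrix I4 I4 F) = 1 ⊗ₖ adjugate a.1 := rfl

theorem det_kl (a : _root_.Matrix.SpecialLinearGroup (Fin 2) F) : (kl a : Matrix I4 I4 F).det = 1 := by
  rw [coe_kl, Matrix.det_kronecker, a.2, det_one, one_pow, mul_one]
theorem det_kr (a : _root_.Matrix.SpecialLinearGroup (Fin 2) F) : (kr a : Matrix I4 I4 F).det = 1 := by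
  rw [coe_kr, Matrix.det_kronecker, a.2, det_one, one_pow, mul_one]

theorem kl_kr (a b : _root_.Matrix.SpecialLinearGroup (Fin 2) F) : kl a * kr b = kr b * kl a := by
  apply Units.ext
  rw [Units.val_mul, Units.val_mul, coe_kl, coe_kr, ← Matrix.mul_kronecker_mul,
    ← Matrix.mul_kronecker_mul, Matrix.mul_one, Matrix.one_mul, Matrix.one_mul, Matrix.mul_one]

theorem kr_rad (b : _root_.Matrix.SpecialLinearGroup (Fin 2) F) (X : Matrix (Fin 2) (Fin 2) F) :
    kr b * rad X * (kr b)⁻¹ = rad (cjm b X) := by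
  apply Units.ext
  rw [Units.val_mul, Units.val_mul, coe_kr, coe_kr_inv, coe_rad, coe_rad, Matrix.mul_add,
    Matrix.add_mul, ← Matrix.mul_kronecker_mul, ← Matrix.mul_kronecker_mul, Matrix.mul_one,
    Matrix.one_mul, Matrix.mul_one, ← Matrix.mul_kronecker_mul, Matrix.mul_adjugate, b.2, one_smul,
    Matrix.one_mul, Matrix.one_kronecker_one]
  rfl

theorem kl_u (s : F) : kl (uSL s) = rad (s • 1) := by
  apply Units.ext
  rw [coe_kl, coe_rad]
  ext ⟨i, j⟩ ⟨k, l⟩
  (revert i j k l; simp only [uSL, nn, Matrix.one_apply, _root_.Fin.forall_fin_succ, _root_.Matrix.kroneckerMap_apply, _root_.Matrix.of_apply, _root_.Matrix.cons_val', _root_.Matrix.cons_val_fin_one, _root_.mul_ite, _root_.mul_one, _root_.MulZeroClass.mul_zero, _root_.Matrix.add_apply, _root_.Prod.mk.injEq, _root_.Matrix.smul_apply, _root_.smul_eq_mul, Fin.isValue, _root_.Fin.succ_zero_eq_one, _root_.IsEmpty.forall_iff, _root_.and_true, _root_.Matrix.cons_val_zero, _root_.Matrix.cons_val_succ, ↓reduceIte,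 _root_.zero_ne_one, _root_.and_false, _root_.add_zero, _root_.Fin.succ_ne_zero, _root_.true_and, _root_.and_self, _root_.MulZeroClass.zero_mul, _root_.one_mul, _root_.zero_add, _root_.left_eq_ite_iff, _root_.one_ne_zero, _root_.imp_false, _root_.Decidable.not_not])

/-- `E₀₀ ⊗ 1 + E₁₁ ⊗ h` -/
def bd (h : _root_.Matrix.SpecialLinearGroup (Fin 2) F) : GL I4 F where
  val := e0 F ⊗ₖ 1 + e1 F ⊗ₖ h.1
  inv := e0 F ⊗ₖ 1 + e1 F ⊗ₖ adjugate h.1
  val_inv := by
    simp only [Matrix.mul_add, Matrix.add_mul, ← Matrix.mul_kronecker_mul, e0_e0, e1_e1, e0_e1,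
      e1_e0, Matrix.zero_kronecker, Matrix.one_mul, Matrix.mul_one, Matrix.mul_adjugate, h.2,
      one_smul, add_zero, zero_add]
    rw [← Matrix.add_kronecker, e0_add_e1, Matrix.one_kronecker_one]
  inv_val := by
    simp only [Matrix.mul_add, Matrix.add_mul, ← Matrix.mul_kronecker_mul, e0_e0, e1_e1, e0_e1,
      e1_e0, Matrix.zero_kronecker, Matrix.one_mul, Matrix.mul_one, Matrix.adjugate_mul, h.2,
      one_smul, add_zero, zero_add]
    rw [← Matrix.add_kronecker, e0_add_e1, Matrix.one_kronecker_one]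

theorem coe_bd (h : _root_.Matrix.SpecialLinearGroup (Fin 2) F) :
    (bd h : Matrix I4 I4 F) = e0 F ⊗ₖ 1 + e1 F ⊗ₖ h.1 := rfl

theorem det_bd (h : _root_.Matrix.SpecialLinearGroup (Fin 2) F) : (bd h : Matrix I4 I4 F).det = 1 := by
  have := det_blk (1 : Matrix (Fin 2) (Fin 2) F) h.1 0
  rw [Matrix.kronecker_zero, add_zero] at this
  rw [coe_bd, this, det_one, h.2, one_mul]

theorem bd_rad (h : _root_.Matrix.SpecialLinearGroup (Fin 2) F) (X : Matrix (Fin 2) (Fin 2) F) :
    (bd h)⁻¹ * rad X * bd h = rad (X * h.1) := by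
  rw [mul_assoc, inv_mul_eq_iff_eq_mul]
  apply Units.ext
  rw [Units.val_mul, Units.val_mul, coe_bd, coe_rad, coe_rad]
  simp only [Matrix.mul_add, Matrix.add_mul, ← Matrix.mul_kronecker_mul, e0_nn, nn_e0, nn_e1,
    e1_nn, Matrix.zero_kronecker, Matrix.one_mul, Matrix.mul_one, add_zero]
  rw [add_assoc]

/-- the flip with determinant one -/
def fl (F : Type*) [Field F] : GL I4 F where
  val := Matrix.of fun p r => if p = (0, 0) ∧ r = (0, 0) then -1 else if p = r.swap then 1 else 0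
  inv := Matrix.of fun p r => if p = (0, 0) ∧ r = (0, 0) then -1 else if p = r.swap then 1 else 0
  val_inv := by
    ext ⟨i, j⟩ ⟨k, l⟩
    rw [Matrix.mul_apply, Fintype.sum_prod_type, Fin.sum_univ_two, Fin.sum_univ_two,
      Fin.sum_univ_two]
    (revert i j k l; simp only [Matrix.one_apply, _root_.Fin.forall_fin_succ, Fin.isValue, _root_.Matrix.of_apply, _root_.Prod.mk.injEq, _root_.and_true, _root_.Prod.swap_prod_mk, _root_.true_and, _root_.mul_ite, _root_.mul_neg, _root_.mul_one, _root_.MulZeroClass.mul_zero, _root_.one_ne_zero, _root_.and_false, ↓reduceIte, _root_.false_and, _root_.and_self, _root_.add_zero, _root_.Fin.succ_ne_zero, _root_.Fin.succ_zero_eq_one, _root_.zero_ne_one, _root_.zero_add, _root_.IsEmpty.forall_iff, _root_.neg_zero, _root_.implies_true, _root_.neg_neg])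
  inv_val := by
    ext ⟨i, j⟩ ⟨k, l⟩
    rw [Matrix.mul_apply, Fintype.sum_prod_type, Fin.sum_univ_two, Fin.sum_univ_two,
      Fin.sum_univ_two]
    (revert i j k l; simp only [Matrix.one_apply, _root_.Fin.forall_fin_succ, Fin.isValue, _root_.Matrix.of_apply, _root_.Prod.mk.injEq, _root_.and_true, _root_.Prod.swap_prod_mk, _root_.true_and, _root_.mul_ite, _root_.mul_neg, _root_.mul_one, _root_.MulZeroClass.mul_zero, _root_.one_ne_zero, _root_.and_false, ↓reduceIte, _root_.false_and, _root_.and_self, _root_.add_zero, _root_.Fin.succ_ne_zero, _root_.Fin.succ_zero_eq_one, _root_.zero_ne_one, _root_.zero_add, _root_.IsEmpty.forall_iff, _root_.neg_zero, _root_.implies_true, _root_.neg_neg])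

/-- enumeration -/
def e4 : Fin 4 ≃ Fin 2 × Fin 2 where
  toFun := ![(0, 0), (0, 1), (1, 0), (1, 1)]
  invFun p := if p = (0, 0) then 0 else if p = (0, 1) then 1 else if p = (1, 0) then 2 else 3
  left_inv := by decide
  right_inv := by decide

theorem det_fl : (fl F : Matrix I4 I4 F).det = 1 := by
  rw [← Matrix.det_submatrix_equiv_self e4]
  have h : (fl F : Matrix I4 I4 F).submatrix e4 e4 =
      !![-1, 0, 0, 0; 0, 0, 1, 0; 0, 1, 0, 0; 0, 0, 0, 1] := by
    ext i j
    (revert i j; simp only [fl, e4, _root_.Fin.forall_fin_succ, Fin.isValue, _root_.Equiv.coe_fn_mk, _root_.Matrix.submatrix_apply, _root_.Matrix.of_apply, _root_.Matrix.cons_val', _root_.Matrix.cons_val_fin_one, _root_.Matrix.cons_val_zero, _root_.and_true, _root_.Prod.swap_prod_mk, _root_.Matrix.cons_val_succ, _root_.Prod.mk.injEq, _root_.one_ne_zero, _root_.and_false, ↓reduceIte, _root_.and_self, _root_.forall_const, _root_.zero_ne_one, _root_.implies_true])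
  rw [h]
  simp only [Matrix.det_succ_row_zero, Fin.sum_univ_succ, _root_.Nat.succ_eq_add_one, _root_.Nat.reduceAdd, _root_.Fin.isValue, _root_.Matrix.of_apply, _root_.Matrix.cons_val', _root_.Matrix.cons_val_fin_one, _root_.Matrix.cons_val_zero, _root_.Matrix.submatrix_apply, _root_.Fin.succ_zero_eq_one, _root_.Matrix.cons_val_one, _root_.Matrix.submatrix_submatrix, _root_.Function.comp_apply, _root_.Fin.succ_one_eq_two, _root_.Matrix.cons_val, _root_.Matrix.det_unique, _root_.Fin.default_eq_zero, _root_.Fin.reduceSucc, _root_.Fin.coe_ofNat_eq_mod, _root_.Nat.zero_mod, _root_.pow_zero, _root_.one_mul, _root_.Fin.zero_succAbove, _root_.Finset.univ_unique, _root_.Fin.val_succ, _root_.Fin.val_eq_zero, _root_.zero_add, _root_.pow_one, _root_.neg_mul, _root_.ne_eq, _root_.Fin.succ_ne_zero, _root_.not_false_eq_true, _root_.Fin.succAbove_ne_zero_zero, _root_.Finset.sum_neg_distrib, _root_.Finset.sum_singleton, _root_.Fin.succ_succAbove_one, _root_.even_two, _root_.Even.neg_pow,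 _root_.one_pow, _root_.mul_neg, _root_.mul_one, _root_.MulZeroClass.mul_zero, _root_.neg_zero, _root_.add_zero, _root_.neg_neg, _root_.Matrix.cons_val_succ, _root_.MulZeroClass.zero_mul, _root_.Finset.sum_const_zero]

theorem fl_rad (X : Matrix (Fin 2) (Fin 2) F) :
    (fl F : Matrix I4 I4 F) * (rad X : Matrix I4 I4 F) * (fl F : Matrix I4 I4 F) =
    1 + (!![-1, 0; 0, 1] * X) ⊗ₖ nn F := by
  rw [coe_rad, Matrix.mul_add, Matrix.add_mul, Matrix.mul_one]
  have h1 : (fl F : Matrix I4 I4 F) * (fl F : Matrix I4 I4 F) = 1 := (fl F).val_inv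
  rw [h1]
  congr 1
  obtain ⟨a, b, c, d, rfl⟩ := exists_of_two X
  rw [Matrix.mul_fin_two]
  ext ⟨i, j⟩ ⟨k, l⟩
  rw [Matrix.mul_apply, Fintype.sum_prod_type, Fin.sum_univ_two, Fin.sum_univ_two,
      Fin.sum_univ_two]
  simp only [Matrix.mul_apply, Fintype.sum_prod_type, Fin.sum_univ_two]
  (revert i j k l; simp only [fl, nn, _root_.Fin.forall_fin_succ, Fin.isValue, _root_.Matrix.of_apply, _root_.Prod.mk.injEq, _root_.and_true, _root_.Prod.swap_prod_mk, _root_.Matrix.kroneckerMap_apply, _root_.Matrix.cons_val', _root_.Matrix.cons_val_zero, _root_.Matrix.cons_val_fin_one, _root_.MulZeroClass.zero_mul, _root_.MulZeroClass.mul_zero, _root_.one_ne_zero, _root_.and_false, ↓reduceIte, _root_.Matrix.cons_val_one, _root_.add_zero, _root_.and_self, _root_.true_and, _root_.mul_ite, _root_.mul_neg, _root_.mul_one, _root_.neg_zero, _root_.ite_self, _root_.false_and, _root_.one_mul, _root_.ite_mul, _root_.neg_mul, _root_.zero_add, _root_.zero_eq_mul, _root_.Matrix.cons_val_succ,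 _root_.Fin.succ_zero_eq_one, _root_.IsEmpty.forall_iff, _root_.zero_ne_one, _root_.or_true, _root_.Fin.succ_ne_zero, _root_.implies_true, _root_.ite_eq_left_iff, _root_.not_true_eq_false])

theorem fl_inv : (fl F)⁻¹ = fl F := by
  apply Units.ext
  rfl

theorem fl_one : fl F * rad !![-1, 0; 0, 1] * (fl F)⁻¹ = kr (uSL 1) := by
  apply Units.ext
  rw [fl_inv, Units.val_mul, Units.val_mul, fl_rad, Matrix.mul_fin_two, coe_kr]
  ext ⟨i, j⟩ ⟨k, l⟩
  (revert i j k l; simp only [uSL, nn, _root_.Fin.forall_fin_succ, _root_.mul_neg, _root_.mul_one, _root_.neg_neg, _root_.MulZeroClass.mul_zero, _root_.add_zero, _root_.neg_zero, _root_.zero_add, _root_.Matrix.add_apply, _root_.Matrix.kroneckerMap_apply, _root_.Matrix.of_apply, _root_.Matrix.cons_val', _root_.Matrix.cons_val_fin_one, Fin.isValue, _root_.Matrix.cons_val_zero, _root_.Matrix.cons_val_succ, _root_.IsEmpty.forall_iff, _root_.and_true, _root_.Fin.succ_zero_eq_one, _root_.ne_eq, _root_.Prod.mk.injEq, _root_.zero_ne_one,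 _root_.and_false, _root_.not_false_eq_true, _root_.Matrix.one_apply_ne, _root_.Fin.succ_ne_zero, _root_.true_and, _root_.Matrix.one_apply_eq, _root_.and_self])

theorem fl_nn : fl F * rad (-nn F) * (fl F)⁻¹ = rad (nn F) := by
  apply Units.ext
  rw [fl_inv, Units.val_mul, Units.val_mul, fl_rad, coe_rad]
  congr 2
  rw [nn]
  ext i j
  (revert i j; simp only [Matrix.mul_apply, Fin.sum_univ_two, _root_.Fin.forall_fin_succ, _root_.Matrix.neg_of, _root_.Matrix.neg_cons, _root_.neg_zero, _root_.Matrix.neg_empty, _root_.Matrix.of_apply, _root_.Matrix.cons_val', _root_.Matrix.cons_val_fin_one, Fin.isValue, _root_.Matrix.cons_val_zero, _root_.Matrix.cons_val_one, _root_.MulZeroClass.mul_zero, _root_.add_zero, _root_.Matrix.cons_val_succ, _root_.mul_neg, _root_.mul_one, _root_.forall_const, _root_.neg_neg, _root_.and_self, _root_.implies_true])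

end Cfsg.Agent.H815.RC
end

-- part: H815/RC/Sem
section
/-!
# S3510 part B, box BO4: the automorphisms commuting with `t` (helper815)
-/

set_option autoImplicit false
open Matrix
open scoped Kronecker

namespace Cfsg.Agent.H815.RC

open Cfsg.Agent.H106.RC Cfsg.Agent.H999.PslGraph Cfsg.Agent.H384.RC
open Cfsg.Agent.ClassicalGeometry.AutPSL.Auto

variable {F : Type*} [Field F]

theorem kron_cancel_right {P Q b : Matrix (Fin 2) (Fin 2) F} (hb : b ≠ 0) (h : P ⊗ₖ b = Q ⊗ₖ b) :
    P = Q := by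
  obtain ⟨k, l, hkl⟩ : ∃ k l, b k l ≠ 0 := by
    by_contra hcon
    push Not at hcon
    exact hb (by ext k l; exact hcon k l)
  ext i j
  have := congrFun (congrFun h (i, k)) (j, l)
  simp only [Matrix.kroneckerMap_apply] at this
  exact mul_right_cancel₀ hkl this

theorem kron_cancel_left {P Q b : Matrix (Fin 2) (Fin 2) F} (hb : b ≠ 0) (h : b ⊗ₖ P = b ⊗ₖ Q) :
    P = Q := by
  obtain ⟨k, l, hkl⟩ : ∃ k l, b k l ≠ 0 := by
    by_contra hcon
    push Not at hcon
    exact hb (by ext k l; exact hcon k l)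
  ext i j
  have := congrFun (congrFun h (k, i)) (l, j)
  simp only [Matrix.kroneckerMap_apply] at this
  exact mul_left_cancel₀ hkl this

/-- `Cj (a ⊗ 1)` -/
noncomputable def fA (F : Type*) [Field F] : _root_.Matrix.SpecialLinearGroup (Fin 2) F →*
    MulAut (Matrix.ProjectiveSpecialLinearGroup I4 F) := Cj.comp kl

/-- `Cj (1 ⊗ b)` -/
noncomputable def fB (F : Type*) [Field F] : _root_.Matrix.SpecialLinearGroup (Fin 2) F →*
    MulAut (Matrix.ProjectiveSpecialLinearGroup I4 F) := Cj.comp kr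

theorem fA_apply (a : _root_.Matrix.SpecialLinearGroup (Fin 2) F) : fA F a = Cj (kl a) := rfl
theorem fB_apply (a : _root_.Matrix.SpecialLinearGroup (Fin 2) F) : fB F a = Cj (kr a) := rfl

theorem fA_inn (a : _root_.Matrix.SpecialLinearGroup (Fin 2) F) : fA F a ∈ inn _ := Cj_mem_inn _ (det_kl a)
theorem fB_inn (a : _root_.Matrix.SpecialLinearGroup (Fin 2) F) : fB F a ∈ inn _ := Cj_mem_inn _ (det_kr a)

theorem fA_fB (a b : _root_.Matrix.SpecialLinearGroup (Fin 2) F) : fA F a * fB F b = fB F b * fA F a := by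
  rw [fA_apply, fB_apply, ← map_mul, kl_kr, map_mul]

theorem mem_center_two (k : _root_.Matrix.SpecialLinearGroup (Fin 2) F) :
    k ∈ Subgroup.center (_root_.Matrix.SpecialLinearGroup (Fin 2) F) ↔ ∃ c : F, k.1 = c • 1 := by
  constructor
  · intro h
    obtain ⟨c, -, hc⟩ := Matrix.SpecialLinearGroup.mem_center_iff.1 h
    exact ⟨c, by rw [← hc, Matrix.smul_one_eq_diagonal]; rfl⟩
  · rintro ⟨c, hc⟩
    rw [Subgroup.mem_center_iff]
    intro g
    apply Subtype.ext
    show g.1 * k.1 = k.1 * g.1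
    rw [hc, Matrix.mul_smul, Matrix.smul_mul, Matrix.mul_one, Matrix.one_mul]

theorem one_kron_one : (1 : Matrix I4 I4 F) = 1 ⊗ₖ 1 := Matrix.one_kronecker_one.symm

theorem fA_eq_one (k : _root_.Matrix.SpecialLinearGroup (Fin 2) F) :
    fA F k = 1 ↔ k ∈ Subgroup.center (_root_.Matrix.SpecialLinearGroup (Fin 2) F) := by
  rw [fA_apply, Cj_eq_one_iff, mem_center_two]
  refine exists_congr fun c => ?_
  rw [coe_kl, one_kron_one, ← Matrix.smul_kronecker]
  constructor
  · intro h
    exact kron_cancel_right one_ne_zero h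
  · intro h
    rw [h]

theorem fB_eq_one (k : _root_.Matrix.SpecialLinearGroup (Fin 2) F) :
    fB F k = 1 ↔ k ∈ Subgroup.center (_root_.Matrix.SpecialLinearGroup (Fin 2) F) := by
  rw [fB_apply, Cj_eq_one_iff, mem_center_two]
  refine exists_congr fun c => ?_
  rw [coe_kr, one_kron_one, ← Matrix.kronecker_smul]
  constructor
  · intro h
    exact kron_cancel_left one_ne_zero h
  · intro h
    rw [h]

/-- `PSL₂(F)` is not commutative -/
theorem psl_not_comm (F : Type*) [Field F] :
    ¬ IsMulCommutative (_root_.Matrix.SpecialLinearGroup (Fin 2) F ⧸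
      Subgroup.center (_root_.Matrix.SpecialLinearGroup (Fin 2) F)) := by
  intro h
  have h1 : (QuotientGroup.mk (uSL (1 : F) * lSL 1) : _root_.Matrix.SpecialLinearGroup (Fin 2) F ⧸
      Subgroup.center (_root_.Matrix.SpecialLinearGroup (Fin 2) F)) = QuotientGroup.mk (lSL (1 : F) * uSL 1) := by
    rw [QuotientGroup.mk_mul, QuotientGroup.mk_mul]
    exact h.is_comm.comm _ _
  rw [QuotientGroup.eq, mem_center_two] at h1
  obtain ⟨c, hc⟩ := h1
  have h2 : (lSL (1 : F) * uSL 1).1 = c • (uSL (1 : F) * lSL 1).1 := by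
    have e : (lSL (1 : F) * uSL 1) =
        (uSL (1 : F) * lSL 1) * ((uSL (1 : F) * lSL 1)⁻¹ * (lSL (1 : F) * uSL 1)) := by
      group
    rw [e]
    change (uSL (1 : F) * lSL 1).1 * ((uSL (1 : F) * lSL 1)⁻¹ * (lSL (1 : F) * uSL 1)).1 = _
    rw [hc, Matrix.mul_smul, Matrix.mul_one]
  have h3 : (lSL (1 : F) * uSL 1).1 = !![1, 1; 1, 2] := by
    change !![1, 0; 1, 1] * !![1, 1; 0, 1] = _
    rw [Matrix.mul_fin_two]
    ext i j
    (revert i j; simp only [_root_.Fin.forall_fin_succ, _root_.mul_one, _root_.MulZeroClass.mul_zero, _root_.add_zero, _root_.Matrix.of_apply, _root_.Matrix.cons_val', _root_.Matrix.cons_val_fin_one, Fin.isValue, _root_.Matrix.cons_val_zero, _root_.Matrix.cons_val_succ, _root_.forall_const, _root_.and_true, _root_.true_and]) <;> (repeat' with_reducible apply And.intro)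
    norm_num
  have h4 : (uSL (1 : F) * lSL 1).1 = !![2, 1; 1, 1] := by
    change !![1, 1; 0, 1] * !![1, 0; 1, 1] = _
    rw [Matrix.mul_fin_two]
    ext i j
    (revert i j; simp only [_root_.Fin.forall_fin_succ, _root_.mul_one, _root_.MulZeroClass.mul_zero, _root_.zero_add, _root_.Matrix.of_apply, _root_.Matrix.cons_val', _root_.Matrix.cons_val_fin_one, Fin.isValue, _root_.Matrix.cons_val_zero, _root_.Matrix.cons_val_succ, _root_.implies_true, _root_.and_true, _root_.true_and]) <;> (repeat' with_reducible apply And.intro)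
    norm_num
  rw [h3, h4] at h2
  have e1 := congrFun (congrFun h2 0) 1
  have e0 := congrFun (congrFun h2 0) 0
  simp at e0 e1
  rw [← e1] at e0
  norm_num at e0
  exact one_ne_zero (α := F) (by linear_combination -e0)

section sem

variable (A : GL I4 F) (σ : F ≃+* F)

theorem mg_kl (c : _root_.Matrix.SpecialLinearGroup (Fin 2) F) :
    (mg σ (kl c) : Matrix I4 I4 F) = (c.1.map σ) ⊗ₖ 1 := by
  rw [coe_mg, coe_kl]
  ext ⟨i, j⟩ ⟨k, l⟩
  simp only [Matrix.map_apply, Matrix.kroneckerMap_apply, map_mul]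
  congr 1
  rw [Matrix.one_apply]
  split_ifs
  · exact map_one σ
  · exact map_zero σ

theorem mg_kr (c : _root_.Matrix.SpecialLinearGroup (Fin 2) F) :
    (mg σ (kr c) : Matrix I4 I4 F) = 1 ⊗ₖ (c.1.map σ) := by
  rw [coe_mg, coe_kr]
  ext ⟨i, j⟩ ⟨k, l⟩
  simp only [Matrix.map_apply, Matrix.kroneckerMap_apply, map_mul]
  congr 1
  rw [Matrix.one_apply]
  split_ifs
  · exact map_one σ
  · exact map_zero σ

theorem det_ne_of {a b : Matrix (Fin 2) (Fin 2) F} (h : IsUnit (a ⊗ₖ b)) :
    a.det ≠ 0 ∧ b.det ≠ 0 := by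
  rw [Matrix.isUnit_iff_isUnit_det, Matrix.det_kronecker, isUnit_iff_ne_zero] at h
  have h1 := left_ne_zero_of_mul h
  have h2 := right_ne_zero_of_mul h
  exact ⟨fun h => h1 (by rw [h]; simp), fun h => h2 (by rw [h]; simp)⟩

/-- `a σ(c) a⁻¹` -/
theorem exists_cj {a : Matrix (Fin 2) (Fin 2) F} (ha : a.det ≠ 0)
    (c : _root_.Matrix.SpecialLinearGroup (Fin 2) F) :
    ∃ c' : _root_.Matrix.SpecialLinearGroup (Fin 2) F, c'.1 * a = a * c.1.map σ := by
  have hu : IsUnit a.det := isUnit_iff_ne_zero.2 ha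
  refine ⟨⟨a * c.1.map σ * a⁻¹, ?_⟩, ?_⟩
  · have h1 : (c.1.map σ).det = 1 := by
      have := RingHom.map_det (σ : F →+* F) c.1
      rw [c.2, map_one] at this
      exact this.symm
    rw [det_mul, det_mul, h1, mul_one, ← det_mul, Matrix.mul_nonsing_inv a hu, det_one]
  · show a * c.1.map σ * a⁻¹ * a = _
    rw [Matrix.mul_assoc, Matrix.nonsing_inv_mul a hu, Matrix.mul_one]

variable {A}

theorem sem_kl {a b : Matrix (Fin 2) (Fin 2) F} (hA : (A : Matrix I4 I4 F) = a ⊗ₖ b)
    (c : _root_.Matrix.SpecialLinearGroup (Fin 2) F) :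
    ∃ c', Sem A σ * fA F c * (Sem A σ)⁻¹ = fA F c' := by
  have hd : a.det ≠ 0 ∧ b.det ≠ 0 := det_ne_of (by rw [← hA]; exact A.isUnit)
  obtain ⟨c', hc'⟩ := exists_cj σ hd.1 c
  refine ⟨c', ?_⟩
  rw [fA_apply, fA_apply, Sem_conj_Cj]
  congr 1
  rw [mul_inv_eq_iff_eq_mul]
  apply Units.ext
  rw [Units.val_mul, Units.val_mul, mg_kl, coe_kl, hA, ← Matrix.mul_kronecker_mul,
    ← Matrix.mul_kronecker_mul, hc', Matrix.mul_one, Matrix.one_mul]

theorem sem_kr {a b : Matrix (Fin 2) (Fin 2) F} (hA : (A : Matrix I4 I4 F) = a ⊗ₖ b)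
    (c : _root_.Matrix.SpecialLinearGroup (Fin 2) F) :
    ∃ c', Sem A σ * fB F c * (Sem A σ)⁻¹ = fB F c' := by
  have hd : a.det ≠ 0 ∧ b.det ≠ 0 := det_ne_of (by rw [← hA]; exact A.isUnit)
  obtain ⟨c', hc'⟩ := exists_cj σ hd.2 c
  refine ⟨c', ?_⟩
  rw [fB_apply, fB_apply, Sem_conj_Cj]
  congr 1
  rw [mul_inv_eq_iff_eq_mul]
  apply Units.ext
  rw [Units.val_mul, Units.val_mul, mg_kr, coe_kr, hA, ← Matrix.mul_kronecker_mul,
    ← Matrix.mul_kronecker_mul, hc', Matrix.mul_one, Matrix.one_mul]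

theorem swap_mul (X : Matrix I4 I4 F) (P Q : Matrix (Fin 2) (Fin 2) F) :
    X.submatrix id Prod.swap * (P ⊗ₖ Q) = (X * (Q ⊗ₖ P)).submatrix id Prod.swap := by
  have h : P ⊗ₖ Q = (Q ⊗ₖ P).submatrix (Equiv.prodComm (Fin 2) (Fin 2)) Prod.swap := by
    ext ⟨i, j⟩ ⟨k, l⟩
    simp [mul_comm]
  rw [h]
  exact Matrix.submatrix_mul_equiv X (Q ⊗ₖ P) id (Equiv.prodComm (Fin 2) (Fin 2)) Prod.swap

theorem mul_swap (X Y : Matrix I4 I4 F) :
    Y * X.submatrix id Prod.swap = (Y * X).submatrix id Prod.swap := by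
  ext i j
  simp [Matrix.mul_apply]

theorem swap_det {a b : Matrix (Fin 2) (Fin 2) F}
    (hA : (A : Matrix I4 I4 F) = (a ⊗ₖ b).submatrix id Prod.swap) : a.det ≠ 0 ∧ b.det ≠ 0 := by
  apply det_ne_of
  have h1 : (a ⊗ₖ b) = (A : Matrix I4 I4 F).submatrix id Prod.swap := by
    rw [hA]
    ext ⟨i, j⟩ ⟨k, l⟩
    simp
  rw [h1, Matrix.isUnit_iff_isUnit_det]
  have h2 : ((A : Matrix I4 I4 F).submatrix id Prod.swap).det =
      Equiv.Perm.sign (Equiv.prodComm (Fin 2) (Fin 2)) * (A : Matrix I4 I4 F).det :=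
    Matrix.det_permute' (Equiv.prodComm (Fin 2) (Fin 2)) (A : Matrix I4 I4 F)
  rw [h2]
  have h3 : IsUnit (A : Matrix I4 I4 F).det := (Matrix.isUnit_iff_isUnit_det _).1 A.isUnit
  refine IsUnit.mul ?_ h3
  rcases Int.units_eq_one_or (Equiv.Perm.sign (Equiv.prodComm (Fin 2) (Fin 2))) with h | h <;>
    rw [h] <;> simp

theorem swap_kl {a b : Matrix (Fin 2) (Fin 2) F}
    (hA : (A : Matrix I4 I4 F) = (a ⊗ₖ b).submatrix id Prod.swap)
    (c : _root_.Matrix.SpecialLinearGroup (Fin 2) F) :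
    ∃ c', Sem A σ * fA F c * (Sem A σ)⁻¹ = fB F c' := by
  have hd := swap_det hA
  obtain ⟨c', hc'⟩ := exists_cj σ hd.2 c
  refine ⟨c', ?_⟩
  rw [fA_apply, fB_apply, Sem_conj_Cj]
  congr 1
  rw [mul_inv_eq_iff_eq_mul]
  apply Units.ext
  rw [Units.val_mul, Units.val_mul, mg_kl, coe_kr, hA, swap_mul, mul_swap,
    ← Matrix.mul_kronecker_mul, ← Matrix.mul_kronecker_mul, hc', Matrix.mul_one, Matrix.one_mul]

theorem swap_kr {a b : Matrix (Fin 2) (Fin 2) F}
    (hA : (A : Matrix I4 I4 F) = (a ⊗ₖ b).submatrix id Prod.swap)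
    (c : _root_.Matrix.SpecialLinearGroup (Fin 2) F) :
    ∃ c', Sem A σ * fB F c * (Sem A σ)⁻¹ = fA F c' := by
  have hd := swap_det hA
  obtain ⟨c', hc'⟩ := exists_cj σ hd.1 c
  refine ⟨c', ?_⟩
  rw [fA_apply, fB_apply, Sem_conj_Cj]
  congr 1
  rw [mul_inv_eq_iff_eq_mul]
  apply Units.ext
  rw [Units.val_mul, Units.val_mul, mg_kr, coe_kl, hA, swap_mul, mul_swap,
    ← Matrix.mul_kronecker_mul, ← Matrix.mul_kronecker_mul, hc', Matrix.mul_one, Matrix.one_mul]

/-- an element of odd order does not interchange -/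
theorem odd_swap {K G : Type*} [Group K] [Group G] (f₁ f₂ : K →* G) (x : G) {r : ℕ} (hr : Odd r)
    (hx : x ^ r = 1) (h₁ : ∀ k, ∃ k', x * f₁ k * x⁻¹ = f₂ k')
    (h₂ : ∀ k, ∃ k', x * f₂ k * x⁻¹ = f₁ k') (k : K) : ∃ k', f₁ k = f₂ k' := by
  have hpow : ∀ m : ℕ, ∀ k, ∃ k', x ^ (2 * m) * f₁ k * (x ^ (2 * m))⁻¹ = f₁ k' := by
    intro m
    induction m with
    | zero => intro k; exact ⟨k, by simp⟩
    | succ m ih =>
      intro k
      obtain ⟨k', hk'⟩ := ih k
      obtain ⟨l, hl⟩ := h₁ k'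
      obtain ⟨l', hl'⟩ := h₂ l
      refine ⟨l', ?_⟩
      rw [← hl', ← hl, ← hk']
      have e : 2 * (m + 1) = 2 * m + 1 + 1 := by ring
      rw [e, pow_succ', pow_succ']
      group
  obtain ⟨m, rfl⟩ := hr
  obtain ⟨k', hk'⟩ := hpow m k
  obtain ⟨l, hl⟩ := h₁ k'
  refine ⟨l, ?_⟩
  rw [← hl, ← hk']
  have e : x * (x ^ (2 * m) * f₁ k * (x ^ (2 * m))⁻¹) * x⁻¹ =
      x ^ (2 * m + 1) * f₁ k * (x ^ (2 * m + 1))⁻¹ := by
    rw [pow_succ']
    group
  rw [e, hx, one_mul, inv_one, mul_one]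

theorem fA_ne_fB : ¬ ∀ k : _root_.Matrix.SpecialLinearGroup (Fin 2) F, ∃ k', fA F k = fB F k' := by
  intro h
  have h1 : ∀ k l, fA F (k * l) = fA F (l * k) := by
    intro k l
    obtain ⟨k', hk'⟩ := h k
    rw [map_mul, map_mul, hk', fA_fB]
  apply psl_not_comm F
  constructor
  constructor
  intro a b
  induction a using QuotientGroup.induction_on with
  | H a =>
    induction b using QuotientGroup.induction_on with
    | H b =>
      rw [← QuotientGroup.mk_mul, ← QuotientGroup.mk_mul, QuotientGroup.eq, ← fA_eq_one, map_mul,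
        map_inv, h1 a b, inv_mul_cancel]

theorem scal_of {a : Matrix (Fin 2) (Fin 2) F}
    (hu : ∀ s : F, a * (uSL s).1.map σ = (uSL s).1 * a)
    (hl : a * (lSL 1).1.map σ = (lSL 1).1 * a) :
    a = a 0 0 • 1 ∧ ∀ s, a 0 0 * σ s = s * a 0 0 := by
  have hu1 := hu 1
  have e0 := congrFun (congrFun hu1 0) 0
  have e1 := congrFun (congrFun hu1 0) 1
  have e2 := congrFun (congrFun hl 0) 0
  simp only [uSL, lSL, Matrix.mul_apply, Fin.sum_univ_two, _root_.Fin.isValue, _root_.Matrix.map_apply, _root_.Matrix.of_apply, _root_.Matrix.cons_val', _root_.Matrix.cons_val_zero, _root_.Matrix.cons_val_fin_one, _root_.map_one, _root_.mul_one, _root_.Matrix.cons_val_one, _root_.map_zero, _root_.MulZeroClass.mul_zero, _root_.add_zero, _root_.one_mul, _root_.left_eq_add, _root_.MulZeroClass.zero_mul, _root_.add_eq_left] at e0 e1 e2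
  have h11 : a 0 0 = a 1 1 := by linear_combination e1
  refine ⟨?_, ?_⟩
  · ext i j
    (revert i j; simp only [e0, e2, h11, _root_.Fin.forall_fin_succ, Fin.isValue, _root_.Matrix.smul_apply, _root_.smul_eq_mul, _root_.Fin.succ_zero_eq_one, _root_.IsEmpty.forall_iff, _root_.and_true, _root_.Matrix.one_apply_eq, _root_.mul_one, Nat.reduceAdd, _root_.ne_eq, _root_.zero_ne_one, _root_.not_false_eq_true, _root_.Matrix.one_apply_ne, _root_.MulZeroClass.mul_zero, _root_.and_self, _root_.Fin.succ_ne_zero])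
  · intro s
    have e3 := congrFun (congrFun (hu s) 0) 1
    simp only [uSL, Matrix.mul_apply, Fin.sum_univ_two, _root_.Fin.isValue, _root_.Matrix.map_apply, _root_.Matrix.of_apply, _root_.Matrix.cons_val', _root_.Matrix.cons_val_one, _root_.Matrix.cons_val_fin_one, _root_.Matrix.cons_val_zero, _root_.map_one, _root_.mul_one, _root_.one_mul] at e3
    rw [← h11] at e3
    linear_combination e3

theorem nil_of {N : Matrix I4 I4 F} (h : N * N = 0) : IsNilpotent N := ⟨2, by rw [pow_two, h]⟩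

theorem kl_sub (u : _root_.Matrix.SpecialLinearGroup (Fin 2) F) :
    (kl u : Matrix I4 I4 F) - 1 = (u.1 - 1) ⊗ₖ 1 := by
  rw [coe_kl, one_kron_one]
  ext ⟨i, j⟩ ⟨k, l⟩
  simp only [Matrix.sub_apply, Matrix.kroneckerMap_apply]
  ring

theorem kr_sub (u : _root_.Matrix.SpecialLinearGroup (Fin 2) F) :
    (kr u : Matrix I4 I4 F) - 1 = 1 ⊗ₖ (u.1 - 1) := by
  rw [coe_kr, one_kron_one]
  ext ⟨i, j⟩ ⟨k, l⟩
  simp only [Matrix.sub_apply, Matrix.kroneckerMap_apply]
  ring

theorem u_sq (s : F) : ((uSL s).1 - 1) * ((uSL s).1 - 1) = 0 := by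
  ext i j
  fin_cases i <;> fin_cases j <;> simp [uSL, Matrix.mul_apply, Fin.sum_univ_two]

theorem l_sq (s : F) : ((lSL s).1 - 1) * ((lSL s).1 - 1) = 0 := by
  ext i j
  fin_cases i <;> fin_cases j <;> simp [lSL, Matrix.mul_apply, Fin.sum_univ_two]

theorem exact_kl {a b : Matrix (Fin 2) (Fin 2) F} (hA : (A : Matrix I4 I4 F) = a ⊗ₖ b) (hb : b ≠ 0)
    (u : _root_.Matrix.SpecialLinearGroup (Fin 2) F) (hu : (u.1 - 1) * (u.1 - 1) = 0)
    (h : Sem A σ * fA F u = fA F u * Sem A σ) : a * u.1.map σ = u.1 * a := by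
  rw [fA_apply, Sem_comm_iff] at h
  obtain ⟨c, -, hc⟩ := h
  have h1 := unip_exact A σ (kl u) (nil_of (by
    rw [kl_sub, ← Matrix.mul_kronecker_mul, hu, Matrix.zero_kronecker])) hc
  rw [← coe_mg, mg_kl, hA, coe_kl, ← Matrix.mul_kronecker_mul, ← Matrix.mul_kronecker_mul,
    Matrix.mul_one, Matrix.one_mul] at h1
  exact kron_cancel_right hb h1

theorem exact_kr {a b : Matrix (Fin 2) (Fin 2) F} (hA : (A : Matrix I4 I4 F) = a ⊗ₖ b) (ha : a ≠ 0)
    (u : _root_.Matrix.SpecialLinearGroup (Fin 2) F) (hu : (u.1 - 1) * (u.1 - 1) = 0)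
    (h : Sem A σ * fB F u = fB F u * Sem A σ) : b * u.1.map σ = u.1 * b := by
  rw [fB_apply, Sem_comm_iff] at h
  obtain ⟨c, -, hc⟩ := h
  have h1 := unip_exact A σ (kr u) (nil_of (by
    rw [kr_sub, ← Matrix.mul_kronecker_mul, hu, Matrix.kronecker_zero])) hc
  rw [← coe_mg, mg_kr, hA, coe_kr, ← Matrix.mul_kronecker_mul, ← Matrix.mul_kronecker_mul,
    Matrix.mul_one, Matrix.one_mul] at h1
  exact kron_cancel_left ha h1

/-- nothing centralises both -/
theorem sem_cent {a b : Matrix (Fin 2) (Fin 2) F} (hA : (A : Matrix I4 I4 F) = a ⊗ₖ b)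
    (h₁ : ∀ k, Sem A σ * fA F k = fA F k * Sem A σ)
    (h₂ : ∀ k, Sem A σ * fB F k = fB F k * Sem A σ) : Sem A σ = 1 := by
  have hd : a.det ≠ 0 ∧ b.det ≠ 0 := det_ne_of (by rw [← hA]; exact A.isUnit)
  have ha : a ≠ 0 := by
    rintro rfl
    exact hd.1 (by simp)
  have hb : b ≠ 0 := by
    rintro rfl
    exact hd.2 (by simp)
  obtain ⟨ha1, hσ⟩ := scal_of σ (fun s => exact_kl σ hA hb (uSL s) (u_sq s) (h₁ _))
    (exact_kl σ hA hb (lSL 1) (l_sq 1) (h₁ _))
  obtain ⟨hb1, -⟩ := scal_of σ (fun s => exact_kr σ hA ha (uSL s) (u_sq s) (h₂ _))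
    (exact_kr σ hA ha (lSL 1) (l_sq 1) (h₂ _))
  have ha0 : a 0 0 ≠ 0 := by
    intro h
    rw [h, zero_smul] at ha1
    exact ha ha1
  have hσ1 : σ = RingEquiv.refl F := by
    apply RingEquiv.ext
    intro s
    apply mul_left_cancel₀ ha0
    rw [hσ s, mul_comm]
    rfl
  rw [hσ1, Sem_one, Cj_eq_one_iff]
  refine ⟨a 0 0 * b 0 0, ?_⟩
  rw [hA, ha1, hb1, one_kron_one, Matrix.smul_kronecker, Matrix.kronecker_smul, smul_smul]
  simp only [_root_.Fin.isValue, _root_.MulZeroClass.zero_mul, _root_.implies_true, _root_.MulZeroClass.mul_zero, _root_.mul_one, _root_.Matrix.kroneckerMap_one_one, _root_.Matrix.smul_apply, _root_.Matrix.one_apply_eq, _root_.smul_eq_mul]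

end sem

end Cfsg.Agent.H815.RC
end

-- part: H815/RC/OFour
section
/-!
# S3510 part B, box BO4: `PSL₄(q)`, plus type, `q` odd, `q ≥ 5` (helper815)
-/

set_option autoImplicit false
open Matrix MulAction
open scoped Kronecker

namespace Cfsg.Agent.H815.RC

open Cfsg.Agent.H106.RC Cfsg.Agent.H999.PslGraph Cfsg.Agent.H384.RC
open Cfsg.Agent.ClassicalGeometry.AutPSL.Auto

section tt

variable {F : Type} [Field F]

/-- the form -/
def jj (F : Type*) [Field F] : Matrix I4 I4 F := !![0, 1; -1, 0] ⊗ₖ !![0, 1; -1, 0]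

theorem jj_T : (jj F)ᵀ = jj F := by
  ext ⟨i, j⟩ ⟨k, l⟩
  (revert i j k l; simp only [jj, _root_.Fin.forall_fin_succ, _root_.Matrix.transpose_apply, _root_.Matrix.kroneckerMap_apply, _root_.Matrix.of_apply, _root_.Matrix.cons_val', _root_.Matrix.cons_val_fin_one, Fin.isValue, _root_.Matrix.cons_val_zero, _root_.Matrix.cons_val_succ, _root_.forall_const, _root_.MulZeroClass.mul_zero, _root_.mul_neg, _root_.mul_one, _root_.true_and, _root_.and_true, _root_.neg_zero, _root_.neg_neg, _root_.and_self, _root_.implies_true])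

theorem two_J (a : _root_.Matrix.SpecialLinearGroup (Fin 2) F) :
    a.1ᵀ * !![0, 1; -1, 0] * a.1 = !![0, 1; -1, 0] := by
  have hd : a.1 0 0 * a.1 1 1 - a.1 0 1 * a.1 1 0 = 1 := by
    rw [← Matrix.det_fin_two]; exact a.2
  ext i j
  (revert i j; simp only [Matrix.mul_apply, Fin.sum_univ_two, _root_.Fin.forall_fin_succ, _root_.Matrix.transpose_apply, _root_.Matrix.of_apply, _root_.Matrix.cons_val', _root_.Matrix.cons_val_fin_one, Fin.isValue, _root_.Matrix.cons_val_zero, _root_.Matrix.cons_val_one, _root_.MulZeroClass.mul_zero, _root_.mul_neg, _root_.mul_one, _root_.zero_add, _root_.neg_mul, _root_.add_zero, _root_.Matrix.cons_val_succ, _root_.Fin.succ_zero_eq_one, _root_.IsEmpty.forall_iff, _root_.and_true, _root_.true_and]) <;> (repeat' with_reducible apply And.intro)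
  · ring
  · linear_combination hd
  · linear_combination -hd
  · ring

theorem jj_kl (a : _root_.Matrix.SpecialLinearGroup (Fin 2) F) :
    (kl a : Matrix I4 I4 F)ᵀ * jj F * (kl a : Matrix I4 I4 F) = jj F := by
  rw [coe_kl, jj, ← Matrix.kroneckerMap_transpose, ← Matrix.mul_kronecker_mul,
    ← Matrix.mul_kronecker_mul, two_J, Matrix.transpose_one, Matrix.one_mul, Matrix.mul_one]

theorem jj_kr (a : _root_.Matrix.SpecialLinearGroup (Fin 2) F) :
    (kr a : Matrix I4 I4 F)ᵀ * jj F * (kr a : Matrix I4 I4 F) = jj F := by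
  rw [coe_kr, jj, ← Matrix.kroneckerMap_transpose, ← Matrix.mul_kronecker_mul,
    ← Matrix.mul_kronecker_mul, two_J, Matrix.transpose_one, Matrix.one_mul, Matrix.mul_one]

theorem jj_rad (X : Matrix (Fin 2) (Fin 2) F) :
    (rad X : Matrix I4 I4 F)ᵀ * jj F = jj F * (rad (-adjugate X) : Matrix I4 I4 F) := by
  rw [coe_rad, coe_rad, Matrix.transpose_add, Matrix.transpose_one, Matrix.mul_add, Matrix.add_mul,
    Matrix.one_mul, Matrix.mul_one, jj, ← Matrix.kroneckerMap_transpose,
    ← Matrix.mul_kronecker_mul, ← Matrix.mul_kronecker_mul]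
  congr 1
  obtain ⟨a, b, c, d, rfl⟩ := exists_of_two X
  rw [adj_two]
  ext ⟨i, j⟩ ⟨k, l⟩
  (revert i j k l; simp only [nn, Matrix.mul_apply, Fin.sum_univ_two, _root_.Fin.forall_fin_succ, _root_.Matrix.kroneckerMap_apply, _root_.Matrix.transpose_apply, _root_.Matrix.of_apply, _root_.Matrix.cons_val', _root_.Matrix.cons_val_fin_one, Fin.isValue, _root_.Matrix.cons_val_zero, _root_.Matrix.cons_val_one, _root_.Matrix.cons_mul, _root_.Nat.succ_eq_add_one, Nat.reduceAdd, _root_.Matrix.vecMul_cons, _root_.Matrix.head_cons, _root_.zero_smul, _root_.Matrix.tail_cons, _root_.one_smul, _root_.Matrix.empty_vecMul, _root_.add_zero, _root_.zero_add, _root_.neg_smul, _root_.Matrix.neg_cons, _root_.neg_zero, _root_.Matrix.neg_empty, _root_.Matrix.empty_mul, _root_.Equiv.symm_apply_apply, _root_.Matrix.neg_of, _root_.neg_neg, _root_.MulZeroClass.mul_zero, _root_.mul_neg, _root_.mul_one, _root_.Matrix.cons_val_succ, _root_.forall_const, _root_.neg_mul, _root_.mul_eq_mul_right_iff,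 _root_.neg_inj, _root_.true_or, _root_.and_self, _root_.MulZeroClass.zero_mul, _root_.one_mul, _root_.implies_true])

variable {B : GL I4 F} (hB : (B : Matrix I4 I4 F) = jj F)

include hB

theorem t_sq : gam B * gam B = 1 := gam_sq B (Or.inl (by rw [hB, jj_T]))

theorem t_fA (a : _root_.Matrix.SpecialLinearGroup (Fin 2) F) : gam B * fA F a = fA F a * gam B := by
  rw [fA_apply, gam_comm_Cj_iff]
  exact ⟨1, one_ne_zero, by rw [hB, jj_kl, one_smul]⟩

theorem t_fB (a : _root_.Matrix.SpecialLinearGroup (Fin 2) F) : gam B * fB F a = fB F a * gam B := by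
  rw [fB_apply, gam_comm_Cj_iff]
  exact ⟨1, one_ne_zero, by rw [hB, jj_kr, one_smul]⟩

theorem t_rad (X : Matrix (Fin 2) (Fin 2) F) :
    Cj (rad X) * gam B * (Cj (rad X))⁻¹ * (gam B)⁻¹ = Cj (rad (X - adjugate X)) := by
  rw [comm_gam]
  congr 1
  rw [sub_eq_add_neg, rad_add]
  congr 1
  rw [mul_assoc, inv_mul_eq_iff_eq_mul]
  apply Units.ext
  rw [Units.val_mul, Units.val_mul, coe_ct_inv, hB, jj_rad]

/-- structure of the elements of odd order commuting with `t` -/
theorem sem_struct [Fintype F] (h2 : (2 : F) ≠ 0)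
    (x : MulAut (Matrix.ProjectiveSpecialLinearGroup I4 F)) {r : ℕ} (hr : Odd r) (hx : x ^ r = 1)
    (hxt : gam B * x = x * gam B) :
    ∃ (A : GL I4 F) (σ : F ≃+* F) (a b : Matrix (Fin 2) (Fin 2) F),
      (A : Matrix I4 I4 F) = a ⊗ₖ b ∧ x = Sem A σ := by
  obtain ⟨A, σ, rfl⟩ := exists_sem_of_odd (by decide) x hr hx
  refine ⟨A, σ, ?_⟩
  obtain ⟨c, hc, h⟩ := (gam_comm_iff A σ B).1 hxt
  have hσ : (jj F).map σ = jj F := by
    ext ⟨i, j⟩ ⟨k, l⟩
    (revert i j k l; simp only [jj, _root_.Fin.forall_fin_succ, _root_.Matrix.map_apply, _root_.Matrix.kroneckerMap_apply, _root_.Matrix.of_apply, _root_.Matrix.cons_val', _root_.Matrix.cons_val_fin_one, _root_.map_mul, Fin.isValue, _root_.Matrix.cons_val_zero, _root_.Matrix.cons_val_succ, _root_.forall_const, _root_.map_zero, _root_.MulZeroClass.mul_zero, _root_.map_one, _root_.mul_one, _root_.true_and, _root_.RingEquiv.map_neg_one, _root_.mul_neg, _root_.neg_inj, _root_.and_true, _root_.and_self, _root_.implies_true])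
  rw [hB, hσ] at h
  have h3 : (A : Matrix I4 I4 F)ᵀ * jj F * (A : Matrix I4 I4 F) = c⁻¹ • jj F := by
    calc (A : Matrix I4 I4 F)ᵀ * jj F * (A : Matrix I4 I4 F) =
        c⁻¹ • (c • ((A : Matrix I4 I4 F)ᵀ * jj F * (A : Matrix I4 I4 F))) := by
          rw [smul_smul, inv_mul_cancel₀ hc, one_smul]
      _ = _ := by rw [← h]
  obtain ⟨a, b, hab | hab⟩ := Cfsg.Agent.H239.RC.bsim h2 A (inv_ne_zero hc) h3
  · exact ⟨a, b, hab, rfl⟩
  · exfalso
    exact fA_ne_fB (odd_swap (fA F) (fB F) _ hr hx (swap_kl σ hab) (swap_kr σ hab))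

end tt

section pts

variable {F : Type} [Field F]

/-- the automorphism group -/
abbrev AA (F : Type*) [Field F] := MulAut (Matrix.ProjectiveSpecialLinearGroup I4 F)

/-- the elements of the radical fixing a point -/
noncomputable def VV {H : Subgroup (MulAut (Matrix.ProjectiveSpecialLinearGroup I4 F))}
    (ω : MulAut (Matrix.ProjectiveSpecialLinearGroup I4 F) ⧸ H) :
    AddSubgroup (Matrix (Fin 2) (Fin 2) F) where
  carrier := {X | Cj (rad X) • ω = ω}
  add_mem' := by
    intro X Y hX hY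
    show Cj (rad (X + Y)) • ω = ω
    rw [rad_add, map_mul, mul_smul]
    have hX' : Cj (rad X) • ω = ω := hX
    have hY' : Cj (rad Y) • ω = ω := hY
    rw [hY', hX']
  zero_mem' := by
    show Cj (rad 0) • ω = ω
    rw [rad_zero, map_one, one_smul]
  neg_mem' := by
    intro X hX
    show Cj (rad (-X)) • ω = ω
    have hX' : Cj (rad X) • ω = ω := hX
    have h : rad (-X) = (rad X)⁻¹ := by
      rw [eq_inv_iff_mul_eq_one, ← rad_add, neg_add_cancel, rad_zero]
    rw [h, map_inv, inv_smul_eq_iff, hX']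

variable {H : Subgroup (MulAut (Matrix.ProjectiveSpecialLinearGroup I4 F))}

theorem mem_VV {ω : AA F ⧸ H} {X : Matrix (Fin 2) (Fin 2) F} :
    X ∈ VV ω ↔ Cj (rad X) • ω = ω := Iff.rfl

/-- points of the orbit -/
def Orb (ω : AA F ⧸ H) : Prop := ∃ n ∈ inn (Matrix.ProjectiveSpecialLinearGroup I4 F), ω = (n : AA F ⧸ H)

theorem Orb.smul {ω : AA F ⧸ H} (h : Orb ω) {g : GL I4 F} (hg : (g : Matrix I4 I4 F).det = 1) :
    Orb (Cj g • ω) := by
  obtain ⟨n, hn, rfl⟩ := h
  exact ⟨Cj g * n, (inn _).mul_mem (Cj_mem_inn g hg) hn, rfl⟩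

theorem det_inv_eq {g : GL I4 F} (hg : (g : Matrix I4 I4 F).det = 1) :
    ((g⁻¹ : GL I4 F) : Matrix I4 I4 F).det = 1 := by
  have h : (g : Matrix I4 I4 F).det * ((g⁻¹ : GL I4 F) : Matrix I4 I4 F).det = 1 := by
    rw [← det_mul, ← Units.val_mul, mul_inv_cancel, Units.val_one, det_one]
  rwa [hg, one_mul] at h

/-- the stabiliser in the abelian radical is constant on its orbits -/
theorem VV_rad (ω : AA F ⧸ H) (Y : Matrix (Fin 2) (Fin 2) F) : VV (Cj (rad Y) • ω) = VV ω := by
  ext X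
  rw [mem_VV, mem_VV]
  have h : Cj (rad X) * Cj (rad Y) = Cj (rad Y) * Cj (rad X) := by
    rw [← map_mul, ← map_mul, ← rad_add, ← rad_add, add_comm]
  rw [← mul_smul, h, mul_smul]
  constructor
  · intro h; exact smul_left_cancel _ h
  · intro h; rw [h]

variable {B : GL I4 F} (hB : (B : Matrix I4 I4 F) = jj F)
  (hst : ∀ ω : AA F ⧸ H, Orb ω → gam B • ω = ω ∨ (∀ k, fA F k • ω = ω) ∨ (∀ k, fB F k • ω = ω))

include hB hst

/-- if `t` fixes all points of the orbit of the radical -/
theorem sl_of_t (h2 : (2 : F) ≠ 0) (ω : AA F ⧸ H)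
    (h : ∀ X : Matrix (Fin 2) (Fin 2) F, gam B • Cj (rad X) • ω = Cj (rad X) • ω) (a b c : F) :
    !![a, b; c, -a] ∈ VV ω := by
  have h0 := h 0
  rw [rad_zero, map_one, one_smul] at h0
  have h1 := h (-!![a / 2, b / 2; c / 2, -a / 2])
  have h3 : (Cj (rad !![a / 2, b / 2; c / 2, -a / 2]) * gam B *
      (Cj (rad !![a / 2, b / 2; c / 2, -a / 2]))⁻¹ * (gam B)⁻¹) • ω = ω := by
    have e : (Cj (rad !![a / 2, b / 2; c / 2, -a / 2]))⁻¹ =
        Cj (rad (-!![a / 2, b / 2; c / 2, -a / 2])) := by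
      rw [inv_eq_iff_mul_eq_one, ← map_mul, ← rad_add, add_neg_cancel, rad_zero, map_one]
    have h4 : (gam B)⁻¹ • ω = ω := by rw [inv_smul_eq_iff, h0]
    rw [mul_smul, h4, mul_smul, mul_smul, e, h1, ← mul_smul, ← map_mul, ← rad_add, add_neg_cancel,
      rad_zero, map_one, one_smul]
  rw [t_rad hB] at h3
  rw [mem_VV]
  have e : !![a, b; c, -a] = !![a / 2, b / 2; c / 2, -a / 2] -
      adjugate !![a / 2, b / 2; c / 2, -a / 2] := by
    rw [adj_two]
    ext i j
    (revert i j; simp only [_root_.Fin.forall_fin_succ, _root_.Matrix.of_apply, _root_.Matrix.cons_val', _root_.Matrix.cons_val_fin_one, _root_.Matrix.sub_apply, Fin.isValue, _root_.Matrix.cons_val_zero, _root_.Matrix.cons_val_succ, _root_.forall_const, _root_.sub_neg_eq_add]) <;> (repeat' with_reducible apply And.intro) <;> field_simp <;> ring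
  rw [e]
  exact h3

/-- the key dichotomy -/
theorem key_point (h2 : (2 : F) ≠ 0) (ω : AA F ⧸ H) (hω : Orb ω) :
    (∀ c : F, c • (1 : Matrix (Fin 2) (Fin 2) F) ∈ VV ω) ∨
    (∀ a b c : F, !![a, b; c, -a] ∈ VV ω) ∨
    (∀ X ∈ VV ω, ∃ c : F, X = c • 1) := by
  by_cases h1 : ∀ c : F, c • (1 : Matrix (Fin 2) (Fin 2) F) ∈ VV ω
  · exact Or.inl h1
  right
  push Not at h1
  obtain ⟨c₀, hc₀⟩ := h1
  by_cases h3 : ∀ a b c : F, !![a, b; c, -a] ∈ VV ω
  · exact Or.inl h3
  -- some point is not fixed by `t`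
  have h4 : ∃ X : Matrix (Fin 2) (Fin 2) F, gam B • Cj (rad X) • ω ≠ Cj (rad X) • ω := by
    by_contra hcon
    push Not at hcon
    exact h3 (sl_of_t hB hst h2 ω hcon)
  obtain ⟨X, hX⟩ := h4
  have h5 : ∀ k, fB F k • Cj (rad X) • ω = Cj (rad X) • ω := by
    rcases hst _ (hω.smul (det_rad X)) with h5 | h5 | h5
    · exact absurd h5 hX
    · exfalso
      apply hc₀
      rw [← VV_rad ω X, mem_VV, ← kl_u]
      exact h5 _
    · exact h5
  rw [← VV_rad ω X]
  apply inv_two h2
  intro b Y hY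
  rw [mem_VV] at hY ⊢
  rw [← kr_rad, map_mul, map_mul, map_inv]
  have h6 := h5 b
  rw [fB_apply] at h6
  have h7 : (Cj (kr b))⁻¹ • Cj (rad X) • ω = Cj (rad X) • ω := by
    rw [inv_smul_eq_iff, h6]
  rw [mul_smul, mul_smul, h7, hY, h6]

theorem VV_all (h2 : (2 : F) ≠ 0) (ω : AA F ⧸ H) (hω : Orb ω) :
    (∀ X ∈ VV ω, X = 0) ∨ (∀ X, X ∈ VV ω) := by
  apply zero_or_all h2
  intro g
  -- the point `bd g • ω`
  have hω' : Orb (Cj (bd g) • ω) := hω.smul (det_bd g)
  have hV : ∀ X, X ∈ VV (Cj (bd g) • ω) ↔ X * g.1 ∈ VV ω := by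
    intro X
    rw [mem_VV, mem_VV, ← bd_rad, map_mul, map_mul, map_inv, mul_smul, mul_smul, inv_smul_eq_iff]
  rcases key_point hB hst h2 _ hω' with h | h | h
  · left
    intro c
    have := (hV _).1 (h c)
    rwa [Matrix.smul_mul, Matrix.one_mul] at this
  · right; left
    intro a b c
    exact (hV _).1 (h a b c)
  · right; right
    intro X hX
    have hg1 : adjugate g.1 * g.1 = 1 := by
      rw [Matrix.adjugate_mul, g.2, one_smul]
    obtain ⟨c, hc⟩ := h (X * adjugate g.1) ((hV _).2 (by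
      rwa [Matrix.mul_assoc, hg1, Matrix.mul_one]))
    refine ⟨c, ?_⟩
    have h3 := congrArg (fun Z => Z * g.1) hc
    simpa only [Matrix.mul_assoc, hg1, Matrix.mul_one, Matrix.smul_mul, Matrix.one_mul] using h3

/-- the radical fixes every point -/
theorem rad_fix (h2 : (2 : F) ≠ 0) (ω : AA F ⧸ H) (hω : Orb ω) : ∀ X, X ∈ VV ω := by
  rcases VV_all hB hst h2 ω hω with h | h
  swap
  · exact h
  exfalso
  -- some point is not fixed by `t`
  have h4 : ∃ X : Matrix (Fin 2) (Fin 2) F, gam B • Cj (rad X) • ω ≠ Cj (rad X) • ω := by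
    by_contra hcon
    push Not at hcon
    have h3 := h _ (sl_of_t hB hst h2 ω hcon 1 0 0)
    have := congrFun (congrFun h3 0) 0
    simp at this
  obtain ⟨X, hX⟩ := h4
  have h5 : ∀ k, fB F k • Cj (rad X) • ω = Cj (rad X) • ω := by
    rcases hst _ (hω.smul (det_rad X)) with h5 | h5 | h5
    · exact absurd h5 hX
    · exfalso
      have h6 : (1 : F) • (1 : Matrix (Fin 2) (Fin 2) F) ∈ VV ω := by
        rw [← VV_rad ω X, mem_VV, ← kl_u]
        exact h5 _
      rw [one_smul] at h6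
      exact one_ne_zero (h _ h6)
    · exact h5
  -- the other radical
  set ω' := Cj (rad X) • ω with hω'
  have ho : Orb ω' := hω.smul (det_rad X)
  have hfd : (((fl F)⁻¹ : GL I4 F) : Matrix I4 I4 F).det = 1 := det_inv_eq det_fl
  have hV : ∀ Y, Y ∈ VV (Cj (fl F)⁻¹ • ω') ↔ Cj (fl F * rad Y * (fl F)⁻¹) • ω' = ω' := by
    intro Y
    rw [mem_VV, map_mul, map_mul, mul_smul, mul_smul, map_inv]
    constructor
    · intro h; rw [h, smul_inv_smul]
    · intro h
      apply smul_left_cancel (Cj (fl F))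
      rw [h, smul_inv_smul]
  rcases VV_all hB hst h2 _ (ho.smul hfd) with h7 | h7
  · have h8 : !![-1, 0; 0, 1] ∈ VV (Cj (fl F)⁻¹ • ω') := by
      rw [hV, fl_one]
      exact h5 _
    have := congrFun (congrFun (h7 _ h8) 1) 1
    simp at this
  · have h8 := (hV _).1 (h7 (-nn F))
    rw [fl_nn] at h8
    have h9 : nn F ∈ VV ω := by
      rw [← VV_rad ω X]
      exact h8
    have := congrFun (congrFun (h _ h9) 0) 1
    simp [nn] at this

end pts

/-- **box BO4** -/
theorem killed_O4 {F : Type} [Field F] [Fintype F] (h2 : (2 : F) ≠ 0) (hq : 5 ≤ Fintype.card F)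
    (hRC : RCo (Matrix.ProjectiveSpecialLinearGroup (Fin 2) F))
    (B : GL (Fin 2 × Fin 2) F)
    (hB : (B : Matrix (Fin 2 × Fin 2) (Fin 2 × Fin 2) F) =
      Matrix.kroneckerMap (· * ·) !![0, 1; -1, 0] !![0, 1; -1, 0]) :
    Killed (gam B) := by
  have hB' : (B : Matrix I4 I4 F) = jj F := hB
  rw [killed_iff]
  intro κ _ x r hF H hcov
  have hS : IsSimpleGroup (Matrix.ProjectiveSpecialLinearGroup (Fin 2 × Fin 2) F) :=
    Cfsg.Agent.LieClassical.SLGen.psl_isSimpleGroup (by decide)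
  have hodd : ∀ i, Odd (r i) := fun i => (hF.pr i).odd_of_ne_two (hF.ne2 i)
  have hstr := fun i => sem_struct hB' h2 (x i) (hodd i) (hF.pow i) (hF.commt i)
  have hst := star hF (t_sq hB') hcov
    (Matrix.ProjectiveSpecialLinearGroup.rank_two_simple (by rw [Nat.card_eq_fintype_card]; omega))
    (psl_not_comm F) hRC (fA F) (fB F) fA_eq_one fB_eq_one fA_inn fB_inn (t_fA hB') (t_fB hB')
    fA_fB
    (fun i k => by
      obtain ⟨A, σ, a, b, hab, hx⟩ := hstr i
      rw [hx]
      exact sem_kl σ hab k)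
    (fun i k => by
      obtain ⟨A, σ, a, b, hab, hx⟩ := hstr i
      rw [hx]
      exact sem_kr σ hab k)
    (fun i h₁ h₂ => by
      obtain ⟨A, σ, a, b, hab, hx⟩ := hstr i
      rw [hx] at h₁ h₂ ⊢
      exact sem_cent σ hab h₁ h₂)
  have hst' : ∀ ω : MulAut (Matrix.ProjectiveSpecialLinearGroup I4 F) ⧸ H, Orb ω →
      gam B • ω = ω ∨ (∀ k, fA F k • ω = ω) ∨ (∀ k, fB F k • ω = ω) := by
    rintro _ ⟨n, hn, rfl⟩
    exact hst n hn
  apply inn_le_of_fix hS (Cj_mem_inn (rad (nn F)) (det_rad _)) ?_ H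
  · intro n hn
    exact rad_fix hB' hst' h2 _ ⟨n, hn, rfl⟩ (nn F)
  · rw [Ne, Cj_eq_one_iff]
    rintro ⟨c, hc⟩
    have := congrFun (congrFun hc (0, 0)) (1, 1)
    simp [coe_rad, nn] at this

end Cfsg.Agent.H815.RC
end

private theorem dce_55e1460271e1 : _root_.True := by
  try have : _root_.True := by simp only [_root_.Cfsg.Agent.H815.RC.eb.eq_1]
  try have : _root_.True := by simp only [_root_.Cfsg.Agent.H815.RC.nn.eq_1]
  try have : _root_.True := by simp only [_root_.Cfsg.Agent.H815.RC.e0.eq_1]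
  try have : _root_.True := by simp only [_root_.Cfsg.Agent.H815.RC.e1.eq_1]
  try have : _root_.True := by simp only [_root_.Cfsg.Agent.H815.RC.cjm.eq_1]
  try have : _root_.True := by simp only [_root_.Cfsg.Agent.H815.RC.fl.eq_1]
  try have : _root_.True := by simp only [_root_.Cfsg.Agent.H239.RC.om.eq_1]
  try have : _root_.True := by simp only [_root_.Cfsg.Agent.H815.RC.e4.eq_1]
  try have : _root_.True := by simp only [_root_.Cfsg.Agent.H815.RC.uSL.eq_1]
  try have : _root_.True := by simp only [_root_.Cfsg.Agent.H815.RC.jj.eq_1]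
  try have : _root_.True := by simp only [_root_.Cfsg.Agent.H815.RC.wSL.eq_1]
  try have : _root_.True := by simp only [_root_.Cfsg.Agent.H815.RC.lSL.eq_1]
  exact _root_.True.intro
end

-- part: H297/RC/LR
section
prune_inst 0x353075250f621000401c009063000095790001920040880008e50f06024080422d0280410880041b400209000001002000100030422000000a2404000004010000c09406b0480019000086000008010000100000000000000000000000000000010000000
set_option linter.all false
open scoped Cfsg.Agent.FastGrp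

/-!
# S3510, row F, box F1: the long root rule for orthogonal groups
-/

set_option autoImplicit false
open Cfsg

namespace Cfsg.Agent.H297.RC

open QuadraticMap MulAction
open Cfsg.Agent.LieClassical.OrthCore Cfsg.Agent.LieClassical.OrthTrans
open Cfsg.Agent.LieClassical.OrthSimple Cfsg.Agent.ClassicalGeometry.OrthSemi
open Cfsg.Agent.ClassicalGeometry.OrthAut1 Cfsg.Agent.H106.RC Cfsg.Agent.H93.RC
open Cfsg.Agent.AutOrth.SemiSim (sg sg_mul sg_congr sg_zero ext_E sg_apply)

section plane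

variable {F V : Type*} [Field F] [AddCommGroup V] [Module F V] {Q : QuadraticForm F V}

theorem ts_pair {u w : V} (hu : Q u = 0) (hw : Q w = 0) (huw : polar Q u w = 0) :
    TS Q (Submodule.span F {u, w}) := by
  intro v hv
  obtain ⟨a, b, rfl⟩ := Submodule.mem_span_pair.1 hv
  rw [Q_add, QuadraticMap.map_smul, QuadraticMap.map_smul, hu, hw, polar_smul_left, polar_smul_right, huw]
  simp

theorem perp_pair {u w v : V} : (∀ l ∈ Submodule.span F {u, w}, polar Q l v = 0) ↔ polar Q u v = 0 ∧ polar Q w v = 0 := by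
  constructor
  · intro h
    exact ⟨h u (Submodule.subset_span (by simp)), h w (Submodule.subset_span (by simp))⟩
  · rintro ⟨h1, h2⟩ l hl
    obtain ⟨a, b, rfl⟩ := Submodule.mem_span_pair.1 hl
    rw [polar_add_left, polar_smul_left, polar_smul_left, h1, h2]
    simp

theorem finrank_pair_le (u w : V) : Module.finrank F (Submodule.span F {u, w}) ≤ 2 := by
  classical
  have h := finrank_span_finset_le_card (R := F) ({u, w} : Finset V)
  rw [Finset.coe_pair] at h
  exact h.trans Finset.card_le_two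

theorem finrank_pair {l m : V} (hl : l ≠ 0) (hm : ∀ a : F, m ≠ a • l) :
    Module.finrank F (Submodule.span F {l, m}) = 2 := by
  have h1 : LinearIndependent F ![l, m] := by
    rw [LinearIndependent.pair_iff' hl]
    intro a ha
    exact hm a ha.symm
  have h2 := finrank_span_eq_card h1
  rw [Matrix.range_cons, Matrix.range_cons, Matrix.range_empty, Set.union_empty, Set.singleton_union] at h2
  simpa using h2

/-- a vector of the perpendicular space outside the plane -/
theorem exists_out [FiniteDimensional F V] (hd : 5 ≤ Module.finrank F V) (u w : V) :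
    ∃ b, (polar Q u b = 0 ∧ polar Q w b = 0) ∧ b ∉ Submodule.span F {u, w} := by
  by_contra hcon
  push Not at hcon
  let φ : V →ₗ[F] F × F := (polarBilin Q u).prod (polarBilin Q w)
  have h1 : LinearMap.ker φ ≤ Submodule.span F {u, w} := by
    intro v hv
    have h2 : (polar Q u v, polar Q w v) = ((0 : F), (0 : F)) := hv
    exact hcon v ⟨congrArg Prod.fst h2, congrArg Prod.snd h2⟩
  have h2 := LinearMap.finrank_range_add_finrank_ker φ
  have h3 : Module.finrank F (LinearMap.range φ) ≤ 2 := by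
    have := Submodule.finrank_le (LinearMap.range φ)
    rwa [Module.finrank_prod, Module.finrank_self] at this
  have h4 := Submodule.finrank_mono h1
  have h5 := finrank_pair_le (F := F) u w
  omega

theorem ind_symm {u w : V} (hu0 : u ≠ 0) (hind : ∀ a : F, w ≠ a • u) (a : F) : u ≠ a • w := by
  intro h
  by_cases ha : a = 0
  · rw [ha, zero_smul] at h; exact hu0 h
  · exact hind a⁻¹ (by rw [h, smul_smul, inv_mul_cancel₀ ha, one_smul])

/-- the double perpendicular of a plane -/
theorem mem_of_perp (hQ : Nondeg Q) {u w : V} (hu0 : u ≠ 0) (hind : ∀ a : F, w ≠ a • u) {v : V}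
    (h : ∀ b, polar Q u b = 0 → polar Q w b = 0 → polar Q v b = 0) : v ∈ Submodule.span F {u, w} := by
  obtain ⟨w', h1, h2⟩ := exists_sep hQ hind
  obtain ⟨u', h3, h4⟩ := exists_sep hQ (ind_symm hu0 hind)
  have h5 : v - polar Q v u' • u - polar Q v w' • w = 0 := by
    apply hQ
    intro y
    have h6 := h (y - polar Q u y • u' - polar Q w y • w') (by
      rw [polar_sub_right, polar_sub_right, polar_smul_right, polar_smul_right, h4, h1]
      simp) (by
      rw [polar_sub_right, polar_sub_right, polar_smul_right, polar_smul_right, h3, h2]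
      simp)
    rw [polar_sub_right, polar_sub_right, polar_smul_right, polar_smul_right] at h6
    rw [polar_sub_left, polar_sub_left, polar_smul_left, polar_smul_left]
    simp only [smul_eq_mul] at h6 ⊢
    linear_combination h6
  refine Submodule.mem_span_pair.2 ⟨polar Q v u', polar Q v w', ?_⟩
  rw [sub_sub, sub_eq_zero] at h5
  exact h5.symm

/-- a vector of the perpendicular space not orthogonal to a given vector outside the plane -/
theorem exists_b (hQ : Nondeg Q) {u w : V} (hu0 : u ≠ 0) (hind : ∀ a : F, w ≠ a • u) {v : V}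
    (hv : v ∉ Submodule.span F {u, w}) (s : F) : ∃ b, polar Q u b = 0 ∧ polar Q w b = 0 ∧ polar Q v b = s := by
  by_contra hcon
  push Not at hcon
  apply hv
  apply mem_of_perp hQ hu0 hind
  intro b h1 h2
  by_contra h3
  apply hcon ((s * (polar Q v b)⁻¹) • b)
  · rw [polar_smul_right, h1, smul_zero]
  · rw [polar_smul_right, h2, smul_zero]
  · rw [polar_smul_right, smul_eq_mul, mul_assoc, inv_mul_cancel₀ h3, mul_one]

open Classical in
/-- total version of the Siegel elements -/
noncomputable def ss (Q : QuadraticForm F V) (l b : V) : ↥(E Q) :=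
  if h : Q l = 0 ∧ polar Q l b = 0 then sg Q l b h.1 h.2 else 1

theorem ss_eq {l b : V} (hl : Q l = 0) (hb : polar Q l b = 0) : ss Q l b = sg Q l b hl hb := by
  unfold ss
  rw [dif_pos ⟨hl, hb⟩]

theorem ss_add {l b b' : V} (hl : Q l = 0) (hb : polar Q l b = 0) (hb' : polar Q l b' = 0) :
    ss Q l (b + b') = ss Q l b * ss Q l b' := by
  have h : polar Q l (b + b') = 0 := by rw [polar_add_right, hb, hb', add_zero]
  rw [ss_eq hl hb, ss_eq hl hb', ss_eq hl h, sg_mul]

theorem ss_zero {l : V} (hl : Q l = 0) : ss Q l 0 = 1 := by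
  rw [ss_eq hl (by simp)]
  exact sg_zero hl _

theorem ss_neg {l b : V} (hl : Q l = 0) (hb : polar Q l b = 0) : ss Q l (-b) = (ss Q l b)⁻¹ := by
  rw [eq_inv_iff_mul_eq_one, ← ss_add hl (by rw [polar_neg_right, hb, neg_zero]) hb, neg_add_cancel, ss_zero hl]

theorem ss_mem {L : Submodule F V} (hT : TS Q L) {l b : V} (hl : l ∈ L) (hb : ∀ v ∈ L, polar Q v b = 0) :
    ss Q l b ∈ U Q L := by
  rw [ss_eq (hT l hl) (hb l hl)]
  exact ClassicalGeometry.OrthAut2.sg_mem_U hT hl (fun v hv => by rw [polar_comm]; exact hb v hv) _ _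

/-- conjugation of Siegel elements of the radical -/
theorem ss_cj {L : Submodule F V} (hT : TS Q L) {l l' b b' : V} (hl : l ∈ L) (hl' : l' ∈ L)
    (hb : ∀ v ∈ L, polar Q v b = 0) (hb' : ∀ v ∈ L, polar Q v b' = 0) :
    ss Q l b * ss Q l' b' * (ss Q l b)⁻¹ = ss Q l' b' * ss Q l' (-(polar Q b b') • l) := by
  have h0 : polar Q l' (-(polar Q b b') • l) = 0 := by rw [polar_smul_right, hT.polar hl' hl, smul_zero]
  rw [← ss_add (hT l' hl') (hb' l' hl') h0]
  have e1 : (sg Q l b (hT l hl) (hb l hl) : V ≃ₗ[F] V) l' = l' := by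
    rw [sg_apply, hT.polar hl hl', polar_comm Q b l', hb l' hl']
    simp
  have e2 : (sg Q l b (hT l hl) (hb l hl) : V ≃ₗ[F] V) b' = b' + -(polar Q b b') • l := by
    rw [sg_apply, hb' l hl]
    module
  have h1 : Q ((sg Q l b (hT l hl) (hb l hl) : V ≃ₗ[F] V) l') = 0 := by rw [e1]; exact hT l' hl'
  have h2 : polar Q ((sg Q l b (hT l hl) (hb l hl) : V ≃ₗ[F] V) l')
      ((sg Q l b (hT l hl) (hb l hl) : V ≃ₗ[F] V) b') = 0 := by
    rw [e1, e2, polar_add_right, hb' l' hl', h0, add_zero]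
  have h3 : polar Q l' (b' + -(polar Q b b') • l) = 0 := by rw [polar_add_right, hb' l' hl', h0, add_zero]
  rw [ss_eq (hT l hl) (hb l hl), ss_eq (hT l' hl') (hb' l' hl'), ss_eq (hT l' hl') h3,
    Cfsg.Agent.AutOrth.SemiSim.conj_sg _ (hT l' hl') (hb' l' hl') h1 h2]
  exact sg_congr _ _ _ _ e1 e2

/-- the semisimilitudes -/
theorem conjE_ss {M : Gam Q} {σ : F ≃+* F} {c : F} (hM : IsSS Q σ c M.1) {l b : V} (hl : Q l = 0)
    (hb : polar Q l b = 0) : conjE Q M (ss Q l b) = ss Q (M.1 l) (c⁻¹ • M.1 b) := by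
  obtain ⟨h1, h2, h3⟩ := conjLin_siegel M hM hl hb
  rw [ss_eq hl hb, ss_eq h1 h2]
  exact Subtype.ext h3

end plane

section main

variable {F V : Type*} [Field F] [Finite F] [AddCommGroup V] [Module F V] [FiniteDimensional F V]
  {Q : QuadraticForm F V} {G : Type*} [Group G] {ρ : ↥(E Q) →* G}

/-- the inverse preserves the plane as well -/
theorem inv_mem_of {M : Gam Q} {L : Submodule F V} (hL : ∀ v ∈ L, M.1 v ∈ L) : ∀ v ∈ L, M.1⁻¹ v ∈ L := by
  have : Finite V := Module.finite_of_finite F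
  intro v hv
  let f : L → L := fun v => ⟨M.1 v, hL v v.2⟩
  have hf : Function.Injective f := fun a b hab => Subtype.ext (M.1.injective (congrArg Subtype.val hab))
  obtain ⟨y, hy⟩ := Finite.surjective_of_injective hf ⟨v, hv⟩
  have h1 : M.1 (y : V) = v := congrArg Subtype.val hy
  rw [← h1, Cfsg.Agent.ClassicalGeometry.OrthSemi.inv_apply]
  exact y.2

/-- a semisimilitude preserving `L` normalises the radical -/
theorem conjE_mem_U {M : Gam Q} {L : Submodule F V} (hL : ∀ v ∈ L, M.1 v ∈ L) {g : ↥(E Q)} (hg : g ∈ U Q L) :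
    conjE Q M g ∈ U Q L := by
  obtain ⟨σ, c, hS⟩ := M.2
  refine ⟨fun w hw => ?_, fun v hv => ?_⟩
  · rw [coe_conjE, conjLin_apply]
    have h1 := hg.1 _ (inv_mem_of hL w hw)
    change M.1 ((g : V ≃ₗ[F] V) (M.1⁻¹ w)) = w
    rw [h1, Cfsg.Agent.ClassicalGeometry.OrthSemi.apply_inv]
  · rw [coe_conjE, conjLin_apply]
    have h1 : ∀ w ∈ L, polar Q w (M.1⁻¹ v) = 0 := by
      intro w hw
      have h2 := hS.polar w (M.1⁻¹ v)
      rw [Cfsg.Agent.ClassicalGeometry.OrthSemi.apply_inv, hv _ (hL w hw)] at h2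
      rcases mul_eq_zero.1 h2.symm with h3 | h3
      · exact absurd h3 hS.ne
      · exact (map_eq_zero σ).1 h3
    have h2 := hL _ (hg.2 _ h1)
    rw [hS.sub, Cfsg.Agent.ClassicalGeometry.OrthSemi.apply_inv] at h2
    exact h2

/-- the main step: the root element is in the commutator group -/
theorem lr_mem (hG : Good Q) {x : G} {M : Gam Q} (hl : Lf ρ x M) {u w : V} (hu : Q u = 0) (hw : Q w = 0)
    (huw : polar Q u w = 0) (hu0 : u ≠ 0) (hind : ∀ a : F, w ≠ a • u)
    (hL : ∀ v ∈ Submodule.span F {u, w}, M.1 v ∈ Submodule.span F {u, w}) (hM : ¬ IsScal M) {p r : ℕ}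
    [CharP F p] (hr : r.Prime) (hrp : r ≠ p) (hMr : IsScal (M ^ r)) :
    ρ (sg Q u w hu huw) ∈ H380.RC.cmm ((U Q (Submodule.span F {u, w})).map ρ) x := by
  obtain ⟨σ, c, hS⟩ := M.2
  set L := Submodule.span F {u, w} with hLdef
  have hT : TS Q L := ts_pair hu hw huw
  have huL : u ∈ L := Submodule.subset_span (by simp)
  have hwL : w ∈ L := Submodule.subset_span (by simp)
  rw [← ss_eq hu huw]
  -- the commutator group
  have k1 : ∀ g ∈ U Q L, ρ (g * (conjE Q M g)⁻¹) ∈ H380.RC.cmm ((U Q L).map ρ) x := by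
    intro g hg
    have h1 := H380.RC.mem_cmm (U := (U Q L).map ρ) (x := x) (u := ρ g) ⟨g, hg, rfl⟩
    have h2 := hl g⁻¹
    have h3 : ρ g * x * (ρ g)⁻¹ * x⁻¹ = ρ (g * (conjE Q M g)⁻¹) := by
      rw [map_mul, ← map_inv (conjE Q M), ← h2, map_inv]
      group
    rwa [h3] at h1
  have k2 : ∀ v ∈ U Q L, ∀ z : ↥(E Q), ρ z ∈ H380.RC.cmm ((U Q L).map ρ) x →
      ρ (z⁻¹ * (v * z * v⁻¹)) ∈ H380.RC.cmm ((U Q L).map ρ) x := by
    intro v hv z hz
    have h1 := H380.RC.cmm_conj (x := x) (v := ρ v) (z := ρ z) (U := (U Q L).map ρ) ⟨v, hv, rfl⟩ hz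
    have h2 := mul_mem (inv_mem hz) h1
    rwa [← map_inv, ← map_inv, ← map_mul, ← map_mul, ← map_mul] at h2
  have hperpM : ∀ b, (∀ v ∈ L, polar Q v b = 0) → ∀ v ∈ L, polar Q v (M.1 b) = 0 := by
    intro b hb v hv
    have h1 := hS.polar (M.1⁻¹ v) b
    rw [Cfsg.Agent.ClassicalGeometry.OrthSemi.apply_inv, hb _ (inv_mem_of hL v hv)] at h1
    rw [h1, map_zero, mul_zero]
  have hperp : ∀ {b : V}, polar Q u b = 0 → polar Q w b = 0 → ∀ v ∈ L, polar Q v b = 0 := fun h1 h2 =>
    perp_pair.2 ⟨h1, h2⟩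
  have hMnot : ∀ b, b ∉ L → M.1 b ∉ L := by
    intro b hb h
    apply hb
    have := inv_mem_of hL _ h
    rwa [Cfsg.Agent.ClassicalGeometry.OrthSemi.inv_apply] at this
  by_cases hline : ∀ l ∈ L, ∃ a : F, M.1 l = a • l
  · -- all the lines are fixed
    obtain ⟨a, ha⟩ := hline u huL
    obtain ⟨b, hb⟩ := hline w hwL
    obtain ⟨d, hd⟩ := hline (u + w) (add_mem huL hwL)
    have hind2 : ∀ s t : F, s • u = t • w → s = 0 ∧ t = 0 := by
      intro s t h
      have ht : t = 0 := by
        by_contra ht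
        exact hind (t⁻¹ * s) (by rw [mul_smul, h, smul_smul, inv_mul_cancel₀ ht, one_smul])
      rw [ht, zero_smul] at h
      exact ⟨(smul_eq_zero.1 h).resolve_right hu0, ht⟩
    have hab : a = d ∧ b = d := by
      rw [hS.add, ha, hb, smul_add] at hd
      have h1 : (a - d) • u = (d - b) • w := by
        rw [sub_smul, sub_smul, sub_eq_sub_iff_add_eq_add]
        rw [hd, add_comm]
      obtain ⟨h2, h3⟩ := hind2 _ _ h1
      exact ⟨sub_eq_zero.1 h2, (sub_eq_zero.1 h3).symm⟩
    have hba : b = a := hab.2.trans hab.1.symm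
    rw [hba] at hb
    have ha0 : a ≠ 0 := by
      intro h
      rw [h, zero_smul] at ha
      exact hu0 (M.1.injective (ha.trans hS.map_zero.symm))
    -- linear
    have hσ : ∀ t : F, σ t = t := by
      intro t
      obtain ⟨d, hd⟩ := hline (t • u + w) (add_mem (L.smul_mem _ huL) hwL)
      rw [hS.add, hS.smul, ha, hb, smul_add, smul_smul, smul_smul] at hd
      have h1 : (σ t * a - d * t) • u = (d - a) • w := by
        rw [sub_smul, sub_smul, sub_eq_sub_iff_add_eq_add, hd, add_comm]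
      obtain ⟨h2, h3⟩ := hind2 _ _ h1
      have h4 : d = a := sub_eq_zero.1 h3
      rw [h4] at h2
      have h5 : (σ t - t) * a = 0 := by linear_combination h2
      exact sub_eq_zero.1 ((mul_eq_zero.1 h5).resolve_right ha0)
    have hML : ∀ l ∈ L, M.1 l = a • l := by
      intro l hl
      obtain ⟨s, t, rfl⟩ := Submodule.mem_span_pair.1 hl
      rw [hS.add, hS.smul, hS.smul, ha, hb, hσ, hσ, smul_add, smul_comm a s, smul_comm a t]
    by_cases hex : ∃ b, (∀ v ∈ L, polar Q v b = 0) ∧ b - (a * c⁻¹) • M.1 b ∉ L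
    · obtain ⟨b, hbp, hbn⟩ := hex
      set w1 := b - (a * c⁻¹) • M.1 b with hw1
      have hw1p : ∀ v ∈ L, polar Q v w1 = 0 := by
        intro v hv
        rw [hw1, polar_sub_right, hbp v hv, polar_smul_right, hperpM b hbp v hv]
        simp
      -- the element `ss u w1`
      have hz : ρ (ss Q u w1) ∈ H380.RC.cmm ((U Q L).map ρ) x := by
        have h1 := k1 _ (ss_mem hT huL hbp)
        rw [conjE_ss hS hu (hbp u huL), ha] at h1
        have h2 : ss Q (a • u) (c⁻¹ • M.1 b) = ss Q u ((a * c⁻¹) • M.1 b) := by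
          have e1 : polar Q u (M.1 b) = 0 := hperpM b hbp u huL
          have e2 : Q (a • u) = 0 := by rw [QuadraticMap.map_smul, hu, smul_zero]
          have e3 : polar Q (a • u) (c⁻¹ • M.1 b) = 0 := by
            rw [polar_smul_left, polar_smul_right, e1]; simp
          have e4 : polar Q u (a • c⁻¹ • M.1 b) = 0 := by
            rw [polar_smul_right, polar_smul_right, e1]; simp
          rw [ss_eq e2 e3, mul_smul, ss_eq hu e4]
          exact AutOrth.SemiSim.sg_smul a hu e2 e3 e4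
        have e5 : polar Q u ((a * c⁻¹) • M.1 b) = 0 := by
          rw [polar_smul_right, hperpM b hbp u huL, smul_zero]
        rw [h2, ← ss_neg hu e5, ← ss_add hu (hbp u huL) (by rw [polar_neg_right, e5, neg_zero]), ← sub_eq_add_neg] at h1
        exact h1
      obtain ⟨b2, h1, h2, h3⟩ := exists_b hG.nondeg hu0 hind hbn (-1)
      have hb2 := hperp h1 h2
      have h4 := k2 _ (ss_mem hT hwL hb2) _ hz
      rw [ss_cj hT hwL huL hb2 hw1p, inv_mul_cancel_left, polar_comm Q b2 w1, h3, neg_neg, one_smul] at h4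
      exact h4
    · -- then `M` is a scalar
      exfalso
      push Not at hex
      apply hM
      -- `c = a ^ 2`
      obtain ⟨b, hb1, hb2⟩ := exists_out (Q := Q) hG.dim u w
      obtain ⟨b', h1, h2, h3⟩ := exists_b hG.nondeg hu0 hind hb2 1
      have hbp := hperp hb1.1 hb1.2
      have hbp' := hperp h1 h2
      have hca : c = a ^ 2 := by
        have e1 := hex b hbp
        have e2 := hex b' hbp'
        have e3 := hS.polar b b'
        rw [h3, map_one, mul_one] at e3
        -- `b = κ M b + l`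
        set κ := a * c⁻¹ with hκ
        have e4 : polar Q b b' = κ ^ 2 * c := by
          have f1 : b = κ • M.1 b + (b - κ • M.1 b) := by abel
          have f2 : b' = κ • M.1 b' + (b' - κ • M.1 b') := by abel
          have f3 : polar Q (b - κ • M.1 b) (M.1 b') = 0 := hperpM b' hbp' _ e1
          have f4 : polar Q (M.1 b) (b' - κ • M.1 b') = 0 := by
            rw [polar_comm]; exact hperpM b hbp _ e2
          have f5 : polar Q (b - κ • M.1 b) (b' - κ • M.1 b') = 0 := hT.polar e1 e2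
          conv_lhs => rw [f1, f2]
          rw [polar_add_left, polar_add_right, polar_add_right, f5, polar_smul_left, polar_smul_left,
            polar_smul_right, polar_smul_right, f3, f4, e3]
          simp only [smul_eq_mul]
          ring
        rw [h3, hκ] at e4
        have hc0 := hS.ne
        field_simp at e4
        linear_combination e4
      -- the nilpotent map
      have hlin : ∀ (t : F) (v : V), M.1 (t • v) = t • M.1 v := fun t v => by rw [hS.smul, hσ]
      let T : Module.End F V :=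
        { toFun := fun v => a⁻¹ • M.1 v
          map_add' := fun v w => by rw [hS.add, smul_add]
          map_smul' := fun t v => by rw [hlin, smul_comm]; rfl }
      have hTa : ∀ v, T v = a⁻¹ • M.1 v := fun _ => rfl
      have t1 : ∀ v ∈ L, (T - 1) v = 0 := by
        intro v hv
        show T v - v = 0
        rw [hTa, hML v hv, smul_smul, inv_mul_cancel₀ ha0, one_smul, sub_self]
      have hκa : a * c⁻¹ = a⁻¹ := by rw [hca]; field_simp
      have t2 : ∀ v, (∀ l ∈ L, polar Q l v = 0) → (T - 1) v ∈ L := by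
        intro v hv
        show T v - v ∈ L
        have := hex v hv
        rw [hκa] at this
        rw [hTa, ← neg_sub]
        exact L.neg_mem this
      have t3 : ∀ v, ∀ l ∈ L, polar Q l ((T - 1) v) = 0 := by
        intro v l hl
        show polar Q l (T v - v) = 0
        rw [polar_sub_right, hTa, polar_smul_right]
        have e1 := hS.polar l v
        rw [hML l hl, polar_smul_left, hσ, hca] at e1
        have e2 : polar Q l (M.1 v) = a * polar Q l v := by
          have : a * (polar Q l (M.1 v) - a * polar Q l v) = 0 := by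
            simp only [smul_eq_mul] at e1
            linear_combination e1
          exact sub_eq_zero.1 ((mul_eq_zero.1 this).resolve_left ha0)
        rw [e2, smul_eq_mul, ← mul_assoc, inv_mul_cancel₀ ha0, one_mul, sub_self]
      have hN3 : (T - 1) ^ 3 = 0 := by
        ext v
        show (T - 1) ((T - 1) ((T - 1) v)) = 0
        exact t1 _ (t2 _ (t3 v))
      -- `T ^ r = 1`
      have hTn : ∀ (n : ℕ) (v : V), (T ^ n) v = (a⁻¹) ^ n • (M ^ n).1 v := by
        intro n
        induction n with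
        | zero => intro v; simp only [_root_.pow_zero, _root_.Module.End.one_apply, _root_.OneMemClass.coe_one, _root_.Equiv.Perm.coe_one, _root_.id_eq, _root_.one_smul]
        | succ n ih =>
          intro v
          rw [pow_succ, Module.End.mul_apply, hTa, map_smul, ih, smul_smul, ← pow_succ', pow_succ M]
          rfl
      obtain ⟨μ, hμ0, hμ⟩ := hMr
      have hTr : T ^ r = 1 := by
        have h5 : ∀ v, (T ^ r) v = ((a⁻¹) ^ r * μ) • v := by
          intro v
          rw [hTn, hμ, smul_smul]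
        have h6 : (T ^ r) u = u := by
          have : ∀ n : ℕ, (T ^ n) u = u := by
            intro n
            induction n with
            | zero => rfl
            | succ n ih =>
              rw [pow_succ, Module.End.mul_apply]
              have := t1 u huL
              have h7 : T u = u := sub_eq_zero.1 this
              rw [h7, ih]
          exact this r
        have h7 : ((a⁻¹) ^ r * μ) = 1 := by
          have := h5 u
          rw [h6] at this
          have h8 : (((a⁻¹) ^ r * μ) - 1) • u = 0 := by rw [sub_smul, one_smul, ← this, sub_self]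
          exact sub_eq_zero.1 ((smul_eq_zero.1 h8).resolve_right hu0)
        ext v
        rw [h5, h7, one_smul]; rfl
      have hp : p.Prime := CharP.char_is_prime F p
      have hpf : Fact p.Prime := ⟨hp⟩
      have hTp : T ^ (p ^ 2) = 1 := by
        have hpp : 3 ≤ p ^ 2 := by
          have := hp.two_le
          nlinarith only [this]
        have hnt : Nontrivial V := ⟨u, 0, hu0⟩
        have hch : CharP (Module.End F V) p :=
          charP_of_injective_algebraMap (FaithfulSMul.algebraMap_injective F (Module.End F V)) p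
        have e : T = (T - 1) + 1 := by abel
        have hcc : Commute (T - 1) (1 : Module.End F V) := Commute.one_right _
        rw [e, add_pow_char_pow_of_commute p 2 hcc, one_pow, pow_eq_zero_of_le hpp hN3, zero_add]
      have hT1 : T = 1 := by
        have h5 := pow_gcd_eq_one.2 ⟨hTr, hTp⟩
        have h6 : Nat.gcd r (p ^ 2) = 1 := by
          apply Nat.Coprime.pow_right
          exact (Nat.coprime_primes hr hp).2 hrp
        rwa [h6, pow_one] at h5
      refine ⟨a, ha0, fun v => ?_⟩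
      have h5 : T v = v := by rw [hT1]; rfl
      rw [hTa] at h5
      rw [← h5, smul_smul, mul_inv_cancel₀ ha0, one_smul, h5]
  · -- a line which is not fixed
    push Not at hline
    obtain ⟨l, hlL, hl2⟩ := hline
    set m := M.1 l with hm
    have hmL : m ∈ L := hL l hlL
    have hl0 : l ≠ 0 := by
      rintro rfl
      apply hl2 0
      rw [hm, hS.map_zero, smul_zero]
    -- `L = ⟨l, m⟩`
    have hLlm : Submodule.span F {l, m} = L := by
      apply Submodule.eq_of_le_of_finrank_le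
      · rw [Submodule.span_le]
        rintro v (hv | hv)
        · rw [hv]; exact hlL
        · rw [Set.mem_singleton_iff.1 hv]; exact hmL
      · rw [finrank_pair hl0 hl2]
        exact finrank_pair_le u w
    -- a vector in the perpendicular space outside
    obtain ⟨b, hb1, hb2⟩ := exists_out (Q := Q) hG.dim u w
    have hbp := hperp hb1.1 hb1.2
    have hcb : c⁻¹ • M.1 b ∉ Submodule.span F {u, w} := by
      intro h
      apply hMnot b hb2
      have := L.smul_mem c h
      rwa [smul_smul, mul_inv_cancel₀ hS.ne, one_smul] at this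
    have hMbp : ∀ v ∈ L, polar Q v (c⁻¹ • M.1 b) = 0 := by
      intro v hv
      rw [polar_smul_right, hperpM b hbp v hv, smul_zero]
    -- coordinates of `u`, `w`
    obtain ⟨α, β, huc⟩ := Submodule.mem_span_pair.1 (hLlm.symm ▸ huL)
    obtain ⟨γ, δ, hwc⟩ := Submodule.mem_span_pair.1 (hLlm.symm ▸ hwL)
    obtain ⟨b2, h1, h2, h3⟩ := exists_b hG.nondeg hu0 hind hcb (β * γ - α * δ)
    have hb2p := hperp h1 h2
    have hz := k1 _ (ss_mem hT hlL hbp)
    rw [conjE_ss hS (hT l hlL) (hbp l hlL)] at hz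
    have h4 := k2 _ (ss_mem hT hlL hb2p) _ hz
    -- compute
    have e1 := ss_cj hT hlL hlL hb2p hbp
    have e2 : ss Q l (-(polar Q b2 b) • l) = 1 := by
      have f1 : polar Q l (-(polar Q b2 b) • l) = 0 := by rw [polar_smul_right, hT.polar hlL hlL, smul_zero]
      rw [ss_eq (hT l hlL) f1]
      refine ext_E fun v => ?_
      rw [sg_apply, QuadraticMap.map_smul, hT l hlL, polar_smul_left]
      simp only [smul_eq_mul]
      show _ = v
      module
    rw [e2, mul_one] at e1
    have e3 := ss_cj hT hlL hmL hb2p hMbp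
    have e4 : (ss Q l b * (ss Q m (c⁻¹ • M.1 b))⁻¹)⁻¹ *
        (ss Q l b2 * (ss Q l b * (ss Q m (c⁻¹ • M.1 b))⁻¹) * (ss Q l b2)⁻¹) =
        ss Q m (c⁻¹ • M.1 b) * (ss Q m (c⁻¹ • M.1 b) * ss Q m (-(polar Q b2 (c⁻¹ • M.1 b)) • l))⁻¹ := by
      rw [← e3]
      have e5 : ss Q l b2 * (ss Q l b * (ss Q m (c⁻¹ • M.1 b))⁻¹) * (ss Q l b2)⁻¹ =
          (ss Q l b2 * ss Q l b * (ss Q l b2)⁻¹) * (ss Q l b2 * ss Q m (c⁻¹ • M.1 b) * (ss Q l b2)⁻¹)⁻¹ := by group
      rw [e5, e1]
      group
    rw [e4] at h4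
    have hml : ∀ s : F, polar Q m (s • l) = 0 := fun s => by rw [polar_smul_right, hT.polar hmL hlL, smul_zero]
    rw [polar_comm Q b2, h3, ← ss_add (hT m hmL) (hMbp m hmL) (hml _), ← ss_neg (hT m hmL) (by
      rw [polar_add_right, hMbp m hmL, hml, add_zero]), ← ss_add (hT m hmL) (hMbp m hmL) (by
      rw [polar_neg_right, polar_add_right, hMbp m hmL, hml, add_zero, neg_zero])] at h4
    have e6 : c⁻¹ • M.1 b + -(c⁻¹ • M.1 b + -(β * γ - α * δ) • l) = (β * γ - α * δ) • l := by module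
    rw [e6] at h4
    have e7 : ss Q m ((β * γ - α * δ) • l) = ss Q u w := by
      rw [ss_eq hu huw, ss_eq (hT m hmL) (hml _)]
      refine ext_E fun v => ?_
      rw [sg_apply, sg_apply, QuadraticMap.map_smul, hT l hlL, hw, ← huc, ← hwc]
      simp only [polar_add_left, polar_smul_left, smul_eq_mul]
      module
    rw [e7] at h4
    exact h4

end main

section box

variable {F V : Type*} [Field F] [Finite F] [AddCommGroup V] [Module F V] [FiniteDimensional F V]
  {Q : QuadraticForm F V} {G Ω : Type*} [Group G] [Finite G] [MulAction G Ω] [Nonempty Ω]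
  {N : Subgroup G} {ρ : ↥(E Q) →* G}

/-- **BOX F1 (LR)**: the long root element of the plane `⟨u, w⟩` and commuting `p'`-elements of prime
orders whose lifts preserve the plane. -/
theorem box_LR (hG : Good Q) (hE : Env G Ω N) (hρ : _root_.Cfsg.Agent.H93.RC.Rep Q N ρ) {p : ℕ} [CharP F p]
    {ι : Type*} [Finite ι] {y : ι → G} {M : ι → Gam Q} {r : ι → ℕ} (hl : ∀ i, Lf ρ (y i) (M i))
    (hr : ∀ i, (r i).Prime) (hrp : ∀ i, r i ≠ p) (hy : ∀ i, y i ^ r i = 1) (hy1 : ∀ i, y i ≠ 1)
    (hc : ∀ i j, y i * y j = y j * y i) {u w : V} (hu : Q u = 0) (hw : Q w = 0)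
    (huw : polar Q u w = 0) (hu0 : u ≠ 0) (hind : ∀ a : F, w ≠ a • u)
    (hL : ∀ i, ∀ v ∈ Submodule.span F {u, w}, (M i).1 v ∈ Submodule.span F {u, w})
    (hcov : ∀ ω : Ω, ρ (AutOrth.SemiSim.sg Q u w hu huw) • ω = ω ∨ ∃ i, y i • ω = ω) : False := by
  have hp : p.Prime := CharP.char_is_prime F p
  have hpf : Fact p.Prime := ⟨hp⟩
  have hT : TS Q (Submodule.span F {u, w}) := ts_pair hu hw huw
  have huL : u ∈ Submodule.span F {u, w} := Submodule.subset_span (by simp)
  have hwL : w ∈ Submodule.span F {u, w} := Submodule.subset_span (by simp)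
  have hpg : IsPGroup p ((U Q (Submodule.span F {u, w})).map ρ) := (isPGroup_U p _).map ρ
  refine H380.RC.not_cov_lr hE hr hy hc (U := (U Q (Submodule.span F {u, w})).map ρ)
    (y := ρ (sg Q u w hu huw)) hcov ?_ hpg.isNilpotent ?_ ?_ ?_ ?_
  · rintro i _ ⟨g, hg, rfl⟩
    rw [hl i g]
    exact ⟨_, conjE_mem_U (hL i) hg, rfl⟩
  · intro i
    obtain ⟨n, hn⟩ := IsPGroup.iff_card.1 hpg
    rw [hn]
    exact Nat.Coprime.pow_right _ ((Nat.coprime_primes (hr i) hp).2 (hrp i))
  · rintro _ ⟨g, hg, rfl⟩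
    rw [← map_mul, ← map_mul]
    congr 1
    have e1 : (g : V ≃ₗ[F] V) u = u := hg.1 u huL
    have e2 : (g : V ≃ₗ[F] V) w = w := hg.1 w hwL
    have h1 := Cfsg.Agent.AutOrth.SemiSim.conj_sg g hu huw (by rw [e1]; exact hu) (by rw [e1, e2]; exact huw)
    rw [mul_inv_eq_iff_eq_mul] at h1
    rw [h1]
    congr 1
    exact sg_congr _ _ _ _ e1 e2
  · intro h1
    have h2 : sg Q u w hu huw ∈ Subgroup.center ↥(E Q) := by
      rw [← hρ.ker, MonoidHom.mem_ker]; exact h1
    obtain ⟨a, ha⟩ := center_scalar hG h2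
    obtain ⟨b, hb⟩ := Cfsg.Agent.AutOrth.SemiSim.mem_line_of_scalar hG.nondeg hu hu0 huw ha
    exact hind b hb
  · intro i
    exact lr_mem hG (hl i) hu hw huw hu0 hind (hL i) (fun h => hy1 i (((hl i).eq_one_iff hG hE hρ).2 h)) (hr i) (hrp i)
      ((hl i).pow_scal hG hρ (hy i))

end box

end Cfsg.Agent.H297.RC
end

-- part: H188/RC/BoxA
section
prune_inst 0x100000000000000000000000000000010000000
set_option linter.all false

/-!
# S3510, row F: boxes F2 (Theorem A) without hypotheses (helper188)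

`box_A` : the exact statement of the stubs (`box_A_of` + `H297.RC.box_LR`).
-/

set_option autoImplicit false

open Cfsg

namespace Cfsg.Agent.H188.RC

open QuadraticMap MulAction
open Cfsg.Agent.LieClassical.OrthCore Cfsg.Agent.LieClassical.OrthTrans
open Cfsg.Agent.LieClassical.OrthSimple Cfsg.Agent.ClassicalGeometry.OrthSemi
open Cfsg.Agent.ClassicalGeometry.OrthAut1 Cfsg.Agent.H106.RC Cfsg.Agent.H93.RC

/-- **BOX A** (Theorem A): `W` a proper nondegenerate subspace invariant under all lifts -/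
theorem box_A {F V G Ω : Type*} [Field F] [Finite F] [AddCommGroup V] [Module F V] [FiniteDimensional F V]
    {Q : QuadraticForm F V} [Group G] [Finite G] [Nonempty Ω] [MulAction G Ω] {N : Subgroup G}
    {ρ : ↥(E Q) →* G} (hG : Good Q) (hE : Env G Ω N) (hρ : Rep Q N ρ) {p : ℕ} [CharP F p]
    {ι : Type*} [Finite ι] {x : ι → G} {M : ι → Gam Q} {r : ι → ℕ} (hl : ∀ i, Lf ρ (x i) (M i))
    (hr : ∀ i, (r i).Prime) (hx : ∀ i, x i ^ r i = 1) (hx1 : ∀ i, x i ≠ 1)
    (hc : ∀ i j, x i * x j = x j * x i) (hcov : Cov Ω x)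
    (W : Submodule F V) (hW : Good (Q.comp W.subtype)) (hWt : W ≠ ⊤)
    (hinv : ∀ i, ∀ v ∈ W, (M i).1 v ∈ W) (hne : ∃ i, ¬ ScalOn (M i) W)
    (hinj : Set.InjOn r {i | ¬ ScalOn (M i) W}) (hp : ∀ i, ScalOn (M i) W → r i ≠ p)
    (hRC : RC (P (Q.comp W.subtype)) ∨ {i | ¬ ScalOn (M i) W}.Subsingleton) : False :=
  box_A_of (p := p) hG hρ
    (fun _ _ _ _ _ hl hr hp hy hy1 hc _ _ hu hw huw hu0 hind hL hcov =>
      H297.RC.box_LR hG hE hρ hl hr hp hy hy1 hc hu hw huw hu0 hind hL hcov)
    hl hr hx hx1 hc hcov W hW hWt hinv hne hinj hp hRC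

end Cfsg.Agent.H188.RC
end

-- part: H31/RC/PslM
section
set_option linter.all false
open scoped Cfsg.Agent.FastGrp

/-!
# The M-rule for subgroups `f(SL₂(K))`

`f : SL₂(K) →* G` with kernel the centre.
-/

set_option autoImplicit false
open Cfsg

namespace Cfsg.Agent.H31.RC

open MulAction Cfsg.Agent.H106.RC
open scoped commutatorElement MatrixGroups

section proj

variable {K : Type} [Field K] [Fintype K] {G : Type} [Group G]

/-- the projection of the image of `f` onto `PSL₂(K)` -/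
noncomputable def pj (f : SL(2, K) →* G) (hf : f.ker = Subgroup.center SL(2, K)) :
    f.range →* Matrix.ProjectiveSpecialLinearGroup (Fin 2) K :=
  ((QuotientGroup.quotientKerEquivRange f).symm.trans (QuotientGroup.quotientMulEquivOfEq hf)).toMonoidHom

omit [Fintype K] in
theorem pj_bij (f : SL(2, K) →* G) (hf : f.ker = Subgroup.center SL(2, K)) : Function.Bijective (pj f hf) :=
  ((QuotientGroup.quotientKerEquivRange f).symm.trans (QuotientGroup.quotientMulEquivOfEq hf)).bijective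

omit [Fintype K] in
theorem pj_ker (f : SL(2, K) →* G) (hf : f.ker = Subgroup.center SL(2, K)) :
    (pj f hf).ker ≤ Subgroup.center f.range := by
  rw [(MonoidHom.ker_eq_bot_iff _).2 (pj_bij f hf).1]
  exact bot_le

theorem perf (h4 : 3 < Fintype.card K) (f : SL(2, K) →* G) : ⁅f.range, f.range⁆ = f.range := by
  have h1 := Cfsg.Agent.TwoFusion.SLTwoFacts.commutator_eq_top h4
  rw [commutator_def] at h1
  rw [MonoidHom.range_eq_map, ← Subgroup.map_commutator, h1]

theorem psl_ncomm (h4 : 3 < Fintype.card K) :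
    ¬ IsMulCommutative (Matrix.ProjectiveSpecialLinearGroup (Fin 2) K) := by
  intro hc
  have hs := Cfsg.Agent.TwoFusion.SLTwoFacts.isSimpleGroup_psl h4
  have h1 := Cfsg.Agent.TwoFusion.SLTwoFacts.commutator_eq_top h4
  -- the commutator subgroup is contained in the centre
  have h2 : commutator SL(2, K) ≤ Subgroup.center SL(2, K) := by
    rw [commutator_def, Subgroup.commutator_le]
    intro a _ b _
    rw [← QuotientGroup.eq_one_iff]
    have h3 : ((⁅a, b⁆ : SL(2, K)) : SL(2, K) ⧸ Subgroup.center SL(2, K)) =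
        ⁅(a : SL(2, K) ⧸ Subgroup.center SL(2, K)), (b : SL(2, K) ⧸ Subgroup.center SL(2, K))⁆ := rfl
    rw [h3, commutatorElement_eq_one_iff_mul_comm]
    exact hc.is_comm.comm _ _
  rw [h1] at h2
  obtain ⟨x, hx⟩ := exists_ne (1 : Matrix.ProjectiveSpecialLinearGroup (Fin 2) K)
  obtain ⟨a, rfl⟩ := QuotientGroup.mk_surjective x
  exact hx ((QuotientGroup.eq_one_iff a).2 (h2 trivial))

/-- the order is not that of `A5`, `A6`, `A8` -/
theorem psl_not_exc (h9 : 9 < Fintype.card K) : ¬ Exc (Matrix.ProjectiveSpecialLinearGroup (Fin 2) K) := by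
  have hc := Cfsg.Agent.ClassicalGeometry.PSL2Basic.card_PSL2_gcd (F := K)
  set k := Fintype.card K with hk
  have hA : ∀ n : ℕ, Nonempty (Matrix.ProjectiveSpecialLinearGroup (Fin 2) K ≃* alternatingGroup (Fin n)) →
      2 ≤ n → 2 * Nat.card (Matrix.ProjectiveSpecialLinearGroup (Fin 2) K) = n.factorial := by
    rintro n ⟨e⟩ hn
    have : Nontrivial (Fin n) := Fin.nontrivial_iff_two_le.2 hn
    rw [Nat.card_congr e.toEquiv, Nat.card_eq_fintype_card, two_mul_card_alternatingGroup, Fintype.card_perm,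
      Fintype.card_fin]
  have hg : Nat.gcd 2 (k - 1) = 1 ∨ Nat.gcd 2 (k - 1) = 2 := by
    have := Nat.gcd_dvd_left 2 (k - 1)
    have h2 := (Nat.dvd_prime Nat.prime_two).1 this
    exact h2
  have hmono : 10 * (10 ^ 2 - 1) ≤ k * (k ^ 2 - 1) :=
    Nat.mul_le_mul (by omega) (Nat.sub_le_sub_right (Nat.pow_le_pow_left (by omega) 2) 1)
  have hno : ∀ N : ℕ, (N = 20160 ∨ N = 40320) → k * (k ^ 2 - 1) ≠ N := by
    intro N hN hkN
    have h35 : k < 35 := by
      by_contra h
      have h3 : 35 * (35 ^ 2 - 1) ≤ k * (k ^ 2 - 1) :=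
        Nat.mul_le_mul (by omega) (Nat.sub_le_sub_right (Nat.pow_le_pow_left (by omega) 2) 1)
      omega
    interval_cases k <;> omega
  rintro (h | h | h)
  · have h1 := hA 5 h (by norm_num)
    have h2 : (5 : ℕ).factorial = 120 := by decide
    rw [h2] at h1
    rcases hg with h3 | h3 <;> rw [h3] at hc <;> omega
  · have h1 := hA 6 h (by norm_num)
    have h2 : (6 : ℕ).factorial = 720 := by decide
    rw [h2] at h1
    rcases hg with h3 | h3 <;> rw [h3] at hc <;> omega
  · have h1 := hA 8 h (by norm_num)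
    have h2 : (8 : ℕ).factorial = 40320 := by decide
    rw [h2] at h1
    rcases hg with h3 | h3 <;> rw [h3] at hc
    · exact hno _ (Or.inl rfl) (by omega)
    · exact hno _ (Or.inr rfl) (by omega)

end proj

end Cfsg.Agent.H31.RC
end

-- part: H31/RC/BoxD4p
section
prune_inst 0x101035455c621000401c0004400000c139000000004088000005020402098000040080000000000b480001000000002000000020424000000e240000000400000040840080080019000000000008010000100000000000000000000000000000010000000
set_option linter.all false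
open scoped Cfsg.Agent.FastGrp

-- part: H31/RC/Act
section
/-!
# Elements acting on `f(SL₂(K))` as elements of `PGL₂(K)`
-/

set_option autoImplicit false
open Cfsg

namespace Cfsg.Agent.H31.RC

open MulAction Cfsg.Agent.H106.RC
open Matrix.ProjGenLinGroup (mk mk_eq_one mk_eq_mk_iff)
open scoped commutatorElement MatrixGroups

section bound

variable {K : Type} [Field K] [Fintype K]

omit [Fintype K] in
theorem sq_eq (T : Matrix (Fin 2) (Fin 2) K) : T * T = T.trace • T - T.det • 1 := by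
  rw [Matrix.trace_fin_two, Matrix.det_fin_two]
  ext i j
  (revert i j; simp only [Matrix.mul_apply, Fin.sum_univ_two, _root_.Fin.forall_fin_succ, Fin.isValue, _root_.Matrix.sub_apply, _root_.Matrix.smul_apply, _root_.smul_eq_mul, _root_.Fin.succ_zero_eq_one, _root_.IsEmpty.forall_iff, _root_.and_true, _root_.Matrix.one_apply_eq, _root_.mul_one, Nat.reduceAdd, _root_.ne_eq, _root_.zero_ne_one, _root_.not_false_eq_true, _root_.Matrix.one_apply_ne, _root_.MulZeroClass.mul_zero, _root_.sub_zero, _root_.Fin.succ_ne_zero]) <;> (repeat' with_reducible apply And.intro) <;> ring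

omit [Fintype K] in
theorem pow_eq (T : Matrix (Fin 2) (Fin 2) K) (n : ℕ) : ∃ c : K × K, T ^ n = c.1 • 1 + c.2 • T := by
  induction n with
  | zero => exact ⟨(1, 0), by simp⟩
  | succ n ih =>
    obtain ⟨⟨a, b⟩, h⟩ := ih
    refine ⟨(-(b * T.det), a + b * T.trace), ?_⟩
    rw [pow_succ, h]
    simp only [add_mul, Matrix.smul_mul, one_mul, sq_eq]
    module

omit [Fintype K] in
theorem mk_eq_of_smul {T T' : GL (Fin 2) K} {c : K} (h : T.1 = c • T'.1) : _root_.Matrix.ProjGenLinGroup.mk T = _root_.Matrix.ProjGenLinGroup.mk T' := by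
  have hc : c ≠ 0 := by
    rintro rfl
    rw [zero_smul] at h
    have h1 := T.det.ne_zero
    rw [Matrix.GeneralLinearGroup.val_det_apply, h, Matrix.det_zero] at h1
    exact h1 rfl
  symm
  rw [mk_eq_mk_iff]
  refine ⟨Units.mk0 c hc, Units.ext ?_⟩
  rw [Units.val_mul, h]
  ext i j
  (revert i j; simp only [Matrix.mul_apply, Fin.sum_univ_two, Matrix.GeneralLinearGroup.scalar, mul_comm, _root_.Fin.forall_fin_succ, _root_.RingHom.toMonoidHom_eq_coe, _root_.Units.coe_map, _root_.Units.val_mk0, _root_.MonoidHom.coe_coe, _root_.Matrix.scalar_apply, Fin.isValue, _root_.Matrix.smul_apply, _root_.smul_eq_mul, _root_.Matrix.diagonal_apply_eq, _root_.ne_eq, _root_.one_ne_zero, _root_.not_false_eq_true, _root_.Matrix.diagonal_apply_ne, _root_.MulZeroClass.zero_mul, _root_.add_zero, _root_.Fin.succ_zero_eq_one, _root_.zero_ne_one, _root_.zero_add, _root_.IsEmpty.forall_iff, _root_.and_self, _root_.implies_true])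

/-- elements of `PGL₂(K)` have order at most `|K| + 1` -/
theorem orderOf_le (a : PGL(2, K)) : orderOf a ≤ Fintype.card K + 1 := by
  classical
  obtain ⟨T, rfl⟩ := Matrix.ProjGenLinGroup.mk_surjective a
  choose c hc using fun n : ℕ => pow_eq T.1 n
  let g : Fin (orderOf (_root_.Matrix.ProjGenLinGroup.mk T)) → Option K := fun n =>
    if (c n).2 = 0 then none else some ((c n).1 / (c n).2)
  have key : ∀ n m : ℕ, (∃ e : K, T.1 ^ n = e • T.1 ^ m) → _root_.Matrix.ProjGenLinGroup.mk T ^ n = _root_.Matrix.ProjGenLinGroup.mk T ^ m := by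
    rintro n m ⟨e, he⟩
    rw [← map_pow, ← map_pow]
    exact mk_eq_of_smul (c := e) (by rw [Units.val_pow_eq_pow_val, Units.val_pow_eq_pow_val]; exact he)
  have hg : Function.Injective g := by
    intro n m hnm
    have h1 : _root_.Matrix.ProjGenLinGroup.mk T ^ (n : ℕ) = _root_.Matrix.ProjGenLinGroup.mk T ^ (m : ℕ) := by
      apply key
      simp only [g] at hnm
      by_cases h0 : (c n).2 = 0
      · rw [if_pos h0] at hnm
        have h0' : (c m).2 = 0 := by
          by_contra h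
          rw [if_neg h] at hnm
          exact absurd hnm (by simp)
        have hm := hc m
        have hn := hc n
        rw [h0', zero_smul, add_zero] at hm
        rw [h0, zero_smul, add_zero] at hn
        have hm0 : (c m).1 ≠ 0 := by
          intro h2
          rw [h2, zero_smul] at hm
          have h3 : (T ^ (m : ℕ)).det.1 ≠ 0 := Units.ne_zero _
          rw [Matrix.GeneralLinearGroup.val_det_apply, Units.val_pow_eq_pow_val, hm, Matrix.det_zero] at h3
          exact h3 rfl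
        refine ⟨(c n).1 / (c m).1, ?_⟩
        rw [hm, hn, smul_smul, div_mul_cancel₀ _ hm0]
      · rw [if_neg h0] at hnm
        have h0' : (c m).2 ≠ 0 := by
          intro h
          rw [if_pos h] at hnm
          exact absurd hnm (by simp)
        rw [if_neg h0'] at hnm
        have h2 : (c n).1 / (c n).2 = (c m).1 / (c m).2 := Option.some_injective _ hnm
        refine ⟨(c n).2 / (c m).2, ?_⟩
        rw [hc n, hc m, smul_add, smul_smul, smul_smul, div_mul_cancel₀ _ h0']
        congr 2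
        field_simp at h2 ⊢
        linear_combination h2
    exact Fin.ext (pow_injOn_Iio_orderOf (Set.mem_Iio.2 n.2) (Set.mem_Iio.2 m.2) h1)
  have h1 := Fintype.card_le_of_injective g hg
  rwa [Fintype.card_fin, Fintype.card_option] at h1

end bound

section act

variable {K : Type} [Field K] {G : Type} [Group G]

/-- conjugation of `SL₂(K)` by an element of `GL₂(K)` -/
def cj (P : GL (Fin 2) K) (s : SL(2, K)) : SL(2, K) :=
  ⟨P.1 * s.1 * (P⁻¹).1, by
    rw [Matrix.det_mul, Matrix.det_mul, s.2, mul_one, ← Matrix.det_mul, ← Units.val_mul, mul_inv_cancel]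
    simp⟩

theorem cj_coe (P : GL (Fin 2) K) (s : SL(2, K)) : (cj P s).1 = P.1 * s.1 * (P⁻¹).1 := rfl

theorem cj_mul (P P' : GL (Fin 2) K) (s : SL(2, K)) : cj (P * P') s = cj P (cj P' s) := by
  apply Subtype.ext
  rw [cj_coe, cj_coe, cj_coe, mul_inv_rev, Units.val_mul, Units.val_mul]
  simp only [mul_assoc]

theorem cj_one (s : SL(2, K)) : cj 1 s = s := by
  apply Subtype.ext
  rw [cj_coe]
  simp

theorem eq_smul_of_cj {P : GL (Fin 2) K} (h : ∀ s : SL(2, K), cj P s * s⁻¹ ∈ Subgroup.center SL(2, K)) :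
    _root_.Matrix.ProjGenLinGroup.mk P = 1 := by
  have key : ∀ s : SL(2, K), ∃ e : K, P.1 * s.1 = e • (s.1 * P.1) := by
    intro s
    obtain ⟨e, he, hes⟩ := Matrix.SpecialLinearGroup.mem_center_iff.1 (h s)
    refine ⟨e, ?_⟩
    have h1 : cj P s = (cj P s * s⁻¹) * s := by group
    have h2 : (cj P s).1 = e • s.1 := by
      rw [h1, Matrix.SpecialLinearGroup.coe_mul, ← hes]
      simp [Matrix.smul_eq_diagonal_mul]
    rw [cj_coe] at h2
    have h3 : P.1 * s.1 * (P⁻¹).1 * P.1 = (e • s.1) * P.1 := by rw [h2]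
    rw [mul_assoc, ← Units.val_mul, inv_mul_cancel, Units.val_one, mul_one, Matrix.smul_mul] at h3
    exact h3
  have hdet : P.1.det ≠ 0 := by
    have := P.det.ne_zero
    rwa [Matrix.GeneralLinearGroup.val_det_apply] at this
  obtain ⟨p, q, u, v, hPe⟩ : ∃ p q u v : K, P.1 = !![p, q; u, v] := ⟨_, _, _, _, Matrix.eta_fin_two _⟩
  rw [hPe, Matrix.det_fin_two_of] at hdet
  obtain ⟨e, he⟩ := key ⟨!![1, 1; 0, 1], by simp [Matrix.det_fin_two_of]⟩
  obtain ⟨d, hd⟩ := key ⟨!![1, 0; 1, 1], by simp [Matrix.det_fin_two_of]⟩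
  rw [hPe] at he hd
  change !![p, q; u, v] * !![1, 1; 0, 1] = e • (!![1, 1; 0, 1] * !![p, q; u, v]) at he
  change !![p, q; u, v] * !![1, 0; 1, 1] = d • (!![1, 0; 1, 1] * !![p, q; u, v]) at hd
  rw [Matrix.mul_fin_two, Matrix.mul_fin_two] at he hd
  have e00 := congrFun (congrFun he 0) 0
  have e01 := congrFun (congrFun he 0) 1
  have e10 := congrFun (congrFun he 1) 0
  have d01 := congrFun (congrFun hd 0) 1
  have d00 := congrFun (congrFun hd 0) 0
  simp only [_root_.mul_one, _root_.MulZeroClass.mul_zero, _root_.add_zero, _root_.Fin.isValue, _root_.Matrix.of_apply, _root_.Matrix.cons_val', _root_.Matrix.cons_val_zero, _root_.Matrix.cons_val_fin_one, _root_.one_mul, _root_.MulZeroClass.zero_mul, _root_.zero_add, _root_.Matrix.smul_apply, _root_.smul_eq_mul, _root_.Matrix.cons_val_one] at e00 e01 e10 d00 d01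
  have h10 : u = 0 := by
    by_cases h1 : e = 1
    · subst h1
      linear_combination -e00
    · have h2 : (1 - e) * u = 0 := by linear_combination e10
      exact (mul_eq_zero.1 h2).resolve_left (sub_ne_zero.2 (Ne.symm h1))
  have h01 : q = 0 := by
    by_cases h1 : d = 1
    · subst h1
      linear_combination d00
    · have h2 : (1 - d) * q = 0 := by linear_combination d01
      exact (mul_eq_zero.1 h2).resolve_left (sub_ne_zero.2 (Ne.symm h1))
  subst h10 h01
  have he1 : e = 1 := by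
    have h2 : (1 - e) * p = 0 := by linear_combination e00
    rcases mul_eq_zero.1 h2 with h3 | h3
    · exact (sub_eq_zero.1 h3).symm
    · rw [h3] at hdet
      exact (hdet (by ring)).elim
  subst he1
  have h00 : p = v := by linear_combination e01
  subst h00
  rw [mk_eq_one, Matrix.GeneralLinearGroup.mem_center_iff_val_mem_range_scalar]
  refine ⟨p, ?_⟩
  rw [hPe]
  ext i j
  (revert i j; simp only [_root_.Fin.forall_fin_succ, _root_.Matrix.scalar_apply, _root_.Matrix.of_apply, _root_.Matrix.cons_val', _root_.Matrix.cons_val_fin_one, Fin.isValue, _root_.Matrix.cons_val_zero, _root_.Matrix.cons_val_succ, _root_.Fin.succ_zero_eq_one, _root_.IsEmpty.forall_iff, _root_.and_true, _root_.Matrix.diagonal_apply_eq, _root_.ne_eq, _root_.zero_ne_one, _root_.not_false_eq_true, _root_.Matrix.diagonal_apply_ne, _root_.and_self, _root_.Fin.succ_ne_zero, _root_.true_and])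

theorem cj_of_mk {P : GL (Fin 2) K} (h : _root_.Matrix.ProjGenLinGroup.mk P = 1) (s : SL(2, K)) : cj P s = s := by
  rw [mk_eq_one] at h
  apply Subtype.ext
  rw [cj_coe]
  have h1 := Subgroup.mem_center_iff.1 h (s : GL (Fin 2) K)
  have h2 : P.1 * s.1 = s.1 * P.1 := (congrArg Units.val h1).symm
  rw [h2, mul_assoc, ← Units.val_mul, mul_inv_cancel, Units.val_one, mul_one]

/-- `x` acts on the image of `f` as `P` -/
def Act (f : SL(2, K) →* G) (x : G) (P : GL (Fin 2) K) : Prop := ∀ s, x * f s * x⁻¹ = f (cj P s)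

variable {f : SL(2, K) →* G} {x y : G} {P P' : GL (Fin 2) K}

theorem Act.mul (h : Act f x P) (h' : Act f y P') : Act f (x * y) (P * P') := by
  intro s
  rw [cj_mul, ← h, ← h']
  group

theorem Act.one : Act f 1 1 := by
  intro s
  rw [cj_one]; group

theorem Act.pow (h : Act f x P) (n : ℕ) : Act f (x ^ n) (P ^ n) := by
  induction n with
  | zero => rw [pow_zero, pow_zero]; exact Act.one
  | succ n ih => rw [pow_succ, pow_succ]; exact ih.mul h

theorem Act.inv (h : Act f x P) : Act f x⁻¹ P⁻¹ := by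
  intro s
  have h1 := h (cj P⁻¹ s)
  rw [← cj_mul, mul_inv_cancel, cj_one] at h1
  rw [← h1]; group

theorem Act.mk_one (hf : f.ker = Subgroup.center SL(2, K)) (h : Act f 1 P) : _root_.Matrix.ProjGenLinGroup.mk P = 1 := by
  apply eq_smul_of_cj
  intro s
  rw [← hf, MonoidHom.mem_ker, map_mul, ← h, map_inv]
  group

theorem Act.mk_eq (hf : f.ker = Subgroup.center SL(2, K)) (h : Act f x P) (h' : Act f x P') : _root_.Matrix.ProjGenLinGroup.mk P = _root_.Matrix.ProjGenLinGroup.mk P' := by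
  have h1 : Act f 1 (P * P'⁻¹) := by
    have := h.mul h'.inv
    rwa [mul_inv_cancel] at this
  have h2 := h1.mk_one hf
  rwa [map_mul, map_inv, mul_inv_eq_one] at h2

theorem Act.cent_iff (hf : f.ker = Subgroup.center SL(2, K)) (h : Act f x P) :
    (∀ m ∈ f.range, x * m = m * x) ↔ _root_.Matrix.ProjGenLinGroup.mk P = 1 := by
  constructor
  · intro h1
    apply Act.mk_one hf
    intro s
    rw [← h, h1 _ ⟨s, rfl⟩]
    group
  · rintro h1 _ ⟨s, rfl⟩
    have h2 := h s
    rw [cj_of_mk h1] at h2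
    exact mul_inv_eq_iff_eq_mul.1 h2

theorem Act.norm (h : Act f x P) : x ∈ Subgroup.normalizer (f.range : Set G) := by
  rw [Subgroup.mem_normalizer_iff]
  intro m
  constructor
  · rintro ⟨s, rfl⟩
    exact ⟨cj P s, (h s).symm⟩
  · rintro ⟨s, hs⟩
    refine ⟨cj P⁻¹ s, ?_⟩
    rw [← h.inv, hs]
    group

theorem Act.comm (hf : f.ker = Subgroup.center SL(2, K)) (h : Act f x P) (h' : Act f y P') (hc : x * y = y * x) :
    Commute (_root_.Matrix.ProjGenLinGroup.mk P) (_root_.Matrix.ProjGenLinGroup.mk P') := by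
  have h1 := h.mul h'
  rw [hc] at h1
  have h2 := h1.mk_eq hf (h'.mul h)
  rwa [map_mul, map_mul] at h2

end act

section rule

variable {K : Type} [Field K] [Fintype K] {G : Type} [Group G]

/-- the small cases: at most one member does not centralise `f.range` -/
theorem small {ι : Type} {f : SL(2, K) →* G} (hf : f.ker = Subgroup.center SL(2, K)) {x : ι → G} {r : ι → ℕ}
    (hr : ∀ i, (r i).Prime) (hinj : Function.Injective r) (hx : ∀ i, x i ^ r i = 1)
    (hc : ∀ i j, x i * x j = x j * x i) {P : ι → GL (Fin 2) K} (hP : ∀ i, Act f (x i) (P i)) {i j : ι} (hij : i ≠ j)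
    (hlt : Fintype.card K + 1 < r i * r j) :
    (∀ m ∈ f.range, x i * m = m * x i) ∨ (∀ m ∈ f.range, x j * m = m * x j) := by
  rw [(hP i).cent_iff hf, (hP j).cent_iff hf]
  by_contra hcon
  push Not at hcon
  have hpow : ∀ i, _root_.Matrix.ProjGenLinGroup.mk (P i) ^ r i = 1 := by
    intro i
    have h1 := (hP i).pow (r i)
    rw [hx] at h1
    rw [← map_pow]
    exact h1.mk_one hf
  have hord : ∀ i, _root_.Matrix.ProjGenLinGroup.mk (P i) ≠ 1 → orderOf (_root_.Matrix.ProjGenLinGroup.mk (P i)) = r i := fun i hi => by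
    have := Fact.mk (hr i)
    exact orderOf_eq_prime (hpow i) hi
  have h1 := ((hP i).comm hf (hP j) (hc i j)).orderOf_mul_eq_mul_orderOf_of_coprime (by
    rw [hord i hcon.1, hord j hcon.2, Nat.coprime_primes (hr i) (hr j)]
    exact fun h => hij (hinj h))
  rw [hord i hcon.1, hord j hcon.2] at h1
  have h2 := orderOf_le (_root_.Matrix.ProjGenLinGroup.mk (P i) * _root_.Matrix.ProjGenLinGroup.mk (P j))
  omega

/-- the M-rule for `f.range` -/
theorem ruleM {ι Ω : Type} [Finite ι] [MulAction G Ω] (h4 : 3 < Fintype.card K) {f : SL(2, K) →* G}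
    (hf : f.ker = Subgroup.center SL(2, K)) {x : ι → G} {r : ι → ℕ}
    (hr : ∀ i, (r i).Prime) (hinj : Function.Injective r) (hx : ∀ i, x i ^ r i = 1)
    (hc : ∀ i j, x i * x j = x j * x i) {P : ι → GL (Fin 2) K} (hP : ∀ i, Act f (x i) (P i))
    (hsm : RC (Matrix.ProjectiveSpecialLinearGroup (Fin 2) K) ∨ ∀ i j, i ≠ j →
      (∀ m ∈ f.range, x i * m = m * x i) ∨ (∀ m ∈ f.range, x j * m = m * x j))
    (ω : Ω) (hcov : ∀ m ∈ f.range, ∃ i, x i • m • ω = m • ω) :
    f.range ≤ stabilizer G ω ∨ ∃ j, (∀ m ∈ f.range, x j * m = m * x j) ∧ x j • ω = ω := by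
  have hS := Cfsg.Agent.TwoFusion.SLTwoFacts.isSimpleGroup_psl h4
  rcases hsm with hRC | hsm
  · exact mrule_RC hS (psl_ncomm h4) x r hr hinj hx hc f.range (perf h4 f) (pj f hf) (pj_bij f hf).2
      (pj_ker f hf) (fun i => (hP i).norm) hRC ω hcov
  · by_cases h0 : ∀ i, ∀ m ∈ f.range, x i * m = m * x i
    · obtain ⟨i, hi⟩ := hcov 1 (one_mem _)
      rw [one_smul] at hi
      exact Or.inr ⟨i, h0 i, hi⟩
    · rw [not_forall] at h0
      obtain ⟨i₀, hi₀⟩ := h0
      exact mrule_one hS (psl_ncomm h4) x r hr hinj hx hc f.range (perf h4 f) (pj f hf) (pj_bij f hf).2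
        (pj_ker f hf) i₀ (hP i₀).norm (fun i hi => (hsm i i₀ hi).resolve_right hi₀) ω hcov

/-- `RC` of `PSL₂(K)` from the induction hypothesis -/
theorem rc_psl {Ω : Type} [Finite G] [MulAction G Ω] {N : Subgroup G} (hE : Env G Ω N) (hIH : IH (Nat.card N))
    (h9 : 9 < Fintype.card K) {f : SL(2, K) →* G} (hf : f.ker = Subgroup.center SL(2, K)) (hfN : f.range ≤ N)
    {z : G} (hz1 : z ≠ 1) (hz : ∀ m ∈ f.range, z * m = m * z) :
    RC (Matrix.ProjectiveSpecialLinearGroup (Fin 2) K) := by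
  have hfin : Finite (Matrix.ProjectiveSpecialLinearGroup (Fin 2) K) :=
    Finite.of_surjective _ (pj_bij f hf).2
  refine hIH.use (MulEquiv.refl N) hfN ?_ (pj f hf) (pj_bij f hf).2
    (Cfsg.Agent.TwoFusion.SLTwoFacts.isSimpleGroup_psl (by omega)) (psl_ncomm (by omega))
    (Or.inl ⟨K, inferInstance, inferInstance, 2, le_rfl, fun _ => by omega, ⟨MulEquiv.refl _⟩⟩)
    (psl_not_exc h9)
  intro h1
  apply hz1
  have h2 : z ∈ Subgroup.centralizer (N : Set G) := by
    rw [Subgroup.mem_centralizer_iff]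
    intro n hn
    rw [← h1] at hn
    exact (hz n hn).symm
  rw [hE.cent] at h2
  exact Subgroup.mem_bot.1 h2

end rule

end Cfsg.Agent.H31.RC
end

-- part: H31/RC/TwoM
section
/-!
# Two commuting factors `SL₂(K)`
-/

set_option autoImplicit false
open Cfsg

namespace Cfsg.Agent.H31.RC

open MulAction Cfsg.Agent.H106.RC
open Matrix.ProjGenLinGroup (mk mk_eq_one mk_eq_mk_iff)
open scoped commutatorElement MatrixGroups

section two

variable {K : Type} [Field K] [Fintype K] {G : Type} [Group G]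

/-- the two M-rules -/
theorem twoM {ι Ω : Type} [Finite ι] [MulAction G Ω] (h4 : 3 < Fintype.card K) {f g : SL(2, K) →* G}
    (hf : f.ker = Subgroup.center SL(2, K)) (hg : g.ker = Subgroup.center SL(2, K))
    (hfg : ∀ s t, f s * g t = g t * f s) {x : ι → G} {r : ι → ℕ}
    (hr : ∀ i, (r i).Prime) (hinj : Function.Injective r) (hx : ∀ i, x i ^ r i = 1)
    (hc : ∀ i j, x i * x j = x j * x i) {P R : ι → GL (Fin 2) K} (hP : ∀ i, Act f (x i) (P i))
    (hR : ∀ i, Act g (x i) (R i))
    (hsm : RC (Matrix.ProjectiveSpecialLinearGroup (Fin 2) K) ∨ ∀ i j, i ≠ j → ¬ (_root_.Matrix.ProjGenLinGroup.mk (P i) = 1 ∧ _root_.Matrix.ProjGenLinGroup.mk (R i) = 1) →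
      ¬ (_root_.Matrix.ProjGenLinGroup.mk (P j) = 1 ∧ _root_.Matrix.ProjGenLinGroup.mk (R j) = 1) → Fintype.card K + 1 < r i * r j)
    (hcov : Cov Ω x) {y : G} (hy : y ∈ f.range) (ω : Ω) :
    y • ω = ω ∨ g.range ≤ stabilizer G ω ∨ ∃ j, _root_.Matrix.ProjGenLinGroup.mk (P j) = 1 ∧ _root_.Matrix.ProjGenLinGroup.mk (R j) = 1 ∧ x j • ω = ω := by
  by_cases hyω : y • ω = ω
  · exact Or.inl hyω
  right
  have hmove : ∀ m ∈ g.range, ¬ f.range ≤ stabilizer G (m • ω) := by
    rintro _ ⟨t, rfl⟩ h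
    obtain ⟨s, rfl⟩ := hy
    have h1 : f s • g t • ω = g t • ω := h ⟨s, rfl⟩
    rw [← mul_smul, hfg, mul_smul] at h1
    exact hyω (smul_left_cancel _ h1)
  have hsf : RC (Matrix.ProjectiveSpecialLinearGroup (Fin 2) K) ∨ ∀ i j, i ≠ j →
      (∀ m ∈ f.range, x i * m = m * x i) ∨ (∀ m ∈ f.range, x j * m = m * x j) := by
    refine hsm.imp id fun h i j hij => ?_
    by_cases hi : _root_.Matrix.ProjGenLinGroup.mk (P i) = 1
    · exact Or.inl (((hP i).cent_iff hf).2 hi)
    by_cases hj : _root_.Matrix.ProjGenLinGroup.mk (P j) = 1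
    · exact Or.inr (((hP j).cent_iff hf).2 hj)
    exact small hf hr hinj hx hc hP hij (h i j hij (fun h => hi h.1) (fun h => hj h.1))
  have h1 : ∀ m ∈ g.range, ∃ j : {j : ι // _root_.Matrix.ProjGenLinGroup.mk (P j) = 1}, x j • m • ω = m • ω := by
    intro m hm
    rcases ruleM h4 hf hr hinj hx hc hP hsf (m • ω) (fun m' _ => hcov (m' • m • ω)) with h | ⟨j, hj, hj'⟩
    · exact (hmove m hm h).elim
    · exact ⟨⟨j, ((hP j).cent_iff hf).1 hj⟩, hj'⟩
  have hsg : RC (Matrix.ProjectiveSpecialLinearGroup (Fin 2) K) ∨ ∀ i j : {j : ι // _root_.Matrix.ProjGenLinGroup.mk (P j) = 1}, i ≠ j →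
      (∀ m ∈ g.range, x i * m = m * x i) ∨ (∀ m ∈ g.range, x j * m = m * x j) := by
    refine hsm.imp id fun h i j hij => ?_
    have hij' : (i : ι) ≠ j := fun h => hij (Subtype.ext h)
    by_cases hi : _root_.Matrix.ProjGenLinGroup.mk (R i) = 1
    · exact Or.inl (((hR i).cent_iff hg).2 hi)
    by_cases hj : _root_.Matrix.ProjGenLinGroup.mk (R j) = 1
    · exact Or.inr (((hR j).cent_iff hg).2 hj)
    exact small hg hr hinj hx hc hR hij' (h i j hij' (fun h => hi h.2) (fun h => hj h.2))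
  rcases ruleM (ι := {j : ι // _root_.Matrix.ProjGenLinGroup.mk (P j) = 1}) h4 hg (x := fun j => x j) (r := fun j => r j)
    (fun j => hr j) (fun i j hij => Subtype.ext (hinj hij)) (fun j => hx j) (fun i j => hc i j)
    (P := fun j => R j) (fun j => hR j) hsg ω h1 with h | ⟨j, hj, hj'⟩
  · exact Or.inl h
  · exact Or.inr ⟨j, j.2, ((hR j).cent_iff hg).1 hj, hj'⟩

omit [Fintype K] in
/-- diagonal elements -/
def dgu (K : Type) [Field K] : Kˣ →* SL(2, K) where
  toFun b := ⟨!![(b : K), 0; 0, ((b⁻¹ : Kˣ) : K)], by simp [Matrix.det_fin_two_of]⟩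
  map_one' := by
    apply Subtype.ext
    ext i j
    (revert i j; simp only [_root_.Fin.forall_fin_succ, _root_.Units.val_one, _root_.inv_one, _root_.Matrix.of_apply, _root_.Matrix.cons_val', _root_.Matrix.cons_val_fin_one, _root_.Matrix.SpecialLinearGroup.coe_one, Fin.isValue, _root_.Matrix.cons_val_zero, _root_.Matrix.cons_val_succ, _root_.IsEmpty.forall_iff, _root_.and_true, _root_.Matrix.one_apply_eq, Nat.reduceAdd, _root_.Fin.succ_zero_eq_one, _root_.ne_eq, _root_.zero_ne_one, _root_.not_false_eq_true, _root_.Matrix.one_apply_ne, _root_.and_self, _root_.Fin.succ_ne_zero, _root_.true_and])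
  map_mul' a b := by
    apply Subtype.ext
    change !![((a * b : Kˣ) : K), 0; 0, (((a * b)⁻¹ : Kˣ) : K)] =
      !![(a : K), 0; 0, ((a⁻¹ : Kˣ) : K)] * !![(b : K), 0; 0, ((b⁻¹ : Kˣ) : K)]
    rw [Matrix.mul_fin_two]
    ext i j
    (revert i j; simp only [mul_comm, _root_.Fin.forall_fin_succ, _root_.Units.val_mul, _root_.mul_inv_rev, _root_.Units.val_inv_eq_inv_val, _root_.Matrix.of_apply, _root_.Matrix.cons_val', _root_.Matrix.cons_val_fin_one, _root_.MulZeroClass.mul_zero, _root_.add_zero, _root_.zero_add, _root_.implies_true])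

omit [Fintype K] in
theorem dgu_coe (b : Kˣ) : (dgu K b).1 = !![(b : K), 0; 0, ((b⁻¹ : Kˣ) : K)] := rfl

/-- an element of prime order different from the characteristic -/
theorem exists_dgu (h4 : 3 < Fintype.card K) {f : SL(2, K) →* G} (hf : f.ker = Subgroup.center SL(2, K)) {p : ℕ}
    [CharP K p] : ∃ (b : Kˣ) (l : ℕ), l.Prime ∧ l ≠ p ∧ f (dgu K b) ^ l = 1 ∧ f (dgu K b) ≠ 1 := by
  classical
  obtain ⟨a, ha⟩ : ∃ a : Kˣ, a ^ 2 ≠ 1 := by
    have h1 : ({0, 1, -1} : Finset K).card < (Finset.univ : Finset K).card := by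
      refine lt_of_le_of_lt Finset.card_le_three ?_
      rwa [Finset.card_univ]
    obtain ⟨x, -, hx⟩ := Finset.exists_mem_notMem_of_card_lt_card h1
    simp only [Finset.mem_insert, Finset.mem_singleton, not_or] at hx
    refine ⟨Units.mk0 x hx.1, ?_⟩
    intro h2
    have h3 : x * x = 1 := by
      have := congrArg Units.val h2
      rw [Units.val_pow_eq_pow_val, Units.val_mk0, Units.val_one, pow_two] at this
      exact this
    rcases mul_self_eq_one_iff.mp h3 with h3 | h3
    · exact hx.2.1 h3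
    · exact hx.2.2 h3
  let d : Kˣ →* G := f.comp (dgu K)
  have hd : d a ≠ 1 := by
    intro h1
    have h2 : dgu K a ∈ Subgroup.center SL(2, K) := by rw [← hf]; exact h1
    obtain ⟨e, he, hes⟩ := Matrix.SpecialLinearGroup.mem_center_iff.1 h2
    have h00 := congrFun (congrFun hes 0) 0
    have h11 := congrFun (congrFun hes 1) 1
    simp [dgu_coe] at h00 h11
    apply ha
    apply Units.ext
    have h3 : (a : K) = (a : K)⁻¹ := h00.symm.trans h11
    rw [Units.val_pow_eq_pow_val, Units.val_one, pow_two]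
    calc (a : K) * a = (a : K)⁻¹ * a := by rw [← h3]
      _ = 1 := inv_mul_cancel₀ a.ne_zero
  set n := orderOf (d a) with hn
  have hn1 : n ≠ 1 := fun h => hd (orderOf_eq_one_iff.1 h)
  have hn0 : 0 < n := Nat.pos_of_dvd_of_pos (orderOf_map_dvd d a) (orderOf_pos a)
  have hl := Nat.minFac_prime hn1
  have hln := Nat.minFac_dvd n
  refine ⟨a ^ (n / n.minFac), n.minFac, hl, ?_, ?_, ?_⟩
  · intro hp
    have h1 : n ∣ Fintype.card Kˣ := (orderOf_map_dvd d a).trans orderOf_dvd_card
    rw [Fintype.card_units] at h1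
    have h2 : p ∣ Fintype.card K := (CharP.cast_eq_zero_iff K p _).1 (FiniteField.cast_card_eq_zero K)
    have h3 : p ∣ Fintype.card K - 1 := by rw [← hp]; exact hln.trans h1
    have h5 : p ∣ 1 := by
      have := Nat.dvd_sub h2 h3
      rwa [Nat.sub_sub_self (by omega)] at this
    rw [← hp, Nat.dvd_one] at h5
    exact hl.one_lt.ne' h5
  · have h1 : f (dgu K (a ^ (n / n.minFac))) = d a ^ (n / n.minFac) := by
      rw [← map_pow]; rfl
    rw [h1, ← pow_mul, Nat.div_mul_cancel hln, hn, pow_orderOf_eq_one]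
  · have h1 : f (dgu K (a ^ (n / n.minFac))) = d a ^ (n / n.minFac) := by
      rw [← map_pow]; rfl
    rw [h1]
    intro h2
    have h3 := orderOf_dvd_of_pow_eq_one h2
    rw [← hn] at h3
    have h4 : n / n.minFac < n := Nat.div_lt_self hn0 hl.one_lt
    have h5 : 0 < n / n.minFac := Nat.div_pos (Nat.le_of_dvd hn0 hln) hl.pos
    exact absurd (Nat.le_of_dvd h5 h3) (by omega)

end two

end Cfsg.Agent.H31.RC
end

-- part: H338/RC/Mat2
section
/-!
# Four-dimensional quadratic spaces of plus type as `M_2(K)` (helper338, for helper31, box D4p of S3510)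
-/

set_option autoImplicit false

namespace Cfsg.Agent.H338.RC

open QuadraticMap Module
open Cfsg.Agent.LieClassical.OrthCore Cfsg.Agent.LieClassical.OrthTrans
open Cfsg.Agent.LieClassical.OrthFourPlus Cfsg.Agent.LieClassical.OrthFourCommon

/-- coordinates adapted to a totally singular plane -/
theorem exists_coord {K V : Type} [Field K] [AddCommGroup V] [Module K V] {QL : QuadraticForm K V}
    (hQ : Nondeg QL) (h4 : Module.finrank K V = 4) (U : Submodule K V) (hU : ∀ v ∈ U, QL v = 0)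
    (hU2 : Module.finrank K U = 2) :
    ∃ θ : V ≃ₗ[K] Matrix (Fin 2) (Fin 2) K, (∀ v, (θ v).det = QL v) ∧ ∀ v, v ∈ U ↔ θ v 0 1 = 0 ∧ θ v 1 1 = 0 := by
  have hfin : FiniteDimensional K V := Module.finite_of_finrank_pos (by omega)
  have hfinU : Module.Finite K U := Module.finite_of_finrank_pos (by omega)
  have hUp : ∀ a ∈ U, ∀ b ∈ U, polar QL a b = 0 := by
    intro a ha b hb
    have h1 := Q_add (Q := QL) a b
    rw [hU _ (U.add_mem ha hb), hU a ha, hU b hb] at h1
    simpa using h1.symm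
  let bU := Module.finBasisOfFinrankEq K U hU2
  set e : V := (bU 0 : V) with he
  set w : V := (bU 1 : V) with hw
  have heU : e ∈ U := (bU 0).2
  have hwU : w ∈ U := (bU 1).2
  have hli : ∀ a b : K, a • e + b • w = 0 → a = 0 ∧ b = 0 := by
    intro a b hab
    have h1 : a • bU 0 + b • bU 1 = 0 := Subtype.ext hab
    have h2 := bU.linearIndependent
    rw [Fintype.linearIndependent_iff] at h2
    have h3 := h2 ![a, b] (by rw [Fin.sum_univ_two]; exact h1)
    exact ⟨h3 0, h3 1⟩
  have hspan : ∀ v ∈ U, ∃ a b : K, v = a • e + b • w := by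
    intro v hv
    refine ⟨bU.repr ⟨v, hv⟩ 0, bU.repr ⟨v, hv⟩ 1, ?_⟩
    have h1 := bU.sum_repr ⟨v, hv⟩
    rw [Fin.sum_univ_two] at h1
    exact (congrArg Subtype.val h1).symm
  have he0 : e ≠ 0 := by
    intro h0
    have := (hli 1 0 (by rw [h0, smul_zero, zero_smul, add_zero])).1
    exact one_ne_zero this
  obtain ⟨f, hf⟩ := Cfsg.Agent.LieClassical.OrthTrans.exists_hyp hQ (hU e heU) he0
  set w' : V := w - polar QL f w • e with hw'
  have hw'U : w' ∈ U := U.sub_mem hwU (U.smul_mem _ heU)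
  have hw'0 : w' ≠ 0 := by
    intro h0
    have h1 : (-polar QL f w) • e + (1 : K) • w = 0 := by
      rw [← h0, hw']
      module
    exact one_ne_zero (hli _ _ h1).2
  have hfw' : polar QL f w' = 0 := by
    rw [hw', polar_sub_right, polar_smul_right, hf.pair', smul_eq_mul, mul_one, sub_self]
  obtain ⟨z, hz, hez, hfz⟩ := exists_hyp_perp hQ hf (hU w' hw'U) hw'0 (hUp e heU w' hw'U) hfw'
  -- the values of the polar form
  have pee : polar QL e e = 0 := hf.polar_left
  have pff : polar QL f f = 0 := hf.polar_right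
  have pef : polar QL e f = 1 := hf.pair
  have pfe : polar QL f e = 1 := hf.pair'
  have pww : polar QL w' w' = 0 := hz.polar_left
  have pzz : polar QL z z = 0 := hz.polar_right
  have pwz : polar QL w' z = 1 := hz.pair
  have pzw : polar QL z w' = 1 := hz.pair'
  have pew : polar QL e w' = 0 := hUp e heU w' hw'U
  have pwe : polar QL w' e = 0 := hUp w' hw'U e heU
  have pwf : polar QL w' f = 0 := by rw [polar_comm]; exact hfw'
  have pze : polar QL z e = 0 := by rw [polar_comm]; exact hez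
  have pzf : polar QL z f = 0 := by rw [polar_comm]; exact hfz
  -- the four vectors form a basis
  have hbas : LinearIndependent K ![e, f, w', z] := by
    rw [Fintype.linearIndependent_iff]
    intro g hg
    rw [Fin.sum_univ_four] at hg
    change g 0 • e + g 1 • f + g 2 • w' + g 3 • z = 0 at hg
    have h0 := congrArg (polar QL f) hg
    have h1 := congrArg (polar QL e) hg
    have h2 := congrArg (polar QL z) hg
    have h3 := congrArg (polar QL w') hg
    simp only [polar_add_right, polar_smul_right, polar_zero_right, pee, pff, pef, pfe, pww, pzz, pwz, pzw, pew, pwe,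
      pwf, pze, pzf, hfw', hez, hfz, smul_eq_mul, mul_zero, mul_one, add_zero, zero_add] at h0 h1 h2 h3
    intro i
    fin_cases i
    · exact h0
    · exact h1
    · exact h2
    · exact h3
  have htop : Submodule.span K (Set.range ![e, f, w', z]) = ⊤ :=
    hbas.span_eq_top_of_card_eq_finrank' (by rw [Fintype.card_fin, h4])
  have hzero : ∀ v, polar QL e v = 0 → polar QL f v = 0 → polar QL w' v = 0 → polar QL z v = 0 → v = 0 := by
    intro v h0 h1 h2 h3
    apply hQ
    intro y
    have hy : y ∈ Submodule.span K (Set.range ![e, f, w', z]) := by rw [htop]; trivial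
    rw [polar_comm]
    induction hy using Submodule.span_induction with
    | mem y hy =>
      obtain ⟨i, rfl⟩ := hy
      fin_cases i
      · exact h0
      · exact h1
      · exact h2
      · exact h3
    | zero => rw [polar_zero_left]
    | add a b _ _ ha hb => rw [polar_add_left, ha, hb, add_zero]
    | smul a b _ hb => rw [polar_smul_left, hb, smul_zero]
  have hdec : ∀ v, v = polar QL f v • e + polar QL e v • f + polar QL z v • w' + polar QL w' v • z := by
    intro v
    rw [← sub_eq_zero]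
    apply hzero
    all_goals
      simp only [polar_sub_right, polar_add_right, polar_smul_right, pee, pff, pef, pfe, pww, pzz, pwz, pzw, pew, pwe,
        pwf, pze, pzf, hfw', hez, hfz, smul_eq_mul, mul_zero, mul_one, add_zero, zero_add, sub_self]
  let θ₀ : V →ₗ[K] Matrix (Fin 2) (Fin 2) K :=
    { toFun := fun v => !![polar QL f v, - polar QL w' v; polar QL z v, polar QL e v]
      map_add' := fun a b => by
        ext i j
        fin_cases i <;> fin_cases j <;> simp [polar_add_right, add_comm]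
      map_smul' := fun c a => by
        ext i j
        (revert i j; simp only [polar_smul_right, _root_.Fin.forall_fin_succ, _root_.smul_eq_mul, _root_.Matrix.of_apply, _root_.Matrix.cons_val', _root_.Matrix.cons_val_fin_one, _root_.RingHom.id_apply, _root_.Matrix.smul_apply, Fin.isValue, _root_.Matrix.cons_val_zero, _root_.Matrix.cons_val_succ, _root_.forall_const, _root_.mul_neg, _root_.and_self, _root_.implies_true]) }
  have hθ₀ : ∀ v, θ₀ v = !![polar QL f v, - polar QL w' v; polar QL z v, polar QL e v] := fun v => rfl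
  have hinj : Function.Injective θ₀ := by
    rw [injective_iff_map_eq_zero]
    intro v hv
    rw [hθ₀] at hv
    have h00 := congrFun (congrFun hv 0) 0
    have h01 := congrFun (congrFun hv 0) 1
    have h10 := congrFun (congrFun hv 1) 0
    have h11 := congrFun (congrFun hv 1) 1
    simp only [_root_.Fin.isValue, _root_.Matrix.of_apply, _root_.Matrix.cons_val', _root_.Matrix.cons_val_zero, _root_.Matrix.cons_val_fin_one, _root_.Matrix.zero_apply, _root_.Matrix.cons_val_one, _root_.neg_eq_zero] at h00 h01 h10 h11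
    exact hzero v h11 h00 h01 h10
  have hfr : finrank K V = finrank K (Matrix (Fin 2) (Fin 2) K) := by
    rw [h4, Module.finrank_matrix]
    simp
  let θ : V ≃ₗ[K] Matrix (Fin 2) (Fin 2) K := LinearEquiv.ofInjectiveOfFinrankEq θ₀ hinj hfr
  have hθ : ∀ v, θ v = !![polar QL f v, - polar QL w' v; polar QL z v, polar QL e v] := fun v => rfl
  refine ⟨θ, fun v => ?_, fun v => ?_⟩
  · rw [hθ, Matrix.det_fin_two_of]
    conv_rhs => rw [hdec v]
    simp only [Q_add, QuadraticMap.map_smul, polar_add_left, polar_smul_left, polar_add_right, polar_smul_right,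
      hf.left, hf.right, hz.left, hz.right, pef, pwz, pew, pwf, pwe, hez, hfz, hfw', smul_eq_mul, mul_zero, mul_one,
      add_zero, zero_add]
    ring
  · rw [hθ]
    change v ∈ U ↔ -polar QL w' v = 0 ∧ polar QL e v = 0
    rw [neg_eq_zero]
    constructor
    · intro hv
      exact ⟨hUp w' hw'U v hv, hUp e heU v hv⟩
    · rintro ⟨h1, h2⟩
      rw [hdec v, h1, h2, zero_smul, zero_smul, add_zero, add_zero]
      exact U.add_mem (U.smul_mem _ heU) (U.smul_mem _ hw'U)

/-- similitudes of the determinant -/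
theorem simil {K : Type} [Field K] (T : Matrix (Fin 2) (Fin 2) K ≃ₗ[K] Matrix (Fin 2) (Fin 2) K) (c : K) (hc : c ≠ 0)
    (h : ∀ A, (T A).det = c * A.det) :
    ∃ P R : GL (Fin 2) K, (∀ A, T A = P.1 * A * R.1) ∨ (∀ A, T A = P.1 * A.adjugate * R.1) := by
  have hD : (!![c⁻¹, 0; 0, 1] : Matrix (Fin 2) (Fin 2) K).det ≠ 0 := by
    rw [Matrix.det_fin_two_of]
    simpa using hc
  let D : GL (Fin 2) K := Matrix.GeneralLinearGroup.mkOfDetNeZero !![c⁻¹, 0; 0, 1] hD
  have hDv : (D : Matrix (Fin 2) (Fin 2) K).det = c⁻¹ := by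
    change (!![c⁻¹, 0; 0, 1] : Matrix (Fin 2) (Fin 2) K).det = c⁻¹
    rw [Matrix.det_fin_two_of]
    ring
  let g : isom (dt K) := ⟨conjLin (D, 1) * T, fun A => by
    change ((D : Matrix (Fin 2) (Fin 2) K) * (T A) * ((1⁻¹ : GL (Fin 2) K) : Matrix (Fin 2) (Fin 2) K)).det = A.det
    rw [inv_one, Units.val_one, mul_one, Matrix.det_mul, hDv, h, ← mul_assoc, inv_mul_cancel₀ hc, one_mul]⟩
  have hg : ∀ A, g.1 A = (D : Matrix (Fin 2) (Fin 2) K) * T A := by
    intro A
    change (D : Matrix (Fin 2) (Fin 2) K) * (T A) * ((1⁻¹ : GL (Fin 2) K) : Matrix (Fin 2) (Fin 2) K) = _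
    rw [inv_one, Units.val_one, mul_one]
  have hT : ∀ A, T A = ((D⁻¹ : GL (Fin 2) K) : Matrix (Fin 2) (Fin 2) K) * g.1 A := by
    intro A
    rw [hg, ← mul_assoc, Units.inv_mul, one_mul]
  obtain ⟨p, hp | hp⟩ := exists_eq g
  · refine ⟨D⁻¹ * p.1.1, p.1.2⁻¹, Or.inl fun A => ?_⟩
    rw [hT, hp, psi_apply, Units.val_mul, mul_assoc, mul_assoc, mul_assoc]
  · refine ⟨D⁻¹ * p.1.1, p.1.2⁻¹, Or.inr fun A => ?_⟩
    have h1 : g.1 A = (psi p).1 (A.adjugate) := by rw [hp]; rfl
    rw [hT, h1, psi_apply, Units.val_mul, mul_assoc, mul_assoc, mul_assoc]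

/-- `A ↦ P adj(A) R` neither preserves the matrices with zero second column nor moves all of them away -/
theorem noswap_of {K : Type} [Field K] (P R : GL (Fin 2) K) :
    (∃ A : Matrix (Fin 2) (Fin 2) K, A ≠ 0 ∧ A 0 1 = 0 ∧ A 1 1 = 0 ∧ (P.1 * A.adjugate * R.1) 0 1 = 0 ∧
      (P.1 * A.adjugate * R.1) 1 1 = 0) ∧
    (∃ A : Matrix (Fin 2) (Fin 2) K, A 0 1 = 0 ∧ A 1 1 = 0 ∧
      ¬ ((P.1 * A.adjugate * R.1) 0 1 = 0 ∧ (P.1 * A.adjugate * R.1) 1 1 = 0)) := by
  obtain ⟨a, b, c, d, hP⟩ : ∃ a b c d : K, P.1 = !![a, b; c, d] := ⟨_, _, _, _, Matrix.eta_fin_two _⟩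
  obtain ⟨a', b', c', d', hR⟩ : ∃ a b c d : K, R.1 = !![a, b; c, d] := ⟨_, _, _, _, Matrix.eta_fin_two _⟩
  have hPd : a * d - b * c ≠ 0 := by
    have h1 := P.det.ne_zero
    rw [Matrix.GeneralLinearGroup.val_det_apply] at h1
    have h2 : (P : Matrix (Fin 2) (Fin 2) K) = !![a, b; c, d] := hP
    rwa [h2, Matrix.det_fin_two_of] at h1
  have hRd : a' * d' - b' * c' ≠ 0 := by
    have h1 := R.det.ne_zero
    rw [Matrix.GeneralLinearGroup.val_det_apply] at h1
    have h2 : (R : Matrix (Fin 2) (Fin 2) K) = !![a', b'; c', d'] := hR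
    rwa [h2, Matrix.det_fin_two_of] at h1
  have key : ∀ x y : K, P.1 * (!![x, 0; y, 0] : Matrix (Fin 2) (Fin 2) K).adjugate * R.1 =
      !![b * (-y * a' + x * c'), b * (-y * b' + x * d'); d * (-y * a' + x * c'), d * (-y * b' + x * d')] := by
    intro x y
    rw [hP, hR, Matrix.adjugate_fin_two_of]
    ext i j
    (revert i j; simp only [Matrix.mul_apply, Fin.sum_univ_two, _root_.Fin.forall_fin_succ, _root_.neg_zero, _root_.Matrix.cons_mul, _root_.Nat.succ_eq_add_one, Nat.reduceAdd, _root_.Matrix.vecMul_cons, _root_.Matrix.head_cons, _root_.Matrix.smul_cons, _root_.smul_eq_mul, _root_.MulZeroClass.mul_zero, _root_.Matrix.smul_empty, _root_.Matrix.tail_cons, _root_.mul_neg, _root_.Matrix.empty_vecMul, _root_.add_zero, _root_.Matrix.add_cons, _root_.zero_add, _root_.Matrix.empty_add_empty, _root_.Matrix.empty_mul, _root_.Equiv.symm_apply_apply, _root_.Matrix.of_apply, _root_.Matrix.cons_val', _root_.Matrix.cons_val_fin_one, Fin.isValue, _root_.Matrix.cons_val_zero,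 _root_.Matrix.cons_val_one, _root_.neg_mul, _root_.Matrix.cons_val_succ, _root_.forall_const]) <;> (repeat' with_reducible apply And.intro) <;> ring
  have hbd : ¬ (b = 0 ∧ d = 0) := by
    rintro ⟨rfl, rfl⟩
    exact hPd (by ring)
  have hbd' : ¬ (b' = 0 ∧ d' = 0) := by
    rintro ⟨rfl, rfl⟩
    exact hRd (by ring)
  constructor
  · refine ⟨!![b', 0; d', 0], ?_, rfl, rfl, ?_, ?_⟩
    · intro h0
      apply hbd'
      have h1 := congrFun (congrFun h0 0) 0
      have h2 := congrFun (congrFun h0 1) 0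
      exact ⟨by simpa using h1, by simpa using h2⟩
    · rw [key]
      change b * (-d' * b' + b' * d') = 0
      ring
    · rw [key]
      change d * (-d' * b' + b' * d') = 0
      ring
  · obtain ⟨x, y, hxy⟩ : ∃ x y : K, -y * b' + x * d' ≠ 0 := by
      by_cases hb : b' = 0
      · refine ⟨1, 0, ?_⟩
        intro h0
        apply hbd'
        refine ⟨hb, ?_⟩
        linear_combination h0
      · refine ⟨0, 1, ?_⟩
        intro h0
        apply hb
        linear_combination -h0
    refine ⟨!![x, 0; y, 0], rfl, rfl, ?_⟩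
    rw [key]
    change ¬ (b * (-y * b' + x * d') = 0 ∧ d * (-y * b' + x * d') = 0)
    rintro ⟨h1, h2⟩
    exact hbd ⟨(mul_eq_zero.1 h1).resolve_right hxy, (mul_eq_zero.1 h2).resolve_right hxy⟩

end Cfsg.Agent.H338.RC
end

-- part: H31/RC/MatV
section
/-!
# The orthogonal space of `2 × 2` matrices over an extension field
-/

set_option autoImplicit false
open Cfsg

namespace Cfsg.Agent.H31.RC

open QuadraticMap MulAction
open Cfsg.Agent.LieClassical.OrthCore Cfsg.Agent.LieClassical.OrthTrans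
open Cfsg.Agent.LieClassical.OrthSimple Cfsg.Agent.ClassicalGeometry.OrthSemi
open Cfsg.Agent.ClassicalGeometry.OrthAut1 Cfsg.Agent.H106.RC Cfsg.Agent.H93.RC Cfsg.Agent.H138.RC
open Matrix.ProjGenLinGroup (mk mk_eq_one mk_eq_mk_iff)
open scoped commutatorElement MatrixGroups

section phi

variable {F K V : Type} [Field F] [Field K] [Algebra F K] [AddCommGroup V] [Module F V] [Module K V]
  [IsScalarTower F K V]

/-- `v ↦ P v R⁻¹` -/
noncomputable def Phi (F : Type) [Field F] [Algebra F K] [Module F V] [IsScalarTower F K V]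
    (θ : V ≃ₗ[K] Matrix (Fin 2) (Fin 2) K) : GL (Fin 2) K × GL (Fin 2) K →* (V ≃ₗ[F] V) where
  toFun p := ((θ.trans (Cfsg.Agent.LieClassical.OrthFourPlus.conjLin p)).trans θ.symm).restrictScalars F
  map_one' := by
    ext v
    change θ.symm (Cfsg.Agent.LieClassical.OrthFourPlus.conjLin 1 (θ v)) = v
    rw [map_one]
    exact θ.symm_apply_apply v
  map_mul' p q := by
    ext v
    change θ.symm (Cfsg.Agent.LieClassical.OrthFourPlus.conjLin (p * q) (θ v)) =
      θ.symm (Cfsg.Agent.LieClassical.OrthFourPlus.conjLin p (θ (θ.symm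
        (Cfsg.Agent.LieClassical.OrthFourPlus.conjLin q (θ v)))))
    rw [map_mul, LinearEquiv.apply_symm_apply]
    rfl

theorem Phi_apply (θ : V ≃ₗ[K] Matrix (Fin 2) (Fin 2) K) (p : GL (Fin 2) K × GL (Fin 2) K) (v : V) :
    Phi F θ p v = θ.symm (p.1.1 * θ v * (p.2⁻¹).1) := rfl

theorem th_Phi (θ : V ≃ₗ[K] Matrix (Fin 2) (Fin 2) K) (p : GL (Fin 2) K × GL (Fin 2) K) (v : V) :
    θ (Phi F θ p v) = p.1.1 * θ v * (p.2⁻¹).1 := by
  rw [Phi_apply, LinearEquiv.apply_symm_apply]

/-- left multiplication -/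
noncomputable def muL (F : Type) [Field F] [Algebra F K] [Module F V] [IsScalarTower F K V]
    (θ : V ≃ₗ[K] Matrix (Fin 2) (Fin 2) K) : SL(2, K) →* (V ≃ₗ[F] V) :=
  (Phi F θ).comp ((MonoidHom.inl _ _).comp Matrix.SpecialLinearGroup.toGL)

/-- right multiplication -/
noncomputable def muR (F : Type) [Field F] [Algebra F K] [Module F V] [IsScalarTower F K V]
    (θ : V ≃ₗ[K] Matrix (Fin 2) (Fin 2) K) : SL(2, K) →* (V ≃ₗ[F] V) :=
  (Phi F θ).comp ((MonoidHom.inr _ _).comp Matrix.SpecialLinearGroup.toGL)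

variable (θ : V ≃ₗ[K] Matrix (Fin 2) (Fin 2) K)

theorem th_muL (s : SL(2, K)) (v : V) : θ (muL F θ s v) = s.1 * θ v := by
  change θ (Phi F θ (Matrix.SpecialLinearGroup.toGL s, 1) v) = _
  rw [th_Phi]
  simp

theorem th_muR (s : SL(2, K)) (v : V) : θ (muR F θ s v) = θ v * (s⁻¹).1 := by
  change θ (Phi F θ (1, Matrix.SpecialLinearGroup.toGL s) v) = _
  rw [th_Phi, ← map_inv]
  change (1 : Matrix (Fin 2) (Fin 2) K) * θ v * _ = _
  rw [one_mul]
  rfl

theorem muLR (s t : SL(2, K)) : muL F θ s * muR F θ t = muR F θ t * muL F θ s := by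
  ext v
  apply θ.injective
  change θ (muL F θ s (muR F θ t v)) = θ (muR F θ t (muL F θ s v))
  rw [th_muL, th_muR, th_muR, th_muL, mul_assoc]

theorem muL_inj : Function.Injective (muL F θ) := by
  rw [injective_iff_map_eq_one]
  intro s hs
  have h1 := th_muL (F := F) θ s (θ.symm 1)
  rw [hs] at h1
  change θ (θ.symm 1) = s.1 * θ (θ.symm 1) at h1
  rw [LinearEquiv.apply_symm_apply, mul_one] at h1
  exact Subtype.ext h1.symm

theorem muR_inj : Function.Injective (muR F θ) := by
  rw [injective_iff_map_eq_one]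
  intro s hs
  have h1 := th_muR (F := F) θ s (θ.symm 1)
  rw [hs] at h1
  change θ (θ.symm 1) = θ (θ.symm 1) * (s⁻¹).1 at h1
  rw [LinearEquiv.apply_symm_apply, one_mul] at h1
  have h2 : s⁻¹ = 1 := Subtype.ext h1.symm
  exact inv_eq_one.1 h2

/-- central elements are `±1` -/
theorem center_pm {s : SL(2, K)} (hs : s ∈ Subgroup.center SL(2, K)) : s.1 = 1 ∨ s.1 = -1 := by
  obtain ⟨e, he, hes⟩ := Matrix.SpecialLinearGroup.mem_center_iff.1 hs
  rw [Fintype.card_fin, pow_two, mul_self_eq_one_iff] at he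
  rcases he with rfl | rfl
  · left
    rw [← hes, map_one]
  · right
    rw [← hes, map_neg, map_one]

theorem muL_center {s : SL(2, K)} (hs : s ∈ Subgroup.center SL(2, K)) (g : V ≃ₗ[F] V) :
    muL F θ s * g = g * muL F θ s := by
  rcases center_pm hs with h | h
  · have h1 : ∀ v, muL F θ s v = v := by
      intro v
      apply θ.injective
      rw [th_muL, h, one_mul]
    ext v
    change muL F θ s (g v) = g (muL F θ s v)
    rw [h1, h1]
  · have h1 : ∀ v, muL F θ s v = -v := by
      intro v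
      apply θ.injective
      rw [th_muL, h, map_neg, neg_mul, one_mul]
    ext v
    change muL F θ s (g v) = g (muL F θ s v)
    rw [h1, h1, map_neg]

theorem muR_center {s : SL(2, K)} (hs : s ∈ Subgroup.center SL(2, K)) (g : V ≃ₗ[F] V) :
    muR F θ s * g = g * muR F θ s := by
  rcases center_pm (inv_mem hs) with h | h
  · have h1 : ∀ v, muR F θ s v = v := by
      intro v
      apply θ.injective
      rw [th_muR, h, mul_one]
    ext v
    change muR F θ s (g v) = g (muR F θ s v)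
    rw [h1, h1]
  · have h1 : ∀ v, muR F θ s v = -v := by
      intro v
      apply θ.injective
      rw [th_muR, h, map_neg, mul_neg, mul_one]
    ext v
    change muR F θ s (g v) = g (muR F θ s v)
    rw [h1, h1, map_neg]

variable {Q : QuadraticForm F V} {lam : K → F} (hQ : ∀ v, Q v = lam (θ v).det)

include hQ in
theorem muL_mem_O (s : SL(2, K)) : muL F θ s ∈ O Q := by
  rw [mem_O]
  intro v
  rw [hQ, hQ, th_muL, Matrix.det_mul, s.2, one_mul]

include hQ in
theorem muR_mem_O (s : SL(2, K)) : muR F θ s ∈ O Q := by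
  rw [mem_O]
  intro v
  rw [hQ, hQ, th_muR, Matrix.det_mul, (s⁻¹).2, mul_one]

end phi

section toE

variable {F K V : Type} [Field F] [Field K] [AddCommGroup V] [Module F V] {Q : QuadraticForm F V}

theorem mem_E_of_perf [Fintype K] (hG : Good Q) (h4 : 3 < Fintype.card K) (μ : SL(2, K) →* (V ≃ₗ[F] V))
    (hμ : ∀ s, μ s ∈ O Q) (s : SL(2, K)) : μ s ∈ E Q := by
  have h1 := Cfsg.Agent.TwoFusion.SLTwoFacts.commutator_eq_top h4
  rw [commutator_def] at h1
  have h2 : (⊤ : Subgroup SL(2, K)).map μ ≤ O Q := by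
    rintro _ ⟨t, -, rfl⟩
    exact hμ t
  have h3 : (⊤ : Subgroup SL(2, K)).map μ ≤ E Q := by
    rw [← h1, Subgroup.map_commutator, ← hG.commutator_eq_E]
    exact Subgroup.commutator_mono h2 h2
  exact h3 ⟨s, trivial, rfl⟩

/-- homomorphism to `E Q` -/
def toE [Fintype K] (hG : Good Q) (h4 : 3 < Fintype.card K) (μ : SL(2, K) →* (V ≃ₗ[F] V))
    (hμ : ∀ s, μ s ∈ O Q) : SL(2, K) →* ↥(E Q) :=
  μ.codRestrict (E Q) (mem_E_of_perf hG h4 μ hμ)

theorem toE_coe [Fintype K] (hG : Good Q) (h4 : 3 < Fintype.card K) (μ : SL(2, K) →* (V ≃ₗ[F] V))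
    (hμ : ∀ s, μ s ∈ O Q) (s : SL(2, K)) : (toE hG h4 μ hμ s : V ≃ₗ[F] V) = μ s := rfl

theorem ker_toE [Fintype K] (hG : Good Q) (h4 : 3 < Fintype.card K) {μ : SL(2, K) →* (V ≃ₗ[F] V)}
    (hμ : ∀ s, μ s ∈ O Q) (hinj : Function.Injective μ)
    (hcen : ∀ s ∈ Subgroup.center SL(2, K), ∀ g : V ≃ₗ[F] V, μ s * g = g * μ s)
    {G : Type} [Group G] {N : Subgroup G} {ρ : ↥(E Q) →* G} (hρ : _root_.Cfsg.Agent.H93.RC.Rep Q N ρ) :
    (ρ.comp (toE hG h4 μ hμ)).ker = Subgroup.center SL(2, K) := by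
  ext s
  rw [MonoidHom.mem_ker, MonoidHom.comp_apply, ← MonoidHom.mem_ker, hρ.ker]
  constructor
  · intro h
    rw [Subgroup.mem_center_iff] at h ⊢
    intro t
    apply hinj
    have h1 := congrArg Subtype.val (h (toE hG h4 μ hμ t))
    rw [map_mul, map_mul]
    exact h1
  · intro h
    rw [Subgroup.mem_center_iff]
    intro t
    apply Subtype.ext
    exact (hcen s h t.1).symm

theorem range_toE [Fintype K] (hG : Good Q) (h4 : 3 < Fintype.card K) {μ : SL(2, K) →* (V ≃ₗ[F] V)}
    (hμ : ∀ s, μ s ∈ O Q) {G : Type} [Group G] {N : Subgroup G} {ρ : ↥(E Q) →* G} (hρ : _root_.Cfsg.Agent.H93.RC.Rep Q N ρ) :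
    (ρ.comp (toE hG h4 μ hμ)).range ≤ N := by
  rintro _ ⟨s, rfl⟩
  rw [← hρ.range]
  exact ⟨_, rfl⟩

/-- the action of a lift -/
theorem act_toE [Fintype K] (hG : Good Q) (h4 : 3 < Fintype.card K) {μ : SL(2, K) →* (V ≃ₗ[F] V)}
    (hμ : ∀ s, μ s ∈ O Q) {G : Type} [Group G] {ρ : ↥(E Q) →* G} {x : G} {M : Gam Q} (hl : Lf ρ x M)
    {P : GL (Fin 2) K} (hM : ∀ s v, μ (cj P s) (M.1 v) = M.1 (μ s v)) :
    Act (ρ.comp (toE hG h4 μ hμ)) x P := by
  intro s
  rw [MonoidHom.comp_apply, MonoidHom.comp_apply, hl]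
  congr 1
  apply Subtype.ext
  rw [coe_conjE, toE_coe, toE_coe]
  ext v
  obtain ⟨v, rfl⟩ := M.1.surjective v
  rw [conjLin_apply', hM]

end toE

end Cfsg.Agent.H31.RC
end

-- part: H31/RC/D4Core
section
/-!
# S3510, row F, box D4+ : the core
-/

set_option autoImplicit false
open Cfsg

namespace Cfsg.Agent.H31.RC

open QuadraticMap (polar)
open MulAction
open Cfsg.Agent.LieClassical.OrthCore Cfsg.Agent.LieClassical.OrthTrans
open Cfsg.Agent.LieClassical.OrthSimple Cfsg.Agent.ClassicalGeometry.OrthSemi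
open Cfsg.Agent.ClassicalGeometry.OrthAut1 Cfsg.Agent.H106.RC Cfsg.Agent.H93.RC Cfsg.Agent.H138.RC
open Matrix.ProjGenLinGroup (mk mk_eq_one mk_eq_mk_iff)
open scoped commutatorElement MatrixGroups

section lem

variable {K : Type} [Field K]

theorem cj_mul_right (P : GL (Fin 2) K) (s t : SL(2, K)) : cj P (s * t) = cj P s * cj P t := by
  apply Subtype.ext
  rw [Matrix.SpecialLinearGroup.coe_mul, cj_coe, cj_coe, cj_coe, Matrix.SpecialLinearGroup.coe_mul]
  calc P.1 * (s.1 * t.1) * (P⁻¹).1 = P.1 * s.1 * 1 * t.1 * (P⁻¹).1 := by simp only [mul_one, mul_assoc]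
    _ = P.1 * s.1 * ((P⁻¹).1 * P.1) * t.1 * (P⁻¹).1 := by rw [← Units.val_mul, inv_mul_cancel, Units.val_one]
    _ = _ := by simp only [mul_assoc]

theorem cj_inv (P : GL (Fin 2) K) (s : SL(2, K)) : (cj P s)⁻¹ = cj P s⁻¹ := by
  rw [inv_eq_iff_mul_eq_one, ← cj_mul_right, mul_inv_cancel]
  apply Subtype.ext
  rw [cj_coe]
  change P.1 * (1 : Matrix (Fin 2) (Fin 2) K) * (P⁻¹).1 = 1
  rw [mul_one, ← Units.val_mul, mul_inv_cancel, Units.val_one]

theorem smul_of_mk {P : GL (Fin 2) K} (h : _root_.Matrix.ProjGenLinGroup.mk P = 1) : ∃ a : K, P.1 = a • 1 := by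
  rw [mk_eq_one, Matrix.GeneralLinearGroup.mem_center_iff_val_mem_range_scalar] at h
  obtain ⟨a, ha⟩ := h
  refine ⟨a, ?_⟩
  rw [← ha]
  ext i j
  fin_cases i <;> fin_cases j <;> simp

end lem

variable {F K V G Ω : Type} [Field F] [Finite F] [Field K] [Fintype K] [Algebra F K] [AddCommGroup V] [Module F V]
  [Module K V] [IsScalarTower F K V] {Q : QuadraticForm F V} [Group G] [Finite G] [MulAction G Ω] [Nonempty Ω]
  {N : Subgroup G} {ρ : ↥(E Q) →* G}

omit [Nonempty Ω] in
seal _root_.Finset.sum _root_.dotProduct in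
/-- the core of box D4+ -/
theorem core (hG : Good Q) (hE : Env G Ω N) (hρ : _root_.Cfsg.Agent.H93.RC.Rep Q N ρ) (hIH : IH (Nat.card N)) {p : ℕ} [CharP F p]
    (hLR : LR Q Ω ρ p) {ι : Type} [Finite ι] {x : ι → G} {M : ι → Gam Q} {r : ι → ℕ}
    (hl : ∀ i, Lf ρ (x i) (M i)) (hx : PF x r) (hcov : Cov Ω x) (h4 : 3 < Fintype.card K)
    (θ : V ≃ₗ[K] Matrix (Fin 2) (Fin 2) K) {lam : K → F} (hQ : ∀ v, Q v = lam (θ v).det) (α : K)
    (hα : ∀ a : K, ∃ c d : F, a = algebraMap F K c + algebraMap F K d * α) (hαF : ∀ c : F, α ≠ algebraMap F K c)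
    (P R : ι → GL (Fin 2) K) (hM : ∀ i v, (M i).1 v = Phi F θ (P i, R i) v)
    (hsm : Fintype.card K ≤ 9 → ∀ i j, i ≠ j → ¬ (_root_.Matrix.ProjGenLinGroup.mk (P i) = 1 ∧ _root_.Matrix.ProjGenLinGroup.mk (R i) = 1) →
      ¬ (_root_.Matrix.ProjGenLinGroup.mk (P j) = 1 ∧ _root_.Matrix.ProjGenLinGroup.mk (R j) = 1) → Fintype.card K + 1 < r i * r j) : False := by
  classical
  have hpp : p.Prime := by
    rcases CharP.char_is_prime_or_zero F p with h | h
    · exact h
    · exact (CharP.char_ne_zero_of_finite F p h).elim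
  have : Fact p.Prime := ⟨hpp⟩
  have hKp : CharP K p := charP_of_injective_algebraMap (algebraMap F K).injective p
  set f : SL(2, K) →* G := ρ.comp (toE hG h4 (muL F θ) (muL_mem_O θ hQ)) with hfdef
  set g : SL(2, K) →* G := ρ.comp (toE hG h4 (muR F θ) (muR_mem_O θ hQ)) with hgdef
  have hf : f.ker = Subgroup.center SL(2, K) :=
    ker_toE hG h4 (muL_mem_O θ hQ) (muL_inj θ) (fun s hs h => muL_center θ hs h) hρ
  have hg : g.ker = Subgroup.center SL(2, K) :=
    ker_toE hG h4 (muR_mem_O θ hQ) (muR_inj θ) (fun s hs h => muR_center θ hs h) hρ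
  have hfg : ∀ s t, f s * g t = g t * f s := by
    intro s t
    rw [hfdef, hgdef, MonoidHom.comp_apply, MonoidHom.comp_apply, ← map_mul, ← map_mul]
    congr 1
    exact Subtype.ext (muLR θ s t)
  have hP : ∀ i, Act f (x i) (P i) := by
    intro i
    refine act_toE hG h4 (muL_mem_O θ hQ) (hl i) fun s v => ?_
    apply θ.injective
    rw [th_muL, hM, th_Phi, hM, th_Phi, th_muL, cj_coe]
    change (P i).1 * s.1 * ((P i)⁻¹).1 * ((P i).1 * θ v * ((R i)⁻¹).1) = (P i).1 * (s.1 * θ v) * ((R i)⁻¹).1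
    calc _ = (P i).1 * s.1 * (((P i)⁻¹).1 * (P i).1) * θ v * ((R i)⁻¹).1 := by simp only [mul_assoc]
      _ = _ := by rw [← Units.val_mul, inv_mul_cancel, Units.val_one, mul_one]; simp only [mul_assoc]
  have hR : ∀ i, Act g (x i) (R i) := by
    intro i
    refine act_toE hG h4 (muR_mem_O θ hQ) (hl i) fun s v => ?_
    apply θ.injective
    rw [th_muR, hM, th_Phi, hM, th_Phi, th_muR, cj_inv, cj_coe]
    change (P i).1 * θ v * ((R i)⁻¹).1 * ((R i).1 * (s⁻¹).1 * ((R i)⁻¹).1) =
      (P i).1 * (θ v * (s⁻¹).1) * ((R i)⁻¹).1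
    calc _ = (P i).1 * θ v * (((R i)⁻¹).1 * (R i).1) * (s⁻¹).1 * ((R i)⁻¹).1 := by simp only [mul_assoc]
      _ = _ := by rw [← Units.val_mul, inv_mul_cancel, Units.val_one, mul_one]; simp only [mul_assoc]
  obtain ⟨bf, lf, hlf, hlfp, hfp, hf1⟩ := exists_dgu (p := p) h4 hf
  obtain ⟨bg, lg, hlg, hlgp, hgp, hg1⟩ := exists_dgu (p := p) h4 hg
  have hsm' : RC (Matrix.ProjectiveSpecialLinearGroup (Fin 2) K) ∨ ∀ i j, i ≠ j → ¬ (_root_.Matrix.ProjGenLinGroup.mk (P i) = 1 ∧ _root_.Matrix.ProjGenLinGroup.mk (R i) = 1) →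
      ¬ (_root_.Matrix.ProjGenLinGroup.mk (P j) = 1 ∧ _root_.Matrix.ProjGenLinGroup.mk (R j) = 1) → Fintype.card K + 1 < r i * r j := by
    by_cases h9 : Fintype.card K ≤ 9
    · exact Or.inr (hsm h9)
    · refine Or.inl (rc_psl hE hIH (by omega) hf (range_toE hG h4 (muL_mem_O θ hQ) hρ) hg1 ?_)
      rintro _ ⟨s, rfl⟩
      exact (hfg s _).symm
  have hcv := fun ω : Ω => twoM h4 hf hg hfg hx.prime hx.inj hx.pow hx.comm hP hR hsm' hcov
    (y := f (dgu K bf)) ⟨_, rfl⟩ ω
  -- the plane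
  have hlam : lam 0 = 0 := by
    have h1 := hQ 0
    rw [QuadraticMap.map_zero, map_zero, Matrix.det_zero] at h1
    exact h1.symm
  set u : V := θ.symm !![1, 0; 0, 0] with hu
  have hθu : ∀ k : K, θ (k • u) = !![k, 0; 0, 0] := by
    intro k
    rw [map_smul, hu, LinearEquiv.apply_symm_apply]
    ext i j
    (revert i j; simp only [_root_.Fin.forall_fin_succ, _root_.Matrix.smul_apply, _root_.Matrix.of_apply, _root_.Matrix.cons_val', _root_.Matrix.cons_val_fin_one, _root_.smul_eq_mul, Fin.isValue, _root_.Matrix.cons_val_zero, _root_.Matrix.cons_val_succ, _root_.forall_const, _root_.mul_one, _root_.MulZeroClass.mul_zero, _root_.and_self, _root_.implies_true])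
  have hQk : ∀ k : K, Q (k • u) = 0 := by
    intro k
    rw [hQ, hθu, Matrix.det_fin_two_of]
    simpa using hlam
  have hu0 : u ≠ 0 := by
    intro h
    have h1 := hθu 1
    rw [h, smul_zero, map_zero] at h1
    have h2 := congrFun (congrFun h1 0) 0
    simp at h2
  have hsp : ∀ v, v ∈ Submodule.span F {u, α • u} ↔ ∃ k : K, v = k • u := by
    intro v
    rw [Submodule.mem_span_pair]
    constructor
    · rintro ⟨a, b, rfl⟩
      refine ⟨algebraMap F K a + algebraMap F K b * α, ?_⟩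
      rw [add_smul, mul_smul, algebraMap_smul, algebraMap_smul]
    · rintro ⟨k, rfl⟩
      obtain ⟨a, b, rfl⟩ := hα k
      refine ⟨a, b, ?_⟩
      rw [add_smul, mul_smul, algebraMap_smul, algebraMap_smul]
  have hind : ∀ a : F, α • u ≠ a • u := by
    intro a h
    have h1 : (α - algebraMap F K a) • u = 0 := by
      rw [sub_smul, algebraMap_smul, h, sub_self]
    rcases smul_eq_zero.1 h1 with h2 | h2
    · exact hαF a (sub_eq_zero.1 h2)
    · exact hu0 h2
  have hpol : polar Q u (α • u) = 0 := by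
    have h1 : u + α • u = (1 + α) • u := by rw [add_smul, one_smul]
    have h2 := hQk 1
    rw [one_smul] at h2
    rw [polar, h1, hQk, hQk, h2]; ring
  -- the scalar members
  have hscal : ∀ j, _root_.Matrix.ProjGenLinGroup.mk (P j) = 1 → _root_.Matrix.ProjGenLinGroup.mk (R j) = 1 → ∃ k : K, ∀ v, (M j).1 v = k • v := by
    intro j h1 h2
    obtain ⟨a, ha⟩ := smul_of_mk h1
    obtain ⟨b, hb⟩ := smul_of_mk (P := (R j)⁻¹) (by rw [map_inv, h2, inv_one])
    refine ⟨a * b, fun v => ?_⟩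
    apply θ.injective
    rw [hM, th_Phi, map_smul]
    change (P j).1 * θ v * ((R j)⁻¹).1 = _
    rw [ha, hb, Matrix.smul_mul, Matrix.mul_smul, one_mul, mul_one, smul_smul]
    rw [mul_comm]
  have hrp : ∀ j, _root_.Matrix.ProjGenLinGroup.mk (P j) = 1 → _root_.Matrix.ProjGenLinGroup.mk (R j) = 1 → r j ≠ p := by
    intro j h1 h2 hjp
    obtain ⟨k, hk⟩ := hscal j h1 h2
    apply hx.ne j
    rw [(hl j).eq_one_iff hG hE hρ]
    obtain ⟨a, ha, h3⟩ := (hl j).pow_scal hG hρ (hx.pow j)
    have h4 : ∀ n : ℕ, ∀ v, (M j ^ n).1 v = k ^ n • v := by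
      intro n
      induction n with
      | zero => intro v; rw [pow_zero, pow_zero, one_smul]; rfl
      | succ n ih =>
        intro v
        rw [pow_succ]
        change (M j ^ n).1 ((M j).1 v) = _
        rw [hk, ih, smul_smul, pow_succ]
    have h5 : k ^ p = algebraMap F K a := by
      have h6 := h3 u
      rw [h4, hjp, ← algebraMap_smul K a u] at h6
      have h7 : (k ^ p - algebraMap F K a) • u = 0 := by rw [sub_smul, h6, sub_self]
      rcases smul_eq_zero.1 h7 with h8 | h8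
      · exact sub_eq_zero.1 h8
      · exact (hu0 h8).elim
    obtain ⟨d, hd⟩ : ∃ d : F, d ^ p = a := by
      have h6 := Finite.injective_iff_surjective.1 (frobenius_inj F p)
      exact h6 a
    have h6 : k = algebraMap F K d := by
      apply frobenius_inj K p
      rw [frobenius_def, frobenius_def, h5, ← hd, map_pow]
    refine ⟨d, ?_, fun v => by rw [hk, h6, algebraMap_smul]⟩
    rintro rfl
    rw [zero_pow hpp.ne_zero] at hd
    exact ha hd.symm
  -- the final cover
  let J := {j : ι // _root_.Matrix.ProjGenLinGroup.mk (P j) = 1 ∧ _root_.Matrix.ProjGenLinGroup.mk (R j) = 1}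
  let y : Bool ⊕ J → G := Sum.elim (fun b => bif b then f (dgu K bf) else g (dgu K bg)) (fun j => x j)
  have hy : ∀ k, ∃ (L : Gam Q) (s : ℕ), Lf ρ (y k) L ∧ s.Prime ∧ s ≠ p ∧ y k ^ s = 1 ∧ y k ≠ 1 ∧
      ∀ c : K, ∃ d : K, L.1 (c • u) = d • u := by
    rintro ((_ | _) | ⟨j, hj, hj'⟩)
    · refine ⟨tg Q (toE hG h4 (muR F θ) (muR_mem_O θ hQ) (dgu K bg)), lg, Lf.tg _, hlg, hlgp, hgp, hg1,
        fun c => ⟨c * (bg⁻¹ : Kˣ), ?_⟩⟩
      rw [tg_apply, toE_coe]
      apply θ.injective
      rw [th_muR, hθu, hθu, ← map_inv, dgu_coe, Matrix.mul_fin_two]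
      ext i j
      (revert i j; simp [_root_.Fin.forall_fin_succ])
    · refine ⟨tg Q (toE hG h4 (muL F θ) (muL_mem_O θ hQ) (dgu K bf)), lf, Lf.tg _, hlf, hlfp, hfp, hf1,
        fun c => ⟨bf * c, ?_⟩⟩
      rw [tg_apply, toE_coe]
      apply θ.injective
      rw [th_muL, hθu, hθu, dgu_coe, Matrix.mul_fin_two]
      ext i j
      (revert i j; simp [_root_.Fin.forall_fin_succ])
    · obtain ⟨k, hk⟩ := hscal j hj hj'
      refine ⟨M j, r j, hl j, hx.prime j, hrp j hj hj', hx.pow j, hx.ne j, fun c => ⟨k * c, ?_⟩⟩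
      rw [hk, smul_smul]
  choose L s hL hs hsp' hpow hne hpl using hy
  refine hLR (Bool ⊕ J) (y := y) (L := L) (s := s) hL hs hsp' hpow hne ?_ (by simpa using hQk 1) (hQk α) hpol hu0
    hind ?_ ?_
  · have hc1 : ∀ (j : J) (m : G), m ∈ f.range → x j * m = m * x j := fun j => ((hP j).cent_iff hf).2 j.2.1
    have hc2 : ∀ (j : J) (m : G), m ∈ g.range → x j * m = m * x j := fun j => ((hR j).cent_iff hg).2 j.2.2
    rintro ((_ | _) | i) ((_ | _) | j)
    · rfl
    · exact (hfg _ _).symm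
    · exact (hc2 j _ ⟨_, rfl⟩).symm
    · exact hfg _ _
    · rfl
    · exact (hc1 j _ ⟨_, rfl⟩).symm
    · exact hc2 i _ ⟨_, rfl⟩
    · exact hc1 i _ ⟨_, rfl⟩
    · exact hx.comm _ _
  · intro k v hv
    obtain ⟨c, rfl⟩ := (hsp v).1 hv
    obtain ⟨d, hd⟩ := hpl k c
    exact (hsp _).2 ⟨d, hd⟩
  · intro ω
    right
    rcases hcv ω with h | h | ⟨j, h1, h2, h3⟩
    · exact ⟨Sum.inl true, h⟩
    · exact ⟨Sum.inl false, h ⟨_, rfl⟩⟩
    · exact ⟨Sum.inr ⟨j, h1, h2⟩, h3⟩

end Cfsg.Agent.H31.RC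
end

-- part: H338/RC/KSub
section
/-!
# Subspaces over an extension field (helper338, for helper31, box D4p of S3510)
-/

set_option autoImplicit false

namespace Cfsg.Agent.H338.RC

open QuadraticMap Module

/-- the trace form detects zero on squares -/
theorem eq_zero_of_trace_sq {F K : Type} [Field F] [Finite F] [Field K] [Finite K] [Algebra F K] (b : K)
    (h : ∀ a : K, Algebra.trace F K (a * a * b) = 0) : b = 0 := by
  have hfin : Module.Finite F K := Module.Finite.of_finite
  have hall : ∀ c : K, Algebra.trace F K (c * b) = 0 := by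
    intro c
    by_cases h2 : (2 : K) = 0
    · have h5 : Function.Injective (fun a : K => a * a) := by
        intro x y hxy
        have hxy' : x * x = y * y := hxy
        have h6 : (x - y) * (x - y) = 0 := by
          linear_combination hxy' - x * y * h2 + y * y * h2
        exact sub_eq_zero.1 (mul_self_eq_zero.1 h6)
      obtain ⟨a, ha⟩ := Finite.injective_iff_surjective.1 h5 c
      have ha' : a * a = c := ha
      rw [← ha', h]
    · have h6 : c * b = ((c + 1) / 2) * ((c + 1) / 2) * b - ((c - 1) / 2) * ((c - 1) / 2) * b := by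
        field_simp
        ring
      rw [h6, map_sub, h, h, sub_zero]
  by_contra hb
  have h1 : Algebra.trace F K = 0 := by
    refine LinearMap.ext fun c => ?_
    have h2 := hall (c * b⁻¹)
    rw [mul_assoc, inv_mul_cancel₀ hb, mul_one] at h2
    rw [h2]
    rfl
  exact Algebra.trace_ne_zero F K h1

theorem exists_Ksub {F K V : Type} [Field F] [Finite F] [Field K] [Fintype K] [Algebra F K] [AddCommGroup V]
    [Module F V] [Module K V] [IsScalarTower F K V] {Q : QuadraticForm F V} {QL : QuadraticForm K V}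
    (hQL : ∀ v, Algebra.trace F K (QL v) = Q v) (h2 : Module.finrank F K = 2) (U : Submodule F V)
    (hU : ∀ v ∈ U, Q v = 0) (hUK : ∀ (a : K), ∀ v ∈ U, a • v ∈ U) (hU4 : Module.finrank F U = 4) :
    ∃ W : Submodule K V, (∀ v, v ∈ W ↔ v ∈ U) ∧ (∀ v ∈ W, QL v = 0) ∧ Module.finrank K W = 2 := by
  let W : Submodule K V :=
    { carrier := U
      add_mem' := fun ha hb => U.add_mem ha hb
      zero_mem' := U.zero_mem
      smul_mem' := fun a v hv => hUK a v hv }
  refine ⟨W, fun v => Iff.rfl, ?_, ?_⟩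
  · intro v hv
    apply eq_zero_of_trace_sq (F := F)
    intro a
    have h3 := hQL (a • v)
    rw [QuadraticMap.map_smul, hU _ (hUK a v hv), smul_eq_mul] at h3
    exact h3
  · have h3 := Module.finrank_mul_finrank F K W
    have h4 : Module.finrank F W = Module.finrank F U := by
      let e : W ≃ₗ[F] U :=
        { toFun := fun w => ⟨w.1, w.2⟩
          invFun := fun w => ⟨w.1, w.2⟩
          map_add' := fun _ _ => rfl
          map_smul' := fun _ _ => rfl
          left_inv := fun _ => rfl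
          right_inv := fun _ => rfl }
      exact e.finrank_eq
    rw [h4, hU4, h2] at h3
    omega

end Cfsg.Agent.H338.RC
end

-- part: H31/RC/D4p
section
/-!
# S3510, row F, box D4+
-/

set_option autoImplicit false
open Cfsg

namespace Cfsg.Agent.H31.RC

open QuadraticMap (polar)
open MulAction
open Cfsg.Agent.LieClassical.OrthCore Cfsg.Agent.LieClassical.OrthTrans
open Cfsg.Agent.LieClassical.OrthSimple Cfsg.Agent.ClassicalGeometry.OrthSemi
open Cfsg.Agent.ClassicalGeometry.OrthAut1 Cfsg.Agent.H106.RC Cfsg.Agent.H93.RC Cfsg.Agent.H138.RC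
open Cfsg.Agent.H338.RC
open Matrix.ProjGenLinGroup (mk mk_eq_one mk_eq_mk_iff)
open scoped commutatorElement MatrixGroups

section swap

variable {K : Type} [Field K]

/-- the adjugate of an invertible matrix -/
noncomputable def adjU (P : GL (Fin 2) K) : GL (Fin 2) K :=
  Matrix.GeneralLinearGroup.mkOfDetNeZero P.1.adjugate (by
    rw [Matrix.det_adjugate]
    have := P.det.ne_zero
    rw [Matrix.GeneralLinearGroup.val_det_apply] at this
    exact pow_ne_zero _ this)

theorem adjU_coe (P : GL (Fin 2) K) : (adjU P).1 = P.1.adjugate := rfl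

theorem adj_adj (A : Matrix (Fin 2) (Fin 2) K) : A.adjugate.adjugate = A := by
  rw [Matrix.adjugate_adjugate A (by simp)]
  simp

theorem swap_iter {T : Matrix (Fin 2) (Fin 2) K → Matrix (Fin 2) (Fin 2) K} {P R : GL (Fin 2) K}
    (hT : ∀ A, T A = P.1 * A.adjugate * R.1) (n : ℕ) :
    ∃ P2 R2 : GL (Fin 2) K, ∀ A, T^[2 * n + 1] A = P2.1 * A.adjugate * R2.1 := by
  induction n with
  | zero => exact ⟨P, R, hT⟩
  | succ n ih =>
    obtain ⟨P2, R2, h⟩ := ih
    refine ⟨P * adjU R * P2, R2 * (adjU P * R), fun A => ?_⟩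
    have h1 : 2 * (n + 1) + 1 = (2 * n + 1) + 1 + 1 := by ring
    rw [h1, Function.iterate_succ_apply', Function.iterate_succ_apply', h, hT, hT]
    rw [Matrix.adjugate_mul_distrib, Matrix.adjugate_mul_distrib, adj_adj]
    simp only [Units.val_mul, adjU_coe, mul_assoc]

/-- scalar maps -/
theorem mk_of_scal {P R : GL (Fin 2) K} {k : K} (h : ∀ A : Matrix (Fin 2) (Fin 2) K, P.1 * A * (R⁻¹).1 = k • A) :
    _root_.Matrix.ProjGenLinGroup.mk P = 1 ∧ _root_.Matrix.ProjGenLinGroup.mk R = 1 := by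
  have h1 : P.1 = k • R.1 := by
    have h2 := h 1
    rw [mul_one] at h2
    have h3 : P.1 * (R⁻¹).1 * R.1 = (k • (1 : Matrix (Fin 2) (Fin 2) K)) * R.1 := by rw [h2]
    rw [mul_assoc, ← Units.val_mul, inv_mul_cancel, Units.val_one, mul_one, Matrix.smul_mul, one_mul] at h3
    exact h3
  have hPR := mk_eq_of_smul h1
  have hk : k ≠ 0 := by
    rintro rfl
    rw [zero_smul] at h1
    have h2 := P.det.ne_zero
    rw [Matrix.GeneralLinearGroup.val_det_apply] at h2
    have h3 : (P : Matrix (Fin 2) (Fin 2) K) = 0 := h1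
    rw [h3, Matrix.det_zero] at h2
    exact h2 rfl
  have hR : _root_.Matrix.ProjGenLinGroup.mk R = 1 := by
    rw [mk_eq_one, Subgroup.mem_center_iff]
    intro A
    apply Units.ext
    rw [Units.val_mul, Units.val_mul]
    have h2 := h A.1
    rw [h1, Matrix.smul_mul, Matrix.smul_mul] at h2
    have h3 : R.1 * A.1 * (R⁻¹).1 = A.1 := smul_right_injective _ hk h2
    calc A.1 * R.1 = R.1 * A.1 * (R⁻¹).1 * R.1 := by rw [h3]
      _ = R.1 * A.1 := by rw [mul_assoc (R.1 * A.1), Units.inv_mul, mul_one]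
  exact ⟨hPR.trans hR, hR⟩

end swap

variable {F K V G Ω : Type} [Field F] [Finite F] [Field K] [Fintype K] [Algebra F K] [AddCommGroup V] [Module F V]
  [Module K V] [IsScalarTower F K V] {Q : QuadraticForm F V} [Group G] [Finite G] [MulAction G Ω] [Nonempty Ω]
  {N : Subgroup G} {ρ : ↥(E Q) →* G}

/-- **box D4+** with the field `K` given -/
theorem D4K (hG : Good Q) (hE : Env G Ω N) (hρ : _root_.Cfsg.Agent.H93.RC.Rep Q N ρ) (hIH : IH (Nat.card N)) {p : ℕ} [CharP F p]
    (hLR : LR Q Ω ρ p) {ι : Type} [Finite ι] {x : ι → G} {M : ι → Gam Q} {r : ι → ℕ}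
    (hl : ∀ i, Lf ρ (x i) (M i)) (hx : PF x r) (hcov : Cov Ω x) (hcard : Nat.card K = Nat.card F ^ 2)
    {R : QuadraticForm K V} (hR : ∀ v, Algebra.trace F K (R v) = Q v) (hRn : Nondeg R)
    (h4 : Module.finrank K V = 4) (α : K)
    (hα : ∀ a : K, ∃ c d : F, a = algebraMap F K c + algebraMap F K d * α) (hαF : ∀ c : F, α ≠ algebraMap F K c)
    (hlin : ∀ i (a : K) (v : V), (M i).1 (a • v) = a • (M i).1 v)
    (hsim : ∀ i, ∃ c : K, c ≠ 0 ∧ ∀ v, R ((M i).1 v) = c * R v)
    (W : Submodule K V) (hW : ∀ v ∈ W, R v = 0) (hW2 : Module.finrank K W = 2)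
    (hns : ∀ i, r i = 2 → (∃ k : K, ∀ v, (M i).1 v = k • v) ∨
      ((2 : F) = 0 ∧ ((∀ v ∈ W, (M i).1 v ∈ W) ∨ ∀ v ∈ W, (M i).1 v ∈ W → v = 0))) : False := by
  classical
  obtain ⟨θ, hθ, hθW⟩ := exists_coord hRn h4 W hW hW2
  have hq2 : 2 ≤ Nat.card F := Finite.one_lt_card
  have hK3 : 3 < Fintype.card K := by
    rw [← Nat.card_eq_fintype_card, hcard]
    nlinarith only [hq2]
  -- the maps in coordinates
  have hTex : ∀ i, ∃ T : Matrix (Fin 2) (Fin 2) K ≃ₗ[K] Matrix (Fin 2) (Fin 2) K,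
      ∀ A, T A = θ ((M i).1 (θ.symm A)) := by
    intro i
    let L : V ≃ₗ[K] V :=
      { toFun := (M i).1
        map_add' := fun u v => add_of_mem (M i).2 u v
        map_smul' := fun a v => hlin i a v
        invFun := (M i).1.symm
        left_inv := fun v => (M i).1.symm_apply_apply v
        right_inv := fun v => (M i).1.apply_symm_apply v }
    exact ⟨(θ.symm.trans L).trans θ, fun A => rfl⟩
  choose T hT using hTex
  have key : ∀ i, ∃ P R' : GL (Fin 2) K, ∀ A, T i A = P.1 * A * (R'⁻¹).1 := by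
    intro i
    obtain ⟨c, hc, hc'⟩ := hsim i
    obtain ⟨P, R', h | h⟩ := simil (T i) c hc (fun A => by
      rw [hT, hθ, hc', ← hθ, LinearEquiv.apply_symm_apply])
    · exact ⟨P, R'⁻¹, fun A => by rw [inv_inv]; exact h A⟩
    exfalso
    -- `v ∈ W` iff the second column vanishes
    have hpres : ∀ {P R' : GL (Fin 2) K}, (∀ A : Matrix (Fin 2) (Fin 2) K, A 0 1 = 0 ∧ A 1 1 = 0 →
        (P.1 * A.adjugate * R'.1) 0 1 = 0 ∧ (P.1 * A.adjugate * R'.1) 1 1 = 0) → False := by
      intro P R' h1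
      obtain ⟨A, h2, h3, h4⟩ := (noswap_of P R').2
      exact h4 (h1 A ⟨h2, h3⟩)
    have hinv : (∀ v ∈ W, (M i).1 v ∈ W) → False := by
      intro h1
      refine hpres (P := P) (R' := R') fun A hA => ?_
      rw [← h A, hT]
      refine (hθW _).1 (h1 _ ((hθW _).2 ?_))
      rw [LinearEquiv.apply_symm_apply]
      exact hA
    by_cases hr2 : r i = 2
    · rcases hns i hr2 with ⟨k, hk⟩ | ⟨-, h1 | h1⟩
      · exact hinv fun v hv => by rw [hk]; exact W.smul_mem k hv
      · exact hinv h1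
      · obtain ⟨A, hA0, hA1, hA2, hA3, hA4⟩ := (noswap_of P R').1
        apply hA0
        have h2 : θ.symm A ∈ W := (hθW _).2 (by rw [LinearEquiv.apply_symm_apply]; exact ⟨hA1, hA2⟩)
        have h3 : (M i).1 (θ.symm A) ∈ W := (hθW _).2 (by rw [← hT, h A]; exact ⟨hA3, hA4⟩)
        exact (LinearEquiv.map_eq_zero_iff _).1 (h1 _ h2 h3)
    · obtain ⟨n, hn⟩ := (hx.prime i).odd_of_ne_two hr2
      obtain ⟨P2, R2, h2⟩ := swap_iter (T := T i) h n
      rw [← hn] at h2
      obtain ⟨a, ha, h3⟩ := (hl i).pow_scal hG hρ (hx.pow i)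
      have h5 : ∀ (m : ℕ) (A : Matrix (Fin 2) (Fin 2) K), (T i)^[m] A = θ ((M i ^ m).1 (θ.symm A)) := by
        intro m
        induction m with
        | zero => intro A; exact (θ.apply_symm_apply A).symm
        | succ m ih =>
          intro A
          rw [Function.iterate_succ_apply, ih, hT, LinearEquiv.symm_apply_apply, pow_succ]
          rfl
      refine hpres (P := P2) (R' := R2) fun A hA => ?_
      rw [← h2 A, h5, h3]
      refine (hθW _).1 ?_
      rw [← algebraMap_smul K a]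
      refine W.smul_mem _ ((hθW _).2 ?_)
      rw [LinearEquiv.apply_symm_apply]
      exact hA
  choose P R' hPR using key
  refine core hG hE hρ hIH hLR hl hx hcov hK3 θ (lam := fun a => Algebra.trace F K a)
    (fun v => by rw [hθ, hR]) α hα hαF P R' (fun i v => ?_) (fun h9 i j hij hi hj => ?_)
  · apply θ.injective
    rw [th_Phi]
    have h1 := hPR i (θ v)
    rw [hT, LinearEquiv.symm_apply_apply] at h1
    exact h1
  · -- small fields
    have hsc : ∀ i, (∃ k : K, ∀ v, (M i).1 v = k • v) → _root_.Matrix.ProjGenLinGroup.mk (P i) = 1 ∧ _root_.Matrix.ProjGenLinGroup.mk (R' i) = 1 := by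
      rintro i ⟨k, hk⟩
      refine mk_of_scal (k := k) fun A => ?_
      rw [← hPR, hT, hk, map_smul, LinearEquiv.apply_symm_apply]
    rw [← Nat.card_eq_fintype_card, hcard] at h9 ⊢
    have hq : Nat.card F = 2 ∨ Nat.card F = 3 := by
      have : Nat.card F < 4 := by
        by_contra h
        nlinarith only [h9, h]
      omega
    have hne : r i ≠ r j := fun h => hij (hx.inj h)
    have h2i := (hx.prime i).two_le
    have h2j := (hx.prime j).two_le
    rcases hq with hq | hq
    · rw [hq]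
      have : 3 ≤ r i ∨ 3 ≤ r j := by omega
      rcases this with h | h <;> nlinarith only [h2j, h, h2i]
    · rw [hq]
      have h20 : (2 : F) ≠ 0 := by
        intro h0
        have h1 : (2 : F) ≠ 0 := by
          have hF : ((Nat.card F : ℕ) : F) = 0 := by
            have := Fintype.ofFinite F
            rw [Nat.card_eq_fintype_card]
            exact FiniteField.cast_card_eq_zero F
          rw [hq] at hF
          intro h2
          have h3 : (1 : F) = 0 := by
            have h4 : ((3 : ℕ) : F) = 2 + 1 := by norm_num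
            rw [hF, h2, zero_add] at h4
            exact h4.symm
          exact one_ne_zero h3
        exact h1 h0
      have h3 : ∀ i, ¬ (_root_.Matrix.ProjGenLinGroup.mk (P i) = 1 ∧ _root_.Matrix.ProjGenLinGroup.mk (R' i) = 1) → r i ≠ 2 := by
        intro i hi h
        rcases hns i h with h1 | h1
        · exact hi (hsc i h1)
        · exact h20 h1.1
      obtain ⟨a, ha⟩ := (hx.prime i).odd_of_ne_two (h3 i hi)
      obtain ⟨b, hb⟩ := (hx.prime j).odd_of_ne_two (h3 j hj)
      have h1 : 1 ≤ a := by omega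
      have h2 : 1 ≤ b := by omega
      have h5 : 2 ≤ a ∨ 2 ≤ b := by omega
      rw [ha, hb]
      rcases h5 with h | h <;> nlinarith only [h2, h, h1]

end Cfsg.Agent.H31.RC
end

-- part: H457/RC/KAll
section
/-!
# S3510, row F even, box D: `Q` is the trace of the `K`-form (helper457)

`exists_all`: everything about the `K`-structure in one statement.
-/

set_option autoImplicit false
set_option linter.unusedSectionVars false

namespace Cfsg.Agent.H457.RC

open QuadraticMap
open Cfsg.Agent.LieClassical.OrthCore Cfsg.Agent.LieClassical.OrthTrans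
open Cfsg.Agent.LieClassical.OrthSimple Cfsg.Agent.ClassicalGeometry.OrthSemi
open Cfsg.Agent.ClassicalGeometry.OrthAut1 Cfsg.Agent.H93.RC

section tr

variable {F K : Type*} [Field F] [Field K] [Algebra F K] {α : K} {s t : F}

/-- the coordinates -/
theorem Gen.exists_equiv (h : Gen F K α s t) :
    ∃ e : K ≃ₗ[F] (Fin 2 → F), ∀ x y : F, e (algebraMap F K x + algebraMap F K y * α) = ![x, y] := by
  classical
  let g : (Fin 2 → F) →ₗ[F] K :=
    { toFun := fun f => algebraMap F K (f 0) + algebraMap F K (f 1) * α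
      map_add' := by
        intro f f'
        simp only [Pi.add_apply, map_add]
        ring
      map_smul' := by
        intro a f
        simp only [Pi.smul_apply, smul_eq_mul, map_mul, RingHom.id_apply, Algebra.smul_def]
        ring }
  have hg : Function.Bijective g := by
    constructor
    · intro f f' hff
      obtain ⟨h1, h2⟩ := h.uniq hff
      ext i
      fin_cases i
      · exact h1
      · exact h2
    · intro a
      obtain ⟨x, y, rfl⟩ := h.gen a
      exact ⟨![x, y], rfl⟩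
  refine ⟨(LinearEquiv.ofBijective g hg).symm, fun x y => ?_⟩
  rw [LinearEquiv.symm_apply_eq]
  rfl

theorem Gen.trace_eq (h : Gen F K α s t) (x y : F) :
    Algebra.trace F K (algebraMap F K x + algebraMap F K y * α) = 2 * x + s * y := by
  classical
  obtain ⟨e, he⟩ := h.exists_equiv
  let b : Module.Basis (Fin 2) F K := Module.Basis.ofEquivFun e
  have hb0 : b 0 = 1 := by
    apply e.injective
    have h1 := he 1 0
    rw [map_one, map_zero, zero_mul, add_zero] at h1
    rw [h1]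
    have h2 : b 0 = e.symm (Pi.single 0 1) := by simp [b]
    rw [h2, LinearEquiv.apply_symm_apply]
    ext i
    (revert i; simp only [_root_.Fin.forall_fin_succ, Fin.isValue, _root_.Nat.succ_eq_add_one, Nat.reduceAdd, _root_.Pi.single_eq_same, _root_.Matrix.cons_val_zero, _root_.ne_eq, _root_.Fin.succ_ne_zero, _root_.not_false_eq_true, _root_.Pi.single_eq_of_ne, _root_.Matrix.cons_val_succ, _root_.Matrix.cons_val_fin_one, _root_.implies_true, _root_.and_self])
  have hb1 : b 1 = α := by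
    apply e.injective
    have h1 := he 0 1
    rw [map_one, map_zero, zero_add, one_mul] at h1
    rw [h1]
    have h2 : b 1 = e.symm (Pi.single 1 1) := by simp [b]
    rw [h2, LinearEquiv.apply_symm_apply]
    ext i
    fin_cases i <;> simp
  rw [Algebra.trace_eq_matrix_trace b, Matrix.trace_fin_two, Algebra.leftMulMatrix_eq_repr_mul,
    Algebra.leftMulMatrix_eq_repr_mul, hb0, hb1]
  have h3 : ∀ (a : K) (i : Fin 2), b.repr a i = e a i := by
    intro a i
    simp [b]
  rw [h3, h3, mul_one, he]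
  have h4 : (algebraMap F K x + algebraMap F K y * α) * α
      = algebraMap F K (-(y * t)) + algebraMap F K (x + y * s) * α := by
    rw [map_neg, map_mul, map_add, map_mul]
    linear_combination (algebraMap F K y) * h.sq
  rw [h4, he]
  simp only [Matrix.cons_val_zero, Matrix.cons_val_one]
  ring

/-- the functional of `Gen.exists_functional` is the trace -/
theorem Gen.trace_functional (h : Gen F K α s t) (hs : s ≠ 0) (a b : F) :
    Algebra.trace F K ((algebraMap F K a - (algebraMap F K s - α) * algebraMap F K b)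
      / (2 * α - algebraMap F K s)) = b := by
  obtain ⟨x, y, hxy⟩ := h.gen ((algebraMap F K a - (algebraMap F K s - α) * algebraMap F K b)
      / (2 * α - algebraMap F K s))
  rw [hxy, h.trace_eq]
  rw [div_eq_iff (h.delta_ne hs)] at hxy
  have h1 : algebraMap F K (a - s * b) + algebraMap F K b * α
      = algebraMap F K (-(s * x) - 2 * y * t) + algebraMap F K (2 * x + s * y) * α := by
    simp only [map_sub, map_mul, map_add, map_neg, map_ofNat]
    linear_combination hxy + (2 * algebraMap F K y) * h.sq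
  exact (h.uniq h1).2.symm

end tr

/-- **The `K`-form, with the trace.** -/
theorem exists_KT {F K V : Type*} [Field F] [Field K] [Algebra F K] [AddCommGroup V] [Module F V] [Module K V]
    [IsScalarTower F K V] {Q : QuadraticForm F V} {α : K} {s t : F} [Finite F] (h : Gen F K α s t)
    (hself : ∀ v w, polar Q (α • v) w = polar Q v (α • w)) :
    ∃ R : QuadraticForm K V, KF Q R (Algebra.trace F K) := by
  obtain ⟨β, s', t', hs, hβ⟩ := h.exists_trace_ne
  have hself' : ∀ v w, polar Q (β • v) w = polar Q v (β • w) := fun v w => h.self hself β v w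
  refine ⟨QK hβ hs hself', fun v => hβ.trace_functional hs _ _, ?_⟩
  intro f c hK hf v
  rw [QK_apply, QK_apply]
  unfold qK
  rw [← hK, hf, hf, ← mul_div_assoc]
  congr 1
  simp only [map_mul, map_add]
  ring

/-- the lift over `K` -/
theorem KF.exists_Gam {F K V : Type*} [Field F] [Field K] [Algebra F K] [AddCommGroup V] [Module F V] [Module K V]
    [IsScalarTower F K V] {Q : QuadraticForm F V} {α : K} {s t : F} {R : QuadraticForm K V} {l : K →ₗ[F] F}
    (hR : KF Q R l) (h : Gen F K α s t) [Nontrivial V] (M : Gam Q) (hM : IsLin M)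
    (hα : ∀ v, M.1 (α • v) = α • M.1 v) :
    ∃ (ML : Gam R) (c : F), M.1 = ML.1 ∧ IsLin ML ∧ c ≠ 0 ∧ (∀ v, Q (M.1 v) = c * Q v) ∧
      ∀ v, R (M.1 v) = algebraMap F K c * R v := by
  obtain ⟨σ, c, hc⟩ := M.2
  have hK : ∀ (a : K) (v : V), M.1 (a • v) = a • M.1 v := h.linear hc.add hM hα
  -- `σ` is trivial
  have hσ : ∀ a : F, σ a = a := by
    intro a
    obtain ⟨v, hv⟩ := exists_ne (0 : V)
    have h1 := hc.smul a v
    rw [hM a v] at h1
    have h2 : M.1 v ≠ 0 := by
      intro h3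
      apply hv
      apply M.1.injective
      rw [h3, hc.map_zero]
    have h3 : (a - σ a) • M.1 v = 0 := by rw [sub_smul, h1, sub_self]
    rcases smul_eq_zero.mp h3 with h4 | h4
    · exact (sub_eq_zero.mp h4).symm
    · exact (h2 h4).elim
  have hQ : ∀ v, Q (M.1 v) = c * Q v := fun v => by rw [hc.form, hσ]
  have hR' : ∀ v, R (M.1 v) = algebraMap F K c * R v := hR.sim _ c hK hQ
  have hc0 : algebraMap F K c ≠ 0 := by
    rw [Ne, map_eq_zero]; exact hc.ne
  refine ⟨⟨M.1, RingEquiv.refl K, algebraMap F K c, hc0, hc.add, hK, hR'⟩, c, rfl, hK, hc.ne, hQ, hR'⟩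

/-- **Everything about the `K`-structure in one statement.** -/
theorem exists_all {F V : Type} [Field F] [Finite F] [AddCommGroup V] [Module F V] [FiniteDimensional F V]
    {Q : QuadraticForm F V} (hQ : Nondeg Q) (hV : Module.finrank F V ≠ 0) (κ : V →ₗ[F] V) (s t : F)
    (hκ : ∀ v, κ (κ v) = s • κ v - t • v) (hirr : ∀ a : F, a * a - s * a + t ≠ 0)
    (hadj : ∀ v w, polar Q (κ v) w = polar Q v (κ w)) :
    ∃ (K : Type) (_ : Field K) (_ : Finite K) (_ : Algebra F K) (_ : Module K V) (_ : IsScalarTower F K V)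
      (_ : FiniteDimensional K V) (α : K) (R : QuadraticForm K V),
      Nat.card K = Nat.card F ^ 2 ∧ (∀ v : V, α • v = κ v) ∧ Gen F K α s t ∧
      (∀ v, Algebra.trace F K (R v) = Q v) ∧ KF Q R (Algebra.trace F K) ∧ Nondeg R ∧
      Module.finrank F V = 2 * Module.finrank K V ∧
      ∀ M : Gam Q, IsLin M → (∀ v, M.1 (κ v) = κ (M.1 v)) →
        ∃ (ML : Gam R) (c : F), M.1 = ML.1 ∧ IsLin ML ∧ c ≠ 0 ∧ (∀ v, Q (M.1 v) = c * Q v) ∧
          ∀ v, R (M.1 v) = algebraMap F K c * R v := by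
  obtain ⟨K, _, _, _, _, _, α, hc, hα, hgen⟩ := exists_K (V := V) (s := s) (t := t)
    (fun x => by rw [pow_two]; exact hirr x) κ hκ
  have hfin : Finite V := Module.finite_of_finite F
  have hfd : FiniteDimensional K V := Module.Finite.of_finite
  obtain ⟨R, hR⟩ := exists_KT (Q := Q) hgen (fun v w => by rw [hα, hα, hadj])
  have hnt : Nontrivial V := Module.nontrivial_of_finrank_pos (Nat.pos_of_ne_zero hV)
  refine ⟨K, inferInstance, inferInstance, inferInstance, inferInstance, inferInstance, hfd, α, R, hc, hα, hgen,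
    hR.form, hR, hR.nondeg hQ, finrank_K hc, fun M hM hMκ => ?_⟩
  exact hR.exists_Gam hgen M hM (fun v => by rw [hα, hα, hMκ])

end Cfsg.Agent.H457.RC
end

-- part: H31/RC/BoxD4p
section
/-!
# S3510, row F, box D4+ : final form
-/

set_option autoImplicit false
open Cfsg

namespace Cfsg.Agent.H31.RC

open QuadraticMap (polar)
open MulAction
open Cfsg.Agent.LieClassical.OrthCore Cfsg.Agent.LieClassical.OrthTrans
open Cfsg.Agent.LieClassical.OrthSimple Cfsg.Agent.ClassicalGeometry.OrthSemi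
open Cfsg.Agent.ClassicalGeometry.OrthAut1 Cfsg.Agent.H106.RC Cfsg.Agent.H93.RC Cfsg.Agent.H138.RC
open Cfsg.Agent.H338.RC

variable {F V : Type} [Field F] [Finite F] [AddCommGroup V] [Module F V] [FiniteDimensional F V]
  {Q : QuadraticForm F V} {G Ω : Type} [Group G] [Finite G] [MulAction G Ω] [Nonempty Ω]
  {N : Subgroup G} {ρ : ↥(E Q) →* G}

/-- BOX D4p (`n = 8`, plus type over `L = F[κ]`; no member interchanges the two families of totally
singular `L`-planes: the members `i` with `r i ≠ 2` never do, the others by `hns`). -/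
theorem box_D4p_of (hG : Good Q) (hE : Env G Ω N) (hρ : _root_.Cfsg.Agent.H93.RC.Rep Q N ρ) (hIH : IH (Nat.card (P Q)))
    {p : ℕ} [CharP F p] (hLR : LR Q Ω ρ p) {ι : Type} [Finite ι] {x : ι → G} {M : ι → Gam Q} {r : ι → ℕ}
    (hl : ∀ i, Lf ρ (x i) (M i)) (hlin : ∀ i, IsLin (M i)) (hx : PF x r) (hcov : Cov Ω x)
    (h8 : Module.finrank F V = 8) (κ : V →ₗ[F] V) (s t : F)
    (hκ : ∀ v, κ (κ v) = s • κ v - t • v) (hirr : ∀ a : F, a * a - s * a + t ≠ 0)
    (hadj : ∀ v w, polar Q (κ v) w = polar Q v (κ w))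
    (hcom : ∀ i v, (M i).1 (κ v) = κ ((M i).1 v))
    (U : Submodule F V) (hU : ∀ v ∈ U, Q v = 0) (hUκ : ∀ v ∈ U, κ v ∈ U)
    (hU4 : Module.finrank F U = 4)
    (hns : ∀ i, r i = 2 → (∃ a b : F, ∀ v, (M i).1 v = a • v + b • κ v) ∨
      ((2 : F) = 0 ∧ ((∀ v ∈ U, (M i).1 v ∈ U) ∨ ∀ v ∈ U, (M i).1 v ∈ U → v = 0))) : False := by
  obtain ⟨K, _, _, _, _, _, _, α, R, hcard, hα, hgen, hR, -, hRn, hfr, hML⟩ :=
    Cfsg.Agent.H457.RC.exists_all hG.nondeg (by omega) κ s t hκ hirr hadj
  have hft : Fintype K := Fintype.ofFinite K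
  have h4 : Module.finrank K V = 4 := by omega
  have h2 : Module.finrank F K = 2 := by
    have h1 := Module.natCard_eq_pow_finrank (K := F) (V := K)
    rw [hcard] at h1
    exact (Nat.pow_right_injective (Finite.one_lt_card : 2 ≤ Nat.card F) h1).symm
  have hsm : ∀ (a b : F) (v : V), (algebraMap F K a + algebraMap F K b * α) • v = a • v + b • κ v := by
    intro a b v
    rw [add_smul, mul_smul, algebraMap_smul, algebraMap_smul, hα]
  have hUK : ∀ (a : K), ∀ v ∈ U, a • v ∈ U := by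
    intro a v hv
    obtain ⟨c, d, rfl⟩ := hgen.gen a
    rw [hsm]
    exact U.add_mem (U.smul_mem c hv) (U.smul_mem d (hUκ v hv))
  obtain ⟨W, hWU, hW, hW2⟩ := exists_Ksub hR h2 U hU hUK hU4
  have hcardN : Nat.card (P Q) = Nat.card N := by
    have h1 : Nonempty (P Q ≃* N) := by
      rw [← hρ.range]
      exact ⟨(QuotientGroup.quotientMulEquivOfEq hρ.ker.symm).trans (QuotientGroup.quotientKerEquivRange ρ)⟩
    obtain ⟨e⟩ := h1
    exact Nat.card_congr e.toEquiv
  refine D4K hG hE hρ (hcardN ▸ hIH) hLR hl hx hcov hcard hR hRn h4 α hgen.gen hgen.notMem ?_ ?_ W hW hW2 ?_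
  · intro i a v
    obtain ⟨ML, c, h1, h3, -⟩ := hML (M i) (hlin i) (hcom i)
    rw [h1]
    exact h3 a v
  · intro i
    obtain ⟨ML, c, -, -, h1, -, h3⟩ := hML (M i) (hlin i) (hcom i)
    refine ⟨algebraMap F K c, ?_, h3⟩
    rwa [Ne, map_eq_zero_iff _ (algebraMap F K).injective]
  · intro i hi
    rcases hns i hi with ⟨a, b, h⟩ | ⟨h0, h⟩
    · exact Or.inl ⟨_, fun v => (h v).trans (hsm a b v).symm⟩
    · right
      simp only [hWU]
      exact ⟨h0, h⟩

end Cfsg.Agent.H31.RC
end

private theorem dce_acd8db25ca12 : _root_.True := by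
  try have : _root_.True := by simp only [_root_.Matrix.GeneralLinearGroup.scalar.eq_1]
  exact _root_.True.intro
end

-- part: H916/RC/RceA6
section
prune_inst 0x357075650b4012004004058651003cb7df000190002b8800d9a50e4402865b230d02a760ec801e09490a232000010020001000f9424000000e2406004005012080ea5606a348a11d26008f80b88b190c00100000000000000000000000041004010000000
set_option linter.all false
open scoped Cfsg.Agent.FastGrp

-- part: H916/RC/Six
section
/-!
# Permutations of six points: two generation lemmas (helper916)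
-/

set_option autoImplicit false

namespace Cfsg.Agent.H916.RC

open Equiv Equiv.Perm

/-- a subgroup of `S_6` with a 3-cycle, transitive, with a point stabiliser transitive on the rest contains `A_6` -/
theorem jordan {D : Subgroup (Perm (Fin 6))} {t : Perm (Fin 6)} (ht : t.IsThreeCycle) (htD : t ∈ D) (a : Fin 6)
    (h1 : ∃ d ∈ D, d a ≠ a) (h2 : ∀ x y : Fin 6, x ≠ a → y ≠ a → ∃ d ∈ D, d a = a ∧ d x = y) :
    alternatingGroup (Fin 6) ≤ D := by
  obtain ⟨d0, hd0, hd0a⟩ := h1
  have htr : ∀ x : Fin 6, ∃ d ∈ D, d x = a := by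
    intro x
    by_cases hx : x = a
    · exact ⟨1, D.one_mem, by rw [hx]; rfl⟩
    · obtain ⟨d, hd, _, hd2⟩ := h2 x (d0 a) hx hd0a
      refine ⟨d0⁻¹ * d, D.mul_mem (D.inv_mem hd0) hd, ?_⟩
      rw [Perm.mul_apply, hd2]
      exact d0.symm_apply_apply a
  have h2p : MulAction.IsMultiplyPretransitive D (Fin 6) 2 := by
    rw [MulAction.is_two_pretransitive_iff]
    intro x y u v hxy huv
    obtain ⟨g1, hg1, e1⟩ := htr x
    obtain ⟨g2, hg2, e2⟩ := htr u
    have hy : g1 y ≠ a := fun h => hxy (g1.injective (e1.trans h.symm))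
    have hv : g2 v ≠ a := fun h => huv (g2.injective (e2.trans h.symm))
    obtain ⟨d, hd, d1, d2⟩ := h2 _ _ hy hv
    refine ⟨⟨g2⁻¹ * d * g1, D.mul_mem (D.mul_mem (D.inv_mem hg2) hd) hg1⟩, ?_, ?_⟩
    · show (g2⁻¹ * d * g1) x = u
      rw [Perm.mul_apply, Perm.mul_apply, e1, d1, ← e2]
      exact g2.symm_apply_apply u
    · show (g2⁻¹ * d * g1) y = v
      rw [Perm.mul_apply, Perm.mul_apply, d2]
      exact g2.symm_apply_apply v
  have hpp : MulAction.IsPreprimitive D (Fin 6) := MulAction.isPreprimitive_of_is_two_pretransitive h2p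
  exact alternatingGroup_le_of_isPreprimitive_of_isThreeCycle_mem hpp ht htD

/-- a subgroup of `S_6` with a 3-cycle, an element without fixed points and a 5-cycle contains `A_6` -/
theorem five_three {D : Subgroup (Perm (Fin 6))} {t q c : Perm (Fin 6)} (ht : t.IsThreeCycle) (htD : t ∈ D)
    (hq : ∀ x, q x ≠ x) (hqD : q ∈ D) (hc : orderOf c = 5) (hcD : c ∈ D) : alternatingGroup (Fin 6) ≤ D := by
  have hcyc : c.IsCycle ∧ c.support.card = 5 := by
    obtain ⟨n, hn⟩ := cycleType_prime_order (σ := c) (by rw [hc]; exact Nat.prime_five)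
    rw [hc] at hn
    have h4 := Equiv.Perm.sum_cycleType c
    have h5 : c.support.card ≤ 6 := by
      have := Finset.card_le_univ c.support
      rwa [Fintype.card_fin] at this
    rw [hn, Multiset.sum_replicate, smul_eq_mul] at h4
    have h6 : n = 0 := by omega
    subst h6
    refine ⟨?_, by omega⟩
    rw [← card_cycleType_eq_one, hn]; rfl
  obtain ⟨a, ha⟩ : ∃ a, c a = a := by
    by_contra hno
    push Not at hno
    have : c.support = Finset.univ := by
      ext x; simp [hno x]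
    have h7 := hcyc.2
    rw [this, Finset.card_univ, Fintype.card_fin] at h7
    omega
  have hmov : ∀ x, x ≠ a → c x ≠ x := by
    intro x hx hcx
    have h8 : c.support ⊆ (Finset.univ.erase a).erase x := by
      intro y hy
      rw [Finset.mem_erase, Finset.mem_erase]
      refine ⟨?_, ?_, Finset.mem_univ _⟩
      · rintro rfl
        exact (mem_support.1 hy) hcx
      · rintro rfl
        exact (mem_support.1 hy) ha
    have h9 := Finset.card_le_card h8
    rw [Finset.card_erase_of_mem (Finset.mem_erase.2 ⟨hx, Finset.mem_univ _⟩),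
      Finset.card_erase_of_mem (Finset.mem_univ _), Finset.card_univ, Fintype.card_fin, hcyc.2] at h9
    omega
  apply jordan ht htD a ⟨q, hqD, hq a⟩
  intro x y hx hy
  obtain ⟨k, hk⟩ := hcyc.1.exists_zpow_eq (hmov x hx) (hmov y hy)
  exact ⟨c ^ k, D.zpow_mem hcD k, zpow_apply_eq_self_of_apply_eq_self ha k, hk⟩

/-- if all transpositions off `a` are in `D` then all permutations fixing `a` are -/
theorem stab_le {D : Subgroup (Perm (Fin 6))} {a : Fin 6} (h : ∀ x y : Fin 6, x ≠ a → y ≠ a → swap x y ∈ D) :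
    ∀ (n : ℕ) (σ : Perm (Fin 6)), σ.support.card ≤ n → σ a = a → σ ∈ D := by
  intro n
  induction n with
  | zero =>
    intro σ hσ _
    have h1 : σ.support = ∅ := Finset.card_eq_zero.1 (Nat.le_zero.1 hσ)
    rw [support_eq_empty_iff] at h1
    rw [h1]; exact D.one_mem
  | succ n ih =>
    intro σ hσ hσa
    by_cases h1 : σ = 1
    · rw [h1]; exact D.one_mem
    obtain ⟨x, hx⟩ : ∃ x, σ x ≠ x := by
      by_contra hno
      push Not at hno
      exact h1 (Equiv.ext hno)
    have hxa : x ≠ a := by rintro rfl; exact hx hσa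
    have hσxa : σ x ≠ a := fun h2 => hxa (σ.injective (h2.trans hσa.symm))
    have h3 : (swap x (σ x) * σ).support.card < σ.support.card := card_support_swap_mul hx
    have h4 := ih (swap x (σ x) * σ) (by omega) (by
      rw [Perm.mul_apply, hσa]
      exact swap_apply_of_ne_of_ne hxa.symm hσxa.symm)
    have h5 := D.mul_mem (h x (σ x) hxa hσxa) h4
    rwa [← mul_assoc, swap_mul_self, one_mul] at h5

/-- the graph argument -/
theorem graph {D : Subgroup (Perm (Fin 6))}
    (h : ∀ x y : Fin 6, x ≠ y → swap x y ∉ D → ∀ t : Perm (Fin 6), t.IsThreeCycle → t x = x → t y = y → t ∈ D)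
    (hA : ¬ alternatingGroup (Fin 6) ≤ D) :
    ∃ a, ∀ σ : Perm (Fin 6), Perm.sign σ = 1 → (σ ∈ D ↔ σ a = a) := by
  -- a bad pair
  have hbad : ∃ a b : Fin 6, a ≠ b ∧ swap a b ∉ D := by
    by_contra hno
    push Not at hno
    apply hA
    have h1 : D = ⊤ := by
      rw [eq_top_iff, ← closure_isSwap, Subgroup.closure_le]
      rintro _ ⟨x, y, hxy, rfl⟩
      exact hno x y hxy
    rw [h1]; exact le_top
  -- transitivity on the complement of a bad pair
  have hmv : ∀ a b : Fin 6, a ≠ b → swap a b ∉ D → ∀ x y : Fin 6, x ≠ a → x ≠ b → y ≠ a → y ≠ b →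
      ∃ d ∈ D, d a = a ∧ d b = b ∧ d x = y := by
    intro a b hab hD x y hxa hxb hya hyb
    by_cases hxy : x = y
    · exact ⟨1, D.one_mem, rfl, rfl, hxy⟩
    obtain ⟨z, hza, hzb, hzx, hzy⟩ : ∃ z : Fin 6, z ≠ a ∧ z ≠ b ∧ z ≠ x ∧ z ≠ y := by
      clear hab hD hxa hxb hya hyb hxy
      revert a b x y
      decide +kernel
    have ht : (swap x z * swap x y : Perm (Fin 6)).IsThreeCycle :=
      isThreeCycle_swap_mul_swap_same hzx.symm hxy hzy
    refine ⟨swap x z * swap x y, h a b hab hD _ ht ?_ ?_, ?_, ?_, ?_⟩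
    · rw [Perm.mul_apply, swap_apply_of_ne_of_ne hxa.symm hya.symm, swap_apply_of_ne_of_ne hxa.symm hza.symm]
    · rw [Perm.mul_apply, swap_apply_of_ne_of_ne hxb.symm hyb.symm, swap_apply_of_ne_of_ne hxb.symm hzb.symm]
    · rw [Perm.mul_apply, swap_apply_of_ne_of_ne hxa.symm hya.symm, swap_apply_of_ne_of_ne hxa.symm hza.symm]
    · rw [Perm.mul_apply, swap_apply_of_ne_of_ne hxb.symm hyb.symm, swap_apply_of_ne_of_ne hxb.symm hzb.symm]
    · rw [Perm.mul_apply, swap_apply_left, swap_apply_of_ne_of_ne (Ne.symm hxy) hzy.symm]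
  -- a 3-cycle off a bad pair
  have h3c : ∀ a b : Fin 6, a ≠ b → swap a b ∉ D → ∃ t ∈ D, t.IsThreeCycle := by
    intro a b hab hD
    obtain ⟨x, y, z, h1, h2, h3, h4, h5, h6, h7, h8, h9⟩ : ∃ x y z : Fin 6, x ≠ a ∧ x ≠ b ∧ y ≠ a ∧ y ≠ b ∧ z ≠ a ∧
        z ≠ b ∧ x ≠ y ∧ x ≠ z ∧ y ≠ z := by
      clear hab hD
      revert a b
      decide +kernel
    have ht : (swap x z * swap x y : Perm (Fin 6)).IsThreeCycle := isThreeCycle_swap_mul_swap_same h8 h7 h9.symm
    refine ⟨_, h a b hab hD _ ht ?_ ?_, ht⟩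
    · rw [Perm.mul_apply, swap_apply_of_ne_of_ne h1.symm h3.symm, swap_apply_of_ne_of_ne h1.symm h5.symm]
    · rw [Perm.mul_apply, swap_apply_of_ne_of_ne h2.symm h4.symm, swap_apply_of_ne_of_ne h2.symm h6.symm]
  -- no path of bad pairs on both sides
  have hpath : ∀ a b c c' : Fin 6, a ≠ b → c ≠ a → c ≠ b → c' ≠ a → c' ≠ b → swap a b ∉ D → swap a c ∉ D →
      swap b c' ∉ D → False := by
    intro a b c c' hab hca hcb hca' hcb' h1 h2 h3
    apply hA
    obtain ⟨t, htD, ht⟩ := h3c a b hab h1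
    apply jordan ht htD a
    · obtain ⟨e, he1, he2, he3⟩ : ∃ e : Fin 6, e ≠ a ∧ e ≠ b ∧ e ≠ c' := by
        clear hab hca hcb hca' hcb' h1 h2 h3
        revert a b c'
        decide +kernel
      obtain ⟨d, hd, -, -, hd3⟩ := hmv b c' hcb'.symm h3 a e hab hca'.symm he2 he3
      exact ⟨d, hd, by rw [hd3]; exact he1⟩
    · have hb : ∀ y, y ≠ a → ∃ d ∈ D, d a = a ∧ d b = y := by
        intro y hya
        by_cases hyc : y = c
        · subst hyc
          obtain ⟨e, he1, he2, he3⟩ : ∃ e : Fin 6, e ≠ a ∧ e ≠ b ∧ e ≠ y := by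
            clear hab hca hcb hca' hcb' h1 h2 h3 hya
            revert a b y
            decide +kernel
          obtain ⟨d, hd, d1, -, d3⟩ := hmv a y hca.symm h2 b e hab.symm hcb.symm he1 he3
          obtain ⟨d', hd', d1', -, d3'⟩ := hmv a b hab h1 e y he1 he2 hya hcb
          exact ⟨d' * d, D.mul_mem hd' hd, by rw [Perm.mul_apply, d1, d1'], by rw [Perm.mul_apply, d3, d3']⟩
        · obtain ⟨d, hd, d1, -, d3⟩ := hmv a c hca.symm h2 b y hab.symm hcb.symm hya hyc
          exact ⟨d, hd, d1, d3⟩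
      intro x y hx hy
      obtain ⟨d, hd, d1, d2⟩ := hb x hx
      obtain ⟨d', hd', d1', d2'⟩ := hb y hy
      refine ⟨d' * d⁻¹, D.mul_mem hd' (D.inv_mem hd), ?_, ?_⟩
      · rw [Perm.mul_apply]
        have : d⁻¹ a = a := by conv_lhs => rw [← d1]; exact d.symm_apply_apply a
        rw [this, d1']
      · rw [Perm.mul_apply]
        have : d⁻¹ x = b := by rw [← d2]; exact d.symm_apply_apply b
        rw [this, d2']
  -- the point `a`
  have hpt : ∃ a b : Fin 6, a ≠ b ∧ swap a b ∉ D ∧ ∀ c, c ≠ a → c ≠ b → swap b c ∈ D := by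
    obtain ⟨a, b, hab, hD⟩ := hbad
    by_cases h1 : ∀ c, c ≠ a → c ≠ b → swap b c ∈ D
    · exact ⟨a, b, hab, hD, h1⟩
    · push Not at h1
      obtain ⟨c', c1, c2, c3⟩ := h1
      refine ⟨b, a, hab.symm, by rwa [swap_comm], ?_⟩
      intro c h2 h3
      by_contra h4
      exact hpath a b c c' hab h3 h2 c1 c2 hD h4 c3
  obtain ⟨a, b, hab, hD, hall⟩ := hpt
  have hsw : ∀ x y : Fin 6, x ≠ a → y ≠ a → swap x y ∈ D := by
    intro x y hx hy
    by_cases hxy : x = y
    · rw [hxy, swap_self]; exact D.one_mem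
    by_cases hxb : x = b
    · rw [hxb]
      exact hall y hy (fun h => hxy (hxb.trans h.symm))
    by_cases hyb : y = b
    · rw [hyb, swap_comm]
      exact hall x hx hxb
    have h1 := hall x hx hxb
    have h2 := hall y hy hyb
    have h3 : swap x y = swap b x * swap b y * swap b x := by
      have h4 := swap_mul_swap_mul_swap (x := y) (y := b) (z := x) (Ne.symm (Ne.symm hyb)) (Ne.symm hxy)
      rw [swap_comm b y]
      exact h4.symm
    rw [h3]
    exact D.mul_mem (D.mul_mem h1 h2) h1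
  refine ⟨a, fun σ _ => ⟨fun hσ => ?_, fun hσ => stab_le hsw _ σ le_rfl hσ⟩⟩
  by_contra hσa
  apply hA
  obtain ⟨t, htD, ht⟩ := h3c a b hab hD
  refine jordan ht htD a ⟨σ, hσ, hσa⟩ ?_
  intro x y hx hy
  exact ⟨swap x y, hsw x y hx hy, swap_apply_of_ne_of_ne hx.symm hy.symm, swap_apply_left x y⟩

end Cfsg.Agent.H916.RC
end

-- part: H916/RC/SixTab
section
/-!
# Checks over `S_6` by packed permutations (helper916)

`cod σ` packs the images of `σ : Perm (Fin 6)`; `fa_spec` : a check of all codes.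
-/

set_option autoImplicit false

namespace Cfsg.Agent.H916.RC.SixTab

open Equiv

/-- image of `x` under the permutation packed in `T` -/
def gv (T x : ℕ) : ℕ := (T / 8 ^ x) % 8

/-- iterates -/
def iv (T : ℕ) : ℕ → ℕ → ℕ
  | 0, x => x
  | k + 1, x => iv T k (gv T x)

/-- all permutations with first image `a` -/
def fa (a : ℕ) (P : ℕ → Bool) : Bool :=
  [0, 1, 2, 3, 4, 5].all fun b => Nat.beq b a || [0, 1, 2, 3, 4, 5].all fun c => Nat.beq c a || Nat.beq c b ||
    [0, 1, 2, 3, 4, 5].all fun d => Nat.beq d a || Nat.beq d b || Nat.beq d c ||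
    [0, 1, 2, 3, 4, 5].all fun e => Nat.beq e a || Nat.beq e b || Nat.beq e c || Nat.beq e d ||
    [0, 1, 2, 3, 4, 5].all fun f => Nat.beq f a || Nat.beq f b || Nat.beq f c || Nat.beq f d || Nat.beq f e ||
      P (a + 8 * (b + 8 * (c + 8 * (d + 8 * (e + 8 * f)))))

/-- the `k`-th power is trivial -/
def ck (T k : ℕ) : Bool := [0, 1, 2, 3, 4, 5].all fun x => Nat.beq (iv T k x) x

/-- the code of a permutation -/
def cod (σ : Perm (Fin 6)) : ℕ :=
  (σ 0 : ℕ) + 8 * ((σ 1 : ℕ) + 8 * ((σ 2 : ℕ) + 8 * ((σ 3 : ℕ) + 8 * ((σ 4 : ℕ) + 8 * (σ 5 : ℕ)))))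

theorem gv_cod (σ : Perm (Fin 6)) (x : Fin 6) : gv (cod σ) x = σ x := by
  have h0 := (σ 0).2
  have h1 := (σ 1).2
  have h2 := (σ 2).2
  have h3 := (σ 3).2
  have h4 := (σ 4).2
  have h5 := (σ 5).2
  have k0 : gv (cod σ) 0 = σ 0 := by unfold gv cod; norm_num only [_root_.Nat.div_one, _root_.Nat.add_mul_mod_self_left, _root_.Nat.mod_succ_eq_iff_lt]; omega
  have k1 : gv (cod σ) 1 = σ 1 := by unfold gv cod; norm_num only []; omega
  have k2 : gv (cod σ) 2 = σ 2 := by unfold gv cod; norm_num only []; (clear * -; solve | lia | omega)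
  have k3 : gv (cod σ) 3 = σ 3 := by unfold gv cod; norm_num only []; omega
  have k4 : gv (cod σ) 4 = σ 4 := by unfold gv cod; norm_num only []; (clear * -; solve | lia | omega)
  have k5 : gv (cod σ) 5 = σ 5 := by unfold gv cod; norm_num only []; omega
  fin_cases x
  exacts [k0, k1, k2, k3, k4, k5]

theorem iv_cod (σ : Perm (Fin 6)) (k : ℕ) (x : Fin 6) : iv (cod σ) k x = (σ ^ k) x := by
  induction k generalizing x with
  | zero => rfl
  | succ k ih =>
    show iv (cod σ) k (gv (cod σ) x) = _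
    rw [gv_cod, ih, pow_succ, Perm.mul_apply]

theorem ck_cod {σ : Perm (Fin 6)} {k : ℕ} : ck (cod σ) k = true ↔ σ ^ k = 1 := by
  unfold ck
  rw [List.all_eq_true]
  constructor
  · intro h
    ext x
    rw [← iv_cod, Perm.one_apply]
    refine Nat.eq_of_beq_eq_true (h x ?_)
    have h1 := x.2
    simp only [List.mem_cons, List.not_mem_nil, or_false]
    omega
  · intro h x hx
    have hx6 : x < 6 := by
      simp only [List.mem_cons, List.not_mem_nil, or_false] at hx
      omega
    have h1 := iv_cod σ k ⟨x, hx6⟩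
    rw [h, Perm.one_apply] at h1
    exact Nat.beq_eq ▸ h1

theorem mem6 (x : Fin 6) : (x : ℕ) ∈ ([0, 1, 2, 3, 4, 5] : List ℕ) := by
  have h1 := x.2
  simp only [List.mem_cons, List.not_mem_nil, or_false]
  omega

theorem vne (σ : Perm (Fin 6)) {i j : Fin 6} (h : i ≠ j) : ¬ Nat.beq (σ i : ℕ) (σ j : ℕ) = true := by
  intro h1
  exact h (σ.injective (Fin.ext (Nat.eq_of_beq_eq_true h1)))

theorem fa_spec {P : ℕ → Bool} (h0 : fa 0 P = true) (h1 : fa 1 P = true) (h2 : fa 2 P = true) (h3 : fa 3 P = true)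
    (h4 : fa 4 P = true) (h5 : fa 5 P = true) (σ : Perm (Fin 6)) : P (cod σ) = true := by
  have h : ∀ a : Fin 6, fa a P = true := by
    intro a
    fin_cases a
    exacts [h0, h1, h2, h3, h4, h5]
  have h := h (σ 0)
  unfold fa at h
  simp only [List.all_eq_true, Bool.or_eq_true] at h
  have e1 := (h _ (mem6 (σ 1))).resolve_left (vne σ (by decide))
  have e2 := (e1 _ (mem6 (σ 2))).resolve_left (by
    rintro (h | h)
    · exact vne σ (by decide) h
    · exact vne σ (by decide) h)
  have e3 := (e2 _ (mem6 (σ 3))).resolve_left (by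
    rintro ((h | h) | h)
    · exact vne σ (by decide) h
    · exact vne σ (by decide) h
    · exact vne σ (by decide) h)
  have e4 := (e3 _ (mem6 (σ 4))).resolve_left (by
    rintro (((h | h) | h) | h)
    · exact vne σ (by decide) h
    · exact vne σ (by decide) h
    · exact vne σ (by decide) h
    · exact vne σ (by decide) h)
  have e5 := (e4 _ (mem6 (σ 5))).resolve_left (by
    rintro ((((h | h) | h) | h) | h)
    · exact vne σ (by decide) h
    · exact vne σ (by decide) h
    · exact vne σ (by decide) h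
    · exact vne σ (by decide) h
    · exact vne σ (by decide) h)
  exact e5

end Cfsg.Agent.H916.RC.SixTab
end

-- part: H916/RC/A6Aut
section
/-!
# Regular cycles for `A_6`: every automorphism of order `≠ 6` (helper916)
-/

set_option autoImplicit false

namespace Cfsg.Agent.H916.RC

open Equiv Equiv.Perm
open Cfsg.Agent.H277.SK Cfsg.Agent.H106.RC

abbrev A6 := alternatingGroup (Fin 6)

theorem simpleA6 : IsSimpleGroup A6 := by
  haveI := alternatingGroup.isSimpleGroup (α := Fin 6) (by rw [Nat.card_eq_fintype_card, Fintype.card_fin]; norm_num)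
  infer_instance

theorem conj_inj {x y : A6} (h : MulAut.conj x = MulAut.conj y) : x = y := by
  have h1 : cn (x : Perm (Fin 6)) = cn (y : Perm (Fin 6)) := by
    apply MulEquiv.ext
    intro z
    apply Subtype.ext
    rw [cn_apply, cn_apply]
    have h2 := congrArg (fun f : MulAut A6 => ((f z : A6) : Perm (Fin 6))) h
    simpa only [MulAut.conj_apply, _root_.Subgroup.coe_mul, _root_.InvMemClass.coe_inv] using h2
  exact Subtype.ext (cn_inj h1)

theorem cn_val (x : A6) : cn (x : Perm (Fin 6)) = MulAut.conj x := by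
  apply MulEquiv.ext
  intro z
  apply Subtype.ext
  rw [cn_apply, MulAut.conj_apply]
  rfl

theorem mul_conj_inv (α : MulAut A6) (x : A6) : α * MulAut.conj x * α⁻¹ = MulAut.conj (α x) := by
  ext z : 1
  simp only [MulAut.conj_apply, MulAut.mul_apply, _root_.MulAut.mul_apply, _root_.MulAut.inv_apply, _root_.MulAut.conj_apply, _root_.map_mul, _root_.MulEquiv.apply_symm_apply, _root_.map_inv]

/-- automorphisms not preserving the 3-cycles fix no element of order three -/
theorem nfix {α : MulAut A6} (h : ¬ Pr α) {x : A6} (hx : orderOf x = 3) : α x ≠ x := by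
  intro he
  rcases T3_or_Q3 hx with h1 | h1
  · exact h (pr_of_T3 h1 (by rw [he]; exact h1))
  · exact h (pr_of_Q3 h1 (by rw [he]; exact h1))

/-- they exchange the two types -/
theorem swapT {α : MulAut A6} (h : ¬ Pr α) {x : A6} (hx : T3 x) : Q3 (α x) := by
  rcases map_T3 (α := α) hx with h1 | h1
  · exact absurd (pr_of_T3 hx h1) h
  · exact h1

theorem swapQ {α : MulAut A6} (h : ¬ Pr α) {x : A6} (hx : Q3 x) : T3 (α x) := by
  rcases map_Q3 (α := α) hx with h1 | h1
  · exact h1
  · exact absurd (pr_of_Q3 hx h1) h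

theorem pr_mul' {α β : MulAut A6} (hα : Pr α) (hβ : Pr β) : Pr (α * β) := fun x hx => hα _ (hβ x hx)

theorem pr_sq (α : MulAut A6) : Pr (α * α) := by
  by_cases h : Pr α
  · exact pr_mul' h h
  · exact pr_mul h h

theorem pr_one : Pr 1 := fun _ h => h

/-- the check for `ord_six` -/
def os (T : ℕ) : Bool := SixTab.ck T 4 || (SixTab.ck T 5 || SixTab.ck T 6)

theorem os0 : SixTab.fa 0 os = true := by decide +kernel

theorem os1 : SixTab.fa 1 os = true := by decide +kernel

theorem os2 : SixTab.fa 2 os = true := by decide +kernel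

theorem os3 : SixTab.fa 3 os = true := by decide +kernel

theorem os4 : SixTab.fa 4 os = true := by decide +kernel

theorem os5 : SixTab.fa 5 os = true := by decide +kernel

theorem ord_six : ∀ σ : Perm (Fin 6), σ ^ 4 = 1 ∨ σ ^ 5 = 1 ∨ σ ^ 6 = 1 := by
  intro σ
  have h := SixTab.fa_spec os0 os1 os2 os3 os4 os5 σ
  unfold os at h
  rwa [Bool.or_eq_true, Bool.or_eq_true, SixTab.ck_cod, SixTab.ck_cod, SixTab.ck_cod] at h

theorem odd_order_even {σ : Perm (Fin 6)} {n : ℕ} (hn : Odd n) (h : σ ^ n = 1) : Perm.sign σ = 1 := by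
  rcases Int.units_eq_one_or (Perm.sign σ) with h1 | h1
  · exact h1
  · exfalso
    have h2 : Perm.sign (σ ^ n) = 1 := by rw [h, map_one]
    rw [map_pow, h1, hn.neg_one_pow] at h2
    exact absurd h2 (by decide)

/-- an automorphism not preserving the 3-cycles has order dividing 8 or 10 -/
theorem pow_of_not_pr {α : MulAut A6} (h : ¬ Pr α) : α ^ 8 = 1 ∨ α ^ 10 = 1 := by
  obtain ⟨τ, hτ⟩ := pr_cn (pr_sq α)
  have hcomm : ∀ k : ℕ, α * cn (τ ^ k) * α⁻¹ = cn (τ ^ k) := by
    intro k
    have h1 : α * cn (τ ^ k) = cn (τ ^ k) * α := by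
      rw [map_pow, hτ, ← pow_two]
      exact ((Commute.refl α).pow_right 2).pow_right k
    rw [h1, mul_inv_cancel_right]
  have h3 : ∀ k : ℕ, orderOf (τ ^ k) ≠ 3 := by
    intro k hk
    have h4 : Perm.sign (τ ^ k) = 1 := odd_order_even (n := 3) (by decide) (by rw [← hk, pow_orderOf_eq_one])
    let x : A6 := ⟨τ ^ k, Perm.mem_alternatingGroup.2 h4⟩
    have hx : orderOf x = 3 := by rw [← Subgroup.orderOf_coe]; exact hk
    apply nfix h hx
    apply conj_inj
    rw [← mul_conj_inv, ← cn_val]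
    exact hcomm k
  have h5 : τ ^ 4 = 1 ∨ τ ^ 5 = 1 := by
    rcases ord_six τ with h6 | h6 | h6
    · exact Or.inl h6
    · exact Or.inr h6
    · -- order divides 6, not divisible by 3
      have h7 : τ ^ 2 = 1 := by
        by_contra h8
        apply h3 2
        have h9 : (τ ^ 2) ^ 3 = 1 := by rw [← pow_mul]; exact h6
        exact orderOf_eq_prime (p := 3) h9 h8
      left
      rw [show 4 = 2 * 2 from rfl, pow_mul, h7, one_pow]
  rcases h5 with h5 | h5
  · left
    rw [show 8 = 2 * 4 from rfl, pow_mul, pow_two, ← hτ, ← map_pow, h5, map_one]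
  · right
    rw [show 10 = 2 * 5 from rfl, pow_mul, pow_two, ← hτ, ← map_pow, h5, map_one]

end Cfsg.Agent.H916.RC
end

-- part: H916/RC/RceA6
section
/-!
# Regular cycles for `A_6`: every automorphism of order `≠ 6` (helper916)
-/

set_option autoImplicit false

namespace Cfsg.Agent.H916.RC

open Equiv Equiv.Perm
open Cfsg.Agent.H277.SK Cfsg.Agent.H106.RC

/-- a subgroup of `A_6` with elements of type `3`, `3^2` and `5` is `A_6` -/
theorem top_of_types {H0 : Subgroup A6} {t q c : A6} (ht : T3 t) (htH : t ∈ H0) (hq : Q3 q) (hqH : q ∈ H0)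
    (hc : orderOf c = 5) (hcH : c ∈ H0) : H0 = ⊤ := by
  have h1 : alternatingGroup (Fin 6) ≤ H0.map (Subgroup.subtype A6) := by
    refine five_three (t := t) (q := q) (c := c) ht ⟨t, htH, rfl⟩ ?_ ⟨q, hqH, rfl⟩ (by rw [Subgroup.orderOf_coe]; exact hc)
      ⟨c, hcH, rfl⟩
    intro x hx
    have h2 : (q : Perm (Fin 6)).support.card = 6 := by
      rw [← sum_cycleType, hq]; rfl
    have h3 : x ∉ (q : Perm (Fin 6)).support := by rw [mem_support, not_not]; exact hx
    have h4 : (q : Perm (Fin 6)).support ⊆ Finset.univ.erase x := fun y hy => by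
      rw [Finset.mem_erase]
      exact ⟨fun h => h3 (h ▸ hy), Finset.mem_univ _⟩
    have h5 := Finset.card_le_card h4
    rw [h2, Finset.card_erase_of_mem (Finset.mem_univ _), Finset.card_univ, Fintype.card_fin] at h5
    omega
  rw [eq_top_iff]
  intro x _
  obtain ⟨y, hy, hyx⟩ := h1 x.2
  rwa [← (Subtype.ext hyx : y = x)]

theorem card_A6 : Nat.card A6 = 360 := by
  rw [nat_card_alternatingGroup]
  simp [Nat.factorial]

/-- a subgroup of `A_6` without elements of order three has at most one subgroup of order five -/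
theorem unique_five {H0 : Subgroup A6} (h3 : ∀ x ∈ H0, orderOf x ≠ 3) {c y : A6} (hcH : c ∈ H0) (hc : orderOf c = 5)
    (hyH : y ∈ H0) (hy : y ^ 5 = 1) : y ∈ Subgroup.zpowers c := by
  haveI : Fact (Nat.Prime 5) := ⟨Nat.prime_five⟩
  haveI : Fact (Nat.Prime 3) := ⟨Nat.prime_three⟩
  have hdvd : Nat.card H0 ∣ 40 := by
    have h1 : Nat.card H0 ∣ 360 := card_A6 ▸ Subgroup.card_subgroup_dvd_card H0
    have h2 : ¬ 3 ∣ Nat.card H0 := by
      intro h
      obtain ⟨x, hx⟩ := exists_prime_orderOf_dvd_card' 3 h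
      exact h3 x x.2 (by rw [Subgroup.orderOf_coe]; exact hx)
    have h4 : Nat.Coprime (Nat.card H0) 9 := by
      rw [show 9 = 3 ^ 2 from rfl]
      exact Nat.Coprime.pow_right 2 ((Nat.Prime.coprime_iff_not_dvd Nat.prime_three).2 h2).symm
    have h5 : Nat.card H0 ∣ 9 * 40 := by rw [show 9 * 40 = 360 from rfl]; exact h1
    exact h4.dvd_of_dvd_mul_left h5
  let c' : H0 := ⟨c, hcH⟩
  let y' : H0 := ⟨y, hyH⟩
  have hc' : orderOf c' = 5 := by rw [← Subgroup.orderOf_coe]; exact hc
  have hone : Nat.card (Sylow 5 H0) = 1 := by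
    have h1 := card_sylow_modEq_one 5 H0
    obtain ⟨P⟩ : Nonempty (Sylow 5 H0) := inferInstance
    have h2 : Nat.card (Sylow 5 H0) ∣ ((P : Subgroup H0).index :) := Sylow.card_dvd_index P
    have h5 : 5 ∣ Nat.card P := by
      have h6 : 5 ∣ Nat.card H0 := by
        rw [← hc']; exact orderOf_dvd_natCard _
      exact P.dvd_card_of_dvd_card h6
    have h7 : ((P : Subgroup H0).index :) ∣ 8 := by
      have h8 := Subgroup.card_mul_index (P : Subgroup H0)
      obtain ⟨k, hk⟩ := h5
      obtain ⟨m, hm⟩ := hdvd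
      have h9 : 5 * (k * (P : Subgroup H0).index * m) = 5 * 8 := by
        calc 5 * (k * (P : Subgroup H0).index * m) = (5 * k) * (P : Subgroup H0).index * m := by ring
          _ = Nat.card H0 * m := by rw [← hk, h8]
          _ = 5 * 8 := by rw [← hm]
      have h10 : k * (P : Subgroup H0).index * m = 8 := Nat.eq_of_mul_eq_mul_left (by norm_num) h9
      exact ⟨k * m, by rw [← h10]; ring⟩
    have h11 := h2.trans h7
    have h12 : Nat.card (Sylow 5 H0) ≤ 8 := Nat.le_of_dvd (by norm_num) h11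
    rw [Nat.ModEq] at h1
    generalize Nat.card (Sylow 5 H0) = n at *
    interval_cases n <;> simp_all only [_root_.ne_eq, _root_.Subtype.forall, _root_.Equiv.Perm.mem_alternatingGroup, _root_.Subgroup.orderOf_mk, _root_.Nat.zero_mod, _root_.Nat.one_mod, _root_.zero_ne_one, _root_.isUnit_iff_eq_one, _root_.IsUnit.dvd, _root_.Nat.one_le_ofNat, _root_.Nat.reduceMod, _root_.OfNat.ofNat_ne_one, _root_.Nat.mod_succ, _root_.Nat.mod_self, _root_.Nat.reduceDvd]
  have hsub : Subsingleton (Sylow 5 H0) := (Nat.card_eq_one_iff_unique.1 hone).1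
  have hpc : IsPGroup 5 (Subgroup.zpowers c') := by
    rw [IsPGroup.iff_card]
    exact ⟨1, by rw [Nat.card_zpowers, hc', pow_one]⟩
  have hpy : IsPGroup 5 (Subgroup.zpowers y') := by
    have h1 : orderOf y' ∣ 5 := orderOf_dvd_of_pow_eq_one (Subtype.ext hy)
    rcases (Nat.dvd_prime Nat.prime_five).1 h1 with h2 | h2
    · rw [IsPGroup.iff_card]
      exact ⟨0, by rw [Nat.card_zpowers, h2, pow_zero]⟩
    · rw [IsPGroup.iff_card]
      exact ⟨1, by rw [Nat.card_zpowers, h2, pow_one]⟩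
  obtain ⟨P, hP⟩ := hpc.exists_le_sylow
  obtain ⟨Q, hQ⟩ := hpy.exists_le_sylow
  rw [Subsingleton.elim Q P] at hQ
  have hcardP : Nat.card P ≤ 5 := by
    obtain ⟨k, hk⟩ := (IsPGroup.iff_card (p := 5)).1 P.2
    have h1 : Nat.card P ∣ 40 := ((Subgroup.card_subgroup_dvd_card (P : Subgroup H0)).trans hdvd :)
    have h2 : k ≤ 1 := by
      by_contra hk2
      push Not at hk2
      have h3 : 5 ^ 2 ∣ 40 := (pow_dvd_pow 5 hk2).trans (hk ▸ h1)
      norm_num at h3
    have : Nat.card P = 5 ^ k := hk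
    rw [this]
    calc 5 ^ k ≤ 5 ^ 1 := Nat.pow_le_pow_right (by norm_num) h2
      _ = 5 := by norm_num
  have heq : Subgroup.zpowers c' = (P : Subgroup H0) := by
    apply Subgroup.eq_of_le_of_card_ge hP
    rw [Nat.card_zpowers, hc']
    exact hcardP
  have h1 : y' ∈ Subgroup.zpowers c' := by
    rw [heq]; exact hQ (Subgroup.mem_zpowers y')
  obtain ⟨k, hk⟩ := Subgroup.mem_zpowers_iff.1 h1
  exact Subgroup.mem_zpowers_iff.2 ⟨k, by
    have := congrArg Subtype.val hk
    rw [Subgroup.coe_zpow] at this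
    exact this⟩

/-- **Order ten.** -/
theorem ten {H : Subgroup (MulAut A6)} (hH : ¬ (MulAut.conj : A6 →* MulAut A6).range ≤ H) {a : MulAut A6} {c : A6}
    (ha : a * a = 1) (hpa : ¬ Pr a) (hc : orderOf c = 5) (hac : a c = c)
    (hcov : ∀ s : A6, MulAut.conj s * a * (MulAut.conj s)⁻¹ ∈ H ∨ MulAut.conj (s * c * s⁻¹) ∈ H) : False := by
  have hS := simpleA6
  have ha1 : a ≠ 1 := fun h => hpa (h ▸ pr_one)
  have hao : orderOf a = 2 ^ 1 := by
    rw [pow_one]; exact orderOf_eq_prime (by rw [pow_two]; exact ha) ha1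
  -- both occur
  have hB : ∃ s : A6, MulAut.conj (s * c * s⁻¹) ∈ H := by
    by_contra hno
    push Not at hno
    obtain ⟨s, hs⟩ := rce_of_prime_pow hS a Nat.prime_two hao H hH
    rcases hcov s with h | h
    · exact ha1 (hs a (Subgroup.mem_zpowers a) h)
    · exact hno s h
  have hA : ∃ s : A6, MulAut.conj s * a * (MulAut.conj s)⁻¹ ∈ H := by
    by_contra hno
    push Not at hno
    have hco : orderOf (MulAut.conj c) = 5 ^ 1 := by
      rw [pow_one, orderOf_injective _ (fun _ _ h => conj_inj h), hc]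
    obtain ⟨s, hs⟩ := rce_of_prime_pow hS (MulAut.conj c) Nat.prime_five hco H hH
    rcases hcov s with h | h
    · exact hno s h
    · have h1 := hs (MulAut.conj c) (Subgroup.mem_zpowers _) (by
        rw [← map_mul, ← map_inv, ← map_mul]; exact h)
      rw [h1, orderOf_one] at hco
      norm_num at hco
  obtain ⟨s0, hs0⟩ := hB
  obtain ⟨s1, hs1⟩ := hA
  let H0 : Subgroup A6 := H.comap MulAut.conj
  have hH0 : H0 ≠ ⊤ := by
    intro h
    apply hH
    rintro _ ⟨x, rfl⟩
    have : x ∈ H0 := by rw [h]; trivial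
    exact this
  set! c' : A6 := s0 * c * s0⁻¹ with hc'; rewrite [← hc'] at hs0
  have hc'H : c' ∈ H0 := hs0
  have hco' : orderOf c' = 5 := by
    rw [hc', show s0 * c * s0⁻¹ = MulAut.conj s0 c from rfl, MulEquiv.orderOf_eq, hc]
  have hnorm : ∀ h ∈ H, ∀ x ∈ H0, h x ∈ H0 := by
    intro h hh x hx
    show MulAut.conj (h x) ∈ H
    rw [← mul_conj_inv]
    exact H.mul_mem (H.mul_mem hh hx) (H.inv_mem hh)
  set! z : MulAut A6 := MulAut.conj s1 * a * (MulAut.conj s1)⁻¹ with hz; rewrite [← hz] at hs1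
  have hzp : ¬ Pr z := by
    intro h
    apply hpa
    have h1 : a = (MulAut.conj s1)⁻¹ * z * MulAut.conj s1 := by rw [hz]; group
    rw [h1]
    have h2 : ∀ s : A6, Pr (MulAut.conj s) := fun s x hx => by
      refine T3_conj ?_ hx
      exact isConj_iff.2 ⟨s, rfl⟩
    have h3 : Pr (MulAut.conj s1)⁻¹ := by rw [← map_inv]; exact h2 _
    exact pr_mul' (pr_mul' h3 h) (h2 _)
  have h3 : ∀ x ∈ H0, orderOf x ≠ 3 := by
    intro x hx hx3
    have hzx := hnorm z hs1 x hx
    rcases T3_or_Q3 hx3 with h1 | h1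
    · exact hH0 (top_of_types h1 hx (swapT hzp h1) hzx hco' hc'H)
    · exact hH0 (top_of_types (swapQ hzp h1) hzx h1 hx hco' hc'H)
  have huniq : ∀ y ∈ H0, y ^ 5 = 1 → y ∈ Subgroup.zpowers c' := fun y hy h5 => unique_five h3 hc'H hco' hy h5
  let P : Subgroup A6 := Subgroup.zpowers c'
  have hP5 : ∀ y ∈ P, y ^ 5 = 1 := by
    intro y hy
    obtain ⟨k, rfl⟩ := Subgroup.mem_zpowers_iff.1 hy
    rw [← zpow_natCast, ← zpow_mul, mul_comm, zpow_mul, zpow_natCast, ← hco', pow_orderOf_eq_one, one_zpow]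
  have hPH : P ≤ H0 := by rw [Subgroup.zpowers_le]; exact hc'H
  -- the conjugates of `a` normalise `P`
  have hall : ∀ s : A6, ∀ y ∈ P, (MulAut.conj s * a * (MulAut.conj s)⁻¹) y ∈ P := by
    intro s y hy
    rcases hcov s with h | h
    · apply huniq _ (hnorm _ h y (hPH hy))
      rw [← map_pow, hP5 y hy, map_one]
    · have h1 : s * c * s⁻¹ ∈ P := huniq _ h (by
        have : (s * c * s⁻¹) ^ 5 = s * c ^ 5 * s⁻¹ := conj_pow
        rw [this, ← hc, pow_orderOf_eq_one, mul_one, mul_inv_cancel])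
      have h2 : Subgroup.zpowers (s * c * s⁻¹) = P := by
        apply Subgroup.eq_of_le_of_card_ge (by rw [Subgroup.zpowers_le]; exact h1)
        rw [Nat.card_zpowers, Nat.card_zpowers, hco', show s * c * s⁻¹ = MulAut.conj s c from rfl,
          MulEquiv.orderOf_eq, hc]
      have h4 : (MulAut.conj s * a * (MulAut.conj s)⁻¹) (s * c * s⁻¹) = s * c * s⁻¹ := by
        rw [← map_inv, MulAut.mul_apply, MulAut.mul_apply, MulAut.conj_apply, MulAut.conj_apply]
        have h5 : s⁻¹ * (s * c * s⁻¹) * s⁻¹⁻¹ = c := by group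
        rw [h5, hac]
      rw [← h2] at hy ⊢
      obtain ⟨k, rfl⟩ := Subgroup.mem_zpowers_iff.1 hy
      rw [map_zpow, h4]
      exact Subgroup.zpow_mem_zpowers _ k
  let K : Subgroup (MulAut A6) :=
    { carrier := {α | ∀ x, α x ∈ P ↔ x ∈ P}
      one_mem' := fun x => Iff.rfl
      mul_mem' := fun {α β} hα hβ x => by
        rw [MulAut.mul_apply]
        exact (hα _).trans (hβ x)
      inv_mem' := fun {α} hα x => by
        have h1 := hα (α⁻¹ x)
        rw [show α (α⁻¹ x) = x from α.apply_symm_apply x] at h1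
        exact h1.symm }
  have haK : ∀ s : A6, MulAut.conj s * a * (MulAut.conj s)⁻¹ ∈ K := by
    intro s x
    refine ⟨fun h => ?_, fun h => hall s x h⟩
    have h1 := hall s _ h
    have h2 : (MulAut.conj s * a * (MulAut.conj s)⁻¹) * (MulAut.conj s * a * (MulAut.conj s)⁻¹) = 1 := by
      calc _ = MulAut.conj s * (a * a) * (MulAut.conj s)⁻¹ := by group
        _ = 1 := by rw [ha]; group
    rw [← MulAut.mul_apply, h2, MulAut.one_apply] at h1
    exact h1
  have hK : (MulAut.conj : A6 →* MulAut A6).range ≤ K := by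
    by_contra hno
    obtain ⟨s, hs⟩ := rce_of_prime_pow hS a Nat.prime_two hao K hno
    exact ha1 (hs a (Subgroup.mem_zpowers a) (haK s))
  have hPn : P.Normal := by
    constructor
    intro x hx s
    have := (hK ⟨s, rfl⟩ : ∀ x, MulAut.conj s x ∈ P ↔ x ∈ P)
    exact (this x).2 hx
  rcases hS.eq_bot_or_eq_top_of_normal P hPn with h | h
  · have h1 : Nat.card P = 5 := by rw [Nat.card_zpowers, hco']
    rw [h, Subgroup.card_bot] at h1
    omega
  · have h1 : Nat.card P = 5 := by rw [Nat.card_zpowers, hco']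
    rw [h, Subgroup.card_top, card_A6] at h1
    omega

theorem zmul_ten (k : ℤ) : (10 : ℤ) ∣ k ∨ (∃ m n : ℤ, k * m = 5 + 10 * n) ∨ ∃ m n : ℤ, k * m = 2 + 10 * n := by
  obtain ⟨q, r, h0, h1, h2⟩ : ∃ q r : ℤ, k = 10 * q + r ∧ 0 ≤ r ∧ r < 10 :=
    ⟨k / 10, k % 10, (Int.mul_ediv_add_emod k 10).symm, Int.emod_nonneg _ (by norm_num), Int.emod_lt_of_pos _ (by norm_num)⟩
  subst h0
  interval_cases r
  · left; exact ⟨q, by ring⟩
  · right; left; exact ⟨5, 5 * q, by ring⟩
  · right; right; exact ⟨1, q, by ring⟩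
  · right; left; exact ⟨5, 5 * q + 1, by ring⟩
  · right; right; exact ⟨3, 3 * q + 1, by ring⟩
  · right; left; exact ⟨1, q, by ring⟩
  · right; right; exact ⟨2, 2 * q + 1, by ring⟩
  · right; left; exact ⟨5, 5 * q + 3, by ring⟩
  · right; right; exact ⟨4, 4 * q + 3, by ring⟩
  · right; left; exact ⟨5, 5 * q + 4, by ring⟩

/-- every automorphism of `A_6` of order different from 6 has the regular cycle property -/
theorem rce_A6 : ∀ g : MulAut (alternatingGroup (Fin 6)), orderOf g ≠ 6 → RCe (alternatingGroup (Fin 6)) g := by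
  intro g hg
  have hS := simpleA6
  have hp : ∀ {p k : ℕ}, p.Prime → orderOf g = p ^ k → RCe (alternatingGroup (Fin 6)) g :=
    fun hp h => rce_of_prime_pow hS g hp h
  by_cases hPr : Pr g
  · -- induced by a permutation: orders 1, ..., 6
    obtain ⟨σ, rfl⟩ := pr_cn hPr
    rw [orderOf_injective cn cn_inj] at hg
    have ho : orderOf (cn σ) = orderOf σ := orderOf_injective cn cn_inj σ
    rcases ord_six σ with h | h | h
    · have h1 : orderOf σ ∣ 2 ^ 2 := orderOf_dvd_of_pow_eq_one h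
      obtain ⟨k, _, hk⟩ := (Nat.dvd_prime_pow Nat.prime_two).1 h1
      exact hp Nat.prime_two (ho.trans hk)
    · have h1 := orderOf_dvd_of_pow_eq_one h
      rcases (Nat.dvd_prime Nat.prime_five).1 h1 with h2 | h2
      · exact hp (k := 0) Nat.prime_five (ho.trans h2)
      · exact hp (k := 1) Nat.prime_five (ho.trans (by rw [h2, pow_one]))
    · have h1 := orderOf_dvd_of_pow_eq_one h
      have h2 : orderOf σ ≤ 6 := Nat.le_of_dvd (by norm_num) h1
      have h3 : orderOf σ = 1 ∨ orderOf σ = 2 ∨ orderOf σ = 3 := by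
        generalize orderOf σ = n at *
        interval_cases n <;> simp_all only [_root_.ne_eq, _root_.OfNat.zero_ne_ofNat, _root_.not_false_eq_true, _root_.orderOf_eq_zero_iff, _root_.zero_dvd_iff, _root_.OfNat.ofNat_ne_zero, _root_.OfNat.one_ne_ofNat, _root_.orderOf_eq_one_iff, _root_.isUnit_iff_eq_one, _root_.IsUnit.dvd, _root_.Nat.one_le_ofNat, _root_.or_self, _root_.or_false, _root_.Nat.reduceEqDiff, _root_.Nat.reduceDvd, _root_.Nat.reduceLeDiff, _root_.OfNat.ofNat_ne_one, _root_.or_true, _root_.Nat.succ_ne_self, _root_.not_true_eq_false]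
      rcases h3 with h3 | h3 | h3
      · exact hp (k := 0) Nat.prime_two (ho.trans h3)
      · exact hp (k := 1) Nat.prime_two (ho.trans (by rw [h3, pow_one]))
      · exact hp (k := 1) Nat.prime_three (ho.trans (by rw [h3, pow_one]))
  · rcases pow_of_not_pr hPr with h | h
    · have h1 : orderOf g ∣ 2 ^ 3 := orderOf_dvd_of_pow_eq_one h
      obtain ⟨k, _, hk⟩ := (Nat.dvd_prime_pow Nat.prime_two).1 h1
      exact hp Nat.prime_two hk
    · have h1 := orderOf_dvd_of_pow_eq_one h
      have h2 : orderOf g ≤ 10 := Nat.le_of_dvd (by norm_num) h1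
      have h3 : orderOf g = 1 ∨ orderOf g = 2 ∨ orderOf g = 5 ∨ orderOf g = 10 := by
        generalize orderOf g = n at *
        interval_cases n <;> simp_all only [_root_.ne_eq, _root_.OfNat.zero_ne_ofNat, _root_.not_false_eq_true, _root_.zero_dvd_iff, _root_.OfNat.ofNat_ne_zero, _root_.OfNat.one_ne_ofNat, _root_.isUnit_iff_eq_one, _root_.IsUnit.dvd, _root_.Nat.one_le_ofNat, _root_.or_self, _root_.or_false, _root_.Nat.reduceEqDiff, _root_.Nat.reduceDvd, _root_.Nat.reduceLeDiff, _root_.OfNat.ofNat_ne_one, _root_.or_true, _root_.not_true_eq_false, _root_.Nat.succ_ne_self, _root_.dvd_refl, _root_.Std.le_refl]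
      rcases h3 with h3 | h3 | h3 | h3
      · exact hp (k := 0) Nat.prime_two h3
      · exact hp (k := 1) Nat.prime_two (by rw [h3, pow_one])
      · exact hp (k := 1) Nat.prime_five (by rw [h3, pow_one])
      · -- order ten
        obtain ⟨τ, hτ⟩ := pr_cn (pr_sq g)
        have hτ5 : orderOf τ = 5 := by
          rw [← orderOf_injective cn cn_inj, hτ, ← pow_two, orderOf_pow, h3]
          norm_num
        have hs : Perm.sign τ = 1 := odd_order_even (n := 5) (by decide) (by rw [← hτ5, pow_orderOf_eq_one])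
        let c : A6 := ⟨τ, Perm.mem_alternatingGroup.2 hs⟩
        have hc : orderOf c = 5 := by rw [← Subgroup.orderOf_coe]; exact hτ5
        have hcg : MulAut.conj c = g ^ 2 := by rw [← cn_val, pow_two]; exact hτ
        have h10 : g ^ 10 = 1 := h
        intro H hH
        by_contra hcon
        push Not at hcon
        refine ten hH (a := g ^ 5) (c := c) ?_ ?_ hc ?_ ?_
        · rw [← pow_add]; exact h10
        · intro hpr
          apply hPr
          have h5 : g = g ^ 5 * (g ^ 2 * g ^ 2)⁻¹ := by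
            rw [← pow_add]
            rw [eq_mul_inv_iff_mul_eq, ← pow_succ']
          rw [h5]
          refine pr_mul' hpr ?_
          have h6 : (g ^ 2 * g ^ 2)⁻¹ = g ^ 2 * g ^ 2 * g ^ 2 := by
            rw [inv_eq_iff_mul_eq_one, ← pow_add, ← pow_add, ← pow_add]; exact h10
          rw [h6, pow_two]
          exact pr_mul' (pr_mul' (pr_sq g) (pr_sq g)) (pr_sq g)
        · apply conj_inj
          rw [← mul_conj_inv, hcg, ← pow_add, mul_inv_eq_iff_eq_mul, ← pow_add]
        · intro s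
          obtain ⟨z, hz, hzH, hz1⟩ := hcon s
          obtain ⟨k, rfl⟩ := Subgroup.mem_zpowers_iff.1 hz
          have hconj : ∀ m : ℤ, MulAut.conj s * g ^ (k * m) * (MulAut.conj s)⁻¹ ∈ H := by
            intro m
            have h7 := H.zpow_mem hzH m
            rwa [conj_zpow, ← zpow_mul] at h7
          have hz10 : g ^ (10 : ℤ) = 1 := by exact_mod_cast h10
          rcases zmul_ten k with ⟨q, hq⟩ | ⟨m, n, hmn⟩ | ⟨m, n, hmn⟩
          · exact absurd (by rw [hq, zpow_mul, hz10, one_zpow]) hz1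
          · left
            have h8 := hconj m
            rw [hmn, zpow_add, zpow_mul, hz10, one_zpow, mul_one] at h8
            exact_mod_cast h8
          · right
            have h8 := hconj m
            rw [hmn, zpow_add, zpow_mul, hz10, one_zpow, mul_one] at h8
            have h9 : g ^ (2 : ℤ) = MulAut.conj c := by rw [hcg]; norm_cast
            rw [h9, ← map_mul, ← map_inv, ← map_mul] at h8
            exact h8

end Cfsg.Agent.H916.RC
end
end

-- part: H106/RC/Red
section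
set_option linter.all false
open scoped Cfsg.Agent.FastGrp

/-!
# S3510 from `RC` (non exceptional) and the statement for `A5`, `A6`, `A8`
-/

set_option autoImplicit false
open Cfsg

namespace Cfsg.Agent.H106.RC

theorem IsPSL.cgr {S S' : Type*} [Group S] [Group S'] (e : S ≃* S') (h : IsPSL S) : IsPSL S' := by
  obtain ⟨F, i1, i2, n, h1, h2, ⟨f⟩⟩ := h
  exact ⟨F, i1, i2, n, h1, h2, ⟨e.symm.trans f⟩⟩

theorem IsPSp.cgr {S S' : Type*} [Group S] [Group S'] (e : S ≃* S') (h : IsPSp S) : IsPSp S' := by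
  obtain ⟨F, i1, i2, n, h1, h2, ⟨f⟩⟩ := h
  exact ⟨F, i1, i2, n, h1, h2, ⟨e.symm.trans f⟩⟩

theorem IsPSU.cgr {S S' : Type*} [Group S] [Group S'] (e : S ≃* S') (h : IsPSU S) : IsPSU S' := by
  obtain ⟨F, i1, i2, n, q, h1, h2, h3, ⟨f⟩⟩ := h
  exact ⟨F, i1, i2, n, q, h1, h2, h3, ⟨e.symm.trans f⟩⟩

theorem IsPOmegaOdd.cgr {S S' : Type*} [Group S] [Group S'] (e : S ≃* S') (h : IsPOmegaOdd S) :
    IsPOmegaOdd S' := by
  obtain ⟨F, i1, i2, n, h1, h2, ⟨f⟩⟩ := h
  exact ⟨F, i1, i2, n, h1, h2, ⟨e.symm.trans f⟩⟩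

theorem IsPOmegaPlus.cgr {S S' : Type*} [Group S] [Group S'] (e : S ≃* S') (h : IsPOmegaPlus S) :
    IsPOmegaPlus S' := by
  obtain ⟨F, i1, i2, n, h1, ⟨f⟩⟩ := h
  exact ⟨F, i1, i2, n, h1, ⟨e.symm.trans f⟩⟩

theorem IsPOmegaMinus.cgr {S S' : Type*} [Group S] [Group S'] (e : S ≃* S') (h : IsPOmegaMinus S) :
    IsPOmegaMinus S' := by
  obtain ⟨F, i1, i2, n, a, b, h1, h2, ⟨f⟩⟩ := h
  exact ⟨F, i1, i2, n, a, b, h1, h2, ⟨e.symm.trans f⟩⟩

theorem Cl.cgr {S S' : Type*} [Group S] [Group S'] (e : S ≃* S') (h : Cl S) : Cl S' := by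
  rcases h with h | h | h | h | h | h
  · exact Or.inl (IsPSL.cgr e h)
  · exact Or.inr (Or.inl (IsPSp.cgr e h))
  · exact Or.inr (Or.inr (Or.inl (IsPSU.cgr e h)))
  · exact Or.inr (Or.inr (Or.inr (Or.inl (IsPOmegaOdd.cgr e h))))
  · exact Or.inr (Or.inr (Or.inr (Or.inr (Or.inl (IsPOmegaPlus.cgr e h)))))
  · exact Or.inr (Or.inr (Or.inr (Or.inr (Or.inr (IsPOmegaMinus.cgr e h)))))

theorem Exc.cgr {S S' : Type*} [Group S] [Group S'] (e : S ≃* S') (h : Exc S) : Exc S' := by
  rcases h with ⟨⟨f⟩⟩ | ⟨⟨f⟩⟩ | ⟨⟨f⟩⟩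
  · exact Or.inl ⟨e.symm.trans f⟩
  · exact Or.inr (Or.inl ⟨e.symm.trans f⟩)
  · exact Or.inr (Or.inr ⟨e.symm.trans f⟩)

theorem isSimple_cgr {S S' : Type*} [Group S] [Group S'] (e : S ≃* S') (h : IsSimpleGroup S) :
    IsSimpleGroup S' := by
  haveI := h
  haveI : Nontrivial S' := e.symm.toEquiv.nontrivial
  exact IsSimpleGroup.isSimpleGroup_of_surjective e.toMonoidHom e.surjective

theorem notComm_cgr {S S' : Type*} [Group S] [Group S'] (e : S ≃* S') (h : ¬ IsMulCommutative S) :
    ¬ IsMulCommutative S' := by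
  intro h'
  apply h
  constructor
  constructor
  intro a b
  apply e.injective
  rw [map_mul, map_mul]
  exact h'.is_comm.comm _ _

/-- `RC` for groups in any universe -/
theorem rc_univ
    (hRC : ∀ (S : Type) [Group S] [Finite S], IsSimpleGroup S → ¬ IsMulCommutative S → Cl S →
      ¬ Exc S → RC S)
    {T : Type*} [Group T] [Finite T] (h1 : IsSimpleGroup T) (h2 : ¬ IsMulCommutative T)
    (h3 : Cl T) (h4 : ¬ Exc T) : RC T := by
  haveI : Small.{0} T := inferInstance
  let e : Shrink.{0} T ≃* T := Shrink.mulEquiv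
  haveI : Finite (Shrink.{0} T) := Finite.of_equiv T e.symm.toEquiv
  have := hRC (Shrink.{0} T) (isSimple_cgr e.symm h1) (notComm_cgr e.symm h2) (Cl.cgr e.symm h3)
    (fun h => h4 (Exc.cgr e h))
  exact this.congr e

/-- an element without regular cycle contradicts `RC` of the normal subgroup -/
theorem no_rc_of_noreg {G : Type*} [Group G] {Ω : Type*} [MulAction G Ω] [FaithfulSMul G Ω]
    (T : Subgroup G) [T.Normal] (hT : IsSimpleGroup T)
    (hC : Subgroup.centralizer (T : Set G) = ⊥) (g : G)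
    (hg : ∀ ω : Ω, MulAction.stabilizer (Subgroup.zpowers g) ω ≠ ⊥) (hRC : RC T) : False := by
  classical
  haveI := hT
  -- a point not fixed by `T`
  obtain ⟨t0, ht0⟩ := exists_ne (1 : T)
  have hex : ∃ ω : Ω, (t0 : G) • ω ≠ ω := by
    by_contra hno
    push Not at hno
    apply ht0
    apply Subtype.ext
    apply eq_of_smul_eq_smul (α := Ω)
    intro ω
    rw [hno ω]; simp
  obtain ⟨ω0, hω0⟩ := hex
  let φ : G →* MulAut T := MulAut.conjNormal
  have hφ : ∀ x : G, φ x = 1 → x = 1 := by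
    intro x hx
    have : x ∈ Subgroup.centralizer (T : Set G) := by
      rw [Subgroup.mem_centralizer_iff]
      intro t ht
      have h1 : (φ x ⟨t, ht⟩ : G) = t := by rw [hx]; rfl
      have h2 : (φ x ⟨t, ht⟩ : G) = x * t * x⁻¹ := MulAut.conjNormal_apply x ⟨t, ht⟩
      rw [h2] at h1
      have : x * t = t * x := by
        calc x * t = (x * t * x⁻¹) * x := by group
          _ = t * x := by rw [h1]
      exact this.symm
    rw [hC] at this
    exact Subgroup.mem_bot.1 this
  have hinj : Function.Injective φ := (injective_iff_map_eq_one φ).2 hφ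
  have hconj : ∀ t : T, φ (t : G) = MulAut.conj t := by
    intro t
    ext x
    simp [φ, MulAut.conjNormal_apply]
  let H : Subgroup (MulAut T) := (MulAction.stabilizer G ω0).map φ
  have hH : ¬ (MulAut.conj : T →* MulAut T).range ≤ H := by
    intro hle
    have h1 : φ (t0 : G) ∈ H := by
      rw [hconj]; exact hle ⟨t0, rfl⟩
    obtain ⟨x, hx, hxe⟩ := h1
    have := hinj hxe
    subst this
    exact hω0 hx
  obtain ⟨s, hs⟩ := hRC (φ g) H hH
  apply hg ((s : G)⁻¹ • ω0)
  rw [eq_bot_iff]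
  rintro ⟨z, hz⟩ hzst
  have hzst' : z • ((s : G)⁻¹ • ω0) = (s : G)⁻¹ • ω0 := hzst
  have h1 : (s : G) * z * (s : G)⁻¹ ∈ MulAction.stabilizer G ω0 := by
    rw [MulAction.mem_stabilizer_iff, mul_smul, mul_smul, hzst', smul_inv_smul]
  have h2 : MulAut.conj s * φ z * (MulAut.conj s)⁻¹ ∈ H := by
    rw [← hconj, ← map_inv, ← map_mul, ← map_mul]
    exact ⟨_, h1, rfl⟩
  have h3 : φ z ∈ Subgroup.zpowers (φ g) := by
    obtain ⟨k, rfl⟩ := Subgroup.mem_zpowers_iff.1 hz
    exact Subgroup.mem_zpowers_iff.2 ⟨k, by rw [map_zpow]⟩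
  have h4 := hφ z (hs _ h3 h2)
  rw [Subgroup.mem_bot]
  exact Subtype.ext h4

/-- the statement for `A5`, `A6`, `A8` (universe polymorphic) -/
def ExcStmt.{u, v} : Prop :=
  ∀ {G : Type u} [Group G] [Finite G] {Ω : Type v} [Fintype Ω] [MulAction G Ω] [FaithfulSMul G Ω]
    (T : Subgroup G) [T.Normal], Exc T → Subgroup.centralizer (T : Set G) = ⊥ →
    MulAction.IsPreprimitive G Ω → ∀ g : G,
    (∀ ω : Ω, MulAction.stabilizer (Subgroup.zpowers g) ω ≠ ⊥) →
    (Nonempty (T ≃* alternatingGroup (Fin 5)) ∧ Fintype.card Ω = 5) ∨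
    (Nonempty (T ≃* alternatingGroup (Fin 6)) ∧ Fintype.card Ω = 6) ∨
    (Nonempty (T ≃* alternatingGroup (Fin 8)) ∧ Fintype.card Ω = 8)

theorem s3510_of.{u, v}
    (hRC : ∀ (S : Type) [Group S] [Finite S], IsSimpleGroup S → ¬ IsMulCommutative S → Cl S →
      ¬ Exc S → RC S)
    (hE : ExcStmt.{u, v})
    {G : Type u} [Group G] [Finite G] {Ω : Type v} [Fintype Ω] [MulAction G Ω] [FaithfulSMul G Ω]
    (T : Subgroup G) [T.Normal] (hT : IsSimpleGroup T) (hTc : ¬ IsMulCommutative T)
    (hC : Subgroup.centralizer (T : Set G) = ⊥)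
    (hcl : (Cfsg.IsPSL T ∨ Cfsg.IsPSp T ∨ Cfsg.IsPSU T ∨ Cfsg.IsPOmegaOdd T ∨ Cfsg.IsPOmegaPlus T ∨ Cfsg.IsPOmegaMinus T))
    (hprim : MulAction.IsPreprimitive G Ω) (g : G)
    (hg : ∀ ω : Ω, MulAction.stabilizer (Subgroup.zpowers g) ω ≠ ⊥) :
    (Nonempty (T ≃* alternatingGroup (Fin 5)) ∧ Fintype.card Ω = 5) ∨
    (Nonempty (T ≃* alternatingGroup (Fin 6)) ∧ Fintype.card Ω = 6) ∨
    (Nonempty (T ≃* alternatingGroup (Fin 8)) ∧ Fintype.card Ω = 8) := by
  by_cases he : Exc T
  · exact hE T he hC hprim g hg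
  · exact (no_rc_of_noreg T hT hC g hg (rc_univ hRC hT hTc hcl he)).elim

end Cfsg.Agent.H106.RC
end

-- part: H452/RC/FMPa
section
prune_inst 0x100000000000000000000000000000010000000
set_option linter.all false
open scoped Cfsg.Agent.FastGrp

/-!
# Closed subspaces of a twisted composition (helper452; for S3510, triality type iii, four minus planes)

`m` a product, `σ⁻¹`-semilinear on the left, `σ`-semilinear on the right, `Q (m u w) = σ⁻¹ (Q u) σ (Q w)`,
`polar Q (m v w) u = σ (polar Q (m u v) w)`.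

* `closed_le_half` : a closed nondegenerate proper subspace has dimension at most half of the dimension;
* `exists_not_closed` : four orthogonal anisotropic planes: some sum of two of them is not closed;
* `eq_one_of_fix` : an automorphism of order prime to the characteristic which fixes a nondegenerate not closed
  subspace of dimension `≥ 4` of the eight-dimensional space is `1`.
-/

set_option autoImplicit false

namespace Cfsg.Agent.H452.RC.FMP

open Module QuadraticMap Cfsg.Agent.LieClassical.OrthCore Cfsg.Agent.LieClassical.OrthTrans Cfsg.Agent.H198.TwComp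

variable {F V : Type*} [Field F] [AddCommGroup V] [Module F V] {Q : QuadraticForm F V} {σ : F ≃+* F} {m : V → V → V}

/-- closed under the product -/
def Closed (m : V → V → V) (W : Submodule F V) : Prop := ∀ u ∈ W, ∀ w ∈ W, m u w ∈ W

/-- nondegenerate for the polar form -/
def ND (Q : QuadraticForm F V) (W : Submodule F V) : Prop := ∀ v ∈ W, (∀ w ∈ W, polar Q v w = 0) → v = 0

/-- the orthogonal subspace -/
def perp (Q : QuadraticForm F V) (W : Submodule F V) : Submodule F V where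
  carrier := {v | ∀ w ∈ W, polar Q v w = 0}
  add_mem' := by
    intro a b ha hb w hw
    rw [polar_add_left, ha w hw, hb w hw, add_zero]
  zero_mem' := fun w _ => by rw [polar_zero_left]
  smul_mem' := by
    intro c a ha w hw
    rw [polar_smul_left, ha w hw, smul_zero]

theorem exists_decomp [FiniteDimensional F V] {W : Submodule F V} (hW : ND Q W) (v : V) :
    ∃ a ∈ W, ∃ b ∈ perp Q W, v = a + b := by
  let B : LinearMap.BilinForm F V := polarBilin Q
  have hB : ∀ x y, B x y = polar Q x y := fun x y => rfl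
  have hr : (B.restrict W).Nondegenerate := by
    have hsymm : ∀ x y : W, (B.restrict W) x y = (B.restrict W) y x := by
      intro x y
      show polar Q (x : V) y = polar Q (y : V) x
      rw [polar_comm]
    have hl : ∀ x : W, (∀ y : W, (B.restrict W) x y = 0) → x = 0 := by
      intro x hx
      exact Subtype.ext (hW x x.2 (fun w hw => hx ⟨w, hw⟩))
    refine ⟨hl, fun x hx => hl x (fun y => ?_)⟩
    rw [hsymm]; exact hx y
  -- the functional `w ↦ polar v w` on `W` is represented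
  obtain ⟨a, ha⟩ : ∃ a : W, ∀ w : W, polar Q (a : V) w = polar Q v w := by
    let f : W →ₗ[F] Module.Dual F W := (B.restrict W)
    have hinj : Function.Injective f := by
      rw [injective_iff_map_eq_zero]
      intro a ha
      apply hr.1
      intro y
      have h1 := LinearMap.congr_fun ha y
      exact h1
    have hfr : finrank F W = finrank F (Module.Dual F W) := (Subspace.dual_finrank_eq).symm
    have hsurj : Function.Surjective f := (LinearMap.injective_iff_surjective_of_finrank_eq_finrank hfr).1 hinj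
    obtain ⟨a, ha⟩ := hsurj ((B v).comp W.subtype)
    refine ⟨a, fun w => ?_⟩
    have h1 := LinearMap.congr_fun ha w
    exact h1
  refine ⟨a, a.2, v - a, ?_, by abel⟩
  intro w hw
  have h1 := ha ⟨w, hw⟩
  rw [polar_sub_left]
  rw [sub_eq_zero]
  exact h1.symm

theorem exists_nonsing [FiniteDimensional F V] (hQ : Nondeg Q) {W : Submodule F V} (hW : ND Q W) (hT : W ≠ ⊤) :
    ∃ b ∈ perp Q W, Q b ≠ 0 := by
  by_contra hcon
  push Not at hcon
  apply hT
  rw [Submodule.eq_top_iff']
  intro v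
  obtain ⟨a, ha, b, hb, rfl⟩ := exists_decomp hW v
  have hb0 : b = 0 := by
    apply hQ
    intro y
    obtain ⟨a', ha', b', hb', rfl⟩ := exists_decomp hW y
    rw [polar_add_right, hb a' ha', zero_add]
    have h1 := hcon _ ((perp Q W).add_mem hb hb')
    rw [Q_add, hcon b hb, hcon b' hb', zero_add, zero_add] at h1
    exact h1
  rw [hb0, add_zero]
  exact ha

/-- (Z0) A closed nondegenerate proper subspace has at most half of the dimension. -/
theorem closed_le_half [Finite F] [FiniteDimensional F V] (h : TC Q σ m)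
    (hp : ∀ u v w, polar Q (m v w) u = σ (polar Q (m u v) w)) (hQ : Nondeg Q) {W : Submodule F V} (hW : ND Q W)
    (hc : Closed m W) (hT : W ≠ ⊤) : finrank F W ≤ finrank F (perp Q W) := by
  obtain ⟨b, hb, hb0⟩ := exists_nonsing hQ hW hT
  have hmem : ∀ w ∈ W, m w b ∈ perp Q W := by
    intro w hw u hu
    rw [hp, polar_comm, hb _ (hc u hu w hw), map_zero]
  have hinj : ∀ w w' : V, m w b = m w' b → w = w' := by
    intro w w' he
    have h1 := h.right b w
    rw [he, h.right] at h1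
    have h2 : σ.symm (Q b) ≠ 0 := by
      intro h3
      exact hb0 ((map_eq_zero σ.symm).1 h3)
    exact (smul_right_injective V h2 h1).symm
  haveI : Finite V := Module.finite_of_finite F
  let f : W → perp Q W := fun w => ⟨m w b, hmem w w.2⟩
  have hf : Function.Injective f := by
    intro w w' he
    exact Subtype.ext (hinj w w' (congrArg Subtype.val he))
  have hle := Nat.card_le_card_of_injective f hf
  have e1 : Nat.card W = Nat.card F ^ finrank F W := Module.natCard_eq_pow_finrank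
  have e2 : Nat.card (perp Q W) = Nat.card F ^ finrank F (perp Q W) := Module.natCard_eq_pow_finrank
  rw [e1, e2] at hle
  exact (Nat.pow_le_pow_iff_right Finite.one_lt_card).1 hle

theorem finrank_perp_add [FiniteDimensional F V] {W : Submodule F V} (hW : ND Q W) :
    finrank F W + finrank F (perp Q W) ≤ finrank F V := by
  have h1 : W ⊓ perp Q W = ⊥ := by
    rw [Submodule.eq_bot_iff]
    rintro v ⟨hv, hv'⟩
    exact hW v hv (fun w hw => hv' w hw)
  have h2 := Submodule.finrank_sup_add_finrank_inf_eq W (perp Q W)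
  rw [h1, finrank_bot, add_zero] at h2
  rw [← h2]
  exact Submodule.finrank_le _

/-- a two-dimensional anisotropic space over a finite field is nondegenerate -/
theorem nd_of_aniso [Finite F] {P : Submodule F V} (h2 : finrank F P = 2) (hP : ∀ v ∈ P, Q v = 0 → v = 0) : ND Q P := by
  intro v hv hv'
  by_contra hv0
  have h1 := hv' v hv
  have h3 : (2 : F) * Q v = 0 := by
    have e : polar Q v v = 2 * Q v := by
      rw [polar, ← two_smul F v, QuadraticMap.map_smul]
      simp only [smul_eq_mul]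
      ring
    rw [← e, h1]
  have hQv : Q v ≠ 0 := fun h4 => hv0 (hP v hv h4)
  have h20 : (2 : F) = 0 := (mul_eq_zero.1 h3).resolve_right hQv
  haveI : CharP F 2 := CharTwo.of_one_ne_zero_of_two_eq_zero one_ne_zero h20
  -- a second vector
  obtain ⟨w, hw, hwv⟩ : ∃ w ∈ P, ∀ a : F, w ≠ a • v := by
    by_contra hcon
    push Not at hcon
    have h4 : P ≤ Submodule.span F {v} := by
      intro w hw
      obtain ⟨a, ha⟩ := hcon w hw
      rw [ha]
      exact Submodule.smul_mem _ _ (Submodule.mem_span_singleton_self v)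
    have h5 := Submodule.finrank_mono h4
    have h6 : finrank F (Submodule.span F {v}) = 1 := finrank_span_singleton hv0
    omega
  haveI : Fintype F := Fintype.ofFinite F
  obtain ⟨a, ha⟩ : ∃ a : F, a ^ 2 = Q w / Q v := by
    haveI : ExpChar F 2 := ExpChar.prime Nat.prime_two
    obtain ⟨a, ha⟩ := (bijective_frobenius F 2).2 (Q w / Q v)
    exact ⟨a, ha⟩
  have hz : Q (w + a • v) = 0 := by
    rw [Q_add, QuadraticMap.map_smul, polar_smul_right, polar_comm, hv' w hw, smul_zero, add_zero]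
    have e : a * a = Q w / Q v := by rw [← ha]; ring
    rw [e, smul_eq_mul, div_mul_cancel₀ _ hQv]
    exact CharTwo.add_self_eq_zero _
  have h4 := hP _ (P.add_mem hw (P.smul_mem a hv)) hz
  apply hwv (-a)
  rw [neg_smul]
  exact eq_neg_of_add_eq_zero_left h4

/-- (Z1) Four orthogonal anisotropic planes: the sum of some two of them is not closed. (Three planes are enough.) -/
theorem exists_not_closed [Finite F] (hn : ∀ u w, Q (m u w) = σ.symm (Q u) * σ (Q w))
    (hp : ∀ u v w, polar Q (m v w) u = σ (polar Q (m u v) w)) (P : Fin 4 → Submodule F V)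
    (h2 : ∀ k, finrank F (P k) = 2) (ho : ∀ k l, k ≠ l → ∀ v ∈ P k, ∀ w ∈ P l, polar Q v w = 0)
    (ha : ∀ k, ∀ v ∈ P k, Q v = 0 → v = 0) : ∃ a b, a ≠ b ∧ ¬ Closed m (P a ⊔ P b) := by
  by_contra hcon
  push Not at hcon
  have hnd : ∀ k, ND Q (P k) := fun k => nd_of_aniso (h2 k) (ha k)
  -- `P a` is closed
  have hcl : ∀ a b c : Fin 4, a ≠ b → a ≠ c → b ≠ c → Closed m (P a) := by
    intro a b c hab hac hbc v hv w hw
    have h3 := hcon a b hab v (Submodule.mem_sup_left hv) w (Submodule.mem_sup_left hw)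
    have h4 := hcon a c hac v (Submodule.mem_sup_left hv) w (Submodule.mem_sup_left hw)
    obtain ⟨x, hx, y, hy, hxy⟩ := Submodule.mem_sup.1 h3
    obtain ⟨x', hx', z, hz, hxz⟩ := Submodule.mem_sup.1 h4
    have hy0 : y = 0 := by
      apply hnd b y hy
      intro d hd
      have e : y = (x' - x) + z := by
        rw [sub_add_eq_add_sub, hxz, ← hxy]; abel
      rw [e, polar_add_left, ho a b hab _ ((P a).sub_mem hx' hx) d hd, ho c b (Ne.symm hbc) z hz d hd, add_zero]
    rw [hy0, add_zero] at hxy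
    rw [← hxy]
    exact hx
  have hc0 : Closed m (P 0) := hcl 0 1 2 (by decide) (by decide) (by decide)
  have hc1 : Closed m (P 1) := hcl 1 0 2 (by decide) (by decide) (by decide)
  have h01 : (0 : Fin 4) ≠ 1 := by decide
  obtain ⟨v, hv, hv0⟩ : ∃ v ∈ P 0, v ≠ 0 := by
    by_contra hc
    push Not at hc
    have : P 0 = ⊥ := by rw [Submodule.eq_bot_iff]; exact hc
    have h3 := h2 0
    rw [this, finrank_bot] at h3
    omega
  obtain ⟨w, hw, hw0⟩ : ∃ w ∈ P 1, w ≠ 0 := by
    by_contra hc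
    push Not at hc
    have : P 1 = ⊥ := by rw [Submodule.eq_bot_iff]; exact hc
    have h3 := h2 1
    rw [this, finrank_bot] at h3
    omega
  obtain ⟨x, hx, y, hy, hxy⟩ := Submodule.mem_sup.1
    (hcon 0 1 h01 v (Submodule.mem_sup_left hv) w (Submodule.mem_sup_right hw))
  have hx0 : x = 0 := by
    apply hnd 0 x hx
    intro u hu
    have h3 : polar Q (m v w) u = 0 := by
      rw [hp, ho 0 1 h01 _ (hc0 u hu v hv) w hw, map_zero]
    rw [← hxy, polar_add_left, ho 1 0 (Ne.symm h01) y hy u hu, add_zero] at h3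
    exact h3
  have hy0 : y = 0 := by
    apply hnd 1 y hy
    intro u hu
    have h3 : polar Q (m v w) u = 0 := by
      rw [hp, hp, ho 1 0 (Ne.symm h01) _ (hc1 w hw u hu) v hv, map_zero, map_zero]
    rw [← hxy, polar_add_left, ho 0 1 h01 x hx u hu, zero_add] at h3
    exact h3
  rw [hx0, hy0, add_zero] at hxy
  have h5 := hn v w
  rw [← hxy, QuadraticMap.map_zero] at h5
  rcases mul_eq_zero.1 h5.symm with h6 | h6
  · exact hv0 (ha 0 v hv ((map_eq_zero σ.symm).1 h6))
  · exact hw0 (ha 1 w hw ((map_eq_zero σ).1 h6))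

/-- the fixed space -/
def fix (c : V ≃ₗ[F] V) : Submodule F V where
  carrier := {v | c v = v}
  add_mem' := by
    intro a b ha hb
    show c (a + b) = a + b
    rw [map_add, show c a = a from ha, show c b = b from hb]
  zero_mem' := map_zero c
  smul_mem' := by
    intro k a ha
    show c (k • a) = k • a
    rw [map_smul, show c a = a from ha]

theorem mem_fix {c : V ≃ₗ[F] V} {v : V} : v ∈ fix c ↔ c v = v := Iff.rfl

/-- the fixed space of an isometry of order prime to the characteristic is nondegenerate -/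
theorem nd_fix (hQ : Nondeg Q) {c : V ≃ₗ[F] V} (hc : ∀ u v, polar Q (c u) (c v) = polar Q u v) {n : ℕ}
    (hn : (n : F) ≠ 0) (hcn : c ^ n = 1) : ND Q (fix c) := by
  intro v hv hv'
  apply hQ
  intro u
  set S : V := ∑ k ∈ Finset.range n, (c ^ k) u with hS
  have hcS : c S = S := by
    rw [hS, map_sum]
    have e1 : ∀ k ∈ Finset.range n, c ((c ^ k) u) = (c ^ (k + 1)) u := by
      intro k _
      rw [pow_succ' c k]
      rfl
    rw [Finset.sum_congr rfl e1]
    have e2 := Finset.sum_range_succ (fun k => (c ^ k) u) n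
    have e3 := Finset.sum_range_succ' (fun k => (c ^ k) u) n
    rw [e2] at e3
    rw [hcn, pow_zero] at e3
    exact (add_right_cancel e3).symm
  have h1 := hv' S hcS
  have hpk : ∀ k : ℕ, polar Q v ((c ^ k) u) = polar Q v u := by
    intro k
    induction k with
    | zero => rfl
    | succ k ih =>
      have e : (c ^ (k + 1)) u = c ((c ^ k) u) := by rw [pow_succ' c k]; rfl
      have e' : polar Q v (c ((c ^ k) u)) = polar Q (c v) (c ((c ^ k) u)) := by rw [mem_fix.1 hv]
      rw [e, e', hc, ih]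
  have h2 : polar Q v S = (n : F) * polar Q v u := by
    have e : polar Q v S = ∑ k ∈ Finset.range n, polar Q v ((c ^ k) u) := by
      rw [hS]
      exact map_sum (polarBilin Q v) _ _
    rw [e, Finset.sum_congr rfl (fun k _ => hpk k), Finset.sum_const, Finset.card_range, nsmul_eq_mul]
  rw [h2] at h1
  exact (mul_eq_zero.1 h1).resolve_left hn

/-- (Z2) -/
theorem eq_one_of_fix [Finite F] [FiniteDimensional F V] (h8 : finrank F V = 8) (h : TC Q σ m)
    (hp : ∀ u v w, polar Q (m v w) u = σ (polar Q (m u v) w)) (hQ : Nondeg Q) {c : V ≃ₗ[F] V}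
    (hc : ∀ u v, polar Q (c u) (c v) = polar Q u v) (hm : ∀ u w, c (m u w) = m (c u) (c w)) {n : ℕ}
    (hn : (n : F) ≠ 0) (hcn : c ^ n = 1) {W : Submodule F V} (h4 : 4 ≤ finrank F W) (hW : ¬ Closed m W)
    (hfix : ∀ v ∈ W, c v = v) : c = 1 := by
  have hnd := nd_fix hQ hc hn hcn
  have hcl : Closed m (fix c) := by
    intro u hu w hw
    rw [mem_fix, hm, mem_fix.1 hu, mem_fix.1 hw]
  have hlt : W < fix c := by
    refine lt_of_le_of_ne (fun v hv => hfix v hv) ?_
    rintro rfl
    exact hW hcl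
  have h5 := Submodule.finrank_lt_finrank_of_lt hlt
  have hT : fix c = ⊤ := by
    by_contra hT
    have h6 := closed_le_half h hp hQ hnd hcl hT
    have h7 := finrank_perp_add hnd
    omega
  ext v
  have h6 : v ∈ fix c := by rw [hT]; trivial
  exact h6

end Cfsg.Agent.H452.RC.FMP
end

-- part: H390/RC/Reps
section
prune_inst 0x257054657b6212004004059671003cf7df000190002b8800d9e50e44068fdf230d42a760f6a01e0b490aa724003b8060001000f9425000002e248600411d01a084eaf6c6b148b01527008fc0f88f190c00100000000000000000000000041004010000000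
set_option linter.all false
open scoped Cfsg.Agent.FastGrp

-- part: H390/RC/Tri
section
/-!
# S3510, EXC: subgroups of symmetric groups with many three-cycles (helper390)
-/

set_option autoImplicit false

namespace Cfsg.Agent.H390.RC

open Equiv Equiv.Perm

section via

variable {α β : Type*} [DecidableEq α] [DecidableEq β]

theorem via_swap (x : α ↪ β) (i j : α) : (swap i j).viaEmbedding x = swap (x i) (x j) := by
  ext z
  by_cases hz : z ∈ Set.range x
  · obtain ⟨k, rfl⟩ := hz
    rw [Perm.viaEmbedding_apply]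
    by_cases h1 : k = i
    · rw [h1, swap_apply_left, swap_apply_left]
    · by_cases h2 : k = j
      · rw [h2, swap_apply_right, swap_apply_right]
      · rw [swap_apply_of_ne_of_ne h1 h2, swap_apply_of_ne_of_ne (x.injective.ne h1) (x.injective.ne h2)]
  · rw [Perm.viaEmbedding_apply_of_notMem _ _ _ hz, swap_apply_of_ne_of_ne]
    · rintro rfl
      exact hz ⟨i, rfl⟩
    · rintro rfl
      exact hz ⟨j, rfl⟩

end via

variable {α : Type*} [DecidableEq α]

/-- the three-cycle `(a b c)` -/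
def cy (a b c : α) : Perm α := swap a b * swap b c

instance {n : ℕ} (a b c : Fin n) (σ : Perm (Fin n)) : Decidable (cy a b c = σ) := inferInstanceAs (Decidable (_ = _))

theorem cy_conj (σ : Perm α) (a b c : α) : σ * cy a b c * σ⁻¹ = cy (σ a) (σ b) (σ c) := by
  unfold cy
  rw [swap_apply_apply, swap_apply_apply]
  group

theorem swap_conj (σ : Perm α) (a b : α) : σ * swap a b * σ⁻¹ = swap (σ a) (σ b) := (swap_apply_apply σ a b).symm

theorem cy_inv (a b c : α) : (cy a b c)⁻¹ = cy c b a := by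
  unfold cy
  rw [mul_inv_rev, swap_inv, swap_inv, swap_comm b c, swap_comm a b]

theorem via_cy {β : Type*} [DecidableEq β] (x : β ↪ α) (i j k : β) :
    viaEmbeddingHom x (cy i j k) = cy (x i) (x j) (x k) := by
  unfold cy
  rw [map_mul, viaEmbeddingHom_apply, viaEmbeddingHom_apply, via_swap, via_swap]

theorem cy_rot {a b c : α} (hab : a ≠ b) (hbc : b ≠ c) (hac : a ≠ c) : cy a b c = cy b c a := by
  let x : Fin 3 ↪ α := ⟨![a, b, c], by
    intro i j h
    fin_cases i <;> fin_cases j <;> simp_all [eq_comm]⟩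
  have h : cy (0 : Fin 3) 1 2 = cy 1 2 0 := by decide
  have h1 := congrArg (viaEmbeddingHom x) h
  rw [via_cy, via_cy] at h1
  exact h1

theorem cy_word4 {M : Subgroup (Perm α)} {a b c x : α} (hab : a ≠ b) (hbc : b ≠ c) (hac : a ≠ c) (hxa : x ≠ a)
    (hxb : x ≠ b) (hxc : x ≠ c) (h1 : cy a b x ∈ M) (h2 : cy b c x ∈ M) : cy a b c ∈ M := by
  let e : Fin 4 ↪ α := ⟨![a, b, c, x], by
    intro i j h
    fin_cases i <;> fin_cases j <;> simp_all [eq_comm]⟩
  have h : cy (0 : Fin 4) 1 3 * cy 1 2 3 = cy 0 1 2 := by decide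
  have h3 := congrArg (viaEmbeddingHom e) h
  rw [map_mul, via_cy, via_cy, via_cy] at h3
  have h4 : cy a b x * cy b c x = cy a b c := h3
  rw [← h4]
  exact M.mul_mem h1 h2

theorem cy_word5 {M : Subgroup (Perm α)} {a b c x y : α} (hab : a ≠ b) (hbc : b ≠ c) (hac : a ≠ c) (hxa : x ≠ a)
    (hxb : x ≠ b) (hxc : x ≠ c) (hya : y ≠ a) (hyb : y ≠ b) (hyc : y ≠ c) (hxy : x ≠ y) (h1 : cy a b x ∈ M)
    (h2 : cy b c y ∈ M) : cy a b c ∈ M := by
  let e : Fin 5 ↪ α := ⟨![a, b, c, x, y], by
    intro i j h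
    fin_cases i <;> fin_cases j <;> simp_all [eq_comm]⟩
  have h : cy (1 : Fin 5) 2 4 * (cy 0 1 3)⁻¹ * (cy 1 2 4)⁻¹ * cy 0 1 3 = cy 0 1 2 := by decide
  have h3 := congrArg (viaEmbeddingHom e) h
  rw [map_mul, map_mul, map_mul, map_inv, map_inv, via_cy, via_cy, via_cy] at h3
  have h4 : cy b c y * (cy a b x)⁻¹ * (cy b c y)⁻¹ * cy a b x = cy a b c := h3
  rw [← h4]
  exact M.mul_mem (M.mul_mem (M.mul_mem h2 (M.inv_mem h1)) (M.inv_mem h2)) h1

/-- `a`, `b` lie in a common three-cycle of `M`, or are equal -/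
def Rel (M : Subgroup (Perm α)) (a b : α) : Prop := a = b ∨ ∃ c, c ≠ a ∧ c ≠ b ∧ a ≠ b ∧ cy a b c ∈ M

variable {M : Subgroup (Perm α)}

theorem Rel.refl (a : α) : Rel M a a := Or.inl rfl

theorem Rel.symm {a b : α} (h : Rel M a b) : Rel M b a := by
  rcases h with h | ⟨c, hca, hcb, hab, h⟩
  · exact Or.inl h.symm
  · refine Or.inr ⟨c, hcb, hca, hab.symm, ?_⟩
    have h1 := M.inv_mem h
    rw [cy_inv, cy_rot hcb hab.symm hca] at h1
    exact h1

theorem tri {a b c : α} (hab : a ≠ b) (hbc : b ≠ c) (hac : a ≠ c) (h1 : Rel M a b) (h2 : Rel M b c) :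
    cy a b c ∈ M := by
  obtain ⟨x, hxa, hxb, -, hx⟩ := h1.resolve_left hab
  obtain ⟨y, hyb, hyc, -, hy⟩ := h2.resolve_left hbc
  by_cases h3 : x = c
  · rwa [h3] at hx
  by_cases h4 : y = a
  · rw [h4] at hy
    rwa [cy_rot hab hbc hac]
  by_cases h5 : x = y
  · subst h5
    exact cy_word4 hab hbc hac hxa hxb h3 hx hy
  · exact cy_word5 hab hbc hac hxa hxb h3 h4 hyb hyc h5 hx hy

theorem Rel.trans {a b c : α} (h1 : Rel M a b) (h2 : Rel M b c) : Rel M a c := by
  by_cases hab : a = b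
  · rwa [hab]
  by_cases hbc : b = c
  · rwa [← hbc]
  by_cases hac : a = c
  · exact Or.inl hac
  · refine Or.inr ⟨b, Ne.symm hab, hbc, hac, ?_⟩
    have h3 := tri hab hbc hac h1 h2
    have h4 := M.inv_mem h3
    rw [cy_inv, cy_rot (Ne.symm hbc) (Ne.symm hab) (Ne.symm hac), cy_rot (Ne.symm hab) hac hbc] at h4
    exact h4

theorem Rel.of_cy {a b c : α} (hab : a ≠ b) (hbc : b ≠ c) (hac : a ≠ c) (h : cy a b c ∈ M) : Rel M a b :=
  Or.inr ⟨c, Ne.symm hac, Ne.symm hbc, hab, h⟩

theorem Rel.of_cy' {a b c : α} (hab : a ≠ b) (hbc : b ≠ c) (hac : a ≠ c) (h : cy a b c ∈ M) : Rel M b c := by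
  rw [cy_rot hab hbc hac] at h
  exact Rel.of_cy hbc hac.symm hab.symm h

/-- the even permutations fixing `i` lie in `M` -/
def Good [Fintype α] (M : Subgroup (Perm α)) : Prop := ∃ i : α, ∀ σ : Perm α, sign σ = 1 → σ i = i → σ ∈ M

theorem good_of_rel [Fintype α] (i : α) (h : ∀ a b : α, a ≠ i → b ≠ i → Rel M a b) : Good M := by
  refine ⟨i, fun σ hσ hi => ?_⟩
  have h1 : ∀ x, σ x ≠ i ↔ x ≠ i := by
    intro x
    rw [not_iff_not]
    constructor
    · intro hx
      exact σ.injective (hx.trans hi.symm)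
    · rintro rfl
      exact hi
  let τ : Perm {x // x ≠ i} := σ.subtypePerm h1
  have h2 : ofSubtype τ = σ := ofSubtype_subtypePerm h1 (fun x hx => by
    rintro rfl
    exact hx hi)
  have h3 : τ ∈ alternatingGroup {x // x ≠ i} := by
    rw [mem_alternatingGroup, ← sign_ofSubtype, h2, hσ]
  rw [← closure_three_cycles_eq_alternating] at h3
  have h4 : Subgroup.closure {σ : Perm {x // x ≠ i} | IsThreeCycle σ} ≤ M.comap ofSubtype := by
    rw [Subgroup.closure_le]
    intro ρ hρ
    have hne : ρ ≠ 1 := IsThreeCycle.ne_one hρ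
    obtain ⟨a, ha⟩ : ∃ a, ρ a ≠ a := by
      by_contra hc
      push Not at hc
      exact hne (Equiv.ext hc)
    have ha' : a ∈ ρ.support := mem_support.2 ha
    have h5 := (IsThreeCycle.eq_swap_mul_swap_iff_mem_support hρ).2 ha'
    have h6 := (IsThreeCycle.nodup_iff_mem_support hρ).2 ha'
    have h7 : a ≠ ρ a := Ne.symm ha
    have h8 : ρ a ≠ ρ (ρ a) := fun h => ha (ρ.injective h).symm
    have h9 : a ≠ ρ (ρ a) := by
      intro h
      simp at h6
      exact h6.1.2 h
    change ofSubtype ρ ∈ M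
    have h10 : ofSubtype ρ = cy (a : α) (ρ a : α) (ρ (ρ a) : α) := by
      conv_lhs => rw [h5]
      unfold cy
      rw [map_mul, ofSubtype_swap_eq, ofSubtype_swap_eq]
    rw [h10]
    exact tri (fun h => h7 (Subtype.ext h)) (fun h => h8 (Subtype.ext h)) (fun h => h9 (Subtype.ext h))
      (h _ _ a.2 (ρ a).2) (h _ _ (ρ a).2 (ρ (ρ a)).2)
  have h5 := h4 h3
  rw [Subgroup.mem_comap, h2] at h5
  exact h5

/-! ### The graph arguments -/

theorem exists_notMem [Fintype α] (s : Finset α) (h : s.card < Fintype.card α) : ∃ x, x ∉ s := by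
  by_contra hc
  push Not at hc
  have h1 : s = Finset.univ := Finset.eq_univ_of_forall hc
  rw [h1, Finset.card_univ] at h
  exact lt_irrefl _ h

/-- (II) -/
theorem good_two [Fintype α] (h5 : 5 ≤ Fintype.card α)
    (h : ∀ p q s t u : α, [p, q, s, t, u].Nodup → swap p q ∈ M ∨ cy s t u ∈ M) : Good M := by
  have hex : ∀ a b c d : α, ∃ e, e ≠ a ∧ e ≠ b ∧ e ≠ c ∧ e ≠ d := by
    intro a b c d
    obtain ⟨e, he⟩ := exists_notMem ({a, b, c, d} : Finset α) (lt_of_le_of_lt Finset.card_le_four (by omega))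
    simp only [Finset.mem_insert, Finset.mem_singleton, not_or] at he
    exact ⟨e, he⟩
  have hrel : ∀ a b : α, a ≠ b → swap a b ∉ M → ∀ s t : α, s ≠ a → s ≠ b → t ≠ a → t ≠ b → Rel M s t := by
    intro a b hab hM s t hsa hsb hta htb
    by_cases hst : s = t
    · exact Or.inl hst
    obtain ⟨u, hua, hub, hus, hut⟩ := hex a b s t
    have h1 := (h a b s t u (by
      simp only [List.nodup_cons, List.mem_cons, List.not_mem_nil, or_false, not_or, not_false_eq_true,
        List.nodup_nil, and_true]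
      exact ⟨⟨hab, hsa.symm, hta.symm, hua.symm⟩, ⟨hsb.symm, htb.symm, hub.symm⟩, ⟨hst, hus.symm⟩, hut.symm⟩)).resolve_left hM
    exact Rel.of_cy hst hut.symm hus.symm h1
  by_cases hall : ∀ a b : α, a ≠ b → swap a b ∈ M
  · obtain ⟨i, -⟩ := exists_notMem (∅ : Finset α) (by rw [Finset.card_empty]; omega)
    refine good_of_rel i fun a b _ _ => ?_
    by_cases hab : a = b
    · exact Or.inl hab
    obtain ⟨c, hca, hcb, -⟩ := hex a b a b
    exact Rel.of_cy hab hcb.symm hca.symm (M.mul_mem (hall _ _ hab) (hall _ _ hcb.symm))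
  · push Not at hall
    obtain ⟨a, b, hab, hM⟩ := hall
    have hY := hrel a b hab hM
    obtain ⟨c, hca, hcb, -⟩ := hex a b a b
    obtain ⟨d, hda, hdb, hdc, -⟩ := hex a b c c
    obtain ⟨e, hea, heb, hec, hed⟩ := hex a b c d
    by_cases h1 : swap a c ∈ M
    · by_cases h2 : swap c d ∈ M
      · have h3 : Rel M a c := Rel.of_cy hca.symm hdc.symm hda.symm (M.mul_mem h1 h2)
        have h4 : ∀ p : α, p ≠ b → Rel M p c := by
          intro p hp
          by_cases hpa : p = a
          · rw [hpa]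
            exact h3
          · exact hY p c hpa hp hca hcb
        exact good_of_rel b fun x y hx hy => (h4 x hx).trans (h4 y hy).symm
      · have h3 := hrel c d hdc.symm h2
        have h4 : ∀ p : α, Rel M p e := by
          intro p
          by_cases hpa : p = a
          · rw [hpa]
            exact h3 a e hca.symm hda.symm hec hed
          by_cases hpb : p = b
          · rw [hpb]
            exact h3 b e hcb.symm hdb.symm hec hed
          exact hY p e hpa hpb hea heb
        exact good_of_rel a fun x y _ _ => (h4 x).trans (h4 y).symm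
    · have h3 := hrel a c hca.symm h1
      have h4 : ∀ p : α, p ≠ a → Rel M p d := by
        intro p hp
        by_cases hpb : p = b
        · rw [hpb]
          exact h3 b d hab.symm hcb.symm hda hdc
        · exact hY p d hp hpb hda hdb
      exact good_of_rel a fun x y hx hy => (h4 x hx).trans (h4 y hy).symm

/-- (I) -/
theorem good_three [Fintype α] (h8 : 8 ≤ Fintype.card α)
    (h : ∀ p q r s t u : α, [p, q, r, s, t, u].Nodup → cy p q r ∈ M ∨ cy s t u ∈ M) : Good M := by
  have hex : ∀ a b c d e f : α, ∃ g, g ≠ a ∧ g ≠ b ∧ g ≠ c ∧ g ≠ d ∧ g ≠ e ∧ g ≠ f := by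
    intro a b c d e f
    obtain ⟨g, hg⟩ := exists_notMem ({a, b, c, d, e, f} : Finset α) (lt_of_le_of_lt Finset.card_le_six (by omega))
    simp only [Finset.mem_insert, Finset.mem_singleton, not_or] at hg
    exact ⟨g, hg⟩
  have hrel : ∀ a b c : α, a ≠ b → b ≠ c → a ≠ c → cy a b c ∉ M → ∀ s t : α, s ≠ a → s ≠ b → s ≠ c → t ≠ a →
      t ≠ b → t ≠ c → Rel M s t := by
    intro a b c hab hbc hac hM s t hsa hsb hsc hta htb htc
    by_cases hst : s = t
    · exact Or.inl hst
    obtain ⟨u, hua, hub, huc, hus, hut, -⟩ := hex a b c s t t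
    have h1 := (h a b c s t u (by
      simp only [List.nodup_cons, List.mem_cons, List.not_mem_nil, or_false, not_or, not_false_eq_true,
        List.nodup_nil, and_true]
      exact ⟨⟨hab, hac, hsa.symm, hta.symm, hua.symm⟩, ⟨hbc, hsb.symm, htb.symm, hub.symm⟩,
        ⟨hsc.symm, htc.symm, huc.symm⟩, ⟨hst, hus.symm⟩, hut.symm⟩)).resolve_left hM
    exact Rel.of_cy hst hut.symm hus.symm h1
  by_cases hall : ∀ a b c : α, a ≠ b → b ≠ c → a ≠ c → cy a b c ∈ M
  · obtain ⟨i, -⟩ := exists_notMem (∅ : Finset α) (by rw [Finset.card_empty]; omega)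
    refine good_of_rel i fun a b _ _ => ?_
    by_cases hab : a = b
    · exact Or.inl hab
    obtain ⟨c, hca, hcb, -⟩ := hex a b a b a b
    exact Rel.of_cy hab hcb.symm hca.symm (hall _ _ _ hab hcb.symm hca.symm)
  · push Not at hall
    obtain ⟨a, b, c, hab, hbc, hac, hM⟩ := hall
    have hY := hrel a b c hab hbc hac hM
    obtain ⟨y, hya, hyb, hyc, -⟩ := hex a b c a b c
    obtain ⟨z, hza, hzb, hzc, hzy, -⟩ := hex a b c y y y
    have hzyr : Rel M z y := hY z y hza hzb hzc hya hyb hyc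
    by_cases h1 : cy a b y ∈ M
    · have hby : Rel M b y := Rel.of_cy' hab hyb.symm hya.symm h1
      have hay : Rel M a y := (Rel.of_cy hab hyb.symm hya.symm h1).trans hby
      have h4 : ∀ p : α, p ≠ c → Rel M p y := by
        intro p hp
        by_cases hpa : p = a
        · rw [hpa]
          exact hay
        by_cases hpb : p = b
        · rw [hpb]
          exact hby
        exact hY p y hpa hpb hp hya hyb hyc
      exact good_of_rel c fun x y hx hy => (h4 x hx).trans (h4 y hy).symm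
    · have hcz : Rel M c z := hrel a b y hab hyb.symm hya.symm h1 c z hac.symm hbc.symm hyc.symm hza hzb hzy
      have hcy : Rel M c y := hcz.trans hzyr
      by_cases h2 : cy a c y ∈ M
      · have hay : Rel M a y := (Rel.of_cy hac hyc.symm hya.symm h2).trans hcy
        have h4 : ∀ p : α, p ≠ b → Rel M p y := by
          intro p hp
          by_cases hpa : p = a
          · rw [hpa]
            exact hay
          by_cases hpc : p = c
          · rw [hpc]
            exact hcy
          exact hY p y hpa hp hpc hya hyb hyc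
        exact good_of_rel b fun x y hx hy => (h4 x hx).trans (h4 y hy).symm
      · have hbz : Rel M b z := hrel a c y hac hyc.symm hya.symm h2 b z hab.symm hbc hyb.symm hza hzc hzy
        have hby : Rel M b y := hbz.trans hzyr
        have h4 : ∀ p : α, p ≠ a → Rel M p y := by
          intro p hp
          by_cases hpb : p = b
          · rw [hpb]
            exact hby
          by_cases hpc : p = c
          · rw [hpc]
            exact hcy
          exact hY p y hp hpb hpc hya hyb hyc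
        exact good_of_rel a fun x y hx hy => (h4 x hx).trans (h4 y hy).symm

/-! ### Covers -/

/-- every even conjugate of `M` contains `x` or `y` -/
def Cov2 [Fintype α] (M : Subgroup (Perm α)) (x y : Perm α) : Prop :=
  ∀ a : Perm α, sign a = 1 → a * x * a⁻¹ ∈ M ∨ a * y * a⁻¹ ∈ M

variable [Fintype α] {x y z : Perm α}

theorem Cov2.symm (h : Cov2 M x y) : Cov2 M y x := fun a ha => (h a ha).symm

theorem Cov2.mv (h : Cov2 M x y) (hz : z ∈ Subgroup.closure {w | ∃ c : Perm α, sign c = 1 ∧ c * y = y * c ∧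
    w = c * x * c⁻¹}) : Cov2 M z y := by
  intro a ha
  by_cases hy : a * y * a⁻¹ ∈ M
  · exact Or.inr hy
  left
  have h1 : Subgroup.closure {w | ∃ c : Perm α, sign c = 1 ∧ c * y = y * c ∧ w = c * x * c⁻¹} ≤
      M.comap (MulAut.conj a).toMonoidHom := by
    rw [Subgroup.closure_le]
    rintro _ ⟨c, hc, hcy, rfl⟩
    change a * (c * x * c⁻¹) * a⁻¹ ∈ M
    have h2 := h (a * c) (by rw [map_mul, ha, hc, one_mul])
    have h3 : a * c * y * (a * c)⁻¹ = a * y * a⁻¹ := by
      rw [mul_assoc a c y, hcy]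
      group
    rw [h3] at h2
    have h4 : a * c * x * (a * c)⁻¹ = a * (c * x * c⁻¹) * a⁻¹ := by group
    rw [← h4]
    exact h2.resolve_right hy
  exact h1 hz

/-- the move with a product of two conjugates -/
theorem Cov2.mv2 (h : Cov2 M x y) (c : Perm α) (hc : sign c = 1) (hcy : c * y = y * c) (hz : z = x * (c * x * c⁻¹)) :
    Cov2 M z y := by
  apply h.mv
  rw [hz]
  refine Subgroup.mul_mem _ (Subgroup.subset_closure ⟨1, by simp, by simp, by simp⟩)
    (Subgroup.subset_closure ⟨c, hc, hcy, rfl⟩)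

theorem Cov2.mv2' (h : Cov2 M x y) (c : Perm α) (hc : sign c = 1) (hcy : c * y = y * c)
    (hz : z = x⁻¹ * (c * x * c⁻¹)) : Cov2 M z y := by
  apply h.mv
  rw [hz]
  refine Subgroup.mul_mem _ (Subgroup.inv_mem _ (Subgroup.subset_closure ⟨1, by simp, by simp, by simp⟩))
    (Subgroup.subset_closure ⟨c, hc, hcy, rfl⟩)

/-- the move with a product of three conjugates -/
theorem Cov2.mv3 (h : Cov2 M x y) (c : Perm α) (hc : sign c = 1) (hcy : c * y = y * c)
    (hz : z = x * (c * x * c⁻¹) * (c * c * x * (c * c)⁻¹)) : Cov2 M z y := by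
  apply h.mv
  rw [hz]
  refine Subgroup.mul_mem _ (Subgroup.mul_mem _ (Subgroup.subset_closure ⟨1, by simp, by simp, by simp⟩)
    (Subgroup.subset_closure ⟨c, hc, hcy, rfl⟩)) (Subgroup.subset_closure ⟨c * c, by rw [map_mul, hc, one_mul], ?_, rfl⟩)
  rw [mul_assoc, hcy, ← mul_assoc, hcy, mul_assoc]

/-- a swap and a three-cycle -/
theorem good_swap_cy (h5 : 5 ≤ Fintype.card α) {i j k l m : α} (hd : [i, j, k, l, m].Nodup)
    (h : Cov2 M (swap i j) (cy k l m)) : Good M := by
  apply good_two h5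
  intro p q s t u hn
  let e : Fin 5 ↪ α := ⟨![i, j, k, l, m], by
    rw [← List.nodup_ofFn]
    simpa only [List.ofFn_succ, _root_.Nat.succ_eq_add_one, _root_.Nat.reduceAdd, _root_.Fin.isValue, _root_.Matrix.cons_val_zero, _root_.Matrix.cons_val_succ, _root_.Matrix.cons_val_fin_one, _root_.List.ofFn_zero, _root_.List.nodup_cons, _root_.List.mem_cons, _root_.List.not_mem_nil, _root_.or_false, _root_.not_or, _root_.not_false_eq_true, _root_.List.nodup_nil, _root_.and_self, _root_.and_true] using hd⟩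
  let f : Fin 5 ↪ α := ⟨![p, q, s, t, u], by
    rw [← List.nodup_ofFn]
    simpa only [List.ofFn_succ, _root_.Nat.succ_eq_add_one, _root_.Nat.reduceAdd, _root_.Fin.isValue, _root_.Matrix.cons_val_zero, _root_.Matrix.cons_val_succ, _root_.Matrix.cons_val_fin_one, _root_.List.ofFn_zero, _root_.List.nodup_cons, _root_.List.mem_cons, _root_.List.not_mem_nil, _root_.or_false, _root_.not_or, _root_.not_false_eq_true, _root_.List.nodup_nil, _root_.and_self, _root_.and_true] using hn⟩
  obtain ⟨σ, hσ⟩ := exists_smul_eq_embedding e f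
  have h0 : σ i = p := DFunLike.congr_fun hσ 0
  have h1 : σ j = q := DFunLike.congr_fun hσ 1
  have h2 : σ k = s := DFunLike.congr_fun hσ 2
  have h3 : σ l = t := DFunLike.congr_fun hσ 3
  have h4 : σ m = u := DFunLike.congr_fun hσ 4
  simp only [List.nodup_cons, List.mem_cons, List.not_mem_nil, or_false, not_or, not_false_eq_true,
        List.nodup_nil, and_true] at hd
  rcases Int.units_eq_one_or (sign σ) with hs | hs
  · have h6 := h σ hs
    rwa [swap_conj, cy_conj, h0, h1, h2, h3, h4] at h6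
  · have h6 := h (σ * swap i j) (by rw [map_mul, hs, sign_swap hd.1.1]; rfl)
    rw [swap_conj, cy_conj] at h6
    simp only [coe_mul, Function.comp_apply] at h6
    rw [swap_apply_left, swap_apply_right, swap_apply_of_ne_of_ne (Ne.symm hd.1.2.1) (Ne.symm hd.2.1.1),
      swap_apply_of_ne_of_ne (Ne.symm hd.1.2.2.1) (Ne.symm hd.2.1.2.1),
      swap_apply_of_ne_of_ne (Ne.symm hd.1.2.2.2) (Ne.symm hd.2.1.2.2), h0, h1, h2, h3, h4, swap_comm] at h6
    exact h6

/-- two disjoint three-cycles -/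
theorem good_cy_cy (h8 : 8 ≤ Fintype.card α) {i j k l m n : α} (hd : [i, j, k, l, m, n].Nodup)
    (h : Cov2 M (cy i j k) (cy l m n)) : Good M := by
  apply good_three h8
  intro p q r s t u hn
  let e : Fin 6 ↪ α := ⟨![i, j, k, l, m, n], by
    rw [← List.nodup_ofFn]
    simpa only [List.ofFn_succ, _root_.Nat.succ_eq_add_one, _root_.Nat.reduceAdd, _root_.Fin.isValue, _root_.Matrix.cons_val_zero, _root_.Matrix.cons_val_succ, _root_.Matrix.cons_val_fin_one, _root_.List.ofFn_zero, _root_.List.nodup_cons, _root_.List.mem_cons, _root_.List.not_mem_nil, _root_.or_false, _root_.not_or, _root_.not_false_eq_true, _root_.List.nodup_nil, _root_.and_self, _root_.and_true] using hd⟩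
  let f : Fin 6 ↪ α := ⟨![p, q, r, s, t, u], by
    rw [← List.nodup_ofFn]
    simpa only [List.ofFn_succ, _root_.Nat.succ_eq_add_one, _root_.Nat.reduceAdd, _root_.Fin.isValue, _root_.Matrix.cons_val_zero, _root_.Matrix.cons_val_succ, _root_.Matrix.cons_val_fin_one, _root_.List.ofFn_zero, _root_.List.nodup_cons, _root_.List.mem_cons, _root_.List.not_mem_nil, _root_.or_false, _root_.not_or, _root_.not_false_eq_true, _root_.List.nodup_nil, _root_.and_self, _root_.and_true] using hn⟩
  have hm := alternatingGroup.isMultiplyPretransitive α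
  have hm6 : MulAction.IsMultiplyPretransitive (alternatingGroup α) α 6 := by
    apply MulAction.isMultiplyPretransitive_of_le (n := Nat.card α - 2)
    · rw [Nat.card_eq_fintype_card]
      omega
    · omega
  obtain ⟨σ, hσ⟩ := (MulAction.isMultiplyPretransitive_iff).1 hm6 e f
  have h0 : (σ : Perm α) i = p := DFunLike.congr_fun hσ 0
  have h1 : (σ : Perm α) j = q := DFunLike.congr_fun hσ 1
  have h2 : (σ : Perm α) k = r := DFunLike.congr_fun hσ 2
  have h3 : (σ : Perm α) l = s := DFunLike.congr_fun hσ 3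
  have h4 : (σ : Perm α) m = t := DFunLike.congr_fun hσ 4
  have h5 : (σ : Perm α) n = u := DFunLike.congr_fun hσ 5
  have h6 := h σ (mem_alternatingGroup.1 σ.2)
  rwa [cy_conj, cy_conj, h0, h1, h2, h3, h4, h5] at h6

end Cfsg.Agent.H390.RC
end

-- part: H390/RC/CyType
section
/-!
# S3510, EXC: cycle types of elements of `S₅`, `S₈` whose order is not a prime power (helper390)
-/

set_option autoImplicit false

namespace Cfsg.Agent.H390.RC

open Equiv Equiv.Perm

theorem dvd_lcm {r : ℕ} (hr : r.Prime) (s : Multiset ℕ) (h : r ∣ s.lcm) : ∃ k ∈ s, r ∣ k := by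
  induction s using Multiset.induction_on with
  | empty =>
    rw [Multiset.lcm_zero] at h
    exact absurd (Nat.dvd_one.1 h) hr.ne_one
  | cons a s ih =>
    rw [Multiset.lcm_cons] at h
    rcases (hr.dvd_lcm).1 h with h | h
    · exact ⟨a, Multiset.mem_cons_self _ _, h⟩
    · obtain ⟨k, hk, h⟩ := ih h
      exact ⟨k, Multiset.mem_cons_of_mem hk, h⟩

theorem small_one {t : Multiset ℕ} (ht : ∀ k ∈ t, 2 ≤ k) (hs : t.sum ≤ 1) : t = 0 := by
  rcases Multiset.empty_or_exists_mem t with h | ⟨k, hk⟩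
  · exact h
  · have h1 := Multiset.single_le_sum (fun _ _ => Nat.zero_le _) k hk
    have h2 := ht k hk
    omega

theorem small_three {t : Multiset ℕ} (ht : ∀ k ∈ t, 2 ≤ k) (hs : t.sum ≤ 3) : t = 0 ∨ t = {2} ∨ t = {3} := by
  rcases Multiset.empty_or_exists_mem t with h | ⟨k, hk⟩
  · exact Or.inl h
  · obtain ⟨u, rfl⟩ := Multiset.exists_cons_of_mem hk
    rw [Multiset.sum_cons] at hs
    have h2 := ht k hk
    have h3 : u = 0 := small_one (fun j hj => ht j (Multiset.mem_cons_of_mem hj)) (by omega)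
    subst h3
    have h4 : k = 2 ∨ k = 3 := by omega
    rcases h4 with rfl | rfl
    · exact Or.inr (Or.inl rfl)
    · exact Or.inr (Or.inr rfl)

/-- multisets of sum at most `8` whose lcm has two prime divisors -/
theorem class_eight {s : Multiset ℕ} (h2 : ∀ k ∈ s, 2 ≤ k) (hs : s.sum ≤ 8) {r₁ r₂ : ℕ} (hr₁ : r₁.Prime)
    (hr₂ : r₂.Prime) (hlt : r₁ < r₂) (hd₁ : r₁ ∣ s.lcm) (hd₂ : r₂ ∣ s.lcm) :
    s = {6} ∨ s = {6, 2} ∨ s = {3, 4} ∨ s = {3, 2} ∨ s = {3, 2, 2} ∨ s = {3, 2, 3} ∨ s = {5, 2} ∨ s = {5, 3} := by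
  have h3 : 3 ≤ r₂ := by
    have := hr₁.two_le
    omega
  obtain ⟨k, hk, hrk⟩ := dvd_lcm hr₂ s hd₂
  obtain ⟨t, rfl⟩ := Multiset.exists_cons_of_mem hk
  have ht : ∀ j ∈ t, 2 ≤ j := fun j hj => h2 j (Multiset.mem_cons_of_mem hj)
  rw [Multiset.sum_cons] at hs
  have hk2 := h2 k hk
  have hk8 : k ≤ 8 := by omega
  have hr8 : r₂ ≤ 8 := (Nat.le_of_dvd (by omega) hrk).trans hk8
  have hk' : (k = 3 ∧ r₂ = 3) ∨ (k = 6 ∧ r₂ = 3) ∨ (k = 5 ∧ r₂ = 5) ∨ (k = 7 ∧ r₂ = 7) := by
    interval_cases r₂ <;> interval_cases k <;> revert hr₂ hrk <;> decide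
  rcases hk' with ⟨rfl, rfl⟩ | ⟨rfl, rfl⟩ | ⟨rfl, rfl⟩ | ⟨rfl, rfl⟩
  · have hr1 : r₁ = 2 := by
      have := hr₁.two_le
      omega
    subst hr1
    rw [Multiset.lcm_cons] at hd₁
    have h4 : 2 ∣ t.lcm := ((Nat.Prime.dvd_lcm Nat.prime_two).1 hd₁).resolve_left (by decide)
    obtain ⟨j, hj, h2j⟩ := dvd_lcm Nat.prime_two t h4
    obtain ⟨u, rfl⟩ := Multiset.exists_cons_of_mem hj
    rw [Multiset.sum_cons] at hs
    have hu : ∀ i ∈ u, 2 ≤ i := fun i hi => ht i (Multiset.mem_cons_of_mem hi)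
    have hj2 := ht j hj
    have hj' : j = 2 ∨ j = 4 := by omega
    rcases hj' with rfl | rfl
    · rcases small_three hu (by omega) with rfl | rfl | rfl
      · right; right; right; left; rfl
      · right; right; right; right; left; rfl
      · right; right; right; right; right; left; rfl
    · have := small_one hu (by omega)
      subst this
      right; right; left; rfl
  · rcases small_three ht (by omega) with rfl | rfl | rfl
    · left; rfl
    · right; left; rfl
    · simp at hs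
  · rcases small_three ht (by omega) with rfl | rfl | rfl
    · exfalso
      have h5 : (5 ::ₘ (0 : Multiset ℕ)).lcm = 5 := by simp
      rw [h5] at hd₁
      have := (Nat.prime_dvd_prime_iff_eq hr₁ Nat.prime_five).1 hd₁
      omega
    · right; right; right; right; right; right; left; rfl
    · right; right; right; right; right; right; right; rfl
  · have := small_one ht (by omega)
    subst this
    exfalso
    have h5 : (7 ::ₘ (0 : Multiset ℕ)).lcm = 7 := by simp
    rw [h5] at hd₁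
    have := (Nat.prime_dvd_prime_iff_eq hr₁ (by norm_num)).1 hd₁
    omega

/-- multisets of sum at most `5` whose lcm has two prime divisors -/
theorem class_five {s : Multiset ℕ} (h2 : ∀ k ∈ s, 2 ≤ k) (hs : s.sum ≤ 5) {r₁ r₂ : ℕ} (hr₁ : r₁.Prime)
    (hr₂ : r₂.Prime) (hlt : r₁ < r₂) (hd₁ : r₁ ∣ s.lcm) (hd₂ : r₂ ∣ s.lcm) : s = {3, 2} := by
  rcases class_eight h2 (by omega) hr₁ hr₂ hlt hd₁ hd₂ with rfl | rfl | rfl | rfl | rfl | rfl | rfl | rfl <;>
    revert hs <;> decide

end Cfsg.Agent.H390.RC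
end

-- part: H390/RC/Reps
section
/-!
# S3510, EXC: elements of `S₅`, `S₈` whose order is not a prime power (helper390)
-/

set_option autoImplicit false
set_option maxRecDepth 100000

namespace Cfsg.Agent.H390.RC

open Equiv Equiv.Perm

section gen

variable {α : Type*} [DecidableEq α] [Fintype α]

/-- every even conjugate of `M` contains an element of prime order of `⟨g⟩` -/
def CovG (M : Subgroup (Perm α)) (g : Perm α) : Prop :=
  ∀ a : Perm α, sign a = 1 → ∃ r : ℕ, r.Prime ∧ r ∣ orderOf g ∧ a * g ^ (orderOf g / r) * a⁻¹ ∈ M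

variable {M : Subgroup (Perm α)} {g : Perm α}

theorem orderOf_cj (h g : Perm α) : orderOf (h * g * h⁻¹) = orderOf g :=
  (MulAut.conj h).orderOf_eq g

theorem CovG.conj (h : Perm α) (hc : CovG M g) : CovG (M.map (MulAut.conj h).toMonoidHom) (h * g * h⁻¹) := by
  intro a ha
  obtain ⟨r, hr, hd, hm⟩ := hc (h⁻¹ * a * h) (by
    rw [map_mul, map_mul, ha, mul_one, ← map_mul, inv_mul_cancel, map_one])
  refine ⟨r, hr, by rwa [orderOf_cj], ?_⟩
  rw [orderOf_cj, conj_pow]
  refine ⟨_, hm, ?_⟩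
  change h * _ * h⁻¹ = _
  group

theorem Good.of_map (h : Perm α) (hg : Good (M.map (MulAut.conj h).toMonoidHom)) : Good M := by
  obtain ⟨i, hi⟩ := hg
  refine ⟨h⁻¹ i, fun σ hσ hσi => ?_⟩
  obtain ⟨m, hm, hm'⟩ := hi (h * σ * h⁻¹) (by
    rw [map_mul, map_mul, hσ, mul_one, ← map_mul, mul_inv_cancel, map_one]) (by
    change h (σ (h⁻¹ i)) = i
    rw [hσi]
    exact h.apply_symm_apply i)
  have h1 : h * m * h⁻¹ = h * σ * h⁻¹ := hm'
  have h2 : m = σ := mul_left_cancel (mul_right_cancel h1)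
  rwa [← h2]

/-- reduction to a representative -/
theorem good_of_rep {g₀ : Perm α} (hc : CovG M g) (hs : g.cycleType = g₀.cycleType)
    (h : ∀ M' : Subgroup (Perm α), CovG M' g₀ → Good M') : Good M := by
  obtain ⟨c, hcc⟩ := isConj_iff.1 (isConj_iff_cycleType_eq.2 hs)
  have h1 := hc.conj c
  rw [hcc] at h1
  exact (h _ h1).of_map c

theorem CovG.cov2 {N r₁ r₂ : ℕ} {x y : Perm α} (hc : CovG M g) (hN : orderOf g = N)
    (hr : ∀ r : ℕ, r.Prime → r ∣ N → r = r₁ ∨ r = r₂) (hx : g ^ (N / r₁) = x) (hy : g ^ (N / r₂) = y) :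
    Cov2 M x y := by
  intro a ha
  obtain ⟨r, hrp, hd, hm⟩ := hc a ha
  rw [hN] at hd hm
  rcases hr r hrp hd with rfl | rfl
  · left
    rwa [← hx]
  · right
    rwa [← hy]

end gen

theorem prime_six {r : ℕ} (hr : r.Prime) (hd : r ∣ 6) : r = 2 ∨ r = 3 := by
  have h1 := Nat.le_of_dvd (by norm_num) hd
  interval_cases r <;> revert hr hd <;> decide

theorem prime_ten {r : ℕ} (hr : r.Prime) (hd : r ∣ 10) : r = 2 ∨ r = 5 := by
  have h1 := Nat.le_of_dvd (by norm_num) hd
  interval_cases r <;> revert hr hd <;> decide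

theorem prime_twelve {r : ℕ} (hr : r.Prime) (hd : r ∣ 12) : r = 2 ∨ r = 3 := by
  have h1 := Nat.le_of_dvd (by norm_num) hd
  interval_cases r <;> revert hr hd <;> decide

theorem prime_fifteen {r : ℕ} (hr : r.Prime) (hd : r ∣ 15) : r = 3 ∨ r = 5 := by
  have h1 := Nat.le_of_dvd (by norm_num) hd
  interval_cases r <;> revert hr hd <;> decide

section eight

variable {M : Subgroup (Perm (Fin 8))}

/-- `(3,2)` -/
theorem rep32 (h : CovG M (cy 0 1 2 * swap (3 : Fin 8) 4)) : Good M := by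
  have ho : orderOf (cy 0 1 2 * swap (3 : Fin 8) 4 : Perm (Fin 8)) = 6 := by
    rw [← lcm_cycleType, show (cy 0 1 2 * swap (3 : Fin 8) 4 : Perm (Fin 8)).cycleType = {3, 2} by decide +kernel]
    decide
  have h1 : Cov2 M (swap (3 : Fin 8) 4) (cy 0 2 1) := h.cov2 ho (fun r => prime_six) (by decide) (by decide)
  have h2 : Cov2 M (swap (3 : Fin 8) 4) (cy 0 1 2) := by
    intro a ha
    rcases h1 a ha with h | h
    · exact Or.inl h
    · right
      have h3 := M.inv_mem h
      have h4 : (a * cy 0 2 1 * a⁻¹)⁻¹ = a * (cy 0 2 1)⁻¹ * a⁻¹ := by group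
      rw [h4, show (cy (0 : Fin 8) 2 1)⁻¹ = cy 0 1 2 by decide] at h3
      exact h3
  exact good_swap_cy (by simp) (by decide) h2

/-- `(5,2)` -/
theorem rep52 (h : CovG M (swap (2 : Fin 8) 3 * swap (3 : Fin 8) 4 * swap (4 : Fin 8) 5 * swap (5 : Fin 8) 6 * swap (0 : Fin 8) 1)) : Good M := by
  have ho : orderOf (swap (2 : Fin 8) 3 * swap (3 : Fin 8) 4 * swap (4 : Fin 8) 5 * swap (5 : Fin 8) 6 * swap (0 : Fin 8) 1 : Perm (Fin 8)) = 10 := by
    rw [← lcm_cycleType,
      show (swap (2 : Fin 8) 3 * swap (3 : Fin 8) 4 * swap (4 : Fin 8) 5 * swap (5 : Fin 8) 6 * swap (0 : Fin 8) 1 : Perm (Fin 8)).cycleType = {5, 2} by decide +kernel]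
    decide
  have h1 : Cov2 M (swap (0 : Fin 8) 1) ((swap (2 : Fin 8) 3 * swap (3 : Fin 8) 4 * swap (4 : Fin 8) 5 * swap (5 : Fin 8) 6) ^ 2) :=
    h.cov2 ho (fun r => prime_ten) (by decide +kernel) (by decide)
  -- raise to a power
  have h2 : Cov2 M (swap (0 : Fin 8) 1) (swap (2 : Fin 8) 3 * swap (3 : Fin 8) 4 * swap (4 : Fin 8) 5 * swap (5 : Fin 8) 6) := by
    intro a ha
    rcases h1 a ha with h | h
    · exact Or.inl h
    · right
      have h3 := M.pow_mem h 3
      rw [conj_pow, ← pow_mul] at h3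
      rwa [show (swap (2 : Fin 8) 3 * swap (3 : Fin 8) 4 * swap (4 : Fin 8) 5 * swap (5 : Fin 8) 6 : Perm (Fin 8)) ^ (2 * 3) =
        swap (2 : Fin 8) 3 * swap (3 : Fin 8) 4 * swap (4 : Fin 8) 5 * swap (5 : Fin 8) 6 by decide +kernel] at h3
  have h3 : Cov2 M (cy 3 4 6) (swap (0 : Fin 8) 1) := h2.symm.mv2' (cy 4 5 6) (by decide) (by decide) (by decide)
  exact good_swap_cy (by simp) (by decide) h3.symm

/-- `(3,3,2)` -/
theorem rep323 (h : CovG M (cy 2 3 4 * cy 5 6 7 * swap (0 : Fin 8) 1)) : Good M := by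
  have ho : orderOf (cy 2 3 4 * cy 5 6 7 * swap (0 : Fin 8) 1 : Perm (Fin 8)) = 6 := by
    rw [← lcm_cycleType,
      show (cy 2 3 4 * cy 5 6 7 * swap (0 : Fin 8) 1 : Perm (Fin 8)).cycleType = {3, 2, 3} by decide +kernel]
    decide
  have h1 : Cov2 M (swap (0 : Fin 8) 1) (cy 2 4 3 * cy 5 7 6) := h.cov2 ho (fun r => prime_six) (by decide) (by decide)
  have h3 : Cov2 M (cy 2 3 4) (swap (0 : Fin 8) 1) :=
    h1.symm.mv2 (swap (0 : Fin 8) 1 * swap (6 : Fin 8) 7) (by decide) (by decide) (by decide)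
  exact good_swap_cy (by simp) (by decide) h3.symm

/-- `(5,3)` -/
theorem rep53 (h : CovG M (swap (3 : Fin 8) 4 * swap (4 : Fin 8) 5 * swap (5 : Fin 8) 6 * swap (6 : Fin 8) 7 * cy 0 1 2)) : Good M := by
  have ho : orderOf (swap (3 : Fin 8) 4 * swap (4 : Fin 8) 5 * swap (5 : Fin 8) 6 * swap (6 : Fin 8) 7 * cy 0 1 2 : Perm (Fin 8)) = 15 := by
    rw [← lcm_cycleType,
      show (swap (3 : Fin 8) 4 * swap (4 : Fin 8) 5 * swap (5 : Fin 8) 6 * swap (6 : Fin 8) 7 * cy 0 1 2 : Perm (Fin 8)).cycleType = {5, 3} by decide +kernel]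
    decide
  have h1 : Cov2 M (cy 0 2 1) ((swap (3 : Fin 8) 4 * swap (4 : Fin 8) 5 * swap (5 : Fin 8) 6 * swap (6 : Fin 8) 7) ^ 3) :=
    h.cov2 ho (fun r => prime_fifteen) (by decide +kernel) (by decide +kernel)
  have h2 : Cov2 M (cy 0 2 1) (swap (3 : Fin 8) 4 * swap (4 : Fin 8) 5 * swap (5 : Fin 8) 6 * swap (6 : Fin 8) 7) := by
    intro a ha
    rcases h1 a ha with h | h
    · exact Or.inl h
    · right
      have h3 := M.pow_mem h 2
      rw [conj_pow, ← pow_mul] at h3
      rwa [show (swap (3 : Fin 8) 4 * swap (4 : Fin 8) 5 * swap (5 : Fin 8) 6 * swap (6 : Fin 8) 7 : Perm (Fin 8)) ^ (3 * 2) =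
        swap (3 : Fin 8) 4 * swap (4 : Fin 8) 5 * swap (5 : Fin 8) 6 * swap (6 : Fin 8) 7 by decide +kernel] at h3
  have h3 : Cov2 M (cy 4 5 7) (cy 0 2 1) := h2.symm.mv2' (cy 5 6 7) (by decide) (by decide) (by decide)
  exact good_cy_cy (by simp) (by decide) h3.symm

/-- a three-cycle and a double transposition -/
theorem good_cy_dbl (h : Cov2 M (cy 0 1 2) (swap 3 4 * swap 5 6)) : Good M := by
  have h3 : Cov2 M (cy 5 6 7) (cy 0 1 2) := h.symm.mv2 (cy 5 6 7) (by decide) (by decide) (by decide)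
  exact good_cy_cy (by simp) (by decide) h3

/-- `(3,2,2)` -/
theorem rep322 (h : CovG M (cy 0 2 1 * (swap (3 : Fin 8) 4 * swap (5 : Fin 8) 6))) : Good M := by
  have ho : orderOf (cy 0 2 1 * (swap (3 : Fin 8) 4 * swap (5 : Fin 8) 6) : Perm (Fin 8)) = 6 := by
    rw [← lcm_cycleType,
      show (cy 0 2 1 * (swap (3 : Fin 8) 4 * swap (5 : Fin 8) 6) : Perm (Fin 8)).cycleType = {3, 2, 2} by decide +kernel]
    decide
  have h1 : Cov2 M (swap (3 : Fin 8) 4 * swap (5 : Fin 8) 6) (cy 0 1 2) := h.cov2 ho (fun r => prime_six) (by decide) (by decide)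
  exact good_cy_dbl h1.symm

/-- `(4,3)` -/
theorem rep34 (h : CovG M (cy 0 1 2 * (swap (3 : Fin 8) 5 * swap (5 : Fin 8) 4 * swap (4 : Fin 8) 6))) : Good M := by
  have ho : orderOf (cy 0 1 2 * (swap (3 : Fin 8) 5 * swap (5 : Fin 8) 4 * swap (4 : Fin 8) 6) : Perm (Fin 8)) = 12 := by
    rw [← lcm_cycleType,
      show (cy 0 1 2 * (swap (3 : Fin 8) 5 * swap (5 : Fin 8) 4 * swap (4 : Fin 8) 6) : Perm (Fin 8)).cycleType = {3, 4} by decide +kernel]
    decide
  have h1 : Cov2 M (swap (3 : Fin 8) 4 * swap (5 : Fin 8) 6) (cy 0 1 2) := h.cov2 ho (fun r => prime_twelve) (by decide +kernel) (by decide +kernel)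
  exact good_cy_dbl h1.symm

/-- `(6)` -/
theorem rep6 (h : CovG M (swap (0 : Fin 8) 1 * swap (1 : Fin 8) 2 * swap (2 : Fin 8) 3 * swap (3 : Fin 8) 4 * swap (4 : Fin 8) 5)) : Good M := by
  have ho : orderOf (swap (0 : Fin 8) 1 * swap (1 : Fin 8) 2 * swap (2 : Fin 8) 3 * swap (3 : Fin 8) 4 * swap (4 : Fin 8) 5 : Perm (Fin 8)) = 6 := by
    rw [← lcm_cycleType,
      show (swap (0 : Fin 8) 1 * swap (1 : Fin 8) 2 * swap (2 : Fin 8) 3 * swap (3 : Fin 8) 4 * swap (4 : Fin 8) 5 : Perm (Fin 8)).cycleType = {6} by decide +kernel]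
    decide
  have h1 : Cov2 M (swap (0 : Fin 8) 3 * swap (1 : Fin 8) 4 * swap (2 : Fin 8) 5) (cy 0 2 4 * cy 1 3 5) :=
    h.cov2 ho (fun r => prime_six) (by decide) (by decide)
  have h2 : Cov2 M (swap (0 : Fin 8) 3 * swap (2 : Fin 8) 5) (swap (0 : Fin 8) 3 * swap (1 : Fin 8) 4 * swap (2 : Fin 8) 5) :=
    h1.symm.mv2' (swap (2 : Fin 8) 5 * swap (6 : Fin 8) 7) (by decide) (by decide) (by decide)
  have h3 : Cov2 M (cy 1 6 4) (swap (0 : Fin 8) 3 * swap (2 : Fin 8) 5) :=
    h2.symm.mv2 (cy 4 6 7) (by decide) (by decide) (by decide)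
  have h4 : Cov2 M (cy 2 5 7) (cy 1 6 4) := h3.symm.mv2 (cy 2 5 7) (by decide) (by decide) (by decide)
  exact good_cy_cy (by simp) (by decide) h4

/-- `(6,2)` -/
theorem rep62 (h : CovG M (swap (0 : Fin 8) 1 * swap (1 : Fin 8) 2 * swap (2 : Fin 8) 3 * swap (3 : Fin 8) 4 * swap (4 : Fin 8) 5 * swap (6 : Fin 8) 7)) : Good M := by
  have ho : orderOf (swap (0 : Fin 8) 1 * swap (1 : Fin 8) 2 * swap (2 : Fin 8) 3 * swap (3 : Fin 8) 4 * swap (4 : Fin 8) 5 * swap (6 : Fin 8) 7 : Perm (Fin 8)) = 6 := by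
    rw [← lcm_cycleType,
      show (swap (0 : Fin 8) 1 * swap (1 : Fin 8) 2 * swap (2 : Fin 8) 3 * swap (3 : Fin 8) 4 * swap (4 : Fin 8) 5 * swap (6 : Fin 8) 7 : Perm (Fin 8)).cycleType = {6, 2} by
        decide +kernel]
    decide
  have h1 : Cov2 M (swap (0 : Fin 8) 3 * swap (1 : Fin 8) 4 * swap (2 : Fin 8) 5 * swap (6 : Fin 8) 7) (cy 0 2 4 * cy 1 3 5) :=
    h.cov2 ho (fun r => prime_six) (by decide +kernel) (by decide)
  have h2 : Cov2 M (swap (0 : Fin 8) 3 * swap (2 : Fin 8) 5) (swap (0 : Fin 8) 3 * swap (1 : Fin 8) 4 * swap (2 : Fin 8) 5 * swap (6 : Fin 8) 7) :=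
    h1.symm.mv2' (swap (2 : Fin 8) 5 * swap (6 : Fin 8) 7) (by decide) (by decide) (by decide)
  have h3 : Cov2 M (swap (0 : Fin 8) 3 * swap (2 : Fin 8) 5) (swap (0 : Fin 8) 3 * swap (2 : Fin 8) 5) :=
    h2.symm.mv3 (cy 4 6 7) (by decide) (by decide) (by decide +kernel)
  have hall : ∀ a : Perm (Fin 8), sign a = 1 → a * (swap (0 : Fin 8) 3 * swap (2 : Fin 8) 5) * a⁻¹ ∈ M := fun a ha => (h3 a ha).elim id id
  have h4 : Cov2 M (cy 2 5 6) (cy 1 4 7) := by
    intro a ha
    left
    have h5 := hall a ha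
    have h6 := hall (a * cy 5 6 7) (by rw [map_mul, ha]; decide)
    have h7 := M.mul_mem h5 h6
    have h8 : a * (swap (0 : Fin 8) 3 * swap (2 : Fin 8) 5) * a⁻¹ * (a * cy 5 6 7 * (swap (0 : Fin 8) 3 * swap (2 : Fin 8) 5) * (a * cy 5 6 7)⁻¹) =
        a * ((swap (0 : Fin 8) 3 * swap (2 : Fin 8) 5) * (cy 5 6 7 * (swap (0 : Fin 8) 3 * swap (2 : Fin 8) 5) * (cy 5 6 7)⁻¹)) * a⁻¹ := by group
    rw [h8, show (swap (0 : Fin 8) 3 * swap (2 : Fin 8) 5 : Perm (Fin 8)) * (cy 5 6 7 * (swap (0 : Fin 8) 3 * swap (2 : Fin 8) 5) * (cy 5 6 7)⁻¹) =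
      cy 2 6 5 by decide] at h7
    have h9 := M.inv_mem h7
    have h10 : (a * cy 2 6 5 * a⁻¹)⁻¹ = a * (cy 2 6 5)⁻¹ * a⁻¹ := by group
    rwa [h10, show (cy (2 : Fin 8) 6 5)⁻¹ = cy 2 5 6 by decide] at h9
  exact good_cy_cy (by simp) (by decide) h4

/-- **`S₈`** -/
theorem good_eight {g : Perm (Fin 8)} (hc : CovG M g) {r₁ r₂ : ℕ} (hr₁ : r₁.Prime) (hr₂ : r₂.Prime)
    (hlt : r₁ < r₂) (hd₁ : r₁ ∣ orderOf g) (hd₂ : r₂ ∣ orderOf g) : Good M := by
  have hs : g.cycleType.sum ≤ 8 := by
    rw [sum_cycleType]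
    exact g.support.card_le_univ
  have h2 : ∀ k ∈ g.cycleType, 2 ≤ k := fun k hk => two_le_of_mem_cycleType hk
  rw [← lcm_cycleType] at hd₁ hd₂
  rcases class_eight h2 hs hr₁ hr₂ hlt hd₁ hd₂ with h | h | h | h | h | h | h | h
  · exact good_of_rep hc (h.trans (by decide +kernel)) fun M' => rep6
  · exact good_of_rep hc (h.trans (by decide +kernel)) fun M' => rep62
  · exact good_of_rep hc (h.trans (by decide +kernel)) fun M' => rep34
  · exact good_of_rep hc (h.trans (by decide +kernel)) fun M' => rep32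
  · exact good_of_rep hc (h.trans (by decide +kernel)) fun M' => rep322
  · exact good_of_rep hc (h.trans (by decide +kernel)) fun M' => rep323
  · exact good_of_rep hc (h.trans (by decide +kernel)) fun M' => rep52
  · exact good_of_rep hc (h.trans (by decide +kernel)) fun M' => rep53

end eight

section five

variable {M : Subgroup (Perm (Fin 5))}

theorem rep32' (h : CovG M (cy 0 1 2 * swap (3 : Fin 5) 4)) : Good M := by
  have ho : orderOf (cy 0 1 2 * swap (3 : Fin 5) 4 : Perm (Fin 5)) = 6 := by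
    rw [← lcm_cycleType, show (cy 0 1 2 * swap (3 : Fin 5) 4 : Perm (Fin 5)).cycleType = {3, 2} by decide +kernel]
    decide
  have h1 : Cov2 M (swap (3 : Fin 5) 4) (cy 0 2 1) := h.cov2 ho (fun r => prime_six) (by decide) (by decide)
  exact good_swap_cy (by simp) (by decide) h1

/-- **`S₅`** -/
theorem good_five {g : Perm (Fin 5)} (hc : CovG M g) {r₁ r₂ : ℕ} (hr₁ : r₁.Prime) (hr₂ : r₂.Prime)
    (hlt : r₁ < r₂) (hd₁ : r₁ ∣ orderOf g) (hd₂ : r₂ ∣ orderOf g) : Good M := by
  have hs : g.cycleType.sum ≤ 5 := by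
    rw [sum_cycleType]
    exact g.support.card_le_univ
  have h2 : ∀ k ∈ g.cycleType, 2 ≤ k := fun k hk => two_le_of_mem_cycleType hk
  rw [← lcm_cycleType] at hd₁ hd₂
  exact good_of_rep hc ((class_five h2 hs hr₁ hr₂ hlt hd₁ hd₂).trans (by decide +kernel)) fun M' => rep32'

end five

end Cfsg.Agent.H390.RC
end
end

-- part: H368/RC/CB
section
set_option linter.all false
open scoped Cfsg.Agent.FastGrp

/-!
# S3510, shared box CB: the character bound for covers (helper368)

* `card_fix_le` : `N` normal, perfect, every nontrivial irreducible representation of `N` has degree `≥ d`, `N` fixes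
  no point of `Ω`: `|Fix x| ≤ (1 / (d + 1) + √|C_G(x)| / d) |Ω|`.
* `card_fix_le_sub` : the same with `|C_H(x)|`, `N ≤ H`, `x ∈ H`.
* `not_cov` : `∑ i, (1 / (d + 1) + √(c i) / d) < 1`, `|C_H(x i)| ≤ c i`: the `x i` are not a cover.
-/

set_option autoImplicit false

namespace Cfsg.Agent.H368.RC

open Cfsg MulAction Cfsg.Agent.Characters Cfsg.Agent.Characters.Core Cfsg.Agent.H514.DP Cfsg.Agent.H686.CharKit
open Cfsg.Agent.H917.FP (perm_comb index_ge norm_le_sqrt)
open Cfsg.Agent.H106.RC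
open scoped ComplexConjugate

universe u v

/-- `MinDeg` and surjections -/
theorem minDeg_surj {S T : Type*} [Group S] [Group T] {d : ℕ} (h : MinDeg S d) (f : S →* T)
    (hf : Function.Surjective f) : MinDeg T d := by
  intro k ρ hρ hk
  refine h k (ρ.comp f) ?_ hk
  have hnt : Nontrivial (Subrepresentation (ρ.comp f)) := by
    obtain ⟨a, b, hab⟩ := hρ.toNontrivial
    refine ⟨⟨a.toSubmodule, fun g v hv => a.apply_mem_toSubmodule (f g) hv⟩,
      ⟨b.toSubmodule, fun g v hv => b.apply_mem_toSubmodule (f g) hv⟩, fun h => hab ?_⟩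
    apply Subrepresentation.toSubmodule_injective
    exact congrArg (Subrepresentation.toSubmodule (ρ := ρ.comp f)) h
  refine ⟨fun a => ?_⟩
  have key : ∀ (g : T) ⦃v : Fin k → ℂ⦄, v ∈ a.toSubmodule → ρ g v ∈ a.toSubmodule := by
    intro g v hv
    obtain ⟨h, rfl⟩ := hf g
    exact a.apply_mem_toSubmodule h hv
  rcases hρ.eq_bot_or_eq_top ⟨a.toSubmodule, key⟩ with h | h
  · left
    apply Subrepresentation.toSubmodule_injective
    exact congrArg (Subrepresentation.toSubmodule (ρ := ρ)) h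
  · right
    apply Subrepresentation.toSubmodule_injective
    exact congrArg (Subrepresentation.toSubmodule (ρ := ρ)) h

theorem perfect_surj {S T : Type*} [Group S] [Group T] (h : commutator S = ⊤) (f : S →* T)
    (hf : Function.Surjective f) : commutator T = ⊤ := by
  have h1 : (commutator S).map f = commutator T := by
    rw [commutator_def, Subgroup.map_commutator, ← MonoidHom.range_eq_map, MonoidHom.range_eq_top.2 hf,
      commutator_def]
  rw [← h1, h, ← MonoidHom.range_eq_map, MonoidHom.range_eq_top.2 hf]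

section Bound

variable {G : Type u} [Group G] {Ω : Type v} [MulAction G Ω]

/-- restriction of an irreducible character to a perfect subgroup: the sum of the values is a multiple of `|N|`, and the
degree is large if the restriction is nontrivial -/
theorem res_chr [Finite G] {N : Subgroup G} (hperf : commutator N = ⊤) {d : ℕ} (hd : MinDeg N d)
    (χ : IrrCharacter G) [Fintype N] :
    ∃ b : ℕ, ∑ n : N, (χ : G → ℂ) n = (Nat.card N : ℂ) * b ∧
      ((∀ n : N, (χ : G → ℂ) n = (χ : G → ℂ) 1) → (χ : G → ℂ) 1 = b) ∧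
      (¬ (∀ n : N, (χ : G → ℂ) n = (χ : G → ℂ) 1) → ∀ k : ℕ, (χ : G → ℂ) 1 = k → d ≤ k) := by
  classical
  have hfi : Fintype (IrrCharacter N) := by
    have := finite_irr (G := N)
    exact Fintype.ofFinite _
  have hcN : (Nat.card N : ℂ) ≠ 0 := card_ne_zero_complex
  have hchar : IsCharacter N ((χ : G → ℂ) ∘ N.subtype) :=
    isCharacter_comp N.subtype (isIrr_isCharacter χ.2)
  obtain ⟨m, hm⟩ := exists_nat_comb hchar
  set ε : IrrCharacter N := ⟨1, isIrr_one⟩ with hε
  have hval : ∀ n : N, (χ : G → ℂ) n = ∑ ψ : IrrCharacter N, (m ψ : ℂ) * (ψ : N → ℂ) n := by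
    intro n
    have h1 := congrFun hm n
    simp only [Finset.sum_apply, nsmul_eq_mul] at h1
    exact h1
  refine ⟨m ε, ?_, ?_, ?_⟩
  · have h1 := classInner_sum_nsmul_irr m ε
    rw [← hm, classInner_def] at h1
    have h2 : ∑ g : N, ((χ : G → ℂ) ∘ N.subtype) g * conj ((ε : N → ℂ) g) = ∑ n : N, (χ : G → ℂ) n := by
      refine Finset.sum_congr rfl fun g _ => ?_
      change (χ : G → ℂ) g * conj ((1 : N → ℂ) g) = _
      rw [Pi.one_apply, map_one, mul_one]
    rw [h2] at h1
    rw [← h1, ← mul_assoc, mul_inv_cancel₀ hcN, one_mul]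
  · intro hc
    have h1 := classInner_sum_nsmul_irr m ε
    rw [← hm, classInner_def] at h1
    have h2 : ∑ g : N, ((χ : G → ℂ) ∘ N.subtype) g * conj ((ε : N → ℂ) g) = (Nat.card N : ℂ) * (χ : G → ℂ) 1 := by
      rw [Nat.card_eq_fintype_card, ← nsmul_eq_mul, ← Finset.card_univ, ← Finset.sum_const]
      refine Finset.sum_congr rfl fun g _ => ?_
      change (χ : G → ℂ) g * conj ((1 : N → ℂ) g) = _
      rw [Pi.one_apply, map_one, mul_one, hc]
    rw [h2, ← mul_assoc, inv_mul_cancel₀ hcN, one_mul] at h1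
    exact h1
  · intro hc k hk
    -- some nontrivial constituent
    have hex : ∃ ψ : IrrCharacter N, ψ ≠ ε ∧ m ψ ≠ 0 := by
      by_contra hno
      push Not at hno
      apply hc
      intro n
      have h3 : ∀ n : N, (χ : G → ℂ) n = (m ε : ℂ) := by
        intro n
        rw [hval, Finset.sum_eq_single ε]
        · have : (ε : N → ℂ) n = 1 := rfl
          rw [this, mul_one]
        · intro ψ _ hψ
          rw [hno ψ hψ]
          simp
        · intro h
          exact (h (Finset.mem_univ _)).elim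
      have h4 := h3 1
      rw [Subgroup.coe_one] at h4
      rw [h3, h4]
    obtain ⟨ψ, hψ, hψm⟩ := hex
    choose dg hdg0 hdg using fun ψ : IrrCharacter N => isIrr_apply_one ψ.2
    have hψ1 : (ψ : N → ℂ) 1 ≠ 1 := fun h3 => hψ (Subtype.ext (eq_one_of_perf hperf ψ.2 h3))
    obtain ⟨n, hn, -, hn1⟩ := MinDeg.le hd ψ.2 hψ1
    have h5 : dg ψ = n := by
      have := hdg ψ
      rw [hn1] at this
      exact_mod_cast this.symm
    have h6 : k = ∑ ψ : IrrCharacter N, m ψ * dg ψ := by
      have h7 := hval 1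
      rw [Subgroup.coe_one, hk] at h7
      have h8 : (k : ℂ) = ((∑ ψ : IrrCharacter N, m ψ * dg ψ : ℕ) : ℂ) := by
        rw [h7]
        push_cast
        exact Finset.sum_congr rfl fun ψ _ => by rw [hdg ψ]
      exact_mod_cast h8
    rw [h6]
    refine le_trans ?_ (Finset.single_le_sum (f := fun ψ => m ψ * dg ψ) (fun _ _ => Nat.zero_le _) (Finset.mem_univ ψ))
    rw [← h5] at hn
    exact hn.trans (Nat.le_mul_of_pos_left _ (Nat.pos_of_ne_zero hψm))

/-- **the character bound** -/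
theorem card_fix_le [Finite G] [Finite Ω] (N : Subgroup G) [N.Normal] (hperf : commutator N = ⊤) {d : ℕ} (hd0 : 0 < d)
    (hd : MinDeg N d) (hnofix : ∀ ω : Ω, ¬ N ≤ stabilizer G ω) (x : G) :
    (Nat.card (fixedBy Ω x) : ℝ) ≤ (1 / ((d : ℝ) + 1) +
      √(Nat.card (Subgroup.centralizer ({x} : Set G)) : ℝ) / d) * Nat.card Ω := by
  classical
  have : Fintype G := Fintype.ofFinite G
  have : Fintype N := Fintype.ofFinite N
  have : Fintype Ω := Fintype.ofFinite Ω
  have : Fintype (IrrCharacter G) := by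
    have := finite_irr (G := G)
    exact Fintype.ofFinite _
  set s : ℝ := √(Nat.card (Subgroup.centralizer ({x} : Set G)) : ℝ) with hs
  have hs0 : 0 ≤ s := Real.sqrt_nonneg _
  have hdR : (0 : ℝ) < d := by exact_mod_cast hd0
  have hNpos : (0 : ℝ) < Nat.card N := by exact_mod_cast Nat.card_pos
  have hcN : (Nat.card N : ℂ) ≠ 0 := card_ne_zero_complex
  obtain ⟨m, dg, hm, hdg, hdg0, hsum, -⟩ := perm_comb (S := G) (Ω := Ω)
  choose b hb1 hb2 hb3 using fun χ : IrrCharacter G => res_chr hperf hd χ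
  let A : Finset (IrrCharacter G) := Finset.univ.filter fun χ => ∀ n : N, (χ : G → ℂ) n = (χ : G → ℂ) 1
  let B : Finset (IrrCharacter G) := Finset.univ.filter fun χ => ¬ ∀ n : N, (χ : G → ℂ) n = (χ : G → ℂ) 1
  have hAB : ∀ (f : IrrCharacter G → ℝ), ∑ χ : IrrCharacter G, f χ = ∑ χ ∈ A, f χ + ∑ χ ∈ B, f χ := fun f =>
    (Finset.sum_filter_add_sum_filter_not _ _ _).symm
  -- the first part
  have hA : ∑ χ ∈ A, (m χ : ℝ) * dg χ ≤ (Nat.card Ω : ℝ) / ((d : ℝ) + 1) := by
    have h1 : (∑ n : N, Nat.card (fixedBy Ω (n : G))) = Nat.card N * ∑ χ : IrrCharacter G, m χ * b χ := by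
      have h2 : ((∑ n : N, Nat.card (fixedBy Ω (n : G)) : ℕ) : ℂ) =
          ((Nat.card N * ∑ χ : IrrCharacter G, m χ * b χ : ℕ) : ℂ) := by
        push_cast
        rw [Finset.mul_sum]
        simp only [hm]
        rw [Finset.sum_comm]
        refine Finset.sum_congr rfl fun χ _ => ?_
        rw [← Finset.mul_sum, hb1]
        ring
      exact_mod_cast h2
    have h6 : (∑ n : N, Nat.card (fixedBy Ω (n : G))) = ∑ w : Ω, Nat.card (stabilizer N w) := by
      have e1 : ∀ g : N, Nat.card (fixedBy Ω (g : G)) = ∑ w : Ω, if (g : G) • w = w then 1 else 0 := by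
        intro g
        rw [Nat.card_eq_fintype_card, Fintype.card_subtype, Finset.card_filter]
        rfl
      have e2 : ∀ w : Ω, Nat.card (stabilizer N w) = ∑ g : N, if (g : G) • w = w then 1 else 0 := by
        intro w
        rw [Nat.card_eq_fintype_card, Fintype.card_subtype, Finset.card_filter]
        rfl
      simp only [e1, e2]
      exact Finset.sum_comm
    have h2 : ∀ w : Ω, (Nat.card (stabilizer N w) : ℝ) ≤ (1 / ((d : ℝ) + 1)) * Nat.card N := by
      intro w
      have h3 : stabilizer N w ≠ ⊤ := by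
        intro h
        apply hnofix w
        intro a ha
        have : (⟨a, ha⟩ : N) ∈ stabilizer N w := by rw [h]; trivial
        exact this
      have h4 := index_ge hperf hd h3
      have h5 := Subgroup.index_mul_card (stabilizer N w)
      have h6 : ((d : ℝ) + 1) * (Nat.card (stabilizer N w) : ℝ) ≤ Nat.card N := by
        rw [← h5]
        push_cast
        have : ((d : ℝ) + 1) ≤ ((stabilizer N w).index : ℝ) := by exact_mod_cast h4
        nlinarith only [this]
      rw [div_mul_eq_mul_div, one_mul, le_div_iff₀ (by positivity)]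
      linarith only [h6]
    have h7 : (Nat.card N : ℝ) * ∑ χ ∈ A, (m χ : ℝ) * dg χ ≤ (Nat.card N : ℝ) * ((Nat.card Ω : ℝ) / ((d : ℝ) + 1)) := by
      calc (Nat.card N : ℝ) * ∑ χ ∈ A, (m χ : ℝ) * dg χ
          = (Nat.card N : ℝ) * ∑ χ ∈ A, (m χ : ℝ) * b χ := by
            congr 1
            refine Finset.sum_congr rfl fun χ hχ => ?_
            have h8 := hb2 χ (Finset.mem_filter.1 hχ).2
            rw [hdg] at h8
            have h9 : dg χ = b χ := by exact_mod_cast h8
            rw [h9]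
        _ ≤ (Nat.card N : ℝ) * ∑ χ : IrrCharacter G, (m χ : ℝ) * b χ := by
            refine mul_le_mul_of_nonneg_left ?_ hNpos.le
            exact Finset.sum_le_sum_of_subset_of_nonneg (Finset.subset_univ _) fun _ _ _ => by (clear * -; positivity)
        _ = ((∑ n : N, Nat.card (fixedBy Ω (n : G)) : ℕ) : ℝ) := by
            rw [h1]
            push_cast
            rfl
        _ = ∑ w : Ω, (Nat.card (stabilizer N w) : ℝ) := by
            rw [h6]
            push_cast
            rfl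
        _ ≤ ∑ _w : Ω, (1 / ((d : ℝ) + 1)) * Nat.card N := Finset.sum_le_sum fun w _ => h2 w
        _ = (Nat.card N : ℝ) * ((Nat.card Ω : ℝ) / ((d : ℝ) + 1)) := by
            rw [Finset.sum_const, Finset.card_univ, nsmul_eq_mul, Nat.card_eq_fintype_card (α := Ω)]
            ring
    exact le_of_mul_le_mul_left h7 hNpos
  -- the second part
  have hB : (∑ χ ∈ B, (m χ : ℝ)) * d ≤ (Nat.card Ω : ℝ) := by
    rw [hsum, Finset.sum_mul]
    push_cast
    rw [hAB fun χ => (m χ : ℝ) * dg χ]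
    have h1 : ∑ χ ∈ B, (m χ : ℝ) * d ≤ ∑ χ ∈ B, (m χ : ℝ) * dg χ := by
      refine Finset.sum_le_sum fun χ hχ => ?_
      refine mul_le_mul_of_nonneg_left ?_ (Nat.cast_nonneg _)
      exact_mod_cast hb3 χ (Finset.mem_filter.1 hχ).2 (dg χ) (hdg χ)
    have h2 : 0 ≤ ∑ χ ∈ A, (m χ : ℝ) * dg χ := Finset.sum_nonneg fun _ _ => by (clear * -; positivity)
    linarith only [h1, h2]
  -- the bound
  have hfix : (Nat.card (fixedBy Ω x) : ℝ) ≤ ∑ χ ∈ A, (m χ : ℝ) * dg χ + s * ∑ χ ∈ B, (m χ : ℝ) := by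
    have h3 : ‖((Nat.card (fixedBy Ω x) : ℕ) : ℂ)‖ ≤ ∑ χ ∈ A, (m χ : ℝ) * dg χ + s * ∑ χ ∈ B, (m χ : ℝ) := by
      rw [hm x]
      refine (norm_sum_le _ _).trans ?_
      rw [hAB, Finset.mul_sum]
      refine add_le_add (Finset.sum_le_sum fun χ _ => ?_) (Finset.sum_le_sum fun χ _ => ?_)
      · rw [norm_mul, Complex.norm_natCast]
        exact mul_le_mul_of_nonneg_left (SchurBound.norm_le (isIrr_isCharacter χ.2) (hdg χ) x)
          (Nat.cast_nonneg _)
      · rw [norm_mul, Complex.norm_natCast, mul_comm]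
        exact mul_le_mul_of_nonneg_right (norm_le_sqrt χ x) (Nat.cast_nonneg _)
    rwa [Complex.norm_natCast] at h3
  have h5 : s * ∑ χ ∈ B, (m χ : ℝ) ≤ s / d * Nat.card Ω := by
    rw [div_mul_eq_mul_div, le_div_iff₀ hdR, mul_assoc]
    exact mul_le_mul_of_nonneg_left hB hs0
  rw [add_mul, div_mul_eq_mul_div, one_mul]
  linarith only [hA, hfix, h5]

/-- the character bound inside a subgroup -/
theorem card_fix_le_sub [Finite G] [Finite Ω] {N H : Subgroup G} (hN : N.Normal) (hNH : N ≤ H)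
    (hperf : commutator N = ⊤) {d : ℕ} (hd0 : 0 < d) (hd : MinDeg N d)
    (hnofix : ∀ ω : Ω, ¬ N ≤ stabilizer G ω) {x : G} (hx : x ∈ H) {c : ℕ}
    (hc : Nat.card {y : H // (y : G) * x = x * y} ≤ c) :
    (Nat.card (fixedBy Ω x) : ℝ) ≤ (1 / ((d : ℝ) + 1) + √(c : ℝ) / d) * Nat.card Ω := by
  have hN' : (N.subgroupOf H).Normal := Subgroup.normal_subgroupOf
  have hdR : (0 : ℝ) < d := by exact_mod_cast hd0
  let e : N.subgroupOf H ≃* N := Subgroup.subgroupOfEquivOfLe hNH
  have h1 := card_fix_le (Ω := Ω) (N.subgroupOf H) (perfect_surj hperf e.symm.toMonoidHom e.symm.surjective) hd0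
    (minDeg_surj hd e.symm.toMonoidHom e.symm.surjective) (by
      intro ω hle
      apply hnofix ω
      intro n hn
      have h2 : (⟨n, hNH hn⟩ : H) ∈ stabilizer H ω := hle (by rwa [Subgroup.mem_subgroupOf])
      exact h2) (⟨x, hx⟩ : H)
  have h2 : Nat.card (Subgroup.centralizer ({(⟨x, hx⟩ : H)} : Set H)) =
      Nat.card {y : H // (y : G) * x = x * y} := by
    refine Nat.card_congr (Equiv.subtypeEquivRight fun y => ?_)
    rw [Subgroup.mem_centralizer_singleton_iff]
    constructor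
    · intro h
      exact congrArg Subtype.val h
    · intro h
      exact Subtype.ext h
  have h3 : (Nat.card (Subgroup.centralizer ({(⟨x, hx⟩ : H)} : Set H)) : ℝ) ≤ c := by
    rw [h2]
    exact_mod_cast hc
  have h4 : Nat.card (fixedBy Ω (⟨x, hx⟩ : H)) = Nat.card (fixedBy Ω x) :=
    Nat.card_congr (Equiv.subtypeEquivRight fun y => Iff.rfl)
  rw [h4] at h1
  refine h1.trans ?_
  refine mul_le_mul_of_nonneg_right ?_ (Nat.cast_nonneg _)
  have h5 := Real.sqrt_le_sqrt h3
  have h6 := div_le_div_of_nonneg_right h5 hdR.le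
  linarith only [h6]

end Bound

/-- **not a cover**: the numerical criterion -/
theorem not_cov {G : Type u} {Ω : Type v} {ι : Type*} [Group G] [MulAction G Ω] [Finite G] [Finite Ω] [Nonempty Ω]
    [Fintype ι] {N H : Subgroup G} (hN : N.Normal) (hNH : N ≤ H)
    (hperf : commutator N = ⊤) {d : ℕ} (hd0 : 0 < d) (hd : MinDeg N d)
    (hnofix : ∀ ω : Ω, ¬ N ≤ stabilizer G ω) {x : ι → G} (hx : ∀ i, x i ∈ H) {c : ι → ℕ}
    (hc : ∀ i, Nat.card {y : H // (y : G) * x i = x i * y} ≤ c i)
    (hsum : ∑ i, (1 / ((d : ℝ) + 1) + √(c i : ℝ) / d) < 1) : ¬ Cov Ω x := by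
  classical
  intro hcov
  have : Fintype Ω := Fintype.ofFinite Ω
  have hpos : (0 : ℝ) < Nat.card Ω := by exact_mod_cast Nat.card_pos
  have h1 : (Nat.card Ω : ℝ) ≤ ∑ i, (Nat.card (fixedBy Ω (x i)) : ℝ) := by
    have h2 : Nat.card Ω ≤ ∑ i, Nat.card (fixedBy Ω (x i)) := by
      have e1 : ∀ i, Nat.card (fixedBy Ω (x i)) = (Finset.univ.filter fun ω : Ω => x i • ω = ω).card := by
        intro i
        rw [Nat.card_eq_fintype_card, Fintype.card_subtype]
        rfl
      simp only [e1]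
      refine le_trans ?_ Finset.card_biUnion_le
      rw [Nat.card_eq_fintype_card, ← Finset.card_univ]
      refine Finset.card_le_card ?_
      intro ω _
      obtain ⟨i, hi⟩ := hcov ω
      exact Finset.mem_biUnion.2 ⟨i, Finset.mem_univ _, Finset.mem_filter.2 ⟨Finset.mem_univ _, hi⟩⟩
    exact_mod_cast h2
  have h3 : ∑ i, (Nat.card (fixedBy Ω (x i)) : ℝ) ≤
      ∑ i, (1 / ((d : ℝ) + 1) + √(c i : ℝ) / d) * Nat.card Ω :=
    Finset.sum_le_sum fun i _ => card_fix_le_sub hN hNH hperf hd0 hd hnofix (hx i) (hc i)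
  rw [← Finset.sum_mul] at h3
  nlinarith only [hsum, hpos, h1, h3]

/-- a simple noncommutative group is perfect -/
theorem perfect_of_simple {N : Type*} [Group N] (hs : IsSimpleGroup N) (hc : ¬ IsMulCommutative N) :
    commutator N = ⊤ := by
  rcases hs.eq_bot_or_eq_top_of_normal (commutator N) inferInstance with h | h
  · exfalso
    apply hc
    constructor; constructor
    intro a b
    have h1 : a * b * a⁻¹ * b⁻¹ ∈ commutator N := by
      rw [commutator_def]
      exact Subgroup.commutator_mem_commutator (Subgroup.mem_top a) (Subgroup.mem_top b)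
    rw [h, Subgroup.mem_bot] at h1
    calc a * b = (a * b * a⁻¹ * b⁻¹) * (b * a) := by group
      _ = b * a := by rw [h1, one_mul]
  · exact h

/-- the criterion in the environment of the rows -/
theorem not_cov_env {G : Type u} {Ω : Type v} {ι : Type*} [Group G] [MulAction G Ω] [Finite G] [Finite Ω] [Nonempty Ω]
    [Fintype ι] {N : Subgroup G} (hE : Env G Ω N) {H : Subgroup G} (hNH : N ≤ H)
    {d : ℕ} (hd0 : 0 < d) (hd : MinDeg N d) {x : ι → G} (hx : ∀ i, x i ∈ H) {c : ι → ℕ}
    (hc : ∀ i, Nat.card {y : H // (y : G) * x i = x i * y} ≤ c i)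
    (hsum : ∑ i, (1 / ((d : ℝ) + 1) + √(c i : ℝ) / d) < 1) : ¬ Cov Ω x :=
  not_cov hE.norm hNH (perfect_of_simple hE.simple hE.ncomm) hd0 hd hE.nofix hx hc hsum

end Cfsg.Agent.H368.RC
end
end
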